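/-
An abstract group with a Sylow three-subgroup of order nine whose non-trivial elements have small centralisers.

* `Axis.sig` : no subgroup of order prime to three is normalised by `T`;
* `Axis.exists_index_three` : the transfer kernel;
* `Axis.eq_top` : the group is `T⟨s⟩`.
-/
import Cfsg.Agent.S3331
import Cfsg.Agent.Lib.Coprime.Generation
import Cfsg.Agent.Lib.GLOrder.Basic

set_option autoImplicit false
set_option linter.unusedSectionVars false

namespace Cfsg.Agent.U62ThreeCent

open scoped IsMulCommutative Pointwise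

theorem perm_three_sep : ∀ h : Equiv.Perm (Fin 3), h ^ 3 ≠ 1 →
    ∃ g, (g * h * g⁻¹ * h⁻¹) ^ 3 = 1 ∧ g * h * g⁻¹ * h⁻¹ ≠ 1 := by decide +kernel

theorem perm_three_normal {H : Subgroup (Equiv.Perm (Fin 3))} [H.Normal] (h3 : ¬ 3 ∣ Nat.card H) :
    H = ⊥ := by
  rw [Subgroup.eq_bot_iff_forall]
  intro h hh
  have key : ∀ a ∈ H, a ^ 3 = 1 → a = 1 := fun a ha e => by
    rcases (Nat.dvd_prime Nat.prime_three).1 (orderOf_dvd_of_pow_eq_one e) with h1 | h1
    · exact orderOf_eq_one_iff.1 h1
    · exact absurd (h1.symm.dvd.trans (Subgroup.orderOf_dvd_natCard H ha)) h3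
  by_contra hne
  obtain ⟨g, h1, h2⟩ := perm_three_sep h fun e => hne (key h hh e)
  exact h2 (key _ (mul_mem (Subgroup.Normal.conj_mem inferInstance h hh g) (inv_mem hh)) h1)

theorem card_psl_seven : Nat.card (Matrix.ProjectiveSpecialLinearGroup (Fin 2) (ZMod 7)) = 168 := by
  haveI : Fact (Nat.Prime 7) := ⟨by norm_num⟩
  have h := GLOrder.card_PSL_two_of_odd (F := ZMod 7) (by rw [Nat.card_zmod]; decide)
  rw [Nat.card_zmod] at h
  omega

theorem card_alt_five : Nat.card (alternatingGroup (Fin 5)) = 60 := by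
  rw [Nat.card_eq_fintype_card]; rfl

/-- An elementary abelian subgroup of order nine with small centralisers and small normaliser. -/
structure Axis {Y : Type*} [Group Y] (T M : Subgroup Y) (x v s : Y) : Prop where
  card : Nat.card T = 9
  cube : ∀ a ∈ T, a ^ 3 = 1
  comm : ∀ a ∈ T, ∀ b ∈ T, Commute a b
  T_le : T ≤ M
  M_cases : ∀ m ∈ M, m ∈ T ∨ s⁻¹ * m ∈ T
  x_mem : x ∈ T
  x_ne : x ≠ 1
  v_mem : v ∈ T
  v_ne : v ∉ Subgroup.zpowers x
  s_mem : s ∈ M
  s_x : s * x * s⁻¹ = x⁻¹
  s_v : Commute s v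
  norm : Subgroup.normalizer (T : Set Y) ≤ M
  cent : ∀ a ∈ T, a ≠ 1 → Subgroup.centralizer {a} ≤ M
  cent_x : Subgroup.centralizer {x} ≤ T

namespace Axis

variable {Y : Type*} [Group Y] [Finite Y] {T M : Subgroup Y} {x v s : Y} (A : Axis T M x v s)

include A

theorem order_x : orderOf x = 3 := orderOf_eq_prime (A.cube x A.x_mem) A.x_ne

theorem s_not_mem : s ∉ T := fun h => by
  have e := A.s_x
  rw [(A.comm s h x A.x_mem).eq, mul_inv_cancel_right] at e
  have h2 : x ^ 2 = 1 := by rw [pow_two]; exact mul_eq_one_iff_eq_inv.2 e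
  have := A.order_x ▸ orderOf_dvd_of_pow_eq_one h2
  norm_num at this

theorem card_M : Nat.card M = 18 := by
  have h9 := A.card
  have hle : (T.subgroupOf M).index ≤ 2 := by
    rw [Subgroup.index_eq_card]
    refine (Nat.card_le_card_of_surjective (fun b : Bool => cond b
      (QuotientGroup.mk (⟨s, A.s_mem⟩ : M)) (QuotientGroup.mk (1 : M)) : Bool → M ⧸ T.subgroupOf M) ?_).trans
      (by simp)
    intro q
    induction q using QuotientGroup.induction_on with
    | H m =>
      rcases A.M_cases m m.2 with h | h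
      · refine ⟨false, (QuotientGroup.eq).2 ?_⟩
        simpa [Subgroup.mem_subgroupOf] using h
      · refine ⟨true, (QuotientGroup.eq).2 ?_⟩
        simpa [Subgroup.mem_subgroupOf] using h
  have hne : (T.subgroupOf M).index ≠ 1 := fun h =>
    A.s_not_mem (Subgroup.subgroupOf_eq_top.1 (Subgroup.index_eq_one.1 h) A.s_mem)
  have h0 : (T.subgroupOf M).index ≠ 0 := Subgroup.index_ne_zero_of_finite
  have hc := Subgroup.card_mul_index (T.subgroupOf M)
  rw [Nat.card_congr (Subgroup.subgroupOfEquivOfLe A.T_le).toEquiv, h9] at hc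
  rw [← hc, show (T.subgroupOf M).index = 2 by omega]

/-- `T` is a Sylow three-subgroup. -/
theorem exists_sylow : ∃ P : Sylow 3 Y, (P : Subgroup Y) = T := by
  haveI : Fact (Nat.Prime 3) := ⟨Nat.prime_three⟩
  have hTp : IsPGroup 3 T := IsPGroup.of_card (n := 2) (by rw [A.card]; norm_num)
  obtain ⟨P, hP⟩ := hTp.exists_le_sylow
  refine ⟨P, ?_⟩
  by_contra hne
  have hlt : T.subgroupOf P < ⊤ := lt_top_iff_ne_top.2 fun e =>
    hne (le_antisymm (Subgroup.subgroupOf_eq_top.1 e) hP)
  haveI : Group.IsNilpotent (P : Subgroup Y) := P.isPGroup'.isNilpotent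
  obtain ⟨r, hrN, hr⟩ := SetLike.exists_of_lt
    (Group.normalizerCondition_of_isNilpotent (G := (P : Subgroup Y)) _ hlt)
  have hrM : (r : Y) ∈ M := A.norm (Coprime.mem_normalizer_of_forall fun a ha =>
    (Subgroup.mem_normalizer_iff.1 hrN ⟨a, hP ha⟩).1 ha)
  obtain ⟨k, hk⟩ := P.isPGroup' r
  have hk' : (r : Y) ^ 3 ^ k = 1 := congrArg Subtype.val hk
  have hd : orderOf (r : Y) ∣ 18 := A.card_M ▸ Subgroup.orderOf_dvd_natCard M hrM
  have hTn : (T.subgroupOf M).index = 2 := by
    have hc := Subgroup.card_mul_index (T.subgroupOf M)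
    rw [Nat.card_congr (Subgroup.subgroupOfEquivOfLe A.T_le).toEquiv, A.card, A.card_M] at hc
    omega
  have hsq : (r : Y) ^ 2 ∈ T := by
    have := Subgroup.sq_mem_of_index_two hTn (⟨r, hrM⟩ : M)
    simpa [Subgroup.mem_subgroupOf] using this
  obtain ⟨l, hl⟩ : Odd (3 ^ k) := Odd.pow (by decide)
  refine hr (show (r : Y) ∈ T from ?_)
  have e : (r : Y) = ((r : Y) ^ 2) ^ (l + 1) := by
    rw [← pow_mul, show 2 * (l + 1) = (2 * l + 1) + 1 by ring, pow_succ, ← hl, hk', one_mul]
  rw [e]
  exact pow_mem hsq _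

/-- No subgroup of order prime to three is normalised by `T`. -/
theorem sig {L : Subgroup Y} (h3 : ¬ 3 ∣ Nat.card L) (hL : ∀ a ∈ T, ∀ l ∈ L, a * l * a⁻¹ ∈ L) :
    L = ⊥ := by
  haveI : IsMulCommutative T := ⟨⟨fun a b => Subtype.ext (A.comm a a.2 b b.2).eq⟩⟩
  have hcyc : ¬ IsCyclic T := fun h => by
    obtain ⟨g, hg⟩ := h.exists_generator
    have h9 := orderOf_eq_card_of_forall_mem_zpowers hg
    rw [A.card] at h9
    have hd : orderOf g ∣ 3 := orderOf_dvd_of_pow_eq_one (Subtype.ext (A.cube g g.2))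
    rw [h9] at hd
    norm_num at hd
  have hcop : (Nat.card T).Coprime (Nat.card L) := by
    rw [A.card, show 9 = 3 ^ 2 from rfl]
    exact ((Nat.Prime.coprime_iff_not_dvd Nat.prime_three).2 h3).pow_left 2
  have hM : ∀ l ∈ L, l ∈ M → l = 1 := by
    intro l hl hlM
    have hcase : ∀ a ∈ T, Commute a l := fun a ha => by
      have hT' : l * a * l⁻¹ ∈ T := by
        rcases A.M_cases l hlM with h | h
        · exact mul_mem (mul_mem h ha) (inv_mem h)
        · have hn : ((T.subgroupOf M)).Normal := by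
            refine Subgroup.normal_of_index_eq_two ?_
            have hc := Subgroup.card_mul_index (T.subgroupOf M)
            rw [Nat.card_congr (Subgroup.subgroupOfEquivOfLe A.T_le).toEquiv, A.card, A.card_M] at hc
            omega
          exact hn.conj_mem ⟨a, A.T_le ha⟩ ha ⟨l, hlM⟩
      have h1 : a * l * a⁻¹ * l⁻¹ ∈ L := mul_mem (hL a ha l hl) (inv_mem hl)
      have h2 : a * l * a⁻¹ * l⁻¹ ∈ T := by
        rw [show a * l * a⁻¹ * l⁻¹ = a * (l * a * l⁻¹)⁻¹ by group]
        exact mul_mem ha (inv_mem hT')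
      have h4 : orderOf (a * l * a⁻¹ * l⁻¹) = 1 :=
        Nat.eq_one_of_dvd_coprimes hcop (Subgroup.orderOf_dvd_natCard T h2) (Subgroup.orderOf_dvd_natCard L h1)
      exact mul_inv_eq_iff_eq_mul.1 (mul_inv_eq_one.1 (orderOf_eq_one_iff.1 h4))
    have hlT : l ∈ T := A.cent_x (Subgroup.mem_centralizer_singleton_iff.2 (hcase x A.x_mem).symm.eq)
    exact orderOf_eq_one_iff.1 (Nat.eq_one_of_dvd_coprimes hcop (Subgroup.orderOf_dvd_natCard T hlT)
      (Subgroup.orderOf_dvd_natCard L hl))
  rw [eq_bot_iff]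
  refine Coprime.le_of_noncyclic hcyc (fun a ha => Coprime.mem_normalizer_of_forall (hL a ha)) hcop
    fun a ha ha1 l hl => ?_
  exact hM l hl.1 (A.cent a ha ha1 hl.2)

/-- The transfer kernel. -/
theorem exists_index_three : ∃ K : Subgroup Y, K.Normal ∧ K.index = 3 ∧ x ∈ K ∧
    ∀ a ∈ K, a ∈ T → a ∈ Subgroup.zpowers x := by
  haveI : Fact (Nat.Prime 3) := ⟨Nat.prime_three⟩
  obtain ⟨P, hP⟩ := A.exists_sylow
  have hidx : ¬ 3 ∣ T.index := hP ▸ P.not_dvd_index
  haveI : IsMulCommutative T := ⟨⟨fun a b => Subtype.ext (A.comm a a.2 b b.2).eq⟩⟩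
  haveI : IsMulCommutative (P : Subgroup Y) := by rw [hP]; infer_instance
  set f := MonoidHom.transfer (MonoidHom.id T) with hf
  have hfv : f v ≠ 1 := by
    have key : ∀ (k : ℕ) (g : Y), g⁻¹ * v ^ k * g ∈ T → g⁻¹ * v ^ k * g = v ^ k := by
      intro k g hg
      obtain ⟨n, hn, e⟩ := P.conj_eq_normalizer_conj_of_mem (v ^ k) g
        (show _ ∈ (P : Subgroup Y) by rw [hP]; exact pow_mem A.v_mem k)
        (show _ ∈ (P : Subgroup Y) by rw [hP]; exact hg)
      have hn' : n ∈ Subgroup.normalizer (T : Set Y) := by rw [← hP]; exact hn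
      have hnv : Commute n v := by
        rcases A.M_cases n (A.norm hn') with h | h
        · exact A.comm n h v A.v_mem
        · have := A.s_v.mul_left (A.comm _ h v A.v_mem)
          rwa [mul_inv_cancel_left] at this
      rw [e, mul_assoc, (hnv.pow_right k).symm.eq, inv_mul_cancel_left]
    rw [hf, MonoidHom.transfer_eq_pow _ _ key]
    intro h
    have h1 : v ^ T.index = 1 := congrArg Subtype.val h
    rcases (Nat.dvd_prime Nat.prime_three).1 (orderOf_dvd_of_pow_eq_one (A.cube v A.v_mem)) with e | e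
    · exact A.v_ne (orderOf_eq_one_iff.1 e ▸ one_mem _)
    · exact hidx (e ▸ orderOf_dvd_of_pow_eq_one h1)
  have hfx : f x = 1 := by
    have h2 : f x = (f x)⁻¹ := by
      rw [← map_inv, ← A.s_x, map_mul, map_mul, map_inv, mul_comm (f s), mul_inv_cancel_right]
    have h2' : orderOf (f x) ∣ 2 :=
      orderOf_dvd_of_pow_eq_one (by rw [pow_two]; exact mul_eq_one_iff_eq_inv.2 h2)
    have h3 : orderOf (f x) ∣ 3 :=
      orderOf_dvd_of_pow_eq_one (by rw [← map_pow, A.cube x A.x_mem, map_one])
    exact orderOf_eq_one_iff.1 (Nat.eq_one_of_dvd_coprimes (show Nat.Coprime 2 3 by norm_num) h2' h3)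
  have hTK : ∀ a ∈ f.ker, a ∈ T → a ∈ Subgroup.zpowers x := by
    have hle : Subgroup.zpowers x ≤ T ⊓ f.ker := le_inf (Subgroup.zpowers_le.2 A.x_mem)
      (Subgroup.zpowers_le.2 hfx)
    have hne : T ⊓ f.ker ≠ T := fun e => hfv (MonoidHom.mem_ker.1 (inf_eq_left.1 e A.v_mem))
    have hd := Subgroup.card_dvd_of_le (inf_le_left : T ⊓ f.ker ≤ T)
    rw [A.card] at hd
    obtain ⟨i, hi, he⟩ := (Nat.dvd_prime_pow Nat.prime_three).1 (show _ ∣ 3 ^ 2 from hd)
    have hi2 : i ≠ 2 := fun h => hne (Subgroup.eq_of_le_of_card_ge inf_le_left (by rw [he, h, A.card]; norm_num))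
    have heq : Subgroup.zpowers x = T ⊓ f.ker := Subgroup.eq_of_le_of_card_ge hle (by
      rw [he, Nat.card_zpowers, A.order_x]
      interval_cases i <;> first | (norm_num; done) | exact absurd rfl hi2)
    intro a ha haT
    rw [heq]
    exact ⟨haT, ha⟩
  refine ⟨f.ker, inferInstance, ?_, hfx, hTK⟩
  have h9 : f.ker.index ∣ 3 ^ 2 := by
    rw [Subgroup.index_ker]
    have := Subgroup.card_subgroup_dvd_card f.range
    rwa [A.card] at this
  obtain ⟨i, hi, he⟩ := (Nat.dvd_prime_pow Nat.prime_three).1 h9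
  rcases Nat.lt_or_ge i 1 with h | h
  · exfalso
    interval_cases i
    have hk : f.ker = ⊤ := Subgroup.index_eq_one.1 (by simpa using he)
    exact A.v_ne (hTK v (by rw [hk]; exact Subgroup.mem_top _) A.v_mem)
  rcases Nat.lt_or_ge i 2 with h' | h'
  · interval_cases i
    simpa using he
  exfalso
  have h2 : i = 2 := by omega
  subst h2
  have hcard := Subgroup.card_mul_index f.ker
  rw [← Subgroup.card_mul_index T, A.card, he] at hcard
  have hx3 : 3 ∣ Nat.card f.ker := A.order_x ▸ Subgroup.orderOf_dvd_natCard _ (show x ∈ f.ker from hfx)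
  have hTi : Nat.card f.ker = T.index := by omega
  exact hidx (hTi ▸ hx3)

/-- The group is `T⟨s⟩`. -/
theorem eq_top : M = ⊤ := by
  haveI : Fact (Nat.Prime 3) := ⟨Nat.prime_three⟩
  obtain ⟨K, hKn, hKi, hxK, hTK⟩ := A.exists_index_three
  have hY : Nat.card Y = Nat.card K * 3 := by rw [← hKi, Subgroup.card_mul_index]
  obtain ⟨P, hP⟩ := A.exists_sylow
  have hX : Nat.card (Subgroup.zpowers (⟨x, hxK⟩ : K)) = 3 := by
    rw [Nat.card_zpowers, Subgroup.orderOf_mk, A.order_x]
  have hC : Subgroup.centralizer (Subgroup.zpowers (⟨x, hxK⟩ : K) : Set K) =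
      Subgroup.zpowers (⟨x, hxK⟩ : K) := by
    refine le_antisymm (fun a ha => ?_) (Subgroup.le_centralizer _)
    have h1 : (a : Y) ∈ T := A.cent_x (Subgroup.mem_centralizer_singleton_iff.2
      (congrArg Subtype.val (ha _ (Subgroup.mem_zpowers _))).symm)
    obtain ⟨n, hn⟩ := Subgroup.mem_zpowers_iff.1 (hTK a a.2 h1)
    exact Subgroup.mem_zpowers_iff.2 ⟨n, Subtype.ext (by simpa using hn)⟩
  -- a largest normal subgroup of order prime to three is trivial
  have sigK : ∀ N : Subgroup K, N.Normal → ¬ 3 ∣ Nat.card N →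
      (∀ H : Subgroup K, H.Normal → ¬ 3 ∣ Nat.card H → H ≤ N) → N = ⊥ := by
    intro N hN h3 hmax
    have hbot : N.map K.subtype = ⊥ := by
      refine A.sig (by rwa [Subgroup.card_map_of_injective Subtype.val_injective]) ?_
      rintro a - _ ⟨l, hl, rfl⟩
      let φ : MulAut K := MulAut.conjNormal a
      have hle := hmax (N.map φ.toMonoidHom) (hN.map _ φ.surjective)
        (by rwa [Subgroup.card_map_of_injective (f := φ.toMonoidHom) φ.injective])
      exact ⟨φ l, hle ⟨l, hl, rfl⟩, MulAut.conjNormal_apply a l⟩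
    rwa [Subgroup.map_eq_bot_iff_of_injective _ Subtype.val_injective] at hbot
  have large : ∀ r : ℕ, r.Prime → (r = 5 ∧ Nat.card K = 60 ∨ r = 7 ∧ Nat.card K = 168) → False := by
    intro r hr hcases
    haveI : Fact r.Prime := ⟨hr⟩
    obtain ⟨R⟩ : Nonempty (Sylow r K) := inferInstance
    have hcR : Nat.card (R : Subgroup K) = r := by
      rw [Sylow.card_eq_multiplicity]
      haveI : Fact (Nat.Prime 5) := ⟨by norm_num⟩
      haveI : Fact (Nat.Prime 7) := ⟨by norm_num⟩
      have h60 : (60 : ℕ).factorization 5 = 1 := by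
        rw [Nat.factorization_def _ (by norm_num), show 60 = 5 * 12 from rfl, padicValNat.mul (by norm_num) (by norm_num),
          padicValNat.self (by norm_num), padicValNat.eq_zero_of_not_dvd (by norm_num)]
      have h168 : (168 : ℕ).factorization 7 = 1 := by
        rw [Nat.factorization_def _ (by norm_num), show 168 = 7 * 24 from rfl, padicValNat.mul (by norm_num) (by norm_num),
          padicValNat.self (by norm_num), padicValNat.eq_zero_of_not_dvd (by norm_num)]
      rcases hcases with ⟨rfl, h⟩ | ⟨rfl, h⟩ <;> rw [h]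
      · rw [h60, pow_one]
      · rw [h168, pow_one]
    set R' := (R : Subgroup K).map K.subtype with hR'
    set N := Subgroup.normalizer (R' : Set Y) with hN
    haveI := hKn
    have hsup : N ⊔ K = ⊤ := Sylow.normalizer_sup_eq_top R
    have hcR' : Nat.card R' = r := by rw [hR', Subgroup.card_map_of_injective Subtype.val_injective, hcR]
    set NK := Subgroup.normalizer ((R : Subgroup K) : Set K) with hNK
    have hNKN : NK.map K.subtype ≤ N := by
      rintro _ ⟨n, hn, rfl⟩
      refine Coprime.mem_normalizer_of_forall ?_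
      rintro _ ⟨a, ha, rfl⟩
      exact ⟨n * a * n⁻¹, (Subgroup.mem_normalizer_iff.1 hn a).1 ha, by simp⟩
    have hN3 : K.relIndex N = 3 := by
      have := Subgroup.relIndex_sup_right (H := N) (K := K)
      rw [hsup, Subgroup.relIndex_top_right, hKi] at this
      exact this.symm
    have hcN : 3 * Nat.card NK ∣ Nat.card N := by
      rw [← Subgroup.card_mul_index (K.subgroupOf N), show (K.subgroupOf N).index = 3 from hN3, mul_comm]
      refine Nat.mul_dvd_mul_right ?_ 3
      rw [← Subgroup.card_map_of_injective (K := NK) Subtype.val_injective (f := K.subtype),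
        ← Subgroup.card_map_of_injective (K := K.subgroupOf N) Subtype.val_injective (f := N.subtype)]
      exact Subgroup.card_dvd_of_le fun a ha => ⟨⟨a, hNKN ha⟩, by
        obtain ⟨b, -, rfl⟩ := ha
        exact b.2, rfl⟩
    have hn : NK.index ∣ (R : Subgroup K).index ∧ NK.index % r = 1 := by
      rw [show NK.index = Nat.card (Sylow r K) from (Sylow.card_eq_index_normalizer R).symm]
      refine ⟨Sylow.card_dvd_index R, ?_⟩
      have := card_sylow_modEq_one r K
      rwa [Nat.ModEq, Nat.one_mod_eq_one.2 hr.one_lt.ne'] at this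
    have hRi := Subgroup.card_mul_index (R : Subgroup K)
    have hNi := Subgroup.card_mul_index NK
    rw [hcR] at hRi
    obtain ⟨j, hj, hjr⟩ : ∃ j, 3 ^ j ∣ Nat.card N ∧ ¬ 3 ^ j ∣ r - 1 := by
      rcases hcases with ⟨rfl, h⟩ | ⟨rfl, h⟩
      · exact ⟨1, (Dvd.intro _ rfl).trans hcN, by norm_num⟩
      · refine ⟨2, ?_, by norm_num⟩
        rw [h] at hRi hNi
        have hI : NK.index ∣ 24 := by
          have := hn.1
          rwa [show (R : Subgroup K).index = 24 by omega] at this
        have hle := Nat.le_of_dvd (by norm_num) hI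
        have hmod := hn.2
        have : NK.index = 1 ∨ NK.index = 8 := by
          interval_cases NK.index <;> revert hI hmod <;> decide
        rcases this with e | e <;> rw [e] at hNi
        · exact (show 3 ^ 2 ∣ 3 * 168 by norm_num).trans (by rwa [show 168 = Nat.card NK by omega])
        · exact (show 3 ^ 2 ∣ 3 * 21 by norm_num).trans (by rwa [show 21 = Nat.card NK by omega])
    obtain ⟨H, hH⟩ := Sylow.exists_subgroup_card_pow_prime 3 hj
    haveI : IsCyclic R' := isCyclic_of_prime_card hcR'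
    have hnot : ¬ Function.Injective ((MulAut.conjNormal (H := R'.subgroupOf N)).comp H.subtype) := fun hinj => by
      refine hjr ?_
      have h := Subgroup.card_dvd_of_injective _ hinj
      rw [hH] at h
      haveI : IsCyclic (R'.subgroupOf N) := isCyclic_of_prime_card
        (p := r) (by rw [Nat.card_congr (Subgroup.subgroupOfEquivOfLe Subgroup.le_normalizer).toEquiv, hcR'])
      rwa [IsCyclic.card_mulAut, Nat.card_congr (Subgroup.subgroupOfEquivOfLe Subgroup.le_normalizer).toEquiv,
        hcR', Nat.totient_prime hr] at h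
    rw [injective_iff_map_eq_one] at hnot
    push Not at hnot
    obtain ⟨a, ha, ha1⟩ := hnot
    set b : Y := ((a : N) : Y) with hb
    have hb1 : b ≠ 1 := fun e => ha1 (Subtype.ext (Subtype.ext e))
    have hbc : ∀ q ∈ R', Commute b q := fun q hq => by
      have h := congrArg (fun φ : MulAut (R'.subgroupOf N) =>
        (((φ ⟨⟨q, Subgroup.le_normalizer hq⟩, hq⟩ : R'.subgroupOf N) : N) : Y)) ha
      exact mul_inv_eq_iff_eq_mul.1 (by simpa [hb] using h)
    have hbp : IsPGroup 3 (Subgroup.zpowers b) := by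
      obtain ⟨i, -, hi⟩ := (Nat.dvd_prime_pow Nat.prime_three).1 (show orderOf b ∣ 3 ^ j by
        rw [hb, Subgroup.orderOf_coe, Subgroup.orderOf_coe]
        exact hH ▸ orderOf_dvd_natCard a)
      exact IsPGroup.of_card (n := i) (by rw [Nat.card_zpowers, hi])
    obtain ⟨P', hP'⟩ := hbp.exists_le_sylow
    obtain ⟨g, hg⟩ := MulAction.exists_smul_eq Y P' P
    have hgb : g * b * g⁻¹ ∈ T := by
      have hm := Subgroup.smul_mem_pointwise_smul _ (MulAut.conj g) _ (hP' (Subgroup.mem_zpowers b))
      rw [show MulAut.conj g • (P' : Subgroup Y) = ((g • P' : Sylow 3 Y) : Subgroup Y) from rfl, hg, hP] at hm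
      exact hm
    have hgb1 : g * b * g⁻¹ ≠ 1 := fun e => hb1 (conj_eq_one_iff.1 e)
    have hle : R'.map (MulAut.conj g).toMonoidHom ≤ M := by
      rintro _ ⟨q, hq, rfl⟩
      refine A.cent _ hgb hgb1 (Subgroup.mem_centralizer_singleton_iff.2 ?_)
      have := (hbc q hq).map (MulAut.conj g).toMonoidHom
      simpa using this.symm.eq
    have h := Subgroup.card_dvd_of_le hle
    rw [Subgroup.card_map_of_injective (MulAut.conj g).injective, hcR', A.card_M] at h
    rcases hcases with ⟨rfl, -⟩ | ⟨rfl, -⟩ <;> norm_num at h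
  rcases Cfsg.Agent.S3331.result (Subgroup.zpowers (⟨x, hxK⟩ : K)) hX hC with
    ⟨N, hN, -, hcop, hq⟩ | ⟨N, hN, -, h2, ⟨e⟩⟩ | ⟨e⟩
  · have h3 : ¬ 3 ∣ Nat.card N := (Nat.Prime.coprime_iff_not_dvd Nat.prime_three).1 hcop.symm
    have hmax : ∀ H : Subgroup K, H.Normal → ¬ 3 ∣ Nat.card H → H ≤ N := by
      intro H hH hH3 a ha
      have himg3 : ¬ 3 ∣ Nat.card (H.map (QuotientGroup.mk' N)) := fun hd =>
        hH3 (hd.trans (Subgroup.card_map_dvd _ _))
      have himg : H.map (QuotientGroup.mk' N) = ⊥ := by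
        rcases hq with hq | ⟨⟨e⟩⟩
        · have hd := Subgroup.card_subgroup_dvd_card (H.map (QuotientGroup.mk' N))
          rw [hq] at hd
          rcases (Nat.dvd_prime Nat.prime_three).1 hd with h | h
          · exact Subgroup.card_eq_one.1 h
          · exact absurd (h ▸ dvd_rfl) himg3
        · haveI : (H.map (QuotientGroup.mk' N)).Normal := hH.map _ (QuotientGroup.mk'_surjective N)
          haveI : ((H.map (QuotientGroup.mk' N)).map e.toMonoidHom).Normal :=
            Subgroup.Normal.map inferInstance _ e.surjective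
          have h := perm_three_normal (H := (H.map (QuotientGroup.mk' N)).map e.toMonoidHom)
            (by rwa [Subgroup.card_map_of_injective e.injective])
          rwa [Subgroup.map_eq_bot_iff_of_injective _ e.injective] at h
      have hm : QuotientGroup.mk' N a ∈ H.map (QuotientGroup.mk' N) := ⟨a, ha, rfl⟩
      rw [himg, Subgroup.mem_bot] at hm
      exact (QuotientGroup.eq_one_iff a).1 hm
    have hbot := sigK N hN h3 hmax
    have hK6 : Nat.card K = 3 ∨ Nat.card K = 6 := by
      rw [Subgroup.card_eq_card_quotient_mul_card_subgroup N, hbot, Subgroup.card_bot, mul_one]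
      rcases hq with hq | ⟨⟨e⟩⟩
      · exact Or.inl (hbot ▸ hq)
      · exact Or.inr (by rw [← hbot, Nat.card_congr e.toEquiv, Nat.card_perm, Nat.card_fin]; rfl)
    have hd := Subgroup.card_subgroup_dvd_card M
    rw [A.card_M] at hd
    refine Subgroup.eq_top_of_card_eq _ ?_
    rw [A.card_M, hY]
    rcases hK6 with h | h <;> rw [h]
    rw [hY, h] at hd
    norm_num at hd
  · exfalso
    have h3 : ¬ 3 ∣ Nat.card N := fun hd => by
      obtain ⟨n, hn⟩ := exists_prime_orderOf_dvd_card' 3 hd
      have := orderOf_dvd_of_pow_eq_one (show n ^ 2 = 1 from Subtype.ext (h2 n n.2))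
      rw [hn] at this
      norm_num at this
    have hmax : ∀ H : Subgroup K, H.Normal → ¬ 3 ∣ Nat.card H → H ≤ N := by
      intro H hH hH3 a ha
      haveI : IsSimpleGroup (alternatingGroup (Fin 5)) := alternatingGroup.isSimpleGroup_five
      set f : K →* alternatingGroup (Fin 5) := e.toMonoidHom.comp (QuotientGroup.mk' N)
      rcases (hH.map f (e.surjective.comp (QuotientGroup.mk'_surjective N))).eq_bot_or_eq_top with h | h
      · have hm : f a ∈ H.map f := ⟨a, ha, rfl⟩
        rw [h, Subgroup.mem_bot] at hm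
        exact (QuotientGroup.eq_one_iff a).1 ((map_eq_one_iff e e.injective).1 hm)
      · refine absurd ?_ hH3
        have h60 := card_alt_five
        rw [← Subgroup.card_top, ← h] at h60
        exact ((show 3 ∣ 60 by norm_num).trans h60.symm.dvd).trans (Subgroup.card_map_dvd _ _)
    have hbot := sigK N hN h3 hmax
    refine large 5 (by norm_num) (Or.inl ⟨rfl, ?_⟩)
    rw [Subgroup.card_eq_card_quotient_mul_card_subgroup N, Nat.card_congr e.toEquiv, card_alt_five, hbot,
      Subgroup.card_bot]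
  · obtain ⟨e⟩ := e
    exact (large 7 (by norm_num) (Or.inr ⟨rfl, by rw [Nat.card_congr e.toEquiv, card_psl_seven]⟩)).elim

end Axis

end Cfsg.Agent.U62ThreeCent
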