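/-
A group with a three-centraliser of the shape of PSU(6,2): coordinates.

* `Mon` : the group `SL(2,3) wr 2`, acting on `V = F₃² ⊕ F₃²`, with the alternating form `om`;
* `Cfg` : `Q` of order `3⁵` normal in `H = C(z)`, coordinates, `z` weakly closed in `Q` but not in `H`;
* `Cfg.IsPt` : the non-identity elements of the conjugates of `⟨z⟩`;
* `Cfg.pt_comm_cases` : the first consequences of weak closure.
-/
import Cfsg.Agent.Lib.PSpThree.Model

set_option autoImplicit false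

namespace Cfsg.Agent.U62ThreeCent

open Cfsg.Agent.PSpThree

/-- A plane over the field with three elements. -/
abbrev V2 := K × K

/-- Two planes. -/
abbrev V := V2 × V2

/-- The action on a plane. -/
def act2 (A : SL23) (v : V2) : V2 := (A.1 0 0 * v.1 + A.1 0 1 * v.2, A.1 1 0 * v.1 + A.1 1 1 * v.2)

theorem act2_mul (A B : SL23) (v : V2) : act2 (A * B) v = act2 A (act2 B v) := by
  ext <;> simp [act2, Matrix.mul_apply, Fin.sum_univ_two] <;> ring

theorem act2_add (A : SL23) (v w : V2) : act2 A (v + w) = act2 A v + act2 A w := by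
  ext <;> simp [act2] <;> ring

/-- The group `SL(2,3) wr 2`. -/
@[ext]
structure Mon : Type where
  /-- first component -/
  a : SL23
  /-- second component -/
  b : SL23
  /-- exchange -/
  s : Bool
deriving DecidableEq

namespace Mon

/-- As triples. -/
def equivProd : Mon ≃ SL23 × SL23 × Bool where
  toFun x := (x.a, x.b, x.s)
  invFun p := ⟨p.1, p.2.1, p.2.2⟩
  left_inv _ := rfl
  right_inv _ := rfl

instance instFintypeMon : Fintype Mon := Fintype.ofEquiv _ equivProd.symm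

instance instMulMon : Mul Mon :=
  ⟨fun x y => ⟨x.a * cond x.s y.b y.a, x.b * cond x.s y.a y.b, xor x.s y.s⟩⟩
instance instOneMon : One Mon := ⟨⟨1, 1, false⟩⟩
instance instInvMon : Inv Mon := ⟨fun x => ⟨cond x.s x.b⁻¹ x.a⁻¹, cond x.s x.a⁻¹ x.b⁻¹, x.s⟩⟩

theorem mul_def (x y : Mon) : x * y = ⟨x.a * cond x.s y.b y.a, x.b * cond x.s y.a y.b, xor x.s y.s⟩ := rfl
theorem one_def : (1 : Mon) = ⟨1, 1, false⟩ := rfl
theorem inv_def (x : Mon) : x⁻¹ = ⟨cond x.s x.b⁻¹ x.a⁻¹, cond x.s x.a⁻¹ x.b⁻¹, x.s⟩ := rfl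

instance instGroupMon : Group Mon :=
  Group.ofLeftAxioms
    (fun x y z => by
      rcases x with ⟨xa, xb, xs⟩
      rcases y with ⟨ya, yb, ys⟩
      cases xs <;> cases ys <;> simp [mul_def, mul_assoc])
    (fun x => by simp [mul_def, one_def])
    (fun x => by
      rcases x with ⟨xa, xb, xs⟩
      cases xs <;> simp [mul_def, inv_def, one_def])

/-- The action on the sum of two planes. -/
def act (m : Mon) (v : V) : V := (act2 m.a (cond m.s v.2 v.1), act2 m.b (cond m.s v.1 v.2))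

theorem act_mul (m n : Mon) (v : V) : act (m * n) v = act m (act n v) := by
  rcases m with ⟨ma, mb, ms⟩
  rcases n with ⟨na, nb, ns⟩
  cases ms <;> cases ns <;> simp [act, mul_def, act2_mul]

theorem act_add (m : Mon) (v w : V) : act m (v + w) = act m v + act m w := by
  rcases m with ⟨ma, mb, ms⟩
  cases ms <;> simp [act, act2_add]

end Mon

/-- The determinant form on a plane. -/
def det2 (u v : V2) : K := u.1 * v.2 - u.2 * v.1

/-- The alternating form. -/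
def om (u v : V) : K := det2 u.1 v.1 + det2 u.2 v.2

theorem om_add_left (u v w : V) : om (u + v) w = om u w + om v w := by
  simp [om, det2]; ring

theorem om_add_right (u v w : V) : om u (v + w) = om u v + om u w := by
  simp [om, det2]; ring

/-- The configuration. -/
structure Cfg (G : Type*) [Group G] where
  /-- the central element -/
  z : G
  /-- the extraspecial subgroup -/
  Q : Subgroup G
  /-- the action of the centraliser of `z` -/
  φ : G → Mon
  /-- coordinates modulo `⟨z⟩` -/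
  vec : G → V
  z_ord : orderOf z = 3
  z_mem : z ∈ Q
  Q_le : ∀ q ∈ Q, Commute q z
  cube : ∀ q ∈ Q, q ^ 3 = 1
  vec_mul : ∀ i ∈ Q, ∀ j ∈ Q, vec (i * j) = vec i + vec j
  vec_surj : ∀ v : V, ∃ q ∈ Q, vec q = v
  vec_ker : ∀ q ∈ Q, (vec q = 0 ↔ q ∈ Subgroup.zpowers z)
  comm : ∀ i ∈ Q, ∀ j ∈ Q, i * j * i⁻¹ * j⁻¹ = z ^ (om (vec i) (vec j)).val
  φ_mul : ∀ g h, Commute g z → Commute h z → φ (g * h) = φ g * φ h
  φ_ker : ∀ h, Commute h z → (φ h = 1 ↔ h ∈ Q)
  conj_mem : ∀ h, Commute h z → ∀ q ∈ Q, h * q * h⁻¹ ∈ Q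
  vec_conj : ∀ h, Commute h z → ∀ q ∈ Q, vec (h * q * h⁻¹) = Mon.act (φ h) (vec q)
  quat : ∀ a b : SL23, a ^ 4 = 1 → b ^ 4 = 1 → ∃ h, Commute h z ∧ φ h = ⟨a, b, false⟩
  wc : ∀ g : G, g * z * g⁻¹ ∈ Q → g * z * g⁻¹ ∈ Subgroup.zpowers z
  nwc : ∃ g : G, Commute (g * z * g⁻¹) z ∧ g * z * g⁻¹ ∉ Q

namespace Cfg

variable {G : Type*} [Group G] (C : Cfg G)

/-- The non-identity elements of the conjugates of `⟨z⟩`. -/
def IsPt (x : G) : Prop := ∃ g : G, x = g * C.z * g⁻¹ ∨ x = (g * C.z * g⁻¹)⁻¹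

theorem z_pow : C.z ^ 3 = 1 := C.z_ord ▸ pow_orderOf_eq_one C.z

theorem z_ne : C.z ≠ 1 := fun e => by simpa [e] using C.z_ord

theorem isPt_z : C.IsPt C.z := ⟨1, Or.inl (by group)⟩

variable {C}

theorem IsPt.inv {x : G} (h : C.IsPt x) : C.IsPt x⁻¹ := by
  obtain ⟨g, h | h⟩ := h
  exacts [⟨g, Or.inr (by rw [h])⟩, ⟨g, Or.inl (by rw [h, inv_inv])⟩]

theorem IsPt.conj {x : G} (h : C.IsPt x) (c : G) : C.IsPt (c * x * c⁻¹) := by
  obtain ⟨g, h | h⟩ := h
  exacts [⟨c * g, Or.inl (by rw [h]; group)⟩, ⟨c * g, Or.inr (by rw [h]; group)⟩]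

theorem IsPt.ne_one {x : G} (h : C.IsPt x) : x ≠ 1 := by
  obtain ⟨g, rfl | rfl⟩ := h
  · exact fun e => C.z_ne (conj_eq_one_iff.1 e)
  · exact fun e => C.z_ne (conj_eq_one_iff.1 (inv_eq_one.1 e))

theorem IsPt.mem_zpowers {x : G} (h : C.IsPt x) (hQ : x ∈ C.Q) : x ∈ Subgroup.zpowers C.z := by
  obtain ⟨g, rfl | rfl⟩ := h
  · exact C.wc g hQ
  · exact inv_mem (C.wc g (inv_mem_iff.1 hQ))

variable (C)

theorem φ_one : C.φ 1 = 1 := (C.φ_ker 1 (Commute.one_left _)).2 (one_mem _)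

theorem φ_of_mem {q : G} (hq : q ∈ C.Q) : C.φ q = 1 := (C.φ_ker q (C.Q_le q hq)).2 hq

theorem φ_inv {h : G} (hh : Commute h C.z) : C.φ h⁻¹ = (C.φ h)⁻¹ :=
  eq_inv_of_mul_eq_one_left (by rw [← C.φ_mul _ _ hh.inv_left hh, inv_mul_cancel, C.φ_one])

theorem vec_one : C.vec 1 = 0 := (C.vec_ker 1 (one_mem _)).2 (one_mem _)

theorem vec_inv {q : G} (hq : q ∈ C.Q) : C.vec q⁻¹ = -C.vec q :=
  eq_neg_of_add_eq_zero_left (by rw [← C.vec_mul _ (inv_mem hq) _ hq, inv_mul_cancel, C.vec_one])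

theorem vec_z : C.vec C.z = 0 := (C.vec_ker _ C.z_mem).2 (Subgroup.mem_zpowers _)

end Cfg

end Cfsg.Agent.U62ThreeCent
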