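/-
Coordinates for a centraliser of an element of order three: an extraspecial group of order 3⁵ on which
a 2-group of the shape Q8 x Q8 acts faithfully.

* `Pre` : the intrinsic hypotheses;
* `Frame` : a symplectic frame made of the eigenspaces of an involution, and the maps `vec`, `phi`;
* `exists_coords` : all of it together.
-/
import Cfsg.Agent.Lib.U62ThreeCent.Cfg

set_option autoImplicit false

namespace Cfsg.Agent.U62ThreeCent

open Cfsg.Agent.PSpThree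
open scoped commutatorElement

/-- The intrinsic hypotheses. -/
structure Pre (G : Type*) [Group G] where
  /-- the central element -/
  z : G
  /-- the extraspecial subgroup -/
  Q : Subgroup G
  /-- the 2-group -/
  S : Subgroup G
  /-- first central involution of `S` -/
  c₁ : G
  /-- second central involution of `S` -/
  c₂ : G
  z_ord : orderOf z = 3
  z_mem : z ∈ Q
  Q_le : ∀ q ∈ Q, Commute q z
  conj_mem : ∀ h, Commute h z → ∀ q ∈ Q, h * q * h⁻¹ ∈ Q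
  card_Q : Nat.card Q = 243
  comm_mem : ∀ i ∈ Q, ∀ j ∈ Q, ⁅i, j⁆ ∈ Subgroup.zpowers z
  center : ∀ q ∈ Q, (∀ r ∈ Q, r * q = q * r) → q ∈ Subgroup.zpowers z
  cube_mem : ∀ q ∈ Q, q ^ 3 ∈ Subgroup.zpowers z
  self_cent : ∀ h, Commute h z → (∀ q ∈ Q, h * q = q * h) → h ∈ Q
  S_le : ∀ s ∈ S, Commute s z
  S_card : Nat.card S = 64
  S_exp : ∀ s ∈ S, s ^ 4 = 1
  S_norm : ∀ h, Commute h z → ∀ s ∈ S, ∃ s' ∈ S, h * s * h⁻¹ * s'⁻¹ ∈ Q
  c₁_mem : c₁ ∈ S
  c₂_mem : c₂ ∈ S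
  c₁_sq : c₁ * c₁ = 1
  c₂_sq : c₂ * c₂ = 1
  c₁_ne : c₁ ≠ 1
  c₂_ne : c₂ ≠ 1
  c₁₂ : c₁ ≠ c₂
  c₁_central : ∀ s ∈ S, s * c₁ = c₁ * s
  c₂_central : ∀ s ∈ S, s * c₂ = c₂ * s

/-- The images of the 2-group. -/
def sylTwo : Finset Mon := Finset.univ.filter fun m => m.s = false ∧ m.a ^ 4 = 1 ∧ m.b ^ 4 = 1

theorem card_sylTwo : sylTwo.card = 64 := by decide +kernel

theorem act_faithful (m : Mon) (h1 : Mon.act m ((1, 0), (0, 0)) = ((1, 0), (0, 0)))
    (h2 : Mon.act m ((0, 1), (0, 0)) = ((0, 1), (0, 0))) (h3 : Mon.act m ((0, 0), (1, 0)) = ((0, 0), (1, 0)))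
    (h4 : Mon.act m ((0, 0), (0, 1)) = ((0, 0), (0, 1))) : m = 1 := by
  obtain ⟨a, b, s⟩ := m
  cases s
  · simp [Mon.act, act2] at h1 h2 h3 h4
    rw [Mon.one_def]
    congr 1 <;> apply slEq <;> simp [h1, h2, h3, h4]
  · simp [Mon.act, act2] at h1

theorem act_one (v : V) : Mon.act 1 v = v := by simp [Mon.act, Mon.one_def, act2]

theorem act_ext {m n : Mon} (h : ∀ v, Mon.act m v = Mon.act n v) : m = n := by
  have key : ∀ v, Mon.act (n⁻¹ * m) v = v := fun v => by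
    rw [Mon.act_mul, h, ← Mon.act_mul, inv_mul_cancel, act_one]
  exact (inv_mul_eq_one.1 (act_faithful _ (key _) (key _) (key _) (key _))).symm

theorem neg_eq_self' : ∀ v : V2, -v = v → v = 0 := by decide

/-- The matrix with given columns. -/
def colMat (u v : V2) (h : det2 u v = 1) : SL23 :=
  ⟨!![u.1, v.1; u.2, v.2], by
    rw [Matrix.det_fin_two]
    simp only [det2] at h
    simp
    linear_combination h⟩

theorem act2_colMat (u v : V2) (h : det2 u v = 1) (w : V2) :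
    act2 (colMat u v h) w = w.1.val • u + w.2.val • v := by
  ext <;> simp [act2, colMat] <;> ring

/-- An additive map of the four-space is given by the images of the standard basis. -/
theorem additive_eq (L : V → V) (hL : ∀ v w, L (v + w) = L v + L w) (v : V) :
    L v = v.1.1.val • L ((1, 0), (0, 0)) + v.1.2.val • L ((0, 1), (0, 0)) +
      (v.2.1.val • L ((0, 0), (1, 0)) + v.2.2.val • L ((0, 0), (0, 1))) := by
  let f : V →+ V := AddMonoidHom.mk' L hL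
  show f v = _ • f _ + _ • f _ + (_ • f _ + _ • f _)
  rw [← map_nsmul, ← map_nsmul, ← map_nsmul, ← map_nsmul, ← map_add, ← map_add, ← map_add]
  congr 1
  ext <;> simp

/-- Maps preserving the form and the pair of planes come from `Mon`. -/
theorem exists_mon (L : V → V) (hL : ∀ v w, L (v + w) = L v + L w)
    (hom : ∀ v w, om (L v) (L w) = om v w) (s : Bool)
    (h₁ : ∀ u : V2, cond s (L (u, 0)).1 (L (u, 0)).2 = 0)
    (h₂ : ∀ u : V2, cond s (L (0, u)).2 (L (0, u)).1 = 0) :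
    ∃ m : Mon, m.s = s ∧ ∀ v, Mon.act m v = L v := by
  cases s
  · simp only [cond_false] at h₁ h₂
    have d1 : det2 (L ((1, 0), 0)).1 (L ((0, 1), 0)).1 = 1 := by
      have := hom ((1, 0), 0) ((0, 1), 0)
      rw [om, h₁, h₁] at this
      simpa [det2, om] using this
    have d2 : det2 (L (0, (1, 0))).2 (L (0, (0, 1))).2 = 1 := by
      have := hom (0, (1, 0)) (0, (0, 1))
      rw [om, h₂, h₂] at this
      simpa [det2, om] using this
    refine ⟨⟨colMat _ _ d1, colMat _ _ d2, false⟩, rfl, fun v => ?_⟩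
    rw [additive_eq L hL v]
    refine Prod.ext ?_ ?_
    · simp only [Mon.act, cond_false, act2_colMat, Prod.fst_add, Prod.smul_fst]
      rw [show (L ((0, 0), (1, 0))).1 = 0 from h₂ _, show (L ((0, 0), (0, 1))).1 = 0 from h₂ _]
      simp
      rfl
    · simp only [Mon.act, cond_false, act2_colMat, Prod.snd_add, Prod.smul_snd]
      rw [show (L ((1, 0), (0, 0))).2 = 0 from h₁ _, show (L ((0, 1), (0, 0))).2 = 0 from h₁ _]
      simp
      rfl
  · simp only [cond_true] at h₁ h₂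
    have d1 : det2 (L (0, (1, 0))).1 (L (0, (0, 1))).1 = 1 := by
      have := hom (0, (1, 0)) (0, (0, 1))
      rw [om, h₂, h₂] at this
      simpa [det2, om] using this
    have d2 : det2 (L ((1, 0), 0)).2 (L ((0, 1), 0)).2 = 1 := by
      have := hom ((1, 0), 0) ((0, 1), 0)
      rw [om, h₁, h₁] at this
      simpa [det2, om] using this
    refine ⟨⟨colMat _ _ d1, colMat _ _ d2, true⟩, rfl, fun v => ?_⟩
    rw [additive_eq L hL v]
    refine Prod.ext ?_ ?_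
    · simp only [Mon.act, cond_true, act2_colMat, Prod.fst_add, Prod.smul_fst]
      rw [show (L ((1, 0), (0, 0))).1 = 0 from h₁ _, show (L ((0, 1), (0, 0))).1 = 0 from h₁ _]
      simp
      rfl
    · simp only [Mon.act, cond_true, act2_colMat, Prod.snd_add, Prod.smul_snd]
      rw [show (L ((0, 0), (1, 0))).2 = 0 from h₂ _, show (L ((0, 0), (0, 1))).2 = 0 from h₂ _]
      simp
      rfl

theorem comm_mul_left {G : Type*} [Group G] (a b c : G) (h : Commute a ⁅b, c⁆)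
    (h' : Commute ⁅a, c⁆ ⁅b, c⁆) : ⁅a * b, c⁆ = ⁅a, c⁆ * ⁅b, c⁆ := by
  rw [h'.eq]
  calc ⁅a * b, c⁆ = (a * ⁅b, c⁆ * a⁻¹) * ⁅a, c⁆ := by simp only [commutatorElement_def]; group
    _ = _ := by rw [h.eq, mul_inv_cancel_right]

theorem comm_mul_right {G : Type*} [Group G] (a b c : G) (h : Commute b ⁅a, c⁆) :
    ⁅a, b * c⁆ = ⁅a, b⁆ * ⁅a, c⁆ := by
  calc ⁅a, b * c⁆ = ⁅a, b⁆ * (b * ⁅a, c⁆ * b⁻¹) := by simp only [commutatorElement_def]; group
    _ = _ := by rw [h.eq, mul_inv_cancel_right]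

namespace Pre

variable {G : Type*} [Group G] (P : Pre G)

theorem commute_of_mem {h x : G} (hh : Commute h P.z) (hx : x ∈ Subgroup.zpowers P.z) : Commute h x := by
  obtain ⟨k, rfl⟩ := hx
  exact hh.zpow_right k

theorem exists_val (x : Subgroup.zpowers P.z) : ∃ k : K, P.z ^ k.val = (x : G) := by
  obtain ⟨n, hn⟩ := x.2
  refine ⟨(n : K), ?_⟩
  rw [← hn]
  show P.z ^ (n : K).val = P.z ^ n
  rw [← zpow_natCast, zpow_eq_zpow_iff_modEq, P.z_ord, ← ZMod.intCast_eq_intCast_iff]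
  simp

theorem z_pow_add (a b : K) : P.z ^ a.val * P.z ^ b.val = P.z ^ (a + b).val := by
  have h3 : P.z ^ 3 = 1 := P.z_ord ▸ pow_orderOf_eq_one P.z
  rw [← pow_add, pow_eq_pow_mod (a.val + b.val) h3, ZMod.val_add]

theorem z_pow_inj {a b : K} (h : P.z ^ a.val = P.z ^ b.val) : a = b := by
  apply ZMod.val_injective
  exact pow_injOn_Iio_orderOf (by rw [Set.mem_Iio, P.z_ord]; exact ZMod.val_lt a)
    (by rw [Set.mem_Iio, P.z_ord]; exact ZMod.val_lt b) h

open Classical in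
/-- The exponent of an element of the centre. -/
noncomputable def cv (x : G) : K :=
  if h : ∃ k : K, P.z ^ k.val = x then h.choose else 0

theorem cv_spec {x : G} (hx : x ∈ Subgroup.zpowers P.z) : P.z ^ (P.cv x).val = x := by
  have h := P.exists_val ⟨x, hx⟩
  rw [cv, dif_pos h]
  exact h.choose_spec

theorem cv_eq {x : G} {k : K} (h : P.z ^ k.val = x) : P.cv x = k :=
  P.z_pow_inj ((P.cv_spec (h ▸ pow_mem (Subgroup.mem_zpowers _) _)).trans h.symm)

theorem cv_one : P.cv 1 = 0 := P.cv_eq (by simp)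

theorem cv_mul {x y : G} (hx : x ∈ Subgroup.zpowers P.z) (hy : y ∈ Subgroup.zpowers P.z) :
    P.cv (x * y) = P.cv x + P.cv y :=
  P.cv_eq (by rw [← z_pow_add, P.cv_spec hx, P.cv_spec hy])

theorem cv_inv {x : G} (hx : x ∈ Subgroup.zpowers P.z) : P.cv x⁻¹ = -P.cv x :=
  eq_neg_of_add_eq_zero_left (by rw [← P.cv_mul (inv_mem hx) hx, inv_mul_cancel, P.cv_one])

theorem zpowers_le_Q {x : G} (hx : x ∈ Subgroup.zpowers P.z) : x ∈ P.Q :=
  (Subgroup.zpowers_le.2 P.z_mem) hx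

/-- The commutator pairing. -/
noncomputable def cm (i j : G) : K := P.cv ⁅i, j⁆

theorem cm_mul_left {i i' j : G} (hi : i ∈ P.Q) (hi' : i' ∈ P.Q) (hj : j ∈ P.Q) :
    P.cm (i * i') j = P.cm i j + P.cm i' j := by
  rw [cm, comm_mul_left _ _ _ (P.commute_of_mem (P.Q_le _ hi) (P.comm_mem _ hi' _ hj))
    (P.commute_of_mem (P.Q_le _ (P.zpowers_le_Q (P.comm_mem _ hi _ hj))) (P.comm_mem _ hi' _ hj)),
    P.cv_mul (P.comm_mem _ hi _ hj) (P.comm_mem _ hi' _ hj)]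
  rfl

theorem cm_mul_right {i j j' : G} (hi : i ∈ P.Q) (hj : j ∈ P.Q) (hj' : j' ∈ P.Q) :
    P.cm i (j * j') = P.cm i j + P.cm i j' := by
  rw [cm, comm_mul_right _ _ _ (P.commute_of_mem (P.Q_le _ hj) (P.comm_mem _ hi _ hj')),
    P.cv_mul (P.comm_mem _ hi _ hj) (P.comm_mem _ hi _ hj')]
  rfl

theorem cm_swap {i j : G} (hi : i ∈ P.Q) (hj : j ∈ P.Q) : P.cm j i = -P.cm i j := by
  rw [cm, ← commutatorElement_inv, P.cv_inv (P.comm_mem _ hi _ hj)]
  rfl

theorem cm_self {i : G} : P.cm i i = 0 := by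
  rw [cm, commutatorElement_self, P.cv_one]

theorem cm_central_right {i x : G} (hi : i ∈ P.Q) (hx : x ∈ Subgroup.zpowers P.z) : P.cm i x = 0 := by
  rw [cm, commutatorElement_eq_one_iff_commute.2 (P.commute_of_mem (P.Q_le _ hi) hx), P.cv_one]

theorem cm_one_left {j : G} : P.cm 1 j = 0 := by rw [cm, commutatorElement_one_left, P.cv_one]

theorem cm_one_right {i : G} : P.cm i 1 = 0 := by rw [cm, commutatorElement_one_right, P.cv_one]

theorem cm_inv_left {i j : G} (hi : i ∈ P.Q) (hj : j ∈ P.Q) : P.cm i⁻¹ j = -P.cm i j :=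
  eq_neg_of_add_eq_zero_left (by rw [← P.cm_mul_left (inv_mem hi) hi hj, inv_mul_cancel, P.cm_one_left])

theorem cm_inv_right {i j : G} (hi : i ∈ P.Q) (hj : j ∈ P.Q) : P.cm i j⁻¹ = -P.cm i j :=
  eq_neg_of_add_eq_zero_left (by rw [← P.cm_mul_right hi (inv_mem hj) hj, inv_mul_cancel, P.cm_one_right])

theorem cm_conj {h i j : G} (hh : Commute h P.z) (hi : i ∈ P.Q) (hj : j ∈ P.Q) :
    P.cm (h * i * h⁻¹) (h * j * h⁻¹) = P.cm i j := by
  rw [cm, cm, ← conjugate_commutatorElement, (P.commute_of_mem hh (P.comm_mem _ hi _ hj)).eq,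
    mul_inv_cancel_right]

/-- Elements of `S` acting trivially modulo the centre are trivial. -/
theorem eq_one_of_trivial {s : G} (hs : s ∈ P.S)
    (h : ∀ q ∈ P.Q, s * q * s⁻¹ * q⁻¹ ∈ Subgroup.zpowers P.z) : s = 1 := by
  have hz : Commute s P.z := P.S_le s hs
  have hc : ∀ q ∈ P.Q, s * q = q * s := by
    intro q hq
    set ζ := s * q * s⁻¹ * q⁻¹ with hζ
    have hζm : ζ ∈ Subgroup.zpowers P.z := h q hq
    have e : s * q * s⁻¹ = ζ * q := by rw [hζ]; group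
    have hsc : Commute s ζ := P.commute_of_mem hz hζm
    have step : ∀ n : ℕ, s ^ n * q * (s ^ n)⁻¹ = ζ ^ n * q := by
      intro n
      induction n with
      | zero => simp
      | succ n ih =>
        calc s ^ (n + 1) * q * (s ^ (n + 1))⁻¹ = s * (s ^ n * q * (s ^ n)⁻¹) * s⁻¹ := by
              rw [pow_succ']; group
          _ = (s * ζ ^ n) * q * s⁻¹ := by rw [ih]; group
          _ = ζ ^ n * (s * q * s⁻¹) := by rw [(hsc.pow_right n).eq]; group
          _ = ζ ^ (n + 1) * q := by rw [e, pow_succ]; group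
    have h4 := step 4
    rw [P.S_exp s hs] at h4
    simp at h4
    have h4' : ζ ^ 4 = 1 := h4
    have h3 : ζ ^ 3 = 1 := by
      obtain ⟨k, hk⟩ := Subgroup.mem_zpowers_iff.1 hζm
      rw [← hk, ← zpow_natCast, ← zpow_mul, mul_comm, zpow_mul, zpow_natCast, ← P.z_ord, pow_orderOf_eq_one,
        one_zpow]
    have : ζ = 1 := by rw [pow_succ, h3, one_mul] at h4'; exact h4'
    rw [this, one_mul] at e
    exact mul_inv_eq_iff_eq_mul.1 e
  have hsQ : s ∈ P.Q := P.self_cent s hz hc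
  have h243 : orderOf s ∣ 243 := P.card_Q ▸ Subgroup.orderOf_dvd_natCard _ hsQ
  have h4 : orderOf s ∣ 4 := orderOf_dvd_of_pow_eq_one (P.S_exp s hs)
  rw [← orderOf_eq_one_iff, ← Nat.dvd_one]
  exact (Nat.dvd_gcd h243 h4).trans (by norm_num)

end Pre

/-- A frame adapted to an involution `c` of the centre of `S`. -/
structure Frame {G : Type*} [Group G] (P : Pre G) where
  /-- the involution -/
  c : G
  /-- first vector -/
  x₁ : G
  /-- second vector -/
  y₁ : G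
  /-- third vector -/
  x₂ : G
  /-- fourth vector -/
  y₂ : G
  c_mem : c ∈ P.S
  c_central : ∀ s ∈ P.S, s * c = c * s
  x₁_mem : x₁ ∈ P.Q
  y₁_mem : y₁ ∈ P.Q
  x₂_mem : x₂ ∈ P.Q
  y₂_mem : y₂ ∈ P.Q
  x₁_inv : c * x₁ * c⁻¹ * x₁ ∈ Subgroup.zpowers P.z
  y₁_inv : c * y₁ * c⁻¹ * y₁ ∈ Subgroup.zpowers P.z
  x₂_fix : c * x₂ * c⁻¹ * x₂⁻¹ ∈ Subgroup.zpowers P.z
  y₂_fix : c * y₂ * c⁻¹ * y₂⁻¹ ∈ Subgroup.zpowers P.z
  h₁ : P.cm x₁ y₁ = 1
  h₂ : P.cm x₂ y₂ = 1
  h₁₂ : P.cm x₁ x₂ = 0 ∧ P.cm x₁ y₂ = 0 ∧ P.cm y₁ x₂ = 0 ∧ P.cm y₁ y₂ = 0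

section exists_frame

variable {G : Type*} [Group G] (P : Pre G)

/-- Inverted and fixed elements commute. -/
theorem cm_eigen {c a b : G} (hc : c ∈ P.S) (ha : a ∈ P.Q) (hb : b ∈ P.Q)
    (hfa : c * a * c⁻¹ * a⁻¹ ∈ Subgroup.zpowers P.z) (hib : c * b * c⁻¹ * b ∈ Subgroup.zpowers P.z) :
    P.cm a b = 0 ∧ P.cm b a = 0 := by
  have hz := P.S_le c hc
  have h := P.cm_conj hz ha hb
  have ea : c * a * c⁻¹ = (c * a * c⁻¹ * a⁻¹) * a := by group
  have eb : c * b * c⁻¹ = (c * b * c⁻¹ * b) * b⁻¹ := by group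
  rw [ea, eb, P.cm_mul_left (P.zpowers_le_Q hfa) ha (mul_mem (P.zpowers_le_Q hib) (inv_mem hb)),
    P.cm_mul_right ha (P.zpowers_le_Q hib) (inv_mem hb),
    P.cm_swap (mul_mem (P.zpowers_le_Q hib) (inv_mem hb)) (P.zpowers_le_Q hfa),
    P.cm_central_right (mul_mem (P.zpowers_le_Q hib) (inv_mem hb)) hfa, P.cm_central_right ha hib,
    P.cm_inv_right ha hb] at h
  have h0 : P.cm a b = 0 := neg_eq_self _ (by simpa using h)
  exact ⟨h0, by rw [P.cm_swap ha hb, h0, neg_zero]⟩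

theorem exists_frame : Nonempty (Frame P) := by
  obtain ⟨c, hcS, hccen, hc2, hnot1, hnotneg⟩ : ∃ c, c ∈ P.S ∧ (∀ s ∈ P.S, s * c = c * s) ∧ c * c = 1 ∧
      (¬ ∀ q ∈ P.Q, c * q * c⁻¹ * q⁻¹ ∈ Subgroup.zpowers P.z) ∧
      ¬ ∀ q ∈ P.Q, c * q * c⁻¹ * q ∈ Subgroup.zpowers P.z := by
    by_cases h : ∀ q ∈ P.Q, P.c₁ * q * P.c₁⁻¹ * q ∈ Subgroup.zpowers P.z
    · refine ⟨P.c₂, P.c₂_mem, P.c₂_central, P.c₂_sq, fun h2 => P.c₂_ne (P.eq_one_of_trivial P.c₂_mem h2),
        fun h2 => P.c₁₂ ?_⟩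
      have h3 : P.c₁⁻¹ * P.c₂ = 1 := P.eq_one_of_trivial (mul_mem (inv_mem P.c₁_mem) P.c₂_mem) fun q hq => by
        have hq' := P.conj_mem _ (P.S_le _ P.c₂_mem) q hq
        have e1 := h _ hq'
        have e2 := h2 q hq
        rw [show P.c₁⁻¹ = P.c₁ from inv_eq_of_mul_eq_one_right P.c₁_sq] at e1 ⊢
        rw [show (P.c₁ * P.c₂) * q * (P.c₁ * P.c₂)⁻¹ * q⁻¹ =
          (P.c₁ * (P.c₂ * q * P.c₂⁻¹) * P.c₁⁻¹ * (P.c₂ * q * P.c₂⁻¹)) *
            ((P.c₂ * q * P.c₂⁻¹)⁻¹ * q⁻¹) by group]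
        rw [show P.c₁⁻¹ = P.c₁ from inv_eq_of_mul_eq_one_right P.c₁_sq]
        refine mul_mem e1 ?_
        have e3 := inv_mem e2
        rw [mul_inv_rev] at e3
        have e4 : Commute q (q⁻¹ * (P.c₂ * q * P.c₂⁻¹)⁻¹) := P.commute_of_mem (P.Q_le _ hq) e3
        rw [show (P.c₂ * q * P.c₂⁻¹)⁻¹ * q⁻¹ = q * (q⁻¹ * (P.c₂ * q * P.c₂⁻¹)⁻¹) * q⁻¹ by group,
          e4.eq, mul_inv_cancel_right]
        exact e3
      exact inv_mul_eq_one.1 h3
    · exact ⟨P.c₁, P.c₁_mem, P.c₁_central, P.c₁_sq, fun h2 => P.c₁_ne (P.eq_one_of_trivial P.c₁_mem h2), h⟩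
  have hcz := P.S_le c hcS
  have hci : c⁻¹ = c := inv_eq_of_mul_eq_one_right hc2
  -- splitting
  have split : ∀ q ∈ P.Q, ∃ f i ζ, f ∈ P.Q ∧ i ∈ P.Q ∧ ζ ∈ Subgroup.zpowers P.z ∧
      c * f * c⁻¹ * f⁻¹ ∈ Subgroup.zpowers P.z ∧ c * i * c⁻¹ * i ∈ Subgroup.zpowers P.z ∧
      q = f * i * ζ := by
    intro q hq
    set r := c * q * c⁻¹ with hr
    have hrQ : r ∈ P.Q := P.conj_mem c hcz q hq
    have hrr : c * r * c⁻¹ = q := by
      rw [hr, hci]; simp only [mul_assoc, hc2, mul_one]; rw [← mul_assoc, hc2, one_mul]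
    have hcen : ∀ a ∈ P.Q, ∀ b ∈ P.Q, ∃ t ∈ Subgroup.zpowers P.z, a * b = b * a * t := fun a ha b hb =>
      ⟨⁅a⁻¹, b⁻¹⁆, P.comm_mem _ (inv_mem ha) _ (inv_mem hb), by simp only [commutatorElement_def]; group⟩
    obtain ⟨t1, ht1, e1⟩ := hcen r hrQ q hq
    obtain ⟨t2, ht2, e2⟩ := hcen r hrQ q⁻¹ (inv_mem hq)
    refine ⟨(q * r)⁻¹, (q * r⁻¹)⁻¹, ((q * r)⁻¹ * (q * r⁻¹)⁻¹)⁻¹ * q, inv_mem (mul_mem hq hrQ),
      inv_mem (mul_mem hq (inv_mem hrQ)), ?_, ?_, ?_, by group⟩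
    · have e : ((q * r)⁻¹ * (q * r⁻¹)⁻¹)⁻¹ * q = q ^ 3 * (q⁻¹ * (q⁻¹ * r⁻¹ * q * r) * q) := by group
      rw [e]
      refine mul_mem (P.cube_mem q hq) ?_
      have hm : q⁻¹ * r⁻¹ * q * r ∈ Subgroup.zpowers P.z := by
        have := P.comm_mem _ (inv_mem hq) _ (inv_mem hrQ)
        rwa [commutatorElement_def, inv_inv, inv_inv] at this
      rw [mul_assoc, ← (P.commute_of_mem (P.Q_le _ hq) hm).eq, inv_mul_cancel_left]
      exact hm
    · have : c * (q * r)⁻¹ * c⁻¹ * (q * r)⁻¹⁻¹ = t1⁻¹ := by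
        have hh : c * (q * r) * c⁻¹ = r * q := by
          rw [show c * (q * r) * c⁻¹ = (c * q * c⁻¹) * (c * r * c⁻¹) by group, hrr, ← hr]
        rw [show c * (q * r)⁻¹ * c⁻¹ = (c * (q * r) * c⁻¹)⁻¹ by group, hh, inv_inv, e1]
        group
      rw [this]
      exact inv_mem ht1
    · have : c * (q * r⁻¹)⁻¹ * c⁻¹ * (q * r⁻¹)⁻¹ = (q * r⁻¹ * (r * q⁻¹))⁻¹ := by
        have hh : c * (q * r⁻¹) * c⁻¹ = r * q⁻¹ := by
          rw [show c * (q * r⁻¹) * c⁻¹ = (c * q * c⁻¹) * (c * r * c⁻¹)⁻¹ by group, hrr, ← hr]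
        rw [show c * (q * r⁻¹)⁻¹ * c⁻¹ = (c * (q * r⁻¹) * c⁻¹)⁻¹ by group, hh]
        group
      rw [this]
      simp
  -- a pair in each eigenspace
  have pair : ∀ (ε : Bool), ∃ x y, x ∈ P.Q ∧ y ∈ P.Q ∧
      c * x * c⁻¹ * cond ε x x⁻¹ ∈ Subgroup.zpowers P.z ∧
      c * y * c⁻¹ * cond ε y y⁻¹ ∈ Subgroup.zpowers P.z ∧ P.cm x y = 1 := by
    intro ε
    obtain ⟨x, hx, hxe, hxz⟩ : ∃ x, x ∈ P.Q ∧ c * x * c⁻¹ * cond ε x x⁻¹ ∈ Subgroup.zpowers P.z ∧
        x ∉ Subgroup.zpowers P.z := by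
      by_contra! hne
      cases ε
      · apply hnotneg
        intro q hq
        obtain ⟨f, i, ζ, hf, hi, hζ, hff, hii, rfl⟩ := split q hq
        have hfz := hne f hf hff
        have e : c * (f * i * ζ) * c⁻¹ * (f * i * ζ) = (f * ζ) * (c * i * c⁻¹ * i) * (f * ζ) := by
          have c1 := (P.commute_of_mem hcz hfz).eq
          have c2 := (P.commute_of_mem hcz hζ).eq
          calc c * (f * i * ζ) * c⁻¹ * (f * i * ζ)
              = (c * f * c⁻¹) * (c * i * c⁻¹) * (c * ζ * c⁻¹) * f * i * ζ := by group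
            _ = f * (c * i * c⁻¹) * ζ * f * i * ζ := by rw [c1, c2, mul_inv_cancel_right, mul_inv_cancel_right]
            _ = f * ((c * i * c⁻¹) * (ζ * f)) * i * ζ := by group
            _ = f * ((ζ * f) * (c * i * c⁻¹)) * i * ζ := by
              rw [(P.commute_of_mem (P.Q_le _ (P.conj_mem c hcz i hi)) (mul_mem hζ hfz)).eq]
            _ = f * ζ * (f * ((c * i * c⁻¹ * i) * ζ)) := by group
            _ = f * ζ * ((c * i * c⁻¹ * i) * (f * ζ)) := by
              rw [← mul_assoc f, (P.commute_of_mem (P.Q_le _ hf) hii).eq]; group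
            _ = _ := by group
        rw [e]
        exact mul_mem (mul_mem (mul_mem hfz hζ) hii) (mul_mem hfz hζ)
      · apply hnot1
        intro q hq
        obtain ⟨f, i, ζ, hf, hi, hζ, hff, hii, rfl⟩ := split q hq
        have hiz := hne i hi hii
        have hiζ : i * ζ ∈ Subgroup.zpowers P.z := mul_mem hiz hζ
        have e : c * (f * i * ζ) * c⁻¹ * (f * i * ζ)⁻¹ = c * f * c⁻¹ * f⁻¹ := by
          calc c * (f * i * ζ) * c⁻¹ * (f * i * ζ)⁻¹
              = c * f * c⁻¹ * ((c * (i * ζ)) * c⁻¹ * (i * ζ)⁻¹) * f⁻¹ := by group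
            _ = _ := by rw [(P.commute_of_mem hcz hiζ).eq]; group
        rw [e]
        exact hff
    obtain ⟨q, hq, hne⟩ : ∃ q, q ∈ P.Q ∧ P.cm x q ≠ 0 := by
      by_contra! h
      refine hxz (P.center x hx fun q hq => ?_)
      have e := P.cv_spec (P.comm_mem x hx q hq)
      rw [show P.cv ⁅x, q⁆ = 0 from h q hq, ZMod.val_zero, pow_zero] at e
      exact (commutatorElement_eq_one_iff_mul_comm.1 e.symm).symm
    obtain ⟨f, i, ζ, hf, hi, hζ, hff, hii, rfl⟩ := split q hq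
    rw [P.cm_mul_right hx (mul_mem hf hi) (P.zpowers_le_Q hζ), P.cm_mul_right hx hf hi,
      P.cm_central_right hx hζ, add_zero] at hne
    cases ε
    · rw [(cm_eigen P hcS hx hi hxe hii).1, add_zero] at hne
      have hcases : P.cm x f = 1 ∨ P.cm x f = -1 := by revert hne; generalize P.cm x f = k; revert k; decide
      rcases hcases with e | e
      · exact ⟨x, f, hx, hf, hxe, hff, e⟩
      · refine ⟨x, f⁻¹, hx, inv_mem hf, hxe, ?_, by rw [P.cm_inv_right hx hf, e, neg_neg]⟩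
        show c * f⁻¹ * c⁻¹ * f⁻¹⁻¹ ∈ _
        have h' := inv_mem hff
        rw [show (c * f * c⁻¹ * f⁻¹)⁻¹ = f * (c * f⁻¹ * c⁻¹) by group] at h'
        rw [inv_inv, show c * f⁻¹ * c⁻¹ * f = f⁻¹ * (f * (c * f⁻¹ * c⁻¹)) * f by group,
          mul_assoc, ← (P.commute_of_mem (P.Q_le _ hf) h').eq, inv_mul_cancel_left]
        exact h'
    · rw [(cm_eigen P hcS hf hx hff hxe).2, zero_add] at hne
      have hcases : P.cm x i = 1 ∨ P.cm x i = -1 := by revert hne; generalize P.cm x i = k; revert k; decide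
      rcases hcases with e | e
      · exact ⟨x, i, hx, hi, hxe, hii, e⟩
      · refine ⟨x, i⁻¹, hx, inv_mem hi, hxe, ?_, by rw [P.cm_inv_right hx hi, e, neg_neg]⟩
        show c * i⁻¹ * c⁻¹ * i⁻¹ ∈ _
        have h' := inv_mem hii
        rw [show (c * i * c⁻¹ * i)⁻¹ = i⁻¹ * (c * i⁻¹ * c⁻¹) by group] at h'
        rw [show c * i⁻¹ * c⁻¹ * i⁻¹ = i * (i⁻¹ * (c * i⁻¹ * c⁻¹)) * i⁻¹ by group,
          (P.commute_of_mem (P.Q_le _ hi) h').eq, mul_inv_cancel_right]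
        exact h'
  obtain ⟨x₁, y₁, hx₁, hy₁, ex₁, ey₁, e₁⟩ := pair true
  obtain ⟨x₂, y₂, hx₂, hy₂, ex₂, ey₂, e₂⟩ := pair false
  exact ⟨⟨c, x₁, y₁, x₂, y₂, hcS, hccen, hx₁, hy₁, hx₂, hy₂, ex₁, ey₁, ex₂, ey₂, e₁, e₂,
    (cm_eigen P hcS hx₂ hx₁ ex₂ ex₁).2, (cm_eigen P hcS hy₂ hx₁ ey₂ ex₁).2,
    (cm_eigen P hcS hx₂ hy₁ ex₂ ey₁).2, (cm_eigen P hcS hy₂ hy₁ ey₂ ey₁).2⟩⟩

end exists_frame

namespace Frame

variable {G : Type*} [Group G] {P : Pre G} (F : Frame P)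

/-- The coordinates. -/
noncomputable def vec (q : G) : V :=
  ((P.cm q F.y₁, P.cm F.x₁ q), (P.cm q F.y₂, P.cm F.x₂ q))

theorem vec_mul {i j : G} (hi : i ∈ P.Q) (hj : j ∈ P.Q) : F.vec (i * j) = F.vec i + F.vec j := by
  simp [vec, P.cm_mul_left hi hj F.y₁_mem, P.cm_mul_left hi hj F.y₂_mem, P.cm_mul_right F.x₁_mem hi hj,
    P.cm_mul_right F.x₂_mem hi hj]

theorem vec_x₁ : F.vec F.x₁ = ((1, 0), (0, 0)) := by
  have h := F.h₁₂
  simp [vec, F.h₁, P.cm_self, h.2.1, P.cm_swap F.x₁_mem F.x₂_mem, h.1]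

theorem vec_y₁ : F.vec F.y₁ = ((0, 1), (0, 0)) := by
  have h := F.h₁₂
  simp [vec, F.h₁, P.cm_self, h.2.2.2, P.cm_swap F.y₁_mem F.x₂_mem, h.2.2.1]

theorem vec_x₂ : F.vec F.x₂ = ((0, 0), (1, 0)) := by
  have h := F.h₁₂
  simp [vec, F.h₂, P.cm_self, h.1, P.cm_swap F.y₁_mem F.x₂_mem, h.2.2.1]

theorem vec_y₂ : F.vec F.y₂ = ((0, 0), (0, 1)) := by
  have h := F.h₁₂
  simp [vec, F.h₂, P.cm_self, h.2.1, P.cm_swap F.y₁_mem F.y₂_mem, h.2.2.2]

theorem vec_one : F.vec 1 = 0 := by simp [vec, P.cm_one_left, P.cm_one_right]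

theorem vec_inv {q : G} (hq : q ∈ P.Q) : F.vec q⁻¹ = -F.vec q :=
  eq_neg_of_add_eq_zero_left (by rw [← F.vec_mul (inv_mem hq) hq, inv_mul_cancel, F.vec_one])

theorem vec_pow {q : G} (hq : q ∈ P.Q) (n : ℕ) : F.vec (q ^ n) = n • F.vec q := by
  induction n with
  | zero => rw [pow_zero, F.vec_one, zero_smul]
  | succ n ih => rw [pow_succ, F.vec_mul (pow_mem hq n) hq, ih, succ_nsmul]

/-- A preimage. -/
def word (v : V) : G :=
  F.x₁ ^ v.1.1.val * F.y₁ ^ v.1.2.val * (F.x₂ ^ v.2.1.val * F.y₂ ^ v.2.2.val)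

theorem word_mem (v : V) : F.word v ∈ P.Q :=
  mul_mem (mul_mem (pow_mem F.x₁_mem _) (pow_mem F.y₁_mem _))
    (mul_mem (pow_mem F.x₂_mem _) (pow_mem F.y₂_mem _))

theorem vec_word (v : V) : F.vec (F.word v) = v := by
  rw [word, F.vec_mul (mul_mem (pow_mem F.x₁_mem _) (pow_mem F.y₁_mem _))
    (mul_mem (pow_mem F.x₂_mem _) (pow_mem F.y₂_mem _)),
    F.vec_mul (pow_mem F.x₁_mem _) (pow_mem F.y₁_mem _), F.vec_mul (pow_mem F.x₂_mem _) (pow_mem F.y₂_mem _),
    F.vec_pow F.x₁_mem, F.vec_pow F.y₁_mem, F.vec_pow F.x₂_mem, F.vec_pow F.y₂_mem, F.vec_x₁, F.vec_y₁,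
    F.vec_x₂, F.vec_y₂]
  ext <;> simp

theorem vec_eq_zero {q : G} (hq : q ∈ P.Q) : F.vec q = 0 ↔ q ∈ Subgroup.zpowers P.z := by
  refine ⟨fun h => ?_, fun h => ?_⟩
  · let f : P.Q →* Multiplicative V := MonoidHom.mk' (fun q => Multiplicative.ofAdd (F.vec q))
      fun a b => by rw [Subgroup.coe_mul, F.vec_mul a.2 b.2, ofAdd_add]
    have hsurj : Function.Surjective f := fun v =>
      ⟨⟨F.word v.toAdd, F.word_mem _⟩, congrArg Multiplicative.ofAdd (F.vec_word v.toAdd)⟩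
    have hcard : Nat.card f.ker * 81 = 243 := by
      have := Subgroup.card_mul_index f.ker
      rwa [Subgroup.index_ker, MonoidHom.range_eq_top.2 hsurj, Subgroup.card_top, P.card_Q,
        show Nat.card (Multiplicative V) = 81 by simp] at this
    have hle : (Subgroup.zpowers P.z).subgroupOf P.Q ≤ f.ker := fun x hx => by
      show Multiplicative.ofAdd (F.vec x) = 1
      have hx' : (x : G) ∈ Subgroup.zpowers P.z := hx
      simp [vec, P.cm_swap F.y₁_mem x.2, P.cm_swap F.y₂_mem x.2, P.cm_central_right F.y₁_mem hx',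
        P.cm_central_right F.x₁_mem hx', P.cm_central_right F.y₂_mem hx', P.cm_central_right F.x₂_mem hx']
    have heq : (Subgroup.zpowers P.z).subgroupOf P.Q = f.ker := by
      have : Finite P.Q := Nat.finite_of_card_ne_zero (by rw [P.card_Q]; norm_num)
      refine Subgroup.eq_of_le_of_card_ge hle ?_
      rw [Nat.card_congr (Subgroup.subgroupOfEquivOfLe (Subgroup.zpowers_le.2 P.z_mem)).toEquiv,
        Nat.card_zpowers, P.z_ord]
      omega
    have hm : (⟨q, hq⟩ : P.Q) ∈ f.ker := by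
      show Multiplicative.ofAdd (F.vec q) = 1
      rw [h]; rfl
    rw [← heq] at hm
    exact hm
  · simp [vec, P.cm_swap F.y₁_mem hq, P.cm_swap F.y₂_mem hq, P.cm_central_right F.y₁_mem h,
      P.cm_central_right F.x₁_mem h, P.cm_central_right F.y₂_mem h, P.cm_central_right F.x₂_mem h]

theorem exists_decomp {q : G} (hq : q ∈ P.Q) :
    ∃ t ∈ Subgroup.zpowers P.z, q = F.word (F.vec q) * t := by
  refine ⟨(F.word (F.vec q))⁻¹ * q, ?_, by group⟩
  rw [← F.vec_eq_zero (mul_mem (inv_mem (F.word_mem _)) hq), F.vec_mul (inv_mem (F.word_mem _)) hq,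
    F.vec_inv (F.word_mem _), F.vec_word, neg_add_cancel]

/-- Additive functions on `Q` trivial on the centre are given by the frame. -/
theorem additive_Q {A : Type*} [AddCommGroup A] (d : G → A)
    (hd : ∀ i ∈ P.Q, ∀ j ∈ P.Q, d (i * j) = d i + d j) (hz : ∀ t ∈ Subgroup.zpowers P.z, d t = 0)
    {q : G} (hq : q ∈ P.Q) : d q = (F.vec q).1.1.val • d F.x₁ + (F.vec q).1.2.val • d F.y₁ +
      ((F.vec q).2.1.val • d F.x₂ + (F.vec q).2.2.val • d F.y₂) := by
  have hp : ∀ g ∈ P.Q, ∀ n : ℕ, d (g ^ n) = n • d g := by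
    intro g hg n
    induction n with
    | zero => rw [pow_zero, hz 1 (one_mem _), zero_smul]
    | succ n ih => rw [pow_succ, hd _ (pow_mem hg n) _ hg, ih, succ_nsmul]
  obtain ⟨t, ht, e⟩ := F.exists_decomp hq
  conv_lhs => rw [e]
  rw [hd _ (F.word_mem _) _ (P.zpowers_le_Q ht), hz t ht, add_zero, word,
    hd _ (mul_mem (pow_mem F.x₁_mem _) (pow_mem F.y₁_mem _)) _
      (mul_mem (pow_mem F.x₂_mem _) (pow_mem F.y₂_mem _)),
    hd _ (pow_mem F.x₁_mem _) _ (pow_mem F.y₁_mem _), hd _ (pow_mem F.x₂_mem _) _ (pow_mem F.y₂_mem _),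
    hp _ F.x₁_mem, hp _ F.y₁_mem, hp _ F.x₂_mem, hp _ F.y₂_mem]

theorem cm_eq_om {i j : G} (hi : i ∈ P.Q) (hj : j ∈ P.Q) : P.cm i j = om (F.vec i) (F.vec j) := by
  rw [F.additive_Q (fun x => P.cm x j) (fun a ha b hb => P.cm_mul_left ha hb hj)
    (fun t ht => by rw [P.cm_swap hj (P.zpowers_le_Q ht), P.cm_central_right hj ht, neg_zero]) hi]
  simp only [vec, om, det2, P.cm_swap hj F.y₁_mem, P.cm_swap hj F.y₂_mem, nsmul_eq_mul,
    ZMod.natCast_zmod_val]
  ring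

/-- The induced map. -/
noncomputable def ind (h : G) (v : V) : V := F.vec (h * F.word v * h⁻¹)

theorem vec_conj_ind {h q : G} (hh : Commute h P.z) (hq : q ∈ P.Q) :
    F.vec (h * q * h⁻¹) = F.ind h (F.vec q) := by
  obtain ⟨t, ht, e⟩ := F.exists_decomp hq
  conv_lhs => rw [e]
  rw [show h * (F.word (F.vec q) * t) * h⁻¹ = (h * F.word (F.vec q) * h⁻¹) * (h * t * h⁻¹) by group,
    (P.commute_of_mem hh ht).eq, mul_inv_cancel_right,
    F.vec_mul (P.conj_mem h hh _ (F.word_mem _)) (P.zpowers_le_Q ht),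
    (F.vec_eq_zero (P.zpowers_le_Q ht)).2 ht, add_zero]
  rfl

theorem ind_mul {g h : G} (hg : Commute g P.z) (hh : Commute h P.z) (v : V) :
    F.ind (g * h) v = F.ind g (F.ind h v) := by
  have hm := P.conj_mem h hh _ (F.word_mem v)
  conv_rhs => rw [show F.ind h v = F.vec (h * F.word v * h⁻¹) from rfl, ← F.vec_conj_ind hg hm]
  rw [ind]; congr 1; group

theorem ind_add {h : G} (hh : Commute h P.z) (v w : V) : F.ind h (v + w) = F.ind h v + F.ind h w := by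
  have e : F.vec (F.word v * F.word w) = v + w := by
    rw [F.vec_mul (F.word_mem v) (F.word_mem w), F.vec_word, F.vec_word]
  rw [← e, ← F.vec_conj_ind hh (mul_mem (F.word_mem v) (F.word_mem w)),
    show h * (F.word v * F.word w) * h⁻¹ = (h * F.word v * h⁻¹) * (h * F.word w * h⁻¹) by group,
    F.vec_mul (P.conj_mem h hh _ (F.word_mem v)) (P.conj_mem h hh _ (F.word_mem w))]
  rfl

theorem ind_om {h : G} (hh : Commute h P.z) (v w : V) : om (F.ind h v) (F.ind h w) = om v w := by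
  rw [ind, ind, ← F.cm_eq_om (P.conj_mem h hh _ (F.word_mem v)) (P.conj_mem h hh _ (F.word_mem w)),
    P.cm_conj hh (F.word_mem v) (F.word_mem w), F.cm_eq_om (F.word_mem v) (F.word_mem w),
    F.vec_word, F.vec_word]

theorem ind_of_mem {h : G} (hh : h ∈ P.Q) (v : V) : F.ind h v = v := by
  rw [ind, F.vec_mul (mul_mem hh (F.word_mem v)) (inv_mem hh), F.vec_mul hh (F.word_mem v),
    F.vec_inv hh, F.vec_word, add_neg_cancel_comm]

theorem ind_one (v : V) : F.ind 1 v = v := F.ind_of_mem (one_mem _) v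

theorem ind_c (v : V) : F.ind F.c v = (-v.1, v.2) := by
  have hc := P.S_le _ F.c_mem
  have cj : ∀ {a : G}, a ∈ P.Q → ∀ e : G, e ∈ P.Q → F.c * a * F.c⁻¹ * e ∈ Subgroup.zpowers P.z →
      F.ind F.c (F.vec a) = -F.vec e := fun {a} ha e he h => by
    rw [← F.vec_conj_ind hc ha]
    refine eq_neg_of_add_eq_zero_left ?_
    rw [← F.vec_mul (P.conj_mem _ hc a ha) he]
    exact (F.vec_eq_zero (P.zpowers_le_Q h)).2 h
  rw [additive_eq _ (F.ind_add hc) v, ← F.vec_x₁, ← F.vec_y₁, ← F.vec_x₂, ← F.vec_y₂,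
    cj F.x₁_mem _ F.x₁_mem F.x₁_inv, cj F.y₁_mem _ F.y₁_mem F.y₁_inv,
    cj F.x₂_mem _ (inv_mem F.x₂_mem) F.x₂_fix, cj F.y₂_mem _ (inv_mem F.y₂_mem) F.y₂_fix,
    F.vec_inv F.x₂_mem, F.vec_inv F.y₂_mem, neg_neg, neg_neg, F.vec_x₁, F.vec_y₁, F.vec_x₂, F.vec_y₂]
  ext <;> simp

/-- Elements of `S` preserve the two planes. -/
theorem exists_mon_S {s : G} (hs : s ∈ P.S) : ∃ m : Mon, m.s = false ∧ ∀ v, Mon.act m v = F.ind s v := by
  have hsz := P.S_le s hs
  have key : ∀ v : V, F.ind s (-v.1, v.2) = (-(F.ind s v).1, (F.ind s v).2) := fun v => by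
    rw [← F.ind_c, ← F.ind_c, ← F.ind_mul hsz (P.S_le _ F.c_mem), F.c_central s hs,
      F.ind_mul (P.S_le _ F.c_mem) hsz]
  have hneg : ∀ v : V, F.ind s (-v) = -F.ind s v := (AddMonoidHom.mk' _ (F.ind_add hsz)).map_neg
  refine exists_mon _ (F.ind_add hsz) (F.ind_om hsz) false (fun u => ?_) (fun u => ?_)
  · have h := key (u, 0)
    rw [show ((-u, (0 : V2)) : V) = -(u, 0) by simp, hneg] at h
    exact neg_eq_self' _ (congrArg Prod.snd h)
  · have h := key (0, u)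
    simp only [neg_zero] at h
    exact neg_eq_self' _ (congrArg Prod.fst h).symm

/-- Every element of the centraliser permutes the two planes. -/
theorem exists_mon_cent {h : G} (hh : Commute h P.z) : ∃ m : Mon, ∀ v, Mon.act m v = F.ind h v := by
  obtain ⟨s, hs, hsQ⟩ := P.S_norm h hh F.c F.c_mem
  obtain ⟨⟨a, b, bs⟩, hbs, hact⟩ := F.exists_mon_S hs
  obtain rfl : bs = false := hbs
  have hsz := P.S_le s hs
  have hcz := P.S_le _ F.c_mem
  have hind : ∀ v, F.ind h (F.ind F.c v) = F.ind s (F.ind h v) := fun v => by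
    rw [← F.ind_mul hh hcz, ← F.ind_mul hsz hh,
      show h * F.c = (h * F.c * h⁻¹ * s⁻¹) * (s * h) by group,
      F.ind_mul ((hh.mul_left hcz).mul_left hh.inv_left |>.mul_left hsz.inv_left) (hsz.mul_left hh),
      F.ind_of_mem hsQ]
  have hinv : ∀ v, F.ind h (F.ind h⁻¹ v) = v := fun v => by
    rw [← F.ind_mul hh hh.inv_left, mul_inv_cancel, F.ind_one]
  have hinv' : ∀ v, F.ind h⁻¹ (F.ind h v) = v := fun v => by
    rw [← F.ind_mul hh.inv_left hh, inv_mul_cancel, F.ind_one]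
  have hcc : ∀ v : V, F.ind F.c (F.ind F.c v) = v := fun v => by rw [F.ind_c, F.ind_c]; simp
  -- the image of `c` is an involution
  have hm2 : (⟨a, b, false⟩ : Mon) * ⟨a, b, false⟩ = 1 := act_ext fun v => by
    rw [Mon.act_mul, act_one, hact, hact]
    obtain ⟨w, rfl⟩ : ∃ w, F.ind h w = v := ⟨_, hinv v⟩
    rw [← hind, ← hind, hcc]
  have ha2 := congrArg Mon.a hm2
  have hb2 := congrArg Mon.b hm2
  simp only [Mon.mul_def, Mon.one_def, cond_false] at ha2 hb2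
  have hn2 : ∀ u : V2, act2 negOne u = -u := by decide
  have h12 : ∀ u : V2, act2 1 u = u := by decide
  have hneg : ∀ v : V, F.ind h (-v) = -F.ind h v := (AddMonoidHom.mk' _ (F.ind_add hh)).map_neg
  have key : ∀ v : V, F.ind h (-v.1, v.2) = (act2 a (F.ind h v).1, act2 b (F.ind h v).2) := fun v => by
    rw [← F.ind_c, hind, ← hact]; rfl
  have hne1 : ¬ ∀ v : V, F.ind h (-v.1, v.2) = F.ind h v := fun e => by
    have := congrArg (F.ind h⁻¹) (e ((1, 0), (0, 0)))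
    rw [hinv', hinv'] at this
    exact absurd this (by decide)
  have hne2 : ¬ ∀ v : V, F.ind h (-v.1, v.2) = -F.ind h v := fun e => by
    have := congrArg (F.ind h⁻¹) ((e ((0, 0), (1, 0))).trans (hneg _).symm)
    rw [hinv', hinv'] at this
    exact absurd this (by decide)
  rcases sq_eq_one a ha2 with rfl | rfl <;> rcases sq_eq_one b hb2 with rfl | rfl
  · exact absurd (fun v => by rw [key, h12, h12]) hne1
  · have g₁ : ∀ u : V2, (F.ind h (u, 0)).1 = 0 := fun u => by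
      have e := key (u, 0)
      rw [show ((-u, (0 : V2)) : V) = -(u, 0) by simp, hneg, h12, hn2] at e
      exact neg_eq_self' _ (congrArg Prod.fst e)
    have g₂ : ∀ u : V2, (F.ind h (0, u)).2 = 0 := fun u => by
      have e := key (0, u)
      simp only [neg_zero, h12, hn2] at e
      exact neg_eq_self' _ (congrArg Prod.snd e).symm
    obtain ⟨m, -, hm⟩ := exists_mon _ (F.ind_add hh) (F.ind_om hh) true g₁ g₂
    exact ⟨m, hm⟩
  · have g₁ : ∀ u : V2, (F.ind h (u, 0)).2 = 0 := fun u => by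
      have e := key (u, 0)
      rw [show ((-u, (0 : V2)) : V) = -(u, 0) by simp, hneg, h12, hn2] at e
      exact neg_eq_self' _ (congrArg Prod.snd e)
    have g₂ : ∀ u : V2, (F.ind h (0, u)).1 = 0 := fun u => by
      have e := key (0, u)
      simp only [neg_zero, h12, hn2] at e
      exact neg_eq_self' _ (congrArg Prod.fst e).symm
    obtain ⟨m, -, hm⟩ := exists_mon _ (F.ind_add hh) (F.ind_om hh) false g₁ g₂
    exact ⟨m, hm⟩
  · exact absurd (fun v => by rw [key, hn2, hn2]; rfl) hne2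

open Classical in
/-- The map onto `Mon`. -/
noncomputable def phi (h : G) : Mon :=
  if hh : ∃ m : Mon, ∀ v, Mon.act m v = F.ind h v then hh.choose else 1

theorem act_phi {h : G} (hh : Commute h P.z) (v : V) : Mon.act (F.phi h) v = F.ind h v := by
  have e := F.exists_mon_cent hh
  rw [phi, dif_pos e]
  exact e.choose_spec v

theorem phi_mul {g h : G} (hg : Commute g P.z) (hh : Commute h P.z) :
    F.phi (g * h) = F.phi g * F.phi h :=
  act_ext fun v => by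
    rw [F.act_phi (hg.mul_left hh), F.ind_mul hg hh, Mon.act_mul, F.act_phi hg, F.act_phi hh]

theorem phi_eq_one {h : G} (hh : Commute h P.z) : F.phi h = 1 ↔ h ∈ P.Q := by
  refine ⟨fun e => ?_, fun e => act_ext fun v => by rw [F.act_phi hh, F.ind_of_mem e, act_one]⟩
  have htriv : ∀ q ∈ P.Q, ⁅h, q⁆ ∈ Subgroup.zpowers P.z := fun q hq => by
    have hq' := P.conj_mem h hh q hq
    show h * q * h⁻¹ * q⁻¹ ∈ _
    rw [← F.vec_eq_zero (mul_mem hq' (inv_mem hq)), F.vec_mul hq' (inv_mem hq), F.vec_inv hq,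
      F.vec_conj_ind hh hq, ← F.act_phi hh, e, act_one, add_neg_cancel]
  set d : G → K := fun q => P.cv ⁅h, q⁆ with hd
  set q₀ := F.word ((d F.y₁, -d F.x₁), (d F.y₂, -d F.x₂)) with hq₀
  have hq₀m : q₀ ∈ P.Q := F.word_mem _
  have hdq : ∀ q ∈ P.Q, d q = P.cm q₀ q := by
    intro q hq
    rw [F.cm_eq_om hq₀m hq, hq₀, F.vec_word,
      F.additive_Q d (fun i hi j hj => ?_) (fun t ht => ?_) hq]
    · simp only [om, det2, nsmul_eq_mul, ZMod.natCast_zmod_val]; ring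
    · rw [hd]; dsimp only
      rw [comm_mul_right _ _ _ (P.commute_of_mem (P.Q_le _ hi) (htriv j hj)),
        P.cv_mul (htriv i hi) (htriv j hj)]
    · rw [hd]; dsimp only
      rw [commutatorElement_eq_one_iff_commute.2 (P.commute_of_mem hh ht), P.cv_one]
  have hk : Commute (q₀⁻¹ * h) P.z := (P.Q_le _ hq₀m).inv_left.mul_left hh
  have hc : ∀ q ∈ P.Q, (q₀⁻¹ * h) * q = q * (q₀⁻¹ * h) := by
    intro q hq
    have e1 := P.cv_spec (htriv q hq)
    have e2 := P.cv_spec (P.comm_mem q₀ hq₀m q hq)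
    rw [show P.cv ⁅h, q⁆ = P.cv ⁅q₀, q⁆ from hdq q hq, e2] at e1
    simp only [commutatorElement_def] at e1
    have e3 : h * q * h⁻¹ = q₀ * q * q₀⁻¹ := mul_right_cancel e1.symm
    calc q₀⁻¹ * h * q = q₀⁻¹ * (h * q * h⁻¹) * h := by group
      _ = _ := by rw [e3]; group
  have := mul_mem hq₀m (P.self_cent _ hk hc)
  rwa [mul_inv_cancel_left] at this

theorem phi_one : F.phi 1 = 1 := (F.phi_eq_one (Commute.one_left _)).2 (one_mem _)

theorem phi_S {s : G} (hs : s ∈ P.S) : F.phi s ∈ sylTwo := by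
  have hsz := P.S_le s hs
  obtain ⟨m, hm, hact⟩ := F.exists_mon_S hs
  have e : F.phi s = m := act_ext fun v => by rw [F.act_phi hsz, hact]
  have hp : ∀ n : ℕ, F.phi (s ^ n) = F.phi s ^ n := by
    intro n
    induction n with
    | zero => rw [pow_zero, pow_zero, F.phi_one]
    | succ n ih => rw [pow_succ, pow_succ, F.phi_mul (hsz.pow_left n) hsz, ih]
  have h4 : m ^ 4 = 1 := by rw [← e, ← hp, P.S_exp s hs, F.phi_one]
  rw [e]
  obtain ⟨a, b, bs⟩ := m
  obtain rfl : bs = false := hm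
  simp only [sylTwo, Finset.mem_filter, Finset.mem_univ, true_and]
  simp only [pow_succ, pow_zero, one_mul, Mon.mul_def, Mon.one_def, cond_false, Mon.ext_iff] at h4
  exact ⟨by simp only [pow_succ, pow_zero, one_mul]; exact h4.1,
    by simp only [pow_succ, pow_zero, one_mul]; exact h4.2.1⟩

theorem quat {a b : SL23} (ha : a ^ 4 = 1) (hb : b ^ 4 = 1) :
    ∃ h, Commute h P.z ∧ F.phi h = ⟨a, b, false⟩ := by
  have : Finite P.S := Nat.finite_of_card_ne_zero (by rw [P.S_card]; norm_num)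
  let f : P.S → sylTwo := fun s => ⟨F.phi s, F.phi_S s.2⟩
  have hinj : Function.Injective f := by
    intro s t e
    have e' : F.phi s = F.phi t := congrArg Subtype.val e
    have hm : ((s : G)⁻¹ * t) ∈ P.S := mul_mem (inv_mem s.2) t.2
    have h1 : F.phi ((s : G)⁻¹ * t) = 1 := by
      rw [F.phi_mul (P.S_le _ (inv_mem s.2)) (P.S_le _ t.2), ← e',
        ← F.phi_mul (P.S_le _ (inv_mem s.2)) (P.S_le _ s.2), inv_mul_cancel, F.phi_one]
    have hQ := (F.phi_eq_one (P.S_le _ hm)).1 h1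
    refine Subtype.ext (inv_mul_eq_one.1 (P.eq_one_of_trivial hm fun q hq => ?_))
    exact P.comm_mem _ hQ q hq
  have hbij : Function.Bijective f := (Nat.bijective_iff_injective_and_card f).2
    ⟨hinj, by rw [P.S_card, Nat.card_eq_fintype_card, Fintype.card_coe, card_sylTwo]⟩
  obtain ⟨s, hs⟩ := hbij.2 ⟨⟨a, b, false⟩, by simp [sylTwo, ha, hb]⟩
  exact ⟨s, P.S_le _ s.2, congrArg Subtype.val hs⟩

include F in
theorem cube {q : G} (hq : q ∈ P.Q) : q ^ 3 = 1 := by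
  obtain ⟨h, hh, he⟩ := F.quat (a := negOne) (b := negOne) (by decide +kernel) (by decide +kernel)
  have hn2 : ∀ u : V2, act2 negOne u = -u := by decide
  have hv : F.vec (h * q * h⁻¹ * q) = 0 := by
    rw [F.vec_mul (P.conj_mem h hh q hq) hq, F.vec_conj_ind hh hq, ← F.act_phi hh, he]
    simp [Mon.act, hn2, Prod.ext_iff]
  obtain ⟨ζ, hζ, e⟩ : ∃ ζ ∈ Subgroup.zpowers P.z, h * q * h⁻¹ = ζ * q⁻¹ :=
    ⟨_, (F.vec_eq_zero (mul_mem (P.conj_mem h hh q hq) hq)).1 hv, by group⟩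
  have h3 : ∀ t ∈ Subgroup.zpowers P.z, t ^ 3 = 1 := fun t ht => by
    obtain ⟨k, rfl⟩ := ht
    rw [← zpow_natCast, ← zpow_mul, mul_comm, zpow_mul, zpow_natCast, ← P.z_ord, pow_orderOf_eq_one,
      one_zpow]
  have e3 : (h * q * h⁻¹) ^ 3 = h * q ^ 3 * h⁻¹ := conj_pow
  rw [(P.commute_of_mem hh (P.cube_mem q hq)).eq, mul_inv_cancel_right, e,
    (P.commute_of_mem (P.Q_le _ hq).inv_left hζ).symm.mul_pow, h3 ζ hζ, one_mul, inv_pow] at e3
  have h9 := h3 _ (P.cube_mem q hq)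
  set w := q ^ 3
  have hw2 : w * w = 1 := by
    nth_rewrite 1 [← e3]
    exact inv_mul_cancel w
  rw [pow_three, hw2, mul_one] at h9
  exact h9

end Frame

/-- The configuration without the fusion fields. -/
theorem exists_coords {G : Type*} [Group G] (P : Pre G)
    (wc : ∀ g : G, g * P.z * g⁻¹ ∈ P.Q → g * P.z * g⁻¹ ∈ Subgroup.zpowers P.z)
    (nwc : ∃ g : G, Commute (g * P.z * g⁻¹) P.z ∧ g * P.z * g⁻¹ ∉ P.Q) :
    ∃ C : Cfg G, C.z = P.z ∧ C.Q = P.Q := by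
  obtain ⟨F⟩ := exists_frame P
  refine ⟨{
    z := P.z, Q := P.Q, φ := F.phi, vec := F.vec
    z_ord := P.z_ord
    z_mem := P.z_mem
    Q_le := P.Q_le
    cube := fun q hq => F.cube hq
    vec_mul := fun i hi j hj => F.vec_mul hi hj
    vec_surj := fun v => ⟨F.word v, F.word_mem v, F.vec_word v⟩
    vec_ker := fun q hq => F.vec_eq_zero hq
    comm := fun i hi j hj => by
      rw [← F.cm_eq_om hi hj]
      exact (P.cv_spec (P.comm_mem i hi j hj)).symm
    φ_mul := fun g h hg hh => F.phi_mul hg hh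
    φ_ker := fun h hh => F.phi_eq_one hh
    conj_mem := P.conj_mem
    vec_conj := fun h hh q hq => by rw [F.vec_conj_ind hh hq, F.act_phi hh]
    quat := fun a b ha hb => F.quat ha hb
    wc := wc
    nwc := nwc }, rfl, rfl⟩

end Cfsg.Agent.U62ThreeCent
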