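/-
Facts decided inside `SL(2,3) wr 2` and its module.

* `Mon.comm_of_three` : elements of 3-power order generating a 3-group commute;
* `Mon.IsHalf`, `Mon.cube_cases` : the elements of order three;
* `Mon.half_fix`, `Mon.diag_fix` : fixed vectors and images of `m - 1`;
* `Mon.exists_half` : two commuting independent elements of order three span a half one.
-/
import Cfsg.Agent.Lib.U62ThreeCent.Cfg

set_option autoImplicit false
set_option maxRecDepth 100000
set_option synthInstance.maxSize 2000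

namespace Cfsg.Agent.U62ThreeCent

open Cfsg.Agent.PSpThree

theorem sl_cube_of_nine : ∀ a : SL23, a ^ 9 = 1 → a ^ 3 = 1 := by decide +kernel

theorem sl_comm : ∀ a b : SL23, a ^ 3 = 1 → b ^ 3 = 1 → (a * b * a⁻¹ * b⁻¹) ^ 3 = 1 →
    a * b = b * a := by decide +kernel

theorem sl_powers : ∀ a b : SL23, a ^ 3 = 1 → b ^ 3 = 1 → a * b = b * a → a ≠ 1 →
    ∃ k : Fin 3, b * a ^ (k : ℕ) = 1 := by decide +kernel

theorem sl_fix_line : ∀ a : SL23, a ^ 3 = 1 → a ≠ 1 → ∃ p u : V2, p ≠ 0 ∧ act2 a p = p ∧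
    p = u - act2 a u ∧ (∀ v : V2, act2 a v = v → ∃ c : K, v = c • p) ∧
    ∀ v : V2, v - act2 a v = 0 ∨ ∃ c : K, v - act2 a v = c • p := by decide +kernel

theorem act2_one : ∀ v : V2, act2 1 v = v := by decide +kernel

namespace Mon

theorem pow_s : ∀ (m : Mon) (n : ℕ), (m ^ n).s = (m.s && decide (n % 2 = 1)) := by
  intro m n
  induction n with
  | zero => simp [one_def]
  | succ n ih =>
    rw [pow_succ, mul_def, ih]
    cases m.s
    · simp
    · rcases Nat.mod_two_eq_zero_or_one n with e | e <;> simp [Nat.add_mod, e]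

theorem pow_false {m : Mon} (h : m.s = false) : ∀ n : ℕ, m ^ n = ⟨m.a ^ n, m.b ^ n, false⟩
  | 0 => by rw [pow_zero, pow_zero, pow_zero]; rfl
  | n + 1 => by rw [pow_succ, pow_false h n, mul_def]; simp [h, pow_succ]

/-- An element of 3-power order lies in the direct product. -/
theorem s_false {m : Mon} {k : ℕ} (h : m ^ 3 ^ k = 1) : m.s = false := by
  have h1 := pow_s m (3 ^ k)
  rw [h, show (1 : Mon).s = false from rfl] at h1
  have h2 : 3 ^ k % 2 = 1 := by rw [Nat.pow_mod]; simp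
  simpa [h2] using h1.symm

theorem cube_of_pow {m : Mon} {k : ℕ} (h : m ^ 3 ^ k = 1) : m ^ 3 = 1 := by
  have key : ∀ (j : ℕ) (a : SL23), a ^ 3 ^ j = 1 → a ^ 3 = 1 := by
    intro j
    induction j with
    | zero => intro a ha; rw [pow_zero, pow_one] at ha; rw [ha, one_pow]
    | succ j ih =>
      intro a ha
      rw [pow_succ', pow_mul] at ha
      exact sl_cube_of_nine _ (by rw [show 9 = 3 * 3 from rfl, pow_mul]; exact ih _ ha)
  have hs := s_false h
  rw [pow_false hs] at h ⊢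
  simp only [one_def, mk.injEq, and_true] at h ⊢
  exact ⟨key k _ h.1, key k _ h.2⟩

/-- The elements of a three-subgroup commute. -/
theorem comm_of_three {m n : Mon} {i j l : ℕ} (hm : m ^ 3 ^ i = 1) (hn : n ^ 3 ^ j = 1)
    (hc : (m * n * m⁻¹ * n⁻¹) ^ 3 ^ l = 1) : m * n = n * m := by
  have hms := s_false hm
  have hns := s_false hn
  have h1 := cube_of_pow hm
  have h2 := cube_of_pow hn
  have h3 := cube_of_pow hc
  rcases m with ⟨ma, mb, ms⟩
  rcases n with ⟨na, nb, ns⟩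
  simp only at hms hns
  subst hms hns
  simp only [mul_def, inv_def, cond_false, Bool.xor_false] at h3 ⊢
  rw [pow_false rfl] at h1 h2 h3
  simp only [one_def, mk.injEq, and_true] at h1 h2 h3
  rw [sl_comm ma na h1.1 h2.1 h3.1, sl_comm mb nb h1.2 h2.2 h3.2]

/-- Exactly one component is trivial. -/
def IsHalf (m : Mon) : Prop := (m.a = 1 ∧ m.b ≠ 1) ∨ (m.a ≠ 1 ∧ m.b = 1)

theorem cube_cases {m : Mon} (h : m ^ 3 = 1) :
    m.s = false ∧ m.a ^ 3 = 1 ∧ m.b ^ 3 = 1 ∧ (m = 1 ∨ m.IsHalf ∨ (m.a ≠ 1 ∧ m.b ≠ 1)) := by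
  have hs := s_false (k := 1) (by simpa using h)
  have h' := h
  rw [pow_false hs] at h'
  simp only [one_def, mk.injEq, and_true] at h'
  refine ⟨hs, h'.1, h'.2, ?_⟩
  by_cases ha : m.a = 1 <;> by_cases hb : m.b = 1
  · exact Or.inl (Mon.ext ha hb hs)
  · exact Or.inr (Or.inl (Or.inl ⟨ha, hb⟩))
  · exact Or.inr (Or.inl (Or.inr ⟨ha, hb⟩))
  · exact Or.inr (Or.inr ⟨ha, hb⟩)

theorem act_false {m : Mon} (h : m.s = false) (v : V) : act m v = (act2 m.a v.1, act2 m.b v.2) := by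
  simp [act, h]

/-- For a half element: a fixed image vector orthogonal to all fixed vectors, and two fixed vectors
which are not orthogonal. -/
theorem half_fix {m : Mon} (h3 : m ^ 3 = 1) (hh : m.IsHalf) :
    ∃ p u v w : V, p ≠ 0 ∧ act m p = p ∧ p = u - act m u ∧ act m v = v ∧ act m w = w ∧ om v w = 1 ∧
      ∀ x : V, act m x = x → om p x = 0 := by
  obtain ⟨hs, ha3, hb3, -⟩ := cube_cases h3
  rcases hh with ⟨ha, hb⟩ | ⟨ha, hb⟩
  · obtain ⟨p, u, hp, hpf, hpu, hfix, -⟩ := sl_fix_line m.b hb3 hb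
    refine ⟨(0, p), (0, u), ((1, 0), 0), ((0, 1), 0), fun e => hp (congrArg Prod.snd e), ?_, ?_, ?_, ?_, ?_, ?_⟩
    · rw [act_false hs, ha, act2_one, hpf]
    · rw [act_false hs, ha, act2_one]; ext <;> simp [hpu]
    · rw [act_false hs, ha, act2_one]; simp [act2]
    · rw [act_false hs, ha, act2_one]; simp [act2]
    · decide
    · intro x hx
      rw [act_false hs, ha, act2_one] at hx
      obtain ⟨c, hc⟩ := hfix x.2 (congrArg Prod.snd hx)
      simp [om, det2, hc]; ring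
  · obtain ⟨p, u, hp, hpf, hpu, hfix, -⟩ := sl_fix_line m.a ha3 ha
    refine ⟨(p, 0), (u, 0), (0, (1, 0)), (0, (0, 1)), fun e => hp (congrArg Prod.fst e), ?_, ?_, ?_, ?_, ?_, ?_⟩
    · rw [act_false hs, hb, act2_one, hpf]
    · rw [act_false hs, hb, act2_one]; ext <;> simp [hpu]
    · rw [act_false hs, hb, act2_one]; simp [act2]
    · rw [act_false hs, hb, act2_one]; simp [act2]
    · decide
    · intro x hx
      rw [act_false hs, hb, act2_one] at hx
      obtain ⟨c, hc⟩ := hfix x.1 (congrArg Prod.fst hx)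
      simp [om, det2, hc]; ring

/-- For an element without trivial component the fixed vectors are the images of `m - 1`. -/
theorem diag_fix {m : Mon} (h3 : m ^ 3 = 1) (ha : m.a ≠ 1) (hb : m.b ≠ 1) :
    ∃ p p' : V, act m p = p ∧ act m p' = p' ∧ (∀ c d : K, c • p + d • p' = 0 → c = 0 ∧ d = 0) ∧
      (∀ x : V, act m x = x → ∃ u : V, x = u - act m u) ∧ om p p' = 0 := by
  obtain ⟨hs, ha3, hb3, -⟩ := cube_cases h3
  obtain ⟨p, u, hp, hpf, hpu, hfix, -⟩ := sl_fix_line m.a ha3 ha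
  obtain ⟨q, w, hq, hqf, hqw, hfix', -⟩ := sl_fix_line m.b hb3 hb
  have hz : ∀ A : SL23, act2 A 0 = 0 := fun A => by simp [act2]
  have hsm : ∀ (A : SL23) (c : K) (v : V2), act2 A (c • v) = c • act2 A v := fun A c v => by
    ext <;> simp [act2] <;> ring
  refine ⟨(p, 0), (0, q), ?_, ?_, ?_, ?_, ?_⟩
  · rw [act_false hs, hpf, hz]
  · rw [act_false hs, hqf, hz]
  · intro c d h
    have h1 := congrArg Prod.fst h
    have h2 := congrArg Prod.snd h
    simp only [Prod.smul_mk, smul_zero, Prod.mk_add_mk, add_zero, zero_add, Prod.fst_zero,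
      Prod.snd_zero] at h1 h2
    exact ⟨(smul_eq_zero.1 h1).resolve_right hp, (smul_eq_zero.1 h2).resolve_right hq⟩
  · intro x hx
    rw [act_false hs] at hx
    obtain ⟨c, hc⟩ := hfix x.1 (congrArg Prod.fst hx)
    obtain ⟨d, hd⟩ := hfix' x.2 (congrArg Prod.snd hx)
    refine ⟨(c • u, d • w), Prod.ext ?_ ?_⟩
    · rw [act_false hs, hc, hpu, Prod.fst_sub, hsm, smul_sub]
    · rw [act_false hs, Prod.snd_sub, hd, hqw, smul_sub]
      simp only [hsm]
  · simp [om, det2]

/-- Two commuting elements of order three span a half element. -/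
theorem exists_half {m n : Mon} (hm : m ^ 3 = 1) (hn : n ^ 3 = 1) (hc : m * n = n * m)
    (hind : ∀ k : Fin 3, n * m ^ (k : ℕ) ≠ 1) (hm1 : m ≠ 1) :
    ∃ k : Fin 3, (n * m ^ (k : ℕ)).IsHalf := by
  obtain ⟨hms, hma, hmb, -⟩ := cube_cases hm
  obtain ⟨hns, hna, hnb, -⟩ := cube_cases hn
  have hca : m.a * n.a = n.a * m.a := by simpa [mul_def, hms, hns] using congrArg Mon.a hc
  have hcb : m.b * n.b = n.b * m.b := by simpa [mul_def, hms, hns] using congrArg Mon.b hc
  have hform : ∀ k : ℕ, n * m ^ k = ⟨n.a * m.a ^ k, n.b * m.b ^ k, false⟩ := fun k => by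
    rw [pow_false hms, mul_def]; simp [hns]
  by_cases ha : m.a = 1
  · have hb : m.b ≠ 1 := fun e => hm1 (Mon.ext ha e hms)
    obtain ⟨k, hk⟩ := sl_powers m.b n.b hmb hnb hcb hb
    refine ⟨k, Or.inr ⟨?_, by rw [hform]; exact hk⟩⟩
    rw [hform]
    exact fun e => hind k (by rw [hform]; exact Mon.ext e hk rfl)
  · obtain ⟨k, hk⟩ := sl_powers m.a n.a hma hna hca ha
    refine ⟨k, Or.inl ⟨by rw [hform]; exact hk, ?_⟩⟩
    rw [hform]
    exact fun e => hind k (by rw [hform]; exact Mon.ext hk e rfl)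

end Mon

end Cfsg.Agent.U62ThreeCent
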