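/-
A point in `C(z)` outside `Q`.

* `Cfg.map`, `Cfg.AtPt` : the configuration seen from a second point;
* `Cfg.Outer.derived` : the elements of `Q` commuting with the point commute with each other;
* `Cfg.Outer.no_half`, `Cfg.Outer.commute_iff` : the point acts non-trivially on both planes, and centralises
  exactly the elements of `Q` whose image it fixes.
-/
import Cfsg.Agent.Lib.U62ThreeCent.Linear

set_option autoImplicit false
set_option maxRecDepth 100000

namespace Cfsg.Agent.U62ThreeCent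

open Cfsg.Agent.PSpThree

theorem K_solve : ∀ a b : K, b ≠ 0 → ∃ n : K, a + n * b = 0 := by decide
theorem K_ne_mul : ∀ a : K, a ≠ 0 → ∀ j : K, ∃ n : K, n * a = j := by decide

theorem om_self (v : V) : om v v = 0 := by simp [om, det2]; ring

theorem om_act (m : Mon) (u v : V) : om (Mon.act m u) (Mon.act m v) = om u v := by
  have key : ∀ (A : SL23) (x y : V2), det2 (act2 A x) (act2 A y) = det2 x y := by
    intro A x y
    have hd : A.1 0 0 * A.1 1 1 - A.1 0 1 * A.1 1 0 = 1 := by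
      rw [← Matrix.det_fin_two, A.2]
    calc det2 (act2 A x) (act2 A y) = (A.1 0 0 * A.1 1 1 - A.1 0 1 * A.1 1 0) * det2 x y := by
          simp only [det2, act2]; ring
      _ = det2 x y := by rw [hd, one_mul]
  rcases m with ⟨a, b, s⟩
  cases s <;> simp only [om, Mon.act, cond_true, cond_false, key]
  exact add_comm _ _

/-- The action as an additive map. -/
def Mon.actHom (m : Mon) : V →+ V := AddMonoidHom.mk' (Mon.act m) (Mon.act_add m)

theorem Mon.act_neg' (m : Mon) (v : V) : Mon.act m (-v) = -Mon.act m v := map_neg m.actHom v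

theorem Mon.act_nsmul (m : Mon) (n : ℕ) (v : V) : Mon.act m (n • v) = n • Mon.act m v := map_nsmul m.actHom n v

namespace Cfg

variable {G : Type*} [Group G]

/-- Transport along an isomorphism. -/
def map {G' : Type*} [Group G'] (C : Cfg G) (e : G ≃* G') : Cfg G' where
  z := e C.z
  Q := C.Q.comap e.symm.toMonoidHom
  φ x := C.φ (e.symm x)
  vec x := C.vec (e.symm x)
  z_ord := (orderOf_injective e.toMonoidHom e.injective C.z).trans C.z_ord
  z_mem := show e.symm (e C.z) ∈ C.Q by rw [e.symm_apply_apply]; exact C.z_mem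
  Q_le q hq := by
    have := (C.Q_le _ hq).map e.toMonoidHom
    simpa using this
  cube q hq := e.symm.injective (by rw [map_pow, map_one]; exact C.cube _ hq)
  vec_mul i hi j hj := by rw [map_mul]; exact C.vec_mul _ hi _ hj
  vec_surj v := by
    obtain ⟨q, hq, h⟩ := C.vec_surj v
    exact ⟨e q, show e.symm (e q) ∈ C.Q by rwa [e.symm_apply_apply], by rwa [e.symm_apply_apply]⟩
  vec_ker q hq := by
    refine (C.vec_ker _ hq).trans ⟨fun h => ?_, fun h => ?_⟩
    · obtain ⟨k, hk⟩ := h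
      exact ⟨k, e.symm.injective (by simpa using hk)⟩
    · obtain ⟨k, hk⟩ := h
      exact ⟨k, by simp [← hk]⟩
  comm i hi j hj := e.symm.injective (by
    simp only [map_mul, map_inv, map_pow, e.symm_apply_apply]
    exact C.comm _ hi _ hj)
  φ_mul g h hg hh := by
    rw [map_mul]
    exact C.φ_mul _ _ (by simpa using hg.map e.symm.toMonoidHom) (by simpa using hh.map e.symm.toMonoidHom)
  φ_ker h hh := C.φ_ker _ (by simpa using hh.map e.symm.toMonoidHom)
  conj_mem h hh q hq := by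
    show e.symm (h * q * h⁻¹) ∈ C.Q
    rw [map_mul, map_mul, map_inv]
    exact C.conj_mem _ (by simpa using hh.map e.symm.toMonoidHom) _ hq
  vec_conj h hh q hq := by
    rw [map_mul, map_mul, map_inv]
    exact C.vec_conj _ (by simpa using hh.map e.symm.toMonoidHom) _ hq
  quat a b ha hb := by
    obtain ⟨h, hh, hφ⟩ := C.quat a b ha hb
    exact ⟨e h, hh.map e.toMonoidHom, by rwa [e.symm_apply_apply]⟩
  wc g hg := by
    have h1 : e.symm g * C.z * (e.symm g)⁻¹ ∈ C.Q := by simpa using hg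
    obtain ⟨k, hk⟩ := C.wc _ h1
    exact ⟨k, e.symm.injective (by simpa using hk)⟩
  nwc := by
    obtain ⟨g, h1, h2⟩ := C.nwc
    refine ⟨e g, ?_, ?_⟩
    · simpa using h1.map e.toMonoidHom
    · show ¬ e.symm (e g * e C.z * (e g)⁻¹) ∈ C.Q
      simpa using h2

/-- A point commuting with `z` outside `Q`. -/
def Outer (C : Cfg G) (y : G) : Prop := C.IsPt y ∧ Commute y C.z ∧ y ∉ C.Q

/-- `D` is the configuration seen from `y`. -/
structure AtPt (C : Cfg G) (y : G) (D : Cfg G) : Prop where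
  pts : ∀ x, D.IsPt x ↔ C.IsPt x
  comm : ∀ x, Commute x D.z ↔ Commute x y
  zp : Subgroup.zpowers D.z = Subgroup.zpowers y
  outer : D.Outer C.z

variable {C : Cfg G} {y : G}

theorem exists_pow_val {x : G} (hx : x ∈ Subgroup.zpowers C.z) : ∃ k : K, x = C.z ^ k.val := by
  obtain ⟨i, rfl⟩ := Subgroup.mem_zpowers_iff.1 hx
  refine ⟨(i : K), ?_⟩
  rw [← zpow_natCast, zpow_eq_zpow_iff_modEq, C.z_ord, ← ZMod.intCast_eq_intCast_iff]
  simp

theorem z_pow_eq (C : Cfg G) (n : ℕ) : C.z ^ n = C.z ^ (n : K).val := by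
  rw [ZMod.val_natCast]
  exact pow_eq_pow_mod n C.z_pow

theorem z_pow_inj {a b : K} (h : C.z ^ a.val = C.z ^ b.val) : a = b := by
  rw [pow_eq_pow_iff_modEq, C.z_ord, Nat.ModEq, Nat.mod_eq_of_lt (ZMod.val_lt a),
    Nat.mod_eq_of_lt (ZMod.val_lt b)] at h
  exact ZMod.val_injective 3 h

theorem z_pow_add' (C : Cfg G) (a b : K) : C.z ^ a.val * C.z ^ b.val = C.z ^ (a + b).val := by
  rw [← pow_add, z_pow_eq C (a.val + b.val)]
  simp

theorem vec_pow {q : G} (hq : q ∈ C.Q) (n : ℕ) : C.vec (q ^ n) = n • C.vec q := by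
  induction n with
  | zero => rw [pow_zero, C.vec_one, zero_smul]
  | succ n ih => rw [pow_succ, C.vec_mul _ (pow_mem hq n) _ hq, ih, succ_nsmul]

theorem vec_pow_val {q : G} (hq : q ∈ C.Q) (c : K) : C.vec (q ^ c.val) = c • C.vec q := by
  rw [C.vec_pow hq, ← Nat.cast_smul_eq_nsmul K, ZMod.natCast_zmod_val]

theorem commute_iff_om {i j : G} (hi : i ∈ C.Q) (hj : j ∈ C.Q) :
    Commute i j ↔ om (C.vec i) (C.vec j) = 0 := by
  constructor
  · intro h
    refine z_pow_inj (C := C) ?_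
    rw [← C.comm i hi j hj, h.eq, mul_inv_cancel_right, mul_inv_cancel, ZMod.val_zero, pow_zero]
  · intro h
    have h2 := C.comm i hi j hj
    rw [h, ZMod.val_zero, pow_zero, mul_inv_eq_one, mul_inv_eq_iff_eq_mul] at h2
    exact h2

theorem commute_z_of_mem {x : G} (hx : x ∈ Subgroup.zpowers C.z) {g : G} (hg : Commute g C.z) :
    Commute g x := by
  obtain ⟨k, rfl⟩ := exists_pow_val hx
  exact hg.pow_right _

theorem AtPt.y_mem {D : Cfg G} (hD : AtPt C y D) : y ∈ D.Q :=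
  Subgroup.zpowers_le.2 D.z_mem (hD.zp ▸ Subgroup.mem_zpowers y)

namespace Outer

theorem ne_one (hy : C.Outer y) : y ≠ 1 := hy.1.ne_one

theorem cube (hy : C.Outer y) : y ^ 3 = 1 := by
  obtain ⟨g, rfl | rfl⟩ := hy.1
  · rw [conj_pow, C.z_pow, mul_one, mul_inv_cancel]
  · rw [inv_pow, conj_pow, C.z_pow, mul_one, mul_inv_cancel, inv_one]

theorem orderOf_eq (hy : C.Outer y) : orderOf y = 3 := orderOf_eq_prime hy.cube hy.ne_one

theorem φ_cube (hy : C.Outer y) : C.φ y ^ 3 = 1 := by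
  rw [pow_three, ← C.φ_mul _ _ hy.2.1 hy.2.1, ← C.φ_mul _ _ hy.2.1 (hy.2.1.mul_left hy.2.1), ← pow_three,
    hy.cube, C.φ_one]

theorem φ_ne (hy : C.Outer y) : C.φ y ≠ 1 := fun h => hy.2.2 ((C.φ_ker y hy.2.1).1 h)

theorem inv (hy : C.Outer y) : C.Outer y⁻¹ :=
  ⟨hy.1.inv, hy.2.1.inv_left, fun h => hy.2.2 (inv_mem_iff.1 h)⟩

/-- The powers of `y` meet `Q` trivially. -/
theorem eq_one_of_mem (hy : C.Outer y) {x : G} (hx : x ∈ Subgroup.zpowers y) (hQ : x ∈ C.Q) : x = 1 := by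
  obtain ⟨i, rfl⟩ := Subgroup.mem_zpowers_iff.1 hx
  rw [← zpow_mod_orderOf, hy.orderOf_eq] at hQ ⊢
  have h0 := Int.emod_nonneg i (show (3 : ℤ) ≠ 0 by norm_num)
  have h1 := Int.emod_lt_of_pos i (show (0 : ℤ) < 3 by norm_num)
  norm_num only at hQ ⊢
  rcases (by omega : i % 3 = 0 ∨ i % 3 = 1 ∨ i % 3 = 2) with e | e | e <;> rw [e] at hQ ⊢
  · exact zpow_zero y
  · rw [zpow_one] at hQ
    exact absurd hQ hy.2.2
  · exfalso
    refine hy.2.2 ?_
    have h2 : y = (y ^ (2 : ℤ))⁻¹ := eq_inv_of_mul_eq_one_left (by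
      rw [zpow_two, ← pow_three]; exact hy.cube)
    rw [h2]; exact inv_mem hQ

theorem atPt (hy : C.Outer y) : ∃ D : Cfg G, AtPt C y D := by
  obtain ⟨g, hg⟩ := hy.1
  refine ⟨C.map (MulAut.conj g), ?_⟩
  have hz : (C.map (MulAut.conj g)).z = g * C.z * g⁻¹ := rfl
  have hpts : ∀ x, (C.map (MulAut.conj g)).IsPt x ↔ C.IsPt x := by
    intro x
    constructor
    · rintro ⟨c, h⟩
      refine ⟨c * g, ?_⟩
      rw [hz] at h
      rwa [show c * g * C.z * (c * g)⁻¹ = c * (g * C.z * g⁻¹) * c⁻¹ by group]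
    · rintro ⟨c, h⟩
      refine ⟨c * g⁻¹, ?_⟩
      rw [hz]
      rwa [show c * g⁻¹ * (g * C.z * g⁻¹) * (c * g⁻¹)⁻¹ = c * C.z * c⁻¹ by group]
  have hcomm : ∀ x, Commute x (C.map (MulAut.conj g)).z ↔ Commute x y := fun x => by
    rw [hz]
    rcases hg with h | h <;> rw [h]
    exact Commute.inv_right_iff.symm
  have hzp : Subgroup.zpowers (C.map (MulAut.conj g)).z = Subgroup.zpowers y := by
    rw [hz]
    rcases hg with h | h <;> rw [h]
    rw [Subgroup.zpowers_inv]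
  refine ⟨hpts, hcomm, hzp, (hpts _).2 C.isPt_z, (hcomm _).2 hy.2.1.symm, fun hmem => ?_⟩
  have h1 := IsPt.mem_zpowers ((hpts _).2 C.isPt_z) hmem
  rw [hzp] at h1
  exact C.z_ne (hy.eq_one_of_mem h1 C.z_mem)

/-- Two elements of `Q` commuting with `y` commute. -/
theorem derived (hy : C.Outer y) {a b : G} (ha : a ∈ C.Q) (hb : b ∈ C.Q) (hay : Commute a y)
    (hby : Commute b y) : Commute a b := by
  obtain ⟨D, hD⟩ := hy.atPt
  have had : Commute a D.z := (hD.comm a).2 hay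
  have hbd : Commute b D.z := (hD.comm b).2 hby
  set c := a * b * a⁻¹ * b⁻¹ with hc
  have hcz : c = C.z ^ (om (C.vec a) (C.vec b)).val := C.comm a ha b hb
  rw [commute_iff_om ha hb]
  by_contra hne
  have hk : c ^ 3 = 1 := by rw [hcz, ← pow_mul, mul_comm, pow_mul, C.z_pow, one_pow]
  have hcd : Commute c D.z := ((had.mul_left hbd).mul_left had.inv_left).mul_left hbd.inv_left
  have cubeD : ∀ x : G, Commute x D.z → x ^ 3 = 1 → D.φ x ^ 3 ^ 1 = 1 := fun x hx h3 => by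
    rw [pow_one, pow_three, ← D.φ_mul _ _ hx hx, ← D.φ_mul _ _ hx (hx.mul_left hx), ← pow_three, h3,
      D.φ_one]
  have hφc : D.φ c = D.φ a * D.φ b * (D.φ a)⁻¹ * (D.φ b)⁻¹ := by
    rw [hc, D.φ_mul _ _ ((had.mul_left hbd).mul_left had.inv_left) hbd.inv_left,
      D.φ_mul _ _ (had.mul_left hbd) had.inv_left, D.φ_mul _ _ had hbd, D.φ_inv had, D.φ_inv hbd]
  have h1 : D.φ a * D.φ b = D.φ b * D.φ a :=
    Mon.comm_of_three (cubeD a had (C.cube a ha)) (cubeD b hbd (C.cube b hb))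
      (hφc ▸ cubeD c hcd hk)
  have h2 : c ∈ D.Q := (D.φ_ker c hcd).1 (by rw [hφc, h1, mul_inv_cancel_right, mul_inv_cancel])
  refine hD.outer.2.2 ?_
  obtain ⟨n, hn⟩ := K_ne_mul _ hne 1
  have h3 : C.z = c ^ n.val := by
    rw [hcz, ← pow_mul, z_pow_eq C (_ * _), Nat.cast_mul, ZMod.natCast_zmod_val, ZMod.natCast_zmod_val,
      mul_comm, hn, ZMod.val_one, pow_one]
  rw [h3]
  exact pow_mem h2 _

theorem comm_mem (hy : C.Outer y) {q : G} (hq : q ∈ C.Q) :
    q * y * q⁻¹ * y⁻¹ ∈ C.Q ∧ C.vec (q * y * q⁻¹ * y⁻¹) = C.vec q - Mon.act (C.φ y) (C.vec q) := by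
  have h1 := C.conj_mem y hy.2.1 _ (inv_mem hq)
  rw [show q * y * q⁻¹ * y⁻¹ = q * (y * q⁻¹ * y⁻¹) by group]
  refine ⟨mul_mem hq h1, ?_⟩
  rw [C.vec_mul _ hq _ h1, C.vec_conj y hy.2.1 _ (inv_mem hq), C.vec_inv hq, Mon.act_neg', sub_eq_add_neg]

theorem fixed_of_commute (hy : C.Outer y) {q : G} (hq : q ∈ C.Q) (h : Commute q y) :
    Mon.act (C.φ y) (C.vec q) = C.vec q := by
  rw [← C.vec_conj y hy.2.1 q hq, ← h.eq, mul_inv_cancel_right]

theorem comm_fixed (hy : C.Outer y) {q : G} (hq : q ∈ C.Q)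
    (hf : Mon.act (C.φ y) (C.vec q) = C.vec q) : ∃ k : K, q * y * q⁻¹ * y⁻¹ = C.z ^ k.val :=
  exists_pow_val ((C.vec_ker _ (hy.comm_mem hq).1).1 (by rw [(hy.comm_mem hq).2, hf, sub_self]))

/-- If a fixed element does not commute with `y`, the line through `y` and `z` consists of points. -/
theorem shift (hy : C.Outer y) {q : G} (hq : q ∈ C.Q) (hf : Mon.act (C.φ y) (C.vec q) = C.vec q)
    (hn : ¬ Commute q y) (j : K) : C.IsPt (C.z ^ j.val * y) := by
  obtain ⟨k, hk⟩ := hy.comm_fixed hq hf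
  have hqy : q * y * q⁻¹ = C.z ^ k.val * y := by rw [← hk]; group
  have hk0 : k ≠ 0 := by
    rintro rfl
    rw [ZMod.val_zero, pow_zero, one_mul, mul_inv_eq_iff_eq_mul] at hqy
    exact hn hqy
  have hqz : Commute q C.z := C.Q_le q hq
  have hit : ∀ n : ℕ, C.IsPt (C.z ^ (n * k.val) * y) := by
    intro n
    induction n with
    | zero => simpa using hy.1
    | succ n ih =>
      have h := ih.conj q
      rw [show q * (C.z ^ (n * k.val) * y) * q⁻¹ = q * C.z ^ (n * k.val) * (y * q⁻¹) by group,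
        (hqz.pow_right _).eq, show C.z ^ (n * k.val) * q * (y * q⁻¹) = C.z ^ (n * k.val) * (q * y * q⁻¹) by
          group, hqy, ← mul_assoc, ← pow_add] at h
      rwa [Nat.succ_mul]
  obtain ⟨n, hn'⟩ := K_ne_mul k hk0 j
  have h := hit n.val
  rw [z_pow_eq C (n.val * k.val), Nat.cast_mul, ZMod.natCast_zmod_val, ZMod.natCast_zmod_val, hn'] at h
  exact h

/-- For a half element the line through `y` and `z` consists of points. -/
theorem half_shift (hy : C.Outer y) (hh : (C.φ y).IsHalf) (j : K) : C.IsPt (C.z ^ j.val * y) := by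
  obtain ⟨-, -, v, w, -, -, -, hv, hw, hvw, -⟩ := Mon.half_fix hy.φ_cube hh
  obtain ⟨a, ha, rfl⟩ := C.vec_surj v
  obtain ⟨b, hb, rfl⟩ := C.vec_surj w
  by_cases h1 : Commute a y
  · refine hy.shift hb hw (fun h2 => ?_) j
    have h := (commute_iff_om ha hb).1 (hy.derived ha hb h1 h2)
    rw [hvw] at h
    exact one_ne_zero h
  · exact hy.shift ha hv h1 j

/-- A line of points through `y` and `z` and a fixed commutator commuting with `y` are impossible. -/
theorem no_line (hy : C.Outer y) (hs : ∀ j : K, C.IsPt (C.z ^ j.val * y)) {q : G} (hq : q ∈ C.Q)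
    (hc : Commute (q * y * q⁻¹ * y⁻¹) y) (hv : C.vec (q * y * q⁻¹ * y⁻¹) ≠ 0) : False := by
  set c := q * y * q⁻¹ * y⁻¹ with hcdef
  have hcQ : c ∈ C.Q := (hy.comm_mem hq).1
  have hcz : Commute c C.z := C.Q_le c hcQ
  have hqz : Commute q C.z := C.Q_le q hq
  obtain ⟨D, hD⟩ := hy.atPt
  have hzD : Commute C.z D.z := hD.outer.2.1
  have hcD : Commute c D.z := (hD.comm c).2 hc
  have hpt : ∀ j : K, C.IsPt (C.z ^ j.val * c * y) := by
    intro j
    have h := (hs j).conj q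
    rw [show q * (C.z ^ j.val * y) * q⁻¹ = q * C.z ^ j.val * (y * q⁻¹) by group,
      (hqz.pow_right _).eq, show C.z ^ j.val * q * (y * q⁻¹) = C.z ^ j.val * c * y by
        rw [hcdef]; group] at h
    exact h
  have hnD : ∀ j : K, C.z ^ j.val * c ∉ D.Q := by
    intro j hmem
    have h1 := ((hD.pts _).2 (hpt j)).mem_zpowers (mul_mem hmem hD.y_mem)
    rw [hD.zp] at h1
    have h2 := hy.eq_one_of_mem
      ((Subgroup.mul_mem_cancel_right _ (Subgroup.mem_zpowers y)).1 h1)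
      (mul_mem (pow_mem C.z_mem _) hcQ)
    have h3 := congrArg C.vec h2
    rw [C.vec_mul _ (pow_mem C.z_mem _) _ hcQ, vec_pow C.z_mem, C.vec_z, smul_zero, zero_add,
      C.vec_one] at h3
    exact hv h3
  set m := D.φ C.z with hm
  have hmpow : ∀ n : ℕ, D.φ (C.z ^ n) = m ^ n := by
    intro n
    induction n with
    | zero => rw [pow_zero, pow_zero, D.φ_one]
    | succ n ih => rw [pow_succ, pow_succ, D.φ_mul _ _ (hzD.pow_left n) hzD, ih]
  have hn3 : D.φ c ^ 3 = 1 := by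
    rw [pow_three, ← D.φ_mul _ _ hcD hcD, ← D.φ_mul _ _ hcD (hcD.mul_left hcD), ← pow_three,
      C.cube c hcQ, D.φ_one]
  have hform : ∀ k : ℕ, D.φ (C.z ^ k * c) = D.φ c * m ^ k := fun k => by
    rw [← (hcz.pow_right k).eq, D.φ_mul _ _ hcD (hzD.pow_left k), hmpow]
  have hcm : m * D.φ c = D.φ c * m := by
    rw [hm, ← D.φ_mul _ _ hzD hcD, ← hcz.eq, D.φ_mul _ _ hcD hzD]
  obtain ⟨k, hk⟩ := Mon.exists_half hD.outer.φ_cube hn3 hcm (fun k hk => by
      refine hnD ((k : ℕ) : K) ?_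
      rw [← z_pow_eq C]
      exact (D.φ_ker _ ((hzD.pow_left _).mul_left hcD)).1 ((hform _).trans hk))
    hD.outer.φ_ne
  -- the point `u * y`
  set u := C.z ^ ((k : ℕ) : K).val * c with hu
  have huD : Commute u D.z := (hzD.pow_left _).mul_left hcD
  have hyD : Commute y D.z := (hD.comm y).2 (Commute.refl y)
  have huout : D.Outer (u * y) := by
    refine ⟨(hD.pts _).2 (hpt _), huD.mul_left hyD, fun h => hnD ((k : ℕ) : K) ?_⟩
    exact (Subgroup.mul_mem_cancel_right _ hD.y_mem).1 h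
  have hhalf : (D.φ (u * y)).IsHalf := by
    rw [D.φ_mul _ _ huD hyD, D.φ_of_mem hD.y_mem, mul_one, hu, ← z_pow_eq C, hform]
    exact hk
  have hline := huout.half_shift hhalf
  obtain ⟨i, hi⟩ := exists_pow_val (C := D) (x := y⁻¹)
    (hD.zp ▸ inv_mem (Subgroup.mem_zpowers y))
  have h1 : C.IsPt u := (hD.pts _).1 (by
    have h := hline i
    rwa [← hi, ← ((hD.comm u).1 huD).symm.eq, inv_mul_cancel_left] at h)
  have huQ : u ∈ C.Q := mul_mem (pow_mem C.z_mem _) hcQ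
  have h2 := (C.vec_ker u huQ).2 (h1.mem_zpowers huQ)
  rw [hu, C.vec_mul _ (pow_mem C.z_mem _) _ hcQ, vec_pow C.z_mem, C.vec_z, smul_zero, zero_add] at h2
  exact hv h2

theorem comm_mul {a b : G} (hb : b * y * b⁻¹ * y⁻¹ ∈ Subgroup.zpowers C.z) (ha : Commute a C.z) :
    a * b * y * (a * b)⁻¹ * y⁻¹ = b * y * b⁻¹ * y⁻¹ * (a * y * a⁻¹ * y⁻¹) := by
  have h := commute_z_of_mem hb ha
  calc a * b * y * (a * b)⁻¹ * y⁻¹ = a * (b * y * b⁻¹ * y⁻¹) * (y * a⁻¹ * y⁻¹) := by group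
    _ = b * y * b⁻¹ * y⁻¹ * (a * y * a⁻¹ * y⁻¹) := by rw [h.eq]; group

theorem comm_pow (hy : C.Outer y) {q : G} (hq : q ∈ C.Q) {k : K} (hk : q * y * q⁻¹ * y⁻¹ = C.z ^ k.val)
    (n : ℕ) : q ^ n * y * (q ^ n)⁻¹ * y⁻¹ = C.z ^ (n * k.val) := by
  induction n with
  | zero => simp
  | succ n ih =>
    have hqz := C.Q_le q hq
    rw [pow_succ, comm_mul (by rw [hk]; exact pow_mem (Subgroup.mem_zpowers _) _) (hqz.pow_left n), hk, ih,
      ← pow_add, Nat.succ_mul, add_comm]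

/-- A point in `C(z) \ Q` acts non-trivially on both planes. -/
theorem no_half (hy : C.Outer y) : ¬ (C.φ y).IsHalf := by
  intro hh
  obtain ⟨p, u, v, w, hp, hpf, hpu, hv, hw, hvw, hperp⟩ := Mon.half_fix hy.φ_cube hh
  obtain ⟨q, hq, rfl⟩ := C.vec_surj u
  set x := q * y * q⁻¹ * y⁻¹ with hx
  have hxQ : x ∈ C.Q := (hy.comm_mem hq).1
  have hxv : C.vec x = p := (hy.comm_mem hq).2.trans hpu.symm
  refine hy.no_line (hy.half_shift hh) hq ?_ (by rw [hxv]; exact hp)
  by_contra hn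
  obtain ⟨k, hk⟩ := hy.comm_fixed hxQ (by rw [hxv]; exact hpf)
  have hk0 : k ≠ 0 := by
    rintro rfl
    rw [ZMod.val_zero, pow_zero, mul_inv_eq_one, mul_inv_eq_iff_eq_mul] at hk
    exact hn hk
  -- every fixed vector has a preimage commuting with `y`, up to the fixed line
  have adjust : ∀ v : V, Mon.act (C.φ y) v = v → ∃ (a : G) (n : K), a ∈ C.Q ∧ Commute a y ∧
      C.vec a = v + n • p := by
    intro v hv
    obtain ⟨a, ha, rfl⟩ := C.vec_surj v
    obtain ⟨i, hi⟩ := hy.comm_fixed ha hv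
    obtain ⟨n, hn'⟩ := K_solve i k hk0
    refine ⟨a * x ^ n.val, n, mul_mem ha (pow_mem hxQ _), ?_, ?_⟩
    · have h : a * x ^ n.val * y * (a * x ^ n.val)⁻¹ * y⁻¹ = 1 := by
        rw [comm_mul (by rw [hy.comm_pow hxQ hk]; exact pow_mem (Subgroup.mem_zpowers _) _) (C.Q_le a ha),
          hy.comm_pow hxQ hk, hi, ← pow_add, z_pow_eq C (_ + _), Nat.cast_add, Nat.cast_mul,
          ZMod.natCast_zmod_val, ZMod.natCast_zmod_val, ZMod.natCast_zmod_val, add_comm, hn',
          ZMod.val_zero, pow_zero]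
      rw [mul_inv_eq_one, mul_inv_eq_iff_eq_mul] at h
      exact h
    · rw [C.vec_mul _ ha _ (pow_mem hxQ _), vec_pow_val hxQ, hxv]
  obtain ⟨a, n, ha, hay, hav⟩ := adjust v hv
  obtain ⟨b, n', hb, hby, hbv⟩ := adjust w hw
  have h := (commute_iff_om ha hb).1 (hy.derived ha hb hay hby)
  rw [hav, hbv] at h
  have h0 : ∀ (r : V) (c : K), om (c • p) r = c * om p r ∧ om r (c • p) = -(c * om p r) := fun r c => by
    constructor <;> simp [om, det2] <;> ring
  simp only [om_add_left, om_add_right, (h0 _ _).1, (h0 _ _).2, hvw, hperp w hw, hperp v hv, om_self,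
    mul_zero, neg_zero, add_zero] at h
  exact one_ne_zero h

/-- Shape of the image of a point. -/
theorem φ_cases (hy : C.Outer y) : (C.φ y).s = false ∧ (C.φ y).a ^ 3 = 1 ∧ (C.φ y).b ^ 3 = 1 ∧
    (C.φ y).a ≠ 1 ∧ (C.φ y).b ≠ 1 := by
  obtain ⟨hs, ha, hb, h⟩ := Mon.cube_cases hy.φ_cube
  rcases h with h | h | h
  · exact absurd h hy.φ_ne
  · exact absurd h hy.no_half
  · exact ⟨hs, ha, hb, h.1, h.2⟩

/-- A point centralises every element of `Q` whose image it fixes. -/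
theorem commute_of_fixed (hy : C.Outer y) {q : G} (hq : q ∈ C.Q)
    (hf : Mon.act (C.φ y) (C.vec q) = C.vec q) : Commute q y := by
  by_contra hn
  obtain ⟨-, -, -, ha, hb⟩ := hy.φ_cases
  obtain ⟨p, p', hp, hp', hind, himg, -⟩ := Mon.diag_fix hy.φ_cube ha hb
  obtain ⟨a, ha', rfl⟩ := C.vec_surj p
  obtain ⟨b, hb', rfl⟩ := C.vec_surj p'
  -- a fixed element outside the centre commuting with `y`
  obtain ⟨x, hxQ, hxy, hx0⟩ : ∃ x ∈ C.Q, Commute x y ∧ C.vec x ≠ 0 := by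
    obtain ⟨i, hi⟩ := hy.comm_fixed ha' hp
    by_cases hi0 : i = 0
    · refine ⟨a, ha', ?_, fun h => one_ne_zero (hind 1 0 (by rw [h]; simp)).1⟩
      rw [hi0, ZMod.val_zero, pow_zero, mul_inv_eq_one, mul_inv_eq_iff_eq_mul] at hi
      exact hi
    · obtain ⟨l, hl⟩ := hy.comm_fixed hb' hp'
      obtain ⟨n, hn'⟩ := K_solve l i hi0
      refine ⟨b * a ^ n.val, mul_mem hb' (pow_mem ha' _), ?_, ?_⟩
      · have h : b * a ^ n.val * y * (b * a ^ n.val)⁻¹ * y⁻¹ = 1 := by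
          rw [comm_mul (by rw [hy.comm_pow ha' hi]; exact pow_mem (Subgroup.mem_zpowers _) _)
            (C.Q_le b hb'), hy.comm_pow ha' hi, hl, ← pow_add, z_pow_eq C (_ + _), Nat.cast_add,
            Nat.cast_mul, ZMod.natCast_zmod_val, ZMod.natCast_zmod_val, ZMod.natCast_zmod_val, add_comm,
            hn', ZMod.val_zero, pow_zero]
        rw [mul_inv_eq_one, mul_inv_eq_iff_eq_mul] at h
        exact h
      · rw [C.vec_mul _ hb' _ (pow_mem ha' _), vec_pow_val ha', add_comm]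
        exact fun h => one_ne_zero (hind n 1 (by rwa [one_smul])).2
  obtain ⟨u, hu⟩ := himg _ (hy.fixed_of_commute hxQ hxy)
  obtain ⟨r, hr, rfl⟩ := C.vec_surj u
  have hcQ : r * y * r⁻¹ * y⁻¹ ∈ C.Q := (hy.comm_mem hr).1
  have hcv : C.vec (r * y * r⁻¹ * y⁻¹) = C.vec x := (hy.comm_mem hr).2.trans hu.symm
  refine hy.no_line (hy.shift hq hf hn) hr ?_ (by rw [hcv]; exact hx0)
  obtain ⟨k, hk⟩ := exists_pow_val ((C.vec_ker _ (mul_mem (inv_mem hxQ) hcQ)).1 (by
    rw [C.vec_mul _ (inv_mem hxQ) _ hcQ, C.vec_inv hxQ, hcv, neg_add_cancel]))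
  rw [inv_mul_eq_iff_eq_mul.1 hk]
  exact hxy.mul_left (hy.2.1.symm.pow_left _)

end Outer

end Cfg

end Cfsg.Agent.U62ThreeCent
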