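/-
A second point in standard position, and the elementary abelian subgroup of order 81.

* `Std G` : a configuration with a point `y` in `C(z)` acting as `(upperU, upperU)`, and `X`, `X'`;
* `Std.jj` : coordinates of `J = ⟨z, y, X, X'⟩`; `quad` : the form whose singular vectors are the points;
* `Std.jj_add`, `Std.jj_inj`, `Std.card_J` : `J` is elementary abelian of order 81.
-/
import Cfsg.Agent.Lib.U62ThreeCent.Linear

set_option autoImplicit false

namespace Cfsg.Agent.U62ThreeCent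

open Cfsg.Agent.PSpThree

/-- Coordinates with respect to `z`, `y`, `X`, `X'`. -/
abbrev J4 := K × K × K × K

/-- The form on `J`. -/
def quad (v : J4) : K := v.1 * v.2.1 + v.2.2.1 * v.2.2.1 + v.2.2.2 * v.2.2.2

/-- A configuration with a second point in standard position. -/
structure Std (G : Type*) [Group G] extends Cfg G where
  /-- a point commuting with `z` outside `Q` -/
  y : G
  /-- the element of `Q` fixed in the first plane -/
  X : G
  /-- the element of `Q` fixed in the second plane -/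
  X' : G
  y_comm : Commute y z
  y_cube : y ^ 3 = 1
  φ_y : φ y = ⟨upperU, upperU, false⟩
  X_mem : X ∈ Q
  X'_mem : X' ∈ Q
  vec_X : vec X = ((1, 0), 0)
  vec_X' : vec X' = (0, (1, 0))
  y_X : Commute y X
  y_X' : Commute y X'
  pts : ∀ v : J4, toCfg.IsPt (z ^ v.1.val * y ^ v.2.1.val * X ^ v.2.2.1.val * X' ^ v.2.2.2.val) ↔
    v ≠ 0 ∧ quad v = 0

theorem pow_val_add {G : Type*} [Group G] {x : G} (hx : x ^ 3 = 1) (a b : K) :
    x ^ (a + b).val = x ^ a.val * x ^ b.val := by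
  rw [ZMod.val_add, ← pow_add]
  exact (pow_eq_pow_mod _ hx).symm

theorem mul_mul_mul_mul {G : Type*} [Group G] {a b a' b' : G} (h : Commute b a') :
    a * b * (a' * b') = a * a' * (b * b') := by
  rw [mul_assoc a b, ← mul_assoc b, h.eq, mul_assoc a' b, ← mul_assoc]

namespace Std

variable {G : Type*} [Group G] (S : Std G)

/-- Coordinates of `J`. -/
def jj (v : J4) : G := S.z ^ v.1.val * S.y ^ v.2.1.val * S.X ^ v.2.2.1.val * S.X' ^ v.2.2.2.val

theorem isPt_jj (v : J4) : S.IsPt (S.jj v) ↔ v ≠ 0 ∧ quad v = 0 := S.pts v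

theorem z_X : Commute S.z S.X := (S.Q_le _ S.X_mem).symm

theorem z_X' : Commute S.z S.X' := (S.Q_le _ S.X'_mem).symm

theorem X_X' : Commute S.X S.X' := by
  have h := S.comm _ S.X_mem _ S.X'_mem
  have h0 : om (S.vec S.X) (S.vec S.X') = 0 := by rw [S.vec_X, S.vec_X']; decide
  rw [h0, ZMod.val_zero, pow_zero, mul_inv_eq_one, mul_inv_eq_iff_eq_mul] at h
  exact h

theorem z_y : Commute S.z S.y := S.y_comm.symm

theorem jj_add (v w : J4) : S.jj (v + w) = S.jj v * S.jj w := by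
  simp only [jj, Prod.fst_add, Prod.snd_add]
  rw [pow_val_add S.z_pow, pow_val_add S.y_cube, pow_val_add (S.cube _ S.X_mem),
    pow_val_add (S.cube _ S.X'_mem)]
  have h1 : ∀ k l, Commute (S.z ^ k) (S.y ^ l) := fun k l => S.z_y.pow_pow k l
  have h2 : ∀ k l m, Commute (S.z ^ k * S.y ^ l) (S.X ^ m) := fun k l m =>
    (S.z_X.pow_pow k m).mul_left (S.y_X.pow_pow l m)
  have h3 : ∀ k l m n, Commute (S.z ^ k * S.y ^ l * S.X ^ m) (S.X' ^ n) := fun k l m n =>
    ((S.z_X'.pow_pow k n).mul_left (S.y_X'.pow_pow l n)).mul_left (S.X_X'.pow_pow m n)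
  rw [mul_mul_mul_mul (h3 _ _ _ _).symm, mul_mul_mul_mul (h2 _ _ _).symm,
    mul_mul_mul_mul (h1 _ _).symm]

theorem jj_zero : S.jj 0 = 1 := by simp [jj]

theorem jj_neg (v : J4) : S.jj (-v) = (S.jj v)⁻¹ :=
  eq_inv_of_mul_eq_one_left (by rw [← S.jj_add, neg_add_cancel, S.jj_zero])

theorem commute_jj (v w : J4) : Commute (S.jj v) (S.jj w) := by
  show _ * _ = _ * _
  rw [← S.jj_add, ← S.jj_add, add_comm]

/-- `J` as a homomorphism. -/
def jHom : Multiplicative J4 →* G := MonoidHom.mk' (fun v => S.jj v.toAdd) fun v w => S.jj_add _ _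

/-- The elementary abelian subgroup of order 81. -/
def J : Subgroup G := S.jHom.range

theorem mem_J {g : G} : g ∈ S.J ↔ ∃ v, S.jj v = g :=
  ⟨fun ⟨v, hv⟩ => ⟨v.toAdd, hv⟩, fun ⟨v, hv⟩ => ⟨Multiplicative.ofAdd v, hv⟩⟩

theorem jj_mem (v : J4) : S.jj v ∈ S.J := S.mem_J.2 ⟨v, rfl⟩

theorem jj_z : S.jj (1, 0, 0, 0) = S.z := by simp [jj, ZMod.val_one]

theorem jj_y : S.jj (0, 1, 0, 0) = S.y := by simp [jj, ZMod.val_one]

theorem jj_X : S.jj (0, 0, 1, 0) = S.X := by simp [jj, ZMod.val_one]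

theorem jj_X' : S.jj (0, 0, 0, 1) = S.X' := by simp [jj, ZMod.val_one]

theorem jj_cube (v : J4) : S.jj v ^ 3 = 1 := by
  have h3 : ∀ c : K, c + (c + c) = 0 := by decide
  rw [pow_three, ← S.jj_add, ← S.jj_add, show v + (v + v) = 0 from by
    ext <;> exact h3 _]
  exact S.jj_zero

theorem commute_z_jj (v : J4) : Commute (S.jj v) S.z := by
  rw [← S.jj_z]; exact S.commute_jj _ _

theorem φ_pow_y (n : ℕ) : S.φ (S.y ^ n) = S.φ S.y ^ n := by
  induction n with
  | zero => rw [pow_zero, pow_zero, S.φ_one]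
  | succ n ih => rw [pow_succ, pow_succ, S.φ_mul _ _ (S.y_comm.pow_left n) S.y_comm, ih]

theorem φ_jj (v : J4) : S.φ (S.jj v) = S.φ S.y ^ v.2.1.val := by
  have hq1 : S.z ^ v.1.val ∈ S.Q := pow_mem S.z_mem _
  have hq3 : S.X ^ v.2.2.1.val ∈ S.Q := pow_mem S.X_mem _
  have hq4 : S.X' ^ v.2.2.2.val ∈ S.Q := pow_mem S.X'_mem _
  have c2 : Commute (S.y ^ v.2.1.val) S.z := S.y_comm.pow_left _
  rw [jj, S.φ_mul _ _ (((S.Q_le _ hq1).mul_left c2).mul_left (S.Q_le _ hq3)) (S.Q_le _ hq4),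
    S.φ_mul _ _ ((S.Q_le _ hq1).mul_left c2) (S.Q_le _ hq3), S.φ_mul _ _ (S.Q_le _ hq1) c2,
    S.φ_of_mem hq1, S.φ_of_mem hq3, S.φ_of_mem hq4, one_mul, mul_one, mul_one, S.φ_pow_y]

theorem upperU_pow : ∀ b : K, (⟨upperU, upperU, false⟩ : Mon) ^ b.val = 1 → b = 0 := by decide +kernel

theorem jj_eq_one {v : J4} : S.jj v = 1 ↔ v = 0 := by
  refine ⟨fun h => ?_, fun h => h ▸ S.jj_zero⟩
  obtain ⟨a, b, c, d⟩ := v
  have hb : b = 0 := upperU_pow b (by rw [← S.φ_y, ← S.φ_jj (a, b, c, d), h, S.φ_one])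
  subst hb
  have hq : S.z ^ a.val * S.X ^ c.val * S.X' ^ d.val = 1 := by simpa [jj] using h
  have hz : S.z ^ a.val ∈ S.Q := pow_mem S.z_mem _
  have hvec : ∀ (x : G), x ∈ S.Q → ∀ k : ℕ, S.vec (x ^ k) = k • S.vec x := fun x hx k => by
    induction k with
    | zero => rw [pow_zero, S.vec_one, zero_smul]
    | succ k ih => rw [pow_succ, S.vec_mul _ (pow_mem hx k) _ hx, ih, succ_nsmul]
  have hv := congrArg S.vec hq
  rw [S.vec_mul _ (mul_mem hz (pow_mem S.X_mem _)) _ (pow_mem S.X'_mem _),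
    S.vec_mul _ hz _ (pow_mem S.X_mem _), hvec _ S.z_mem, hvec _ S.X_mem, hvec _ S.X'_mem, S.vec_z,
    S.vec_X, S.vec_X', S.vec_one] at hv
  obtain ⟨rfl, rfl⟩ : c = 0 ∧ d = 0 := by
    simpa [Prod.ext_iff] using hv
  have ha : S.z ^ a.val = 1 := by simpa using hq
  have hd := orderOf_dvd_of_pow_eq_one ha
  rw [S.z_ord] at hd
  have : a.val = 0 := Nat.eq_zero_of_dvd_of_lt hd (ZMod.val_lt a)
  rw [(ZMod.val_eq_zero a).1 this]
  rfl

theorem jj_inj : Function.Injective S.jj := fun v w h => sub_eq_zero.1 (S.jj_eq_one.1 (by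
  rw [sub_eq_add_neg, S.jj_add, S.jj_neg, h, mul_inv_cancel]))

theorem card_J : Nat.card S.J = 81 := by
  rw [J, ← Nat.card_congr (MonoidHom.ofInjective (f := S.jHom) fun a b h => S.jj_inj h).toEquiv,
    Nat.card_congr Multiplicative.toAdd, Nat.card_eq_fintype_card]
  rfl

end Std

end Cfsg.Agent.U62ThreeCent
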