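/-
The standard position.

* `Cfg.recoord` : change of coordinates;
* `Cfg.Outer.normal_form` : the orbit of a point under `Q`, and equality of the two signs;
* `Cfg.exists_std` : the standard position exists;
* `Std.mem_J_of_pt'`, `Std.mem_J_of_pt` : the points of `C(z)` near `y` lie in `J`.
-/
import Cfsg.Agent.Lib.U62ThreeCent.Point
import Cfsg.Agent.Lib.U62ThreeCent.Std

set_option autoImplicit false
set_option maxRecDepth 100000

namespace Cfsg.Agent.U62ThreeCent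

open Cfsg.Agent.PSpThree

theorem upperU_class : ∀ A : SL23, A ^ 3 = 1 → A ≠ 1 →
    ∃ B : SL23, ∃ c : K, c ≠ 0 ∧ B * A * B⁻¹ = upperU ^ c.val := by decide +kernel

theorem upperU_comm : ∀ A : SL23, A ^ 3 = 1 → A * upperU = upperU * A → ∃ k : K, A = upperU ^ k.val := by
  decide +kernel

theorem upperU_val : ∀ k l : K, upperU ^ k.val = upperU ^ l.val → k = l := by decide +kernel

theorem upperU_inv : ∀ k : K, (upperU ^ k.val)⁻¹ = upperU ^ (-k).val := by decide +kernel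

theorem normal_vecs : ∀ c : K, c ≠ 0 →
    (((0, 1), 0) : V) - Mon.act ⟨upperU, upperU ^ c.val, false⟩ ((0, 1), 0) = ((-1, 0), 0) ∧
    ((0, (0, 1)) : V) - Mon.act ⟨upperU, upperU ^ c.val, false⟩ (0, (0, 1)) = (0, (-c, 0)) ∧
    Mon.act ⟨upperU, upperU ^ c.val, false⟩ ((-1, 0), 0) = ((-1, 0), 0) ∧
    Mon.act ⟨upperU, upperU ^ c.val, false⟩ (0, (-c, 0)) = (0, (-c, 0)) ∧
    om ((0, 1), 0) ((-1, 0), 0) = 1 ∧ om (0, (0, 1)) (0, (-c, 0)) = c ∧
    om ((0, 1), 0) (0, (-c, 0)) = 0 ∧ om (0, (0, 1)) ((-1, 0), 0) = 0 := by decide +kernel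

theorem form_cases : ∀ c i j : K, c ≠ 0 →
    (∀ s t : K, s ≠ 0 ∨ t ≠ 0 → -(s * s + c * (t * t)) + i * s + j * t ≠ 0) → i = 0 ∧ j = 0 ∧ c = 1 := by
  decide +kernel

theorem sl_powers' : ∀ e A : SL23, e ^ 3 = 1 → A ^ 3 = 1 → e * A = A * e → e ≠ 1 →
    ∃ k : K, A = e ^ k.val := by decide +kernel

theorem pow_val_mul {G : Type*} [Group G] {x : G} (hx : x ^ 3 = 1) (a b : K) :
    (x ^ a.val) ^ b.val = x ^ (a * b).val := by
  rw [← pow_mul, ZMod.val_mul]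
  exact pow_eq_pow_mod _ hx

theorem pow_neg_val {G : Type*} [Group G] {x : G} (hx : x ^ 3 = 1) (a : K) :
    x⁻¹ ^ a.val = x ^ (-a).val := by
  rw [inv_pow, inv_eq_iff_mul_eq_one, ← pow_val_add hx, add_neg_cancel, ZMod.val_zero, pow_zero]

namespace Mon

theorem act_one' (v : V) : act 1 v = v := by simp [act, one_def, act2_one]

theorem act_inv (m : Mon) (v : V) : act m⁻¹ (act m v) = v := by rw [← act_mul, inv_mul_cancel, act_one']

end Mon

namespace Cfg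

variable {G : Type*} [Group G]

/-- Change of coordinates. -/
def recoord (C : Cfg G) (m : Mon) (hm : m.s = false) : Cfg G where
  z := C.z
  Q := C.Q
  φ h := m * C.φ h * m⁻¹
  vec x := Mon.act m (C.vec x)
  z_ord := C.z_ord
  z_mem := C.z_mem
  Q_le := C.Q_le
  cube := C.cube
  vec_mul i hi j hj := by rw [C.vec_mul i hi j hj, Mon.act_add]
  vec_surj v := by
    obtain ⟨q, hq, h⟩ := C.vec_surj (Mon.act m⁻¹ v)
    exact ⟨q, hq, by rw [h, ← Mon.act_mul, mul_inv_cancel, Mon.act_one']⟩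
  vec_ker q hq := by
    refine Iff.trans ⟨fun h => ?_, fun h => ?_⟩ (C.vec_ker q hq)
    · rw [← Mon.act_inv m (C.vec q), h]
      exact map_zero m⁻¹.actHom
    · rw [h]; exact map_zero m.actHom
  comm i hi j hj := by rw [C.comm i hi j hj, om_act]
  φ_mul g h hg hh := by rw [C.φ_mul g h hg hh]; group
  φ_ker h hh := by rw [conj_eq_one_iff]; exact C.φ_ker h hh
  conj_mem := C.conj_mem
  vec_conj h hh q hq := by
    rw [C.vec_conj h hh q hq, ← Mon.act_mul, ← Mon.act_mul, inv_mul_cancel_right]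
  quat a b ha hb := by
    obtain ⟨ma, mb, ms⟩ := m
    obtain rfl : ms = false := hm
    have conj4 : ∀ x g : SL23, x ^ 4 = 1 → (g⁻¹ * x * g) ^ 4 = 1 := fun x g hx => by
      have h := conj_pow (i := 4) (a := g⁻¹) (b := x)
      rw [inv_inv] at h
      rw [h, hx, mul_one, inv_mul_cancel]
    obtain ⟨h, hh, hφ⟩ := C.quat (ma⁻¹ * a * ma) (mb⁻¹ * b * mb) (conj4 a ma ha) (conj4 b mb hb)
    exact ⟨h, hh, by rw [hφ, Mon.mul_def, Mon.inv_def, Mon.mul_def]; simp [mul_assoc]⟩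
  wc := C.wc
  nwc := C.nwc

variable {C : Cfg G} {y : G}

namespace Outer

/-- The orbit of a normalised point. -/
theorem normal_form (hy : C.Outer y) {c : K} (hc : c ≠ 0)
    (hφ : C.φ y = ⟨upperU, upperU ^ c.val, false⟩) :
    c = 1 ∧ ∃ X₀ X₁ : G, X₀ ∈ C.Q ∧ X₁ ∈ C.Q ∧ C.vec X₀ = ((-1, 0), 0) ∧ C.vec X₁ = (0, (-1, 0)) ∧
      Commute y X₀ ∧ Commute y X₁ ∧
      (∀ s t : K, ∃ q ∈ C.Q, q * y * q⁻¹ = C.z ^ (-(s * s + t * t)).val * X₀ ^ s.val * X₁ ^ t.val * y) ∧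
      ∀ D : Cfg G, AtPt C y D → X₀ ∈ D.Q ∧ X₁ ∈ D.Q := by
  obtain ⟨e1, e2, e3, e4, e5, e6, e7, e8⟩ := normal_vecs c hc
  obtain ⟨q₀, hq₀, hv₀⟩ := C.vec_surj ((0, 1), 0)
  obtain ⟨q₁, hq₁, hv₁⟩ := C.vec_surj (0, (0, 1))
  set x₀ := q₀ * y * q₀⁻¹ * y⁻¹ with hx₀
  set x₁ := q₁ * y * q₁⁻¹ * y⁻¹ with hx₁
  have hx₀Q : x₀ ∈ C.Q := (hy.comm_mem hq₀).1
  have hx₁Q : x₁ ∈ C.Q := (hy.comm_mem hq₁).1
  have hx₀v : C.vec x₀ = ((-1, 0), 0) := by rw [(hy.comm_mem hq₀).2, hv₀, hφ, e1]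
  have hx₁v : C.vec x₁ = (0, (-c, 0)) := by rw [(hy.comm_mem hq₁).2, hv₁, hφ, e2]
  set X₀ := x₀ * C.z with hX₀
  set X₁ := x₁ * C.z ^ c.val with hX₁
  have hX₀Q : X₀ ∈ C.Q := mul_mem hx₀Q C.z_mem
  have hX₁Q : X₁ ∈ C.Q := mul_mem hx₁Q (pow_mem C.z_mem _)
  have hX₀v : C.vec X₀ = ((-1, 0), 0) := by rw [hX₀, C.vec_mul _ hx₀Q _ C.z_mem, C.vec_z, add_zero, hx₀v]
  have hX₁v : C.vec X₁ = (0, (-c, 0)) := by
    rw [hX₁, C.vec_mul _ hx₁Q _ (pow_mem C.z_mem _), vec_pow C.z_mem, C.vec_z, smul_zero, add_zero, hx₁v]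
  have hyX₀ : Commute y X₀ := (hy.commute_of_fixed hX₀Q (by rw [hX₀v, hφ, e3])).symm
  have hyX₁ : Commute y X₁ := (hy.commute_of_fixed hX₁Q (by rw [hX₁v, hφ, e4])).symm
  have hzX₀ : Commute C.z X₀ := (C.Q_le _ hX₀Q).symm
  have hzX₁ : Commute C.z X₁ := (C.Q_le _ hX₁Q).symm
  have h01 : Commute X₀ X₁ := (commute_iff_om hX₀Q hX₁Q).2 (by rw [hX₀v, hX₁v]; simp [om, det2])
  -- the effect of `q₀` and `q₁`
  have cq : ∀ q x : G, q ∈ C.Q → x ∈ C.Q → q * x * q⁻¹ = C.z ^ (om (C.vec q) (C.vec x)).val * x :=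
    fun q x hq hx => by rw [← C.comm q hq x hx]; group
  have a00 : q₀ * X₀ * q₀⁻¹ = C.z * X₀ := by
    rw [cq _ _ hq₀ hX₀Q, hv₀, hX₀v, e5, ZMod.val_one, pow_one]
  have a01 : q₀ * X₁ * q₀⁻¹ = X₁ := by
    rw [cq _ _ hq₀ hX₁Q, hv₀, hX₁v, e7, ZMod.val_zero, pow_zero, one_mul]
  have a10 : q₁ * X₀ * q₁⁻¹ = X₀ := by
    rw [cq _ _ hq₁ hX₀Q, hv₁, hX₀v, e8, ZMod.val_zero, pow_zero, one_mul]
  have a11 : q₁ * X₁ * q₁⁻¹ = C.z ^ c.val * X₁ := by rw [cq _ _ hq₁ hX₁Q, hv₁, hX₁v, e6]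
  have z3 : ∀ k : ℕ, C.z ^ k * C.z ^ (2 * k) = 1 := fun k => by
    rw [← pow_add, show k + 2 * k = 3 * k by omega, pow_mul, C.z_pow, one_pow]
  have b0 : q₀ * y * q₀⁻¹ = C.z ^ 2 * X₀ * y := by
    rw [hX₀, ← mul_assoc (C.z ^ 2), ((C.Q_le _ hx₀Q).symm.pow_left 2).eq, mul_assoc x₀, ← pow_succ,
      C.z_pow, mul_one, hx₀]
    group
  have b1 : q₁ * y * q₁⁻¹ = C.z ^ (2 * c.val) * X₁ * y := by
    rw [hX₁, ← mul_assoc (C.z ^ (2 * c.val)), ((C.Q_le _ hx₁Q).symm.pow_left _).eq, mul_assoc x₁,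
      ← pow_add, show 2 * c.val + c.val = c.val + 2 * c.val by omega, pow_add, z3, mul_one, hx₁]
    group
  have step0 : ∀ q i n m, q * y * q⁻¹ = C.z ^ i * X₀ ^ n * X₁ ^ m * y → (q₀ * q) * y * (q₀ * q)⁻¹ =
      C.z ^ (i + n + 2) * X₀ ^ (n + 1) * X₁ ^ m * y := by
    intro q i n m h
    rw [show q₀ * q * y * (q₀ * q)⁻¹ = MulAut.conj q₀ (q * y * q⁻¹) by simp [mul_assoc], h]
    simp only [map_mul, map_pow, MulAut.conj_apply, a00, a01, b0,
      ((C.Q_le _ hq₀).eq ▸ mul_inv_cancel_right C.z q₀ : q₀ * C.z * q₀⁻¹ = C.z), hzX₀.mul_pow]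
    have h1 : X₁ ^ m * (C.z ^ 2 * X₀) = C.z ^ 2 * X₀ * X₁ ^ m :=
      ((hzX₁.pow_pow 2 m).mul_left (h01.pow_right m)).symm.eq
    calc C.z ^ i * (C.z ^ n * X₀ ^ n) * X₁ ^ m * (C.z ^ 2 * X₀ * y)
        = C.z ^ i * C.z ^ n * (X₀ ^ n * (X₁ ^ m * (C.z ^ 2 * X₀))) * y := by group
      _ = C.z ^ i * C.z ^ n * (X₀ ^ n * C.z ^ 2 * X₀ * X₁ ^ m) * y := by rw [h1]; group
      _ = C.z ^ (i + n + 2) * X₀ ^ (n + 1) * X₁ ^ m * y := by
        rw [← (hzX₀.pow_pow 2 n).eq, pow_add, pow_add, pow_succ X₀]; group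
  have step1 : ∀ q i n m, q * y * q⁻¹ = C.z ^ i * X₀ ^ n * X₁ ^ m * y → (q₁ * q) * y * (q₁ * q)⁻¹ =
      C.z ^ (i + c.val * m + 2 * c.val) * X₀ ^ n * X₁ ^ (m + 1) * y := by
    intro q i n m h
    rw [show q₁ * q * y * (q₁ * q)⁻¹ = MulAut.conj q₁ (q * y * q⁻¹) by simp [mul_assoc], h]
    simp only [map_mul, map_pow, MulAut.conj_apply, a10, a11, b1,
      ((C.Q_le _ hq₁).eq ▸ mul_inv_cancel_right C.z q₁ : q₁ * C.z * q₁⁻¹ = C.z),
      (hzX₁.pow_left c.val).mul_pow, ← pow_mul]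
    have h1 : X₁ ^ m * C.z ^ (2 * c.val) = C.z ^ (2 * c.val) * X₁ ^ m :=
      (hzX₁.pow_pow _ m).symm.eq
    have h2 : ∀ k, X₀ ^ n * C.z ^ k = C.z ^ k * X₀ ^ n := fun k => (hzX₀.pow_pow k n).symm.eq
    calc C.z ^ i * X₀ ^ n * (C.z ^ (c.val * m) * X₁ ^ m) * (C.z ^ (2 * c.val) * X₁ * y)
        = C.z ^ i * (X₀ ^ n * C.z ^ (c.val * m)) * (X₁ ^ m * C.z ^ (2 * c.val)) * X₁ * y := by group
      _ = C.z ^ i * C.z ^ (c.val * m) * (X₀ ^ n * C.z ^ (2 * c.val)) * (X₁ ^ m * X₁) * y := by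
        rw [h1, h2]; group
      _ = C.z ^ (i + c.val * m + 2 * c.val) * X₀ ^ n * X₁ ^ (m + 1) * y := by
        rw [h2, pow_add, pow_add, pow_succ X₁]; group
  have h3 : (3 : K) = 0 := by decide
  have orbit : ∀ n m : ℕ, ∃ q ∈ C.Q, ∃ i : ℕ, q * y * q⁻¹ = C.z ^ i * X₀ ^ n * X₁ ^ m * y ∧
      (i : K) = -((n : K) * n + c * ((m : K) * m)) := by
    intro n m
    induction m with
    | zero =>
      induction n with
      | zero => exact ⟨1, one_mem _, 0, by simp, by simp⟩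
      | succ n ih =>
        obtain ⟨q, hq, i, h, hi⟩ := ih
        refine ⟨q₀ * q, mul_mem hq₀ hq, _, step0 q i n 0 h, ?_⟩
        push_cast at hi ⊢
        rw [hi]
        linear_combination ((n : K) + 1) * h3
    | succ m ih =>
      obtain ⟨q, hq, i, h, hi⟩ := ih
      refine ⟨q₁ * q, mul_mem hq₁ hq, _, step1 q i n m h, ?_⟩
      push_cast [ZMod.natCast_zmod_val] at hi ⊢
      rw [hi]
      linear_combination (c * (m : K) + c) * h3
  have orb : ∀ s t : K, ∃ q ∈ C.Q,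
      q * y * q⁻¹ = C.z ^ (-(s * s + c * (t * t))).val * X₀ ^ s.val * X₁ ^ t.val * y := by
    intro s t
    obtain ⟨q, hq, i, h, hi⟩ := orbit s.val t.val
    rw [ZMod.natCast_zmod_val, ZMod.natCast_zmod_val] at hi
    exact ⟨q, hq, by rw [h, z_pow_eq C i, hi]⟩
  -- seen from `y`
  have hD0 : ∀ D : Cfg G, AtPt C y D → c = 1 ∧ X₀ ∈ D.Q ∧ X₁ ∈ D.Q := by
    intro D hD
    have hzD : Commute C.z D.z := hD.outer.2.1
    have h0D : Commute X₀ D.z := (hD.comm _).2 hyX₀.symm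
    have h1D : Commute X₁ D.z := (hD.comm _).2 hyX₁.symm
    have hyD : Commute y D.z := (hD.comm y).2 (Commute.refl y)
    have key : ∀ s t : K, s ≠ 0 ∨ t ≠ 0 →
        D.Outer (C.z ^ (-(s * s + c * (t * t))).val * X₀ ^ s.val * X₁ ^ t.val * y) := by
      intro s t hst
      obtain ⟨q, hq, h⟩ := orb s t
      refine ⟨(hD.pts _).2 (h ▸ hy.1.conj q),
        (((hzD.pow_left _).mul_left (h0D.pow_left _)).mul_left (h1D.pow_left _)).mul_left hyD, fun hmem => ?_⟩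
      have h1 := ((hD.pts _).2 (h ▸ hy.1.conj q)).mem_zpowers hmem
      rw [hD.zp, Subgroup.mul_mem_cancel_right _ (Subgroup.mem_zpowers y)] at h1
      have h2 := hy.eq_one_of_mem h1
        (mul_mem (mul_mem (pow_mem C.z_mem _) (pow_mem hX₀Q _)) (pow_mem hX₁Q _))
      have h3 := congrArg C.vec h2
      rw [C.vec_mul _ (mul_mem (pow_mem C.z_mem _) (pow_mem hX₀Q _)) _ (pow_mem hX₁Q _),
        C.vec_mul _ (pow_mem C.z_mem _) _ (pow_mem hX₀Q _), vec_pow C.z_mem, C.vec_z, smul_zero, zero_add,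
        vec_pow_val hX₀Q, vec_pow_val hX₁Q, hX₀v, hX₁v, C.vec_one] at h3
      rcases hst with hs | ht
      · exact hs (by simpa using congrArg (fun v : V => v.1.1) h3)
      · exact ht (by simpa [hc] using congrArg (fun v : V => v.2.1) h3)
    obtain ⟨ms, ma, mb, ma1, mb1⟩ := hD.outer.φ_cases
    have cubeD : ∀ x : G, Commute x D.z → x ∈ C.Q → D.φ x ^ 3 = 1 := fun x hx hQ => by
      rw [pow_three, ← D.φ_mul _ _ hx hx, ← D.φ_mul _ _ hx (hx.mul_left hx), ← pow_three, C.cube x hQ,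
        D.φ_one]
    obtain ⟨s0, a0, b0', -⟩ := Mon.cube_cases (cubeD _ h0D hX₀Q)
    obtain ⟨s1, a1, b1', -⟩ := Mon.cube_cases (cubeD _ h1D hX₁Q)
    have hpw : ∀ x : G, Commute x D.z → ∀ n : ℕ, D.φ (x ^ n) = D.φ x ^ n := by
      intro x hx n
      induction n with
      | zero => rw [pow_zero, pow_zero, D.φ_one]
      | succ n ih => rw [pow_succ, pow_succ, D.φ_mul _ _ (hx.pow_left n) hx, ih]
    have hφw : ∀ i j k : ℕ, D.φ (C.z ^ i * X₀ ^ j * X₁ ^ k * y) =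
        ⟨(D.φ C.z).a ^ i * (D.φ X₀).a ^ j * (D.φ X₁).a ^ k,
          (D.φ C.z).b ^ i * (D.φ X₀).b ^ j * (D.φ X₁).b ^ k, false⟩ := by
      intro i j k
      rw [D.φ_mul _ _ (((hzD.pow_left _).mul_left (h0D.pow_left _)).mul_left (h1D.pow_left _)) hyD,
        D.φ_mul _ _ ((hzD.pow_left _).mul_left (h0D.pow_left _)) (h1D.pow_left _),
        D.φ_mul _ _ (hzD.pow_left _) (h0D.pow_left _), D.φ_of_mem hD.y_mem, mul_one, hpw _ hzD,
        hpw _ h0D, hpw _ h1D, Mon.pow_false ms, Mon.pow_false s0, Mon.pow_false s1]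
      rfl
    have cm : ∀ x : G, Commute x D.z → Commute C.z x → D.φ C.z * D.φ x = D.φ x * D.φ C.z := fun x hx hc => by
      rw [← D.φ_mul _ _ hzD hx, hc.eq, D.φ_mul _ _ hx hzD]
    have c0 := cm _ h0D hzX₀
    have c1 := cm _ h1D hzX₁
    rw [Mon.mul_def, Mon.mul_def, ms] at c0 c1
    rw [s0] at c0
    rw [s1] at c1
    simp only [cond_false, Mon.mk.injEq, and_true, Bool.xor_false] at c0 c1
    have comp : ∀ e A B : SL23, e ^ 3 = 1 → A ^ 3 = 1 → B ^ 3 = 1 → e ≠ 1 → e * A = A * e → e * B = B * e →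
        (∀ s t : K, s ≠ 0 ∨ t ≠ 0 → e ^ (-(s * s + c * (t * t))).val * A ^ s.val * B ^ t.val ≠ 1) →
        A = 1 ∧ B = 1 ∧ c = 1 := by
      intro e A B he hA hB he1 heA heB h
      obtain ⟨i, rfl⟩ := sl_powers' e A he hA heA he1
      obtain ⟨j, rfl⟩ := sl_powers' e B he hB heB he1
      obtain ⟨rfl, rfl, rfl⟩ := form_cases c i j hc fun s t hst h0 => h s t hst (by
        rw [pow_val_mul he, pow_val_mul he, ← pow_val_add he, ← pow_val_add he, h0, ZMod.val_zero, pow_zero])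
      simp
    obtain ⟨hA0, hA1, hc1⟩ := comp _ _ _ ma a0 a1 ma1 c0.1 c1.1 fun s t hst h => by
      have := (key s t hst).φ_cases.2.2.2.1
      rw [hφw] at this
      exact this h
    obtain ⟨hB0, hB1, -⟩ := comp _ _ _ mb b0' b1' mb1 c0.2 c1.2 fun s t hst h => by
      have := (key s t hst).φ_cases.2.2.2.2
      rw [hφw] at this
      exact this h
    exact ⟨hc1, (D.φ_ker _ h0D).1 (Mon.ext hA0 hB0 s0), (D.φ_ker _ h1D).1 (Mon.ext hA1 hB1 s1)⟩
  obtain ⟨D, hD⟩ := hy.atPt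
  obtain ⟨rfl, -, -⟩ := hD0 D hD
  exact ⟨rfl, X₀, X₁, hX₀Q, hX₁Q, hX₀v, hX₁v, hyX₀, hyX₁,
    fun s t => by simpa using orb s t, fun D hD => (hD0 D hD).2⟩

end Outer

/-- The standard position exists, in coordinates differing from the given ones by an element of
`SL(2,3) × SL(2,3)`. -/
theorem exists_std' (C : Cfg G) :
    ∃ (S : Std G) (m : Mon) (hm : m.s = false), S.toCfg = C.recoord m hm := by
  obtain ⟨g, hg, hgQ⟩ := C.nwc
  have hy₀ : C.Outer (g * C.z * g⁻¹) := ⟨⟨g, Or.inl rfl⟩, hg, hgQ⟩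
  obtain ⟨-, ha3, -, ha1, -⟩ := hy₀.φ_cases
  obtain ⟨B₀, c₀, hc₀, hB₀⟩ := upperU_class _ ha3 ha1
  -- a point normalised in the first plane
  obtain ⟨y, hy, hB⟩ : ∃ y, C.Outer y ∧ B₀ * (C.φ y).a * B₀⁻¹ = upperU := by
    have hk : ∀ k : K, k ≠ 0 → k = 1 ∨ k = 2 := by decide
    rcases hk c₀ hc₀ with rfl | rfl
    · exact ⟨_, hy₀, by rw [hB₀, ZMod.val_one, pow_one]⟩
    · refine ⟨_, hy₀.inv, ?_⟩
      rw [C.φ_inv hy₀.2.1, Mon.inv_def, hy₀.φ_cases.1]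
      show B₀ * (C.φ _).a⁻¹ * B₀⁻¹ = upperU
      rw [show B₀ * (C.φ (g * C.z * g⁻¹)).a⁻¹ * B₀⁻¹ = (B₀ * (C.φ (g * C.z * g⁻¹)).a * B₀⁻¹)⁻¹ by group,
        hB₀, upperU_inv]
      decide +kernel
  obtain ⟨hs, -, hb3, -, hb1⟩ := hy.φ_cases
  obtain ⟨B₁, c, hc, hB₁⟩ := upperU_class _ hb3 hb1
  set C' := C.recoord ⟨B₀, B₁, false⟩ rfl with hC'
  have hy' : C'.Outer y := hy
  have hφ : C'.φ y = ⟨upperU, upperU ^ c.val, false⟩ := by
    show (⟨B₀, B₁, false⟩ : Mon) * C.φ y * (⟨B₀, B₁, false⟩ : Mon)⁻¹ = _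
    rw [Mon.inv_def, Mon.mul_def, Mon.mul_def]
    simp [hs, hB, hB₁]
  obtain ⟨rfl, X₀, X₁, h₀, h₁, hv₀, hv₁, hy₀', hy₁', orb, hDQ⟩ := hy'.normal_form hc hφ
  rw [ZMod.val_one, pow_one] at hφ
  have cz : Commute C'.z y := hy'.2.1.symm
  have czX : Commute C'.z X₀⁻¹ := ((C'.Q_le _ h₀).symm).inv_right
  have czX' : Commute C'.z X₁⁻¹ := ((C'.Q_le _ h₁).symm).inv_right
  have cyX : Commute y X₀⁻¹ := hy₀'.inv_right
  have cyX' : Commute y X₁⁻¹ := hy₁'.inv_right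
  have cXX' : Commute X₀⁻¹ X₁⁻¹ := by
    refine (Commute.inv_inv ?_)
    exact (commute_iff_om h₀ h₁).2 (by rw [hv₀, hv₁]; simp [om, det2])
  set E : J4 → G := fun v =>
    C'.z ^ v.1.val * y ^ v.2.1.val * X₀⁻¹ ^ v.2.2.1.val * X₁⁻¹ ^ v.2.2.2.val with hE
  have hy3 : y ^ 3 = 1 := hy'.cube
  have hX3 : X₀⁻¹ ^ 3 = 1 := by rw [inv_pow, C'.cube _ h₀, inv_one]
  have hX3' : X₁⁻¹ ^ 3 = 1 := by rw [inv_pow, C'.cube _ h₁, inv_one]
  have hEadd : ∀ v w, E (v + w) = E v * E w := by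
    intro v w
    simp only [hE, Prod.fst_add, Prod.snd_add]
    rw [pow_val_add C'.z_pow, pow_val_add hy3, pow_val_add hX3, pow_val_add hX3']
    rw [mul_mul_mul_mul (((czX'.pow_pow _ _).mul_left (cyX'.pow_pow _ _)).mul_left (cXX'.pow_pow _ _)).symm,
      mul_mul_mul_mul ((czX.pow_pow _ _).mul_left (cyX.pow_pow _ _)).symm,
      mul_mul_mul_mul (cz.pow_pow _ _).symm]
  have hEneg : ∀ v, E (-v) = (E v)⁻¹ := fun v =>
    eq_inv_of_mul_eq_one_left (by rw [← hEadd, neg_add_cancel]; simp [hE])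
  -- the points with second coordinate one
  have hpos : ∀ a s t : K, C'.IsPt (E (a, 1, s, t)) ↔ a = -(s * s + t * t) := by
    have hform : ∀ a s t : K, E (a, 1, s, t) = C'.z ^ a.val * X₀ ^ (-s).val * X₁ ^ (-t).val * y := by
      intro a s t
      show C'.z ^ a.val * y ^ (1 : K).val * X₀⁻¹ ^ s.val * X₁⁻¹ ^ t.val = _
      rw [ZMod.val_one, pow_one, mul_assoc (C'.z ^ a.val) y, (cyX.pow_right _).eq, ← mul_assoc,
        mul_assoc _ y, (cyX'.pow_right _).eq, ← mul_assoc, pow_neg_val (C'.cube _ h₀),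
        pow_neg_val (C'.cube _ h₁)]
    intro a s t
    constructor
    · intro hp
      by_contra ha
      obtain ⟨q, hq, hqy⟩ := orb (-s) (-t)
      rw [show -s * -s + -t * -t = s * s + t * t by ring] at hqy
      set d := a + (s * s + t * t) with hd
      have hd0 : d ≠ 0 := fun h => ha (eq_neg_of_add_eq_zero_left h)
      have hsplit : E (a, 1, s, t) = C'.z ^ d.val * (q * y * q⁻¹) := by
        rw [hform, hqy, ← mul_assoc, ← mul_assoc, ← mul_assoc, C'.z_pow_add']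
        congr 4
        rw [hd]; ring_nf
      have hqz : Commute q (C'.z ^ d.val) := (C'.Q_le q hq).pow_right _
      have hline : C'.IsPt (C'.z ^ d.val * y) := by
        have h := hp.conj q⁻¹
        rw [hsplit, show q⁻¹ * (C'.z ^ d.val * (q * y * q⁻¹)) * q⁻¹⁻¹ =
          q⁻¹ * C'.z ^ d.val * q * y by group, hqz.inv_left.eq, inv_mul_cancel_right] at h
        exact h
      have hds : ∀ d : K, d ≠ 0 → ∃ s t : K, (s ≠ 0 ∨ t ≠ 0) ∧ d + -(s * s + t * t) = 0 := by decide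
      obtain ⟨s', t', hst, hdd⟩ := hds d hd0
      obtain ⟨q', hq', hqy'⟩ := orb s' t'
      have h := hline.conj q'
      rw [show q' * (C'.z ^ d.val * y) * q'⁻¹ = q' * C'.z ^ d.val * (y * q'⁻¹) by group,
        ((C'.Q_le q' hq').pow_right _).eq,
        show C'.z ^ d.val * q' * (y * q'⁻¹) = C'.z ^ d.val * (q' * y * q'⁻¹) by group, hqy',
        ← mul_assoc, ← mul_assoc, ← mul_assoc, C'.z_pow_add', hdd, ZMod.val_zero, pow_zero, one_mul] at h
      obtain ⟨D, hD⟩ := hy'.atPt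
      have h1 := ((hD.pts _).2 h).mem_zpowers
        (mul_mem (mul_mem (pow_mem (hDQ D hD).1 _) (pow_mem (hDQ D hD).2 _)) hD.y_mem)
      rw [hD.zp, Subgroup.mul_mem_cancel_right _ (Subgroup.mem_zpowers y)] at h1
      have h2 := hy'.eq_one_of_mem h1 (mul_mem (pow_mem h₀ _) (pow_mem h₁ _))
      have h3 := congrArg C'.vec h2
      rw [C'.vec_mul _ (pow_mem h₀ _) _ (pow_mem h₁ _), vec_pow_val h₀, vec_pow_val h₁, hv₀, hv₁,
        C'.vec_one] at h3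
      rcases hst with hs | ht
      · exact hs (by simpa using congrArg (fun v : V => v.1.1) h3)
      · exact ht (by simpa using congrArg (fun v : V => v.2.1) h3)
    · rintro rfl
      obtain ⟨q, -, hqy⟩ := orb (-s) (-t)
      rw [show -s * -s + -t * -t = s * s + t * t by ring] at hqy
      rw [hform, ← hqy]
      exact hy'.1.conj q
  have hpts : ∀ v : J4, C'.IsPt (E v) ↔ v ≠ 0 ∧ quad v = 0 := by
    rintro ⟨a, b, s, t⟩
    have hb : ∀ b : K, b = 0 ∨ b = 1 ∨ b = -1 := by decide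
    rcases hb b with rfl | rfl | rfl
    · have hEQ : E (a, 0, s, t) = C'.z ^ a.val * X₀⁻¹ ^ s.val * X₁⁻¹ ^ t.val := by simp [hE]
      have hmem : E (a, 0, s, t) ∈ C'.Q := by
        rw [hEQ]
        exact mul_mem (mul_mem (pow_mem C'.z_mem _) (pow_mem (inv_mem h₀) _)) (pow_mem (inv_mem h₁) _)
      constructor
      · intro hp
        have hv := (C'.vec_ker _ hmem).2 (hp.mem_zpowers hmem)
        rw [hEQ, C'.vec_mul _ (mul_mem (pow_mem C'.z_mem _) (pow_mem (inv_mem h₀) _)) _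
          (pow_mem (inv_mem h₁) _), C'.vec_mul _ (pow_mem C'.z_mem _) _ (pow_mem (inv_mem h₀) _),
          vec_pow C'.z_mem, C'.vec_z, smul_zero, zero_add, vec_pow_val (inv_mem h₀),
          vec_pow_val (inv_mem h₁), C'.vec_inv h₀, C'.vec_inv h₁, hv₀, hv₁] at hv
        have hs0 : s = 0 := by simpa using congrArg (fun v : V => v.1.1) hv
        have ht0 : t = 0 := by simpa using congrArg (fun v : V => v.2.1) hv
        subst hs0 ht0
        refine ⟨fun h => hp.ne_one ?_, by simp [quad]⟩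
        rw [h]
        simp [hE]
      · rintro ⟨hne, hq⟩
        obtain ⟨rfl, rfl⟩ : s = 0 ∧ t = 0 := by
          have : ∀ s t : K, s * s + t * t = 0 → s = 0 ∧ t = 0 := by decide
          exact this s t (by simpa [quad] using hq)
        have hab : ∀ a : K, a ≠ 0 → a = 1 ∨ a = -1 := by decide
        rcases hab a (fun h => hne (by rw [h]; rfl)) with rfl | rfl
        · rw [hEQ]; simpa [ZMod.val_one] using C'.isPt_z
        · rw [show ((-1 : K), (0 : K), (0 : K), (0 : K)) = -(1, 0, 0, 0) by decide, hEneg]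
          refine IsPt.inv ?_
          simpa [hE, ZMod.val_one] using C'.isPt_z
    · rw [hpos]
      have : ∀ a s t : K, a = -(s * s + t * t) ↔ ((a, (1 : K), s, t) : J4) ≠ 0 ∧ quad (a, 1, s, t) = 0 := by
        decide +kernel
      exact this a s t
    · have hneg : ((a, (-1 : K), s, t) : J4) = -(-a, 1, -s, -t) := by simp
      have key : C'.IsPt (E (a, -1, s, t)) ↔ C'.IsPt (E (-a, 1, -s, -t)) := by
        rw [hneg, hEneg]
        exact ⟨fun h => by simpa using h.inv, IsPt.inv⟩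
      rw [key, hpos]
      have : ∀ a s t : K, -a = -(-s * -s + -t * -t) ↔
          ((a, (-1 : K), s, t) : J4) ≠ 0 ∧ quad (a, -1, s, t) = 0 := by decide +kernel
      exact this a s t
  exact ⟨{ toCfg := C', y := y, X := X₀⁻¹, X' := X₁⁻¹, y_comm := hy'.2.1, y_cube := hy3, φ_y := hφ,
           X_mem := inv_mem h₀, X'_mem := inv_mem h₁,
           vec_X := by rw [C'.vec_inv h₀, hv₀]; simp,
           vec_X' := by rw [C'.vec_inv h₁, hv₁]; simp,
           y_X := cyX, y_X' := cyX', pts := hpts }, ⟨B₀, B₁, false⟩, rfl, rfl⟩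

/-- The standard position exists. -/
theorem exists_std (C : Cfg G) : ∃ S : Std G, S.z = C.z ∧ S.Q = C.Q := by
  obtain ⟨S, m, hm, hS⟩ := exists_std' C
  exact ⟨S, by rw [hS]; rfl, by rw [hS]; rfl⟩

end Cfg

namespace Std

variable {G : Type*} [Group G] (S : Std G)

theorem isPt_y : S.IsPt S.y := by
  rw [← S.jj_y]; exact (S.isPt_jj _).2 (by decide)

theorem outer_y : S.toCfg.Outer S.y := by
  refine ⟨S.isPt_y, S.y_comm, fun h => ?_⟩
  have h1 := S.φ_of_mem h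
  rw [S.φ_y] at h1
  exact absurd h1 (by decide +kernel)

theorem X_vecs : om ((1, 0), 0) (((1, 0), 0) : V) = 0 ∧
    ∀ v : V, om v ((1, 0), 0) = 0 → om v (0, (1, 0)) = 0 → v = ((v.1.1, 0), (v.2.1, 0)) := by
  decide +kernel

theorem act_X : ∀ k l : K, Mon.act ⟨upperU ^ k.val, upperU ^ l.val, false⟩ ((1, 0), 0) = ((1, 0), 0) ∧
    Mon.act ⟨upperU ^ k.val, upperU ^ l.val, false⟩ (0, (1, 0)) = (0, (1, 0)) := by decide +kernel

/-- A point of `C(z)` whose image commutes with the image of `y` acts as a power of the image of `y`. -/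
theorem φ_of_pt {x : G} (hx : S.toCfg.Outer x) (hc : S.φ x * S.φ S.y = S.φ S.y * S.φ x) :
    ∃ k : K, k ≠ 0 ∧ S.φ x = ⟨upperU ^ k.val, upperU ^ k.val, false⟩ := by
  obtain ⟨hs, ha3, hb3, ha1, hb1⟩ := hx.φ_cases
  rw [S.φ_y, Mon.mul_def, Mon.mul_def, hs] at hc
  simp only [cond_false, Mon.mk.injEq, and_true, Bool.xor_false] at hc
  obtain ⟨k, hk⟩ := upperU_comm _ ha3 hc.1
  obtain ⟨l, hl⟩ := upperU_comm _ hb3 hc.2
  have hφ : S.φ x = ⟨upperU ^ k.val, upperU ^ l.val, false⟩ := Mon.ext hk hl hs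
  have hk0 : k ≠ 0 := fun h => ha1 (by rw [hk, h, ZMod.val_zero, pow_zero])
  have hl0 : l ≠ 0 := fun h => hb1 (by rw [hl, h, ZMod.val_zero, pow_zero])
  have hkk : ∀ k : K, k ≠ 0 → k = 1 ∨ k = 2 := by decide
  refine ⟨k, hk0, ?_⟩
  rcases hkk k hk0 with rfl | rfl
  · rw [ZMod.val_one, pow_one] at hφ ⊢
    obtain ⟨rfl, -⟩ := hx.normal_form hl0 hφ
    rw [hφ, ZMod.val_one, pow_one]
  · have h2 : S.φ x⁻¹ = ⟨upperU, upperU ^ (-l).val, false⟩ := by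
      rw [S.φ_inv hx.2.1, hφ, Mon.inv_def]
      refine Mon.ext ?_ (upperU_inv l) rfl
      show (upperU ^ (2 : K).val)⁻¹ = upperU
      decide +kernel
    obtain ⟨hl2, -⟩ := hx.inv.normal_form (neg_ne_zero.2 hl0) h2
    rw [neg_eq_iff_eq_neg] at hl2
    rw [hφ, hl2, show (-1 : K) = 2 by decide]

/-- A point of `C(z)` whose image commutes with the image of `y` lies in `J`. -/
theorem mem_J_of_pt' {x : G} (hx : S.IsPt x) (hz : Commute x S.z) (hc : S.φ x * S.φ S.y = S.φ S.y * S.φ x) :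
    x ∈ S.J := by
  by_cases hQ : x ∈ S.Q
  · obtain ⟨k, rfl⟩ := Cfg.exists_pow_val (hx.mem_zpowers hQ)
    exact S.mem_J.2 ⟨(k, 0, 0, 0), by simp [jj]⟩
  have ho : S.toCfg.Outer x := ⟨hx, hz, hQ⟩
  obtain ⟨k, -, hφ⟩ := S.φ_of_pt ho hc
  have hxX : Commute S.X x := ho.commute_of_fixed S.X_mem (by rw [hφ, S.vec_X, (act_X k k).1])
  have hxX' : Commute S.X' x := ho.commute_of_fixed S.X'_mem (by rw [hφ, S.vec_X', (act_X k k).2])
  have hyk : Commute (S.y ^ k.val)⁻¹ S.z := (S.y_comm.pow_left _).inv_left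
  set q := x * (S.y ^ k.val)⁻¹ with hq
  have hqQ : q ∈ S.Q := by
    refine (S.φ_ker q (hz.mul_left hyk)).1 ?_
    rw [S.φ_mul _ _ hz hyk, S.φ_inv (S.y_comm.pow_left _), S.φ_pow_y, S.φ_y, hφ, Mon.pow_false rfl,
      mul_inv_cancel]
  have h1 : om (S.vec q) ((1, 0), 0) = 0 := by
    rw [← S.vec_X]
    exact (Cfg.commute_iff_om hqQ S.X_mem).1 (hxX.symm.mul_left (S.y_X.pow_left _).inv_left)
  have h2 : om (S.vec q) (0, (1, 0)) = 0 := by
    rw [← S.vec_X']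
    exact (Cfg.commute_iff_om hqQ S.X'_mem).1 (hxX'.symm.mul_left (S.y_X'.pow_left _).inv_left)
  have hv := X_vecs.2 _ h1 h2
  set a := (S.vec q).1.1
  set b := (S.vec q).2.1
  have hwQ : S.X ^ a.val * S.X' ^ b.val ∈ S.Q := mul_mem (pow_mem S.X_mem _) (pow_mem S.X'_mem _)
  have hw : S.vec (S.X ^ a.val * S.X' ^ b.val) = S.vec q := by
    rw [S.vec_mul _ (pow_mem S.X_mem _) _ (pow_mem S.X'_mem _), Cfg.vec_pow_val S.X_mem,
      Cfg.vec_pow_val S.X'_mem, S.vec_X, S.vec_X', hv]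
    simp
  obtain ⟨i, hi⟩ := Cfg.exists_pow_val ((S.vec_ker _ (mul_mem hqQ (inv_mem hwQ))).1 (by
    rw [S.vec_mul _ hqQ _ (inv_mem hwQ), S.vec_inv hwQ, hw, add_neg_cancel]))
  rw [mul_inv_eq_iff_eq_mul] at hi
  have hxq : x = q * S.y ^ k.val := by rw [hq, inv_mul_cancel_right]
  refine S.mem_J.2 ⟨(i, k, a, b), ?_⟩
  rw [hxq, hi]
  show S.z ^ i.val * S.y ^ k.val * S.X ^ a.val * S.X' ^ b.val =
    S.z ^ i.val * (S.X ^ a.val * S.X' ^ b.val) * S.y ^ k.val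
  rw [mul_assoc (S.z ^ i.val) (S.X ^ a.val * S.X' ^ b.val),
    ((S.y_X.pow_pow k.val a.val).mul_right (S.y_X'.pow_pow k.val b.val)).symm.eq]
  group

/-- A point commuting with `z` and `y` lies in `J`. -/
theorem mem_J_of_pt {x : G} (hx : S.IsPt x) (hz : Commute x S.z) (hy : Commute x S.y) : x ∈ S.J :=
  S.mem_J_of_pt' hx hz (by rw [← S.φ_mul _ _ hz S.y_comm, hy.eq, S.φ_mul _ _ S.y_comm hz])

end Std

end Cfsg.Agent.U62ThreeCent
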