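/-
The involution acting as `(-1, 1)` which centralises `z`, `y`, `X'`, and the centraliser of it in `C(z)`.

* `Std.exists_t`, `Std.exists_tInv` : the involution;
* `TInv.mem_QT`, `TInv.card_QT`, `TInv.jj_comm` : its centralisers in `Q` and in `J`;
* `TInv.D`, `TInv.equivQuat` : the quaternion group above the first plane and its properties;
* `TInv.s_false`, `TInv.exists_lift`, `TInv.exists_factor` : the structure of `C(z) ∩ C(t)`.
-/
import Cfsg.Agent.Lib.U62ThreeCent.Std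
import Cfsg.Agent.Lib.U62ThreeCent.Coord
import Cfsg.Agent.Lib.U62ThreeCent.Fusion

set_option autoImplicit false

namespace Cfsg.Agent.U62ThreeCent

open Cfsg.Agent.PSpThree

/-- The image of `t`. -/
def tm : Mon := ⟨negOne, 1, false⟩

theorem act_tm : ∀ v : V, Mon.act tm v = (-v.1, v.2) := by
  intro v
  have h1 : ∀ u : V2, act2 negOne u = -u := by decide
  have h2 : ∀ u : V2, act2 1 u = u := by decide
  simp [tm, Mon.act, h1, h2]

theorem tm_sq : tm * tm = 1 := by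
  have h : negOne * negOne = 1 := by decide +kernel
  simp [tm, Mon.mul_def, Mon.one_def, h]

theorem tm_pow_odd {n : ℕ} (h : n % 2 = 1) : tm ^ n = tm := by
  have h2 : tm ^ 2 = 1 := by rw [pow_two, tm_sq]
  rw [← Nat.div_add_mod n 2, h, pow_succ, pow_mul, h2, one_pow, one_mul]

theorem tm_comm_upper : tm * (⟨upperU, upperU, false⟩ : Mon) * tm⁻¹ = ⟨upperU, upperU, false⟩ := by
  have h : negOne * upperU * negOne⁻¹ = upperU := by decide +kernel
  simp [tm, Mon.mul_def, Mon.inv_def, h]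

theorem tm_ne_one : tm ≠ 1 := fun h => absurd (congrArg Mon.a h) (by
  show negOne ≠ 1
  decide +kernel)

theorem upperU_pow_eq : ∀ b : K, upperU ^ b.val = upperU → b = 1 := by decide +kernel

theorem y_offset : ∀ c : K, ((0, c), 0) + ((-act2 upperU (0, c)), -act2 upperU 0) = (((-c, 0), 0) : V) := by
  decide +kernel

theorem K_double : ∀ c : K, c + c = -c := by decide

theorem neg_add_self_eq : ∀ u : V2, u + u = 0 → u = 0 := by decide

theorem sl_two_power : ∀ a : SL23, a ^ 8 = 1 → a ^ 4 = 1 := by decide +kernel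

theorem sl_four_mul : ∀ a b : SL23, a ^ 4 = 1 → b ^ 4 = 1 → (a * b) ^ 4 = 1 := by decide +kernel

theorem sl_four_conj : ∀ a b : SL23, a ^ 4 = 1 → (b * a * b⁻¹) ^ 4 = 1 := by decide +kernel

theorem sl_four_nine : ∀ a : SL23, a ^ 4 = 1 → a ^ 9 = a := by decide +kernel

theorem sl_quat_upper : ∀ a : SL23, ∃ q : SL23, ∃ k : Fin 3, q ^ 4 = 1 ∧ a = q * upperU ^ (k : ℕ) := by
  decide +kernel

theorem sl_fix_eq_one : ∀ a : SL23, (∀ u : V2, act2 a u = u) → a = 1 := by decide +kernel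

/-- An element of order four. -/
def qA : SL23 := ⟨!![0, -1; 1, 0], by decide⟩

/-- Another one. -/
def qB : SL23 := ⟨!![1, 1; 1, -1], by decide⟩

/-- A quaternion group in `SL(2,3)`. -/
def quatMap : QuaternionGroup 2 → SL23
  | .a i => qA ^ i.val
  | .xa i => qB * qA ^ i.val

theorem quatMap_facts : (∀ x y, quatMap (x * y) = quatMap x * quatMap y) ∧
    (∀ x, quatMap x = 1 → x = 1) ∧ (∀ a : SL23, a ^ 4 = 1 → ∃ x, quatMap x = a) ∧
    ∀ x, quatMap x ^ 4 = 1 := by decide +kernel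

namespace Cfg

variable {G : Type*} [Group G] (C : Cfg G)

theorem φ_pow' {g : G} (hg : Commute g C.z) (n : ℕ) : C.φ (g ^ n) = C.φ g ^ n := by
  induction n with
  | zero => rw [pow_zero, pow_zero, C.φ_one]
  | succ n ih => rw [pow_succ, pow_succ, C.φ_mul _ _ (hg.pow_left n) hg, ih]

theorem φ_conj' {g h : G} (hg : Commute g C.z) (hh : Commute h C.z) :
    C.φ (g * h * g⁻¹) = C.φ g * C.φ h * (C.φ g)⁻¹ := by
  rw [C.φ_mul _ _ (hg.mul_left hh) hg.inv_left, C.φ_mul _ _ hg hh, C.φ_inv hg]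

theorem vec_pow' {q : G} (hq : q ∈ C.Q) (n : ℕ) : C.vec (q ^ n) = n • C.vec q := by
  induction n with
  | zero => rw [pow_zero, C.vec_one, zero_smul]
  | succ n ih => rw [pow_succ, C.vec_mul _ (pow_mem hq n) _ hq, ih, succ_nsmul]

theorem zpowers_le : Subgroup.zpowers C.z ≤ C.Q := Subgroup.zpowers_le.2 C.z_mem

/-- An element of 4-power torsion fixing an element of `Q` modulo the centre fixes it. -/
theorem commute_of_fix {g q : G} (hg : Commute g C.z) (hq : q ∈ C.Q) (h4 : g ^ 4 = 1)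
    (hv : C.vec (g * q * g⁻¹) = C.vec q) : Commute g q := by
  have hq' := C.conj_mem g hg q hq
  have hm : g * q * g⁻¹ * q⁻¹ ∈ Subgroup.zpowers C.z := by
    rw [← C.vec_ker _ (mul_mem hq' (inv_mem hq)), C.vec_mul _ hq' _ (inv_mem hq), C.vec_inv hq, hv,
      add_neg_cancel]
  obtain ⟨k, hk⟩ := Subgroup.mem_zpowers_iff.1 hm
  have hc : Commute g (C.z ^ k) := hg.zpow_right k
  have e : g * q * g⁻¹ = C.z ^ k * q := by rw [hk]; group
  have step : ∀ n : ℕ, g ^ n * q * (g ^ n)⁻¹ = (C.z ^ k) ^ n * q := by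
    intro n
    induction n with
    | zero => simp
    | succ n ih =>
      calc g ^ (n + 1) * q * (g ^ (n + 1))⁻¹ = g * (g ^ n * q * (g ^ n)⁻¹) * g⁻¹ := by
            rw [pow_succ']; group
        _ = (g * (C.z ^ k) ^ n) * q * g⁻¹ := by rw [ih]; group
        _ = (C.z ^ k) ^ n * (g * q * g⁻¹) := by rw [(hc.pow_right n).eq]; group
        _ = _ := by rw [e, ← mul_assoc, ← pow_succ]
  have h1 := step 4
  rw [h4] at h1
  simp at h1
  have h3 : (C.z ^ k) ^ 3 = 1 := C.cube _ (C.zpowers_le (zpow_mem (Subgroup.mem_zpowers _) k))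
  have h1' : (C.z ^ k) ^ 4 = 1 := h1
  rw [pow_succ, h3, one_mul] at h1'
  rw [h1', one_mul] at e
  exact mul_inv_eq_iff_eq_mul.1 e

theorem φ_eq_of_mul {g q : G} (hg : Commute g C.z) (hq : q ∈ C.Q) : C.φ (q * g) = C.φ g := by
  rw [C.φ_mul _ _ (C.Q_le q hq) hg, C.φ_of_mem hq, one_mul]

/-- An involution acting as `(-1, 1)` on top of `quat`. -/
theorem exists_tm [Finite G] : ∃ t : G, orderOf t = 2 ∧ Commute t C.z ∧ C.φ t = tm := by
  obtain ⟨h, hh, hφ⟩ := C.quat negOne 1 (by decide +kernel) (one_pow 4)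
  obtain ⟨e, r, hr, hord⟩ := Nat.exists_eq_two_pow_mul_odd (orderOf_pos h).ne'
  have hφt : C.φ (h ^ r) = tm := by
    rw [C.φ_pow' hh, hφ]; exact tm_pow_odd (Nat.odd_iff.1 hr)
  have htz : Commute (h ^ r) C.z := hh.pow_left r
  have h2Q : (h ^ r) ^ 2 ∈ C.Q := (C.φ_ker _ (htz.pow_left 2)).1 (by rw [C.φ_pow' htz, hφt, pow_two, tm_sq])
  have h3 : orderOf ((h ^ r) ^ 2) ∣ 3 := orderOf_dvd_of_pow_eq_one (C.cube _ h2Q)
  have h2 : orderOf ((h ^ r) ^ 2) ∣ 2 ^ e := orderOf_dvd_of_pow_eq_one (by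
    rw [← pow_mul, ← pow_mul]
    refine orderOf_dvd_iff_pow_eq_one.1 ⟨2, ?_⟩
    rw [hord]; ring)
  have hsq : (h ^ r) ^ 2 = 1 := orderOf_eq_one_iff.1 (Nat.eq_one_of_dvd_coprimes
    ((show Nat.Coprime 3 2 by norm_num).pow_right e) h3 h2)
  refine ⟨h ^ r, ?_, htz, hφt⟩
  refine orderOf_eq_prime hsq fun e1 => ?_
  rw [e1, C.φ_one] at hφt
  exact tm_ne_one hφt.symm

end Cfg

namespace Std

variable {G : Type*} [Group G] (S : Std G)

/-- Points in `C(z)` with the image of `y` are determined by their offset from `y`. -/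
theorem pt_eq
    {x : G} (hx : S.IsPt x) (hxz : Commute x S.z) (hφ : S.φ x = S.φ S.y) :
    ∃ c d : K, x = S.jj (-(c * c + d * d), 1, c, d) ∧ S.vec (x * S.y⁻¹) = ((c, 0), (d, 0)) := by
  obtain ⟨⟨a, b, c, d⟩, rfl⟩ := S.mem_J.1 (S.mem_J_of_pt' hx hxz (by rw [hφ]))
  have hb : b = 1 := by
    rw [S.φ_jj, S.φ_y, Mon.pow_false rfl] at hφ
    exact upperU_pow_eq b (congrArg Mon.a hφ)
  subst hb
  have hq := ((S.isPt_jj _).1 hx).2
  simp only [quad, mul_one] at hq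
  have ha : a = -(c * c + d * d) := by linear_combination hq
  subst ha
  refine ⟨c, d, rfl, ?_⟩
  set a := -(c * c + d * d) with ha
  have e : S.jj (a, 1, c, d) * S.y⁻¹ = S.jj (a, 0, c, d) := by
    rw [← S.jj_y, ← S.jj_neg, ← S.jj_add]
    congr 1
    ext <;> simp
  rw [e, jj]
  simp only [ZMod.val_zero, pow_zero, mul_one]
  rw [S.vec_mul _ (mul_mem (pow_mem S.z_mem _) (pow_mem S.X_mem _)) _ (pow_mem S.X'_mem _),
    S.vec_mul _ (pow_mem S.z_mem _) _ (pow_mem S.X_mem _), Cfg.vec_pow' _ S.z_mem, Cfg.vec_pow' _ S.X_mem,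
    Cfg.vec_pow' _ S.X'_mem, S.vec_z, S.vec_X, S.vec_X']
  ext <;> simp

/-- The properties of the involution. -/
structure TInv (t : G) : Prop where
  ord : orderOf t = 2
  comm_z : Commute t S.z
  comm_y : Commute t S.y
  comm_X' : Commute t S.X'
  conj_X : t * S.X * t⁻¹ = S.X⁻¹
  φ_t : S.φ t = tm

/-- The involution exists. -/
theorem exists_tInv [Finite G] :
    ∃ t : G, S.TInv t := by
  obtain ⟨t₀, ht, htz, hφt⟩ := Cfg.exists_tm S.toCfg
  have ht2 : t₀ * t₀ = 1 := by rw [← pow_two, ← ht, pow_orderOf_eq_one]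
  have hti : t₀⁻¹ = t₀ := inv_eq_of_mul_eq_one_right ht2
  have hy : S.IsPt S.y := S.jj_y ▸ (S.isPt_jj _).2 ⟨by decide, by decide⟩
  have hφc : ∀ x, Commute x S.z → S.φ x = S.φ S.y → S.φ (t₀ * x * t₀⁻¹) = S.φ S.y := fun x hxz hx => by
    rw [Cfg.φ_conj' _ htz hxz, hφt, hx, S.φ_y, tm_comm_upper]
  have hxQ : ∀ x, Commute x S.z → S.φ x = S.φ S.y → x * S.y⁻¹ ∈ S.Q := fun x hxz hx =>
    (S.φ_ker _ (hxz.mul_left S.y_comm.inv_left)).1 (by
      rw [S.φ_mul _ _ hxz S.y_comm.inv_left, hx, S.φ_inv S.y_comm, mul_inv_cancel])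
  have hx0z : Commute (t₀ * S.y * t₀⁻¹) S.z := (htz.mul_left S.y_comm).mul_left htz.inv_left
  obtain ⟨c, d, -, hw⟩ := S.pt_eq (hy.conj t₀) hx0z (hφc _ S.y_comm rfl)
  -- the offsets under `t₀`
  have hoff : ∀ x, Commute x S.z → S.φ x = S.φ S.y →
      S.vec (t₀ * x * t₀⁻¹ * S.y⁻¹) = (-(S.vec (x * S.y⁻¹)).1 + (c, 0), (S.vec (x * S.y⁻¹)).2 + (d, 0)) := by
    intro x hxz hx
    have hm := hxQ x hxz hx
    rw [show t₀ * x * t₀⁻¹ * S.y⁻¹ = (t₀ * (x * S.y⁻¹) * t₀⁻¹) * (t₀ * S.y * t₀⁻¹ * S.y⁻¹) by group,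
      S.vec_mul _ (S.conj_mem _ htz _ hm) _ (hxQ _ hx0z (hφc _ S.y_comm rfl)),
      S.vec_conj _ htz _ hm, hφt, act_tm, hw]
    rfl
  have hd : d = 0 := by
    have h := hoff _ hx0z (hφc _ S.y_comm rfl)
    rw [show t₀ * (t₀ * S.y * t₀⁻¹) * t₀⁻¹ = (t₀ * t₀) * S.y * (t₀ * t₀)⁻¹ by group, ht2, hw] at h
    simp [S.vec_one, Prod.ext_iff] at h
    exact (show ∀ e : K, 0 = e + e → e = 0 by decide) d h
  subst hd
  -- the fixed conjugate of `y`
  obtain ⟨q, hq, hvq⟩ := S.vec_surj ((0, c), 0)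
  have hqz := S.Q_le q hq
  have hx1z : Commute (q * S.y * q⁻¹) S.z := (hqz.mul_left S.y_comm).mul_left hqz.inv_left
  have hφ1 : S.φ (q * S.y * q⁻¹) = S.φ S.y := by
    rw [Cfg.φ_conj' _ hqz S.y_comm, S.φ_of_mem hq]; simp
  have hv1 : S.vec (q * S.y * q⁻¹ * S.y⁻¹) = ((-c, 0), 0) := by
    rw [show q * S.y * q⁻¹ * S.y⁻¹ = q * (S.y * q⁻¹ * S.y⁻¹) by group,
      S.vec_mul _ hq _ (S.conj_mem _ S.y_comm _ (inv_mem hq)), S.vec_conj _ S.y_comm _ (inv_mem hq),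
      S.φ_y, S.vec_inv hq, hvq, Mon.act_false rfl]
    refine Eq.trans ?_ (y_offset c)
    congr 1
    ext <;> simp [act2] <;> ring
  have hfix : t₀ * (q * S.y * q⁻¹) * t₀⁻¹ = q * S.y * q⁻¹ := by
    obtain ⟨c1, d1, e1, w1⟩ := S.pt_eq ((hy.conj q).conj t₀)
      ((htz.mul_left hx1z).mul_left htz.inv_left) (hφc _ hx1z hφ1)
    obtain ⟨c2, d2, e2, w2⟩ := S.pt_eq (hy.conj q) hx1z hφ1
    rw [hoff _ hx1z hφ1, hv1] at w1
    rw [hv1] at w2
    simp [Prod.ext_iff] at w1 w2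
    rw [e1, e2, ← w1.1, ← w1.2, ← w2.1, ← w2.2, K_double c]
  set t := q⁻¹ * t₀ * q with ht'
  have htt : t * t = 1 := by
    rw [ht', show q⁻¹ * t₀ * q * (q⁻¹ * t₀ * q) = q⁻¹ * (t₀ * t₀) * q by group, ht2]; group
  have htz' : Commute t S.z := (hqz.inv_left.mul_left htz).mul_left hqz
  have hφ : S.φ t = tm := by
    rw [ht', S.φ_mul _ _ (hqz.inv_left.mul_left htz) hqz, S.φ_mul _ _ hqz.inv_left htz,
      S.φ_of_mem (inv_mem hq), S.φ_of_mem hq, one_mul, mul_one, hφt]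
  have hord : orderOf t = 2 := orderOf_eq_prime (by rw [pow_two, htt]) fun e1 => by
    rw [e1, S.φ_one] at hφ
    exact tm_ne_one hφ.symm
  have hty : Commute t S.y := by
    show t * S.y = S.y * t
    have h := mul_inv_eq_iff_eq_mul.1 hfix
    calc t * S.y = q⁻¹ * (t₀ * (q * S.y * q⁻¹)) * q := by rw [ht']; group
      _ = q⁻¹ * (q * S.y * q⁻¹ * t₀) * q := by rw [h]
      _ = _ := by rw [ht']; group
  have ht4 : t ^ 4 = 1 := by rw [show (4 : ℕ) = 2 * 2 from rfl, pow_mul, pow_two t, htt, one_pow]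
  have hX' : Commute t S.X' := Cfg.commute_of_fix _ htz' S.X'_mem ht4 (by
    rw [S.vec_conj _ htz' _ S.X'_mem, hφ, act_tm, S.vec_X']; simp)
  refine ⟨t, hord, htz', hty, hX', ?_, hφ⟩
  have hX : S.vec (t * S.X * t⁻¹ * S.X) = 0 := by
    rw [S.vec_mul _ (S.conj_mem _ htz' _ S.X_mem) _ S.X_mem, S.vec_conj _ htz' _ S.X_mem, hφ, act_tm,
      S.vec_X]
    decide
  obtain ⟨k, hk⟩ := Subgroup.mem_zpowers_iff.1
    ((S.vec_ker _ (mul_mem (S.conj_mem _ htz' _ S.X_mem) S.X_mem)).1 hX)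
  have hk' : S.z ^ k = S.z ^ (k : K).val := by
    rw [← zpow_natCast, zpow_eq_zpow_iff_modEq, S.z_ord, ← ZMod.intCast_eq_intCast_iff]
    simp
  rw [hk'] at hk
  generalize (k : K) = a at hk
  have hp : S.IsPt (S.jj (-1, 1, 1, 0)) := (S.isPt_jj _).2 ⟨by decide, by decide⟩
  have hp' := hp.conj t
  have e : t * S.jj (-1, 1, 1, 0) * t⁻¹ = S.jj (-1 + a, 1, -1, 0) := by
    have eX : t * S.X * t⁻¹ = S.jj (a, 0, -1, 0) := by
      rw [show t * S.X * t⁻¹ = S.jj (a, 0, 0, 0) * (S.jj (0, 0, 1, 0))⁻¹ by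
        rw [S.jj_X, show S.jj (a, 0, 0, 0) = S.z ^ a.val by simp [jj], hk]; group]
      rw [← S.jj_neg, ← S.jj_add]; congr 1; ext <;> simp
    have ez : t * S.jj (-1, 0, 0, 0) * t⁻¹ = S.jj (-1, 0, 0, 0) := by
      have : Commute t (S.jj (-1, 0, 0, 0)) := by
        simp [jj]; exact htz'.pow_right _
      rw [this.eq, mul_inv_cancel_right]
    have ey : t * S.jj (0, 1, 0, 0) * t⁻¹ = S.jj (0, 1, 0, 0) := by
      rw [S.jj_y, hty.eq, mul_inv_cancel_right]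
    rw [show ((-1, 1, 1, 0) : J4) = (-1, 0, 0, 0) + (0, 1, 0, 0) + (0, 0, 1, 0) by decide, S.jj_add, S.jj_add,
      show t * (S.jj (-1, 0, 0, 0) * S.jj (0, 1, 0, 0) * S.jj (0, 0, 1, 0)) * t⁻¹ =
        (t * S.jj (-1, 0, 0, 0) * t⁻¹) * (t * S.jj (0, 1, 0, 0) * t⁻¹) * (t * S.jj (0, 0, 1, 0) * t⁻¹) by group,
      ez, ey, S.jj_X, eX, ← S.jj_add, ← S.jj_add]
    simp
  rw [e] at hp'
  have hq' := ((S.isPt_jj _).1 hp').2
  simp [quad] at hq'
  have ha : a = 0 := hq'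
  rw [ha, ZMod.val_zero, pow_zero] at hk
  exact mul_eq_one_iff_eq_inv.1 hk.symm

/-- The involution, spelled out. -/
theorem exists_t [Finite G] :
    ∃ t : G, orderOf t = 2 ∧ Commute t S.z ∧ Commute t S.y ∧ Commute t S.X' ∧
      t * S.X * t⁻¹ = S.X⁻¹ ∧ S.φ t = ⟨negOne, 1, false⟩ :=
  S.exists_tInv.imp fun _ h => ⟨h.ord, h.comm_z, h.comm_y, h.comm_X', h.conj_X, h.φ_t⟩

namespace TInv

variable {S} {t : G} (T : S.TInv t)

include T

theorem sq : t * t = 1 := by rw [← pow_two, ← T.ord, pow_orderOf_eq_one]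

theorem inv_eq : t⁻¹ = t := inv_eq_of_mul_eq_one_right T.sq

theorem pow_four : t ^ 4 = 1 := by rw [show (4 : ℕ) = 2 * 2 from rfl, pow_mul, pow_two t, T.sq, one_pow]

theorem vec_conj_t {q : G} (hq : q ∈ S.Q) : S.vec (t * q * t⁻¹) = (-(S.vec q).1, (S.vec q).2) := by
  rw [S.vec_conj _ T.comm_z _ hq, T.φ_t, act_tm]

/-- `C_Q(t)` is the preimage of the second plane. -/
theorem mem_QT {q : G} (hq : q ∈ S.Q) : Commute q t ↔ (S.vec q).1 = 0 := by
  refine ⟨fun h => ?_, fun h => ?_⟩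
  · have e := T.vec_conj_t hq
    rw [h.symm.eq, mul_inv_cancel_right] at e
    exact neg_eq_self' _ (congrArg Prod.fst e).symm
  · exact (Cfg.commute_of_fix _ T.comm_z hq T.pow_four (by
      rw [T.vec_conj_t hq, h, neg_zero]; exact Prod.ext h.symm rfl)).symm

omit T in
/-- The centraliser of `t` in `Q`. -/
def QT (S : Std G) (t : G) : Subgroup G := S.Q ⊓ Subgroup.centralizer {t}

omit T in
theorem mem_QT_iff {q : G} : q ∈ QT S t ↔ q ∈ S.Q ∧ Commute q t := by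
  rw [QT, Subgroup.mem_inf, Subgroup.mem_centralizer_singleton_iff]
  exact and_congr_right fun _ => ⟨fun h => h, fun h => h⟩

theorem card_QT : Nat.card (QT S t) = 27 := by
  have hm : ∀ q : QT S t, (q : G) ∈ S.Q := fun q => (mem_QT_iff.1 q.2).1
  let f : QT S t →* Multiplicative V2 := MonoidHom.mk' (fun q => Multiplicative.ofAdd (S.vec q).2)
    fun a b => by rw [Subgroup.coe_mul, S.vec_mul _ (hm a) _ (hm b), Prod.snd_add, ofAdd_add]
  have hs : Function.Surjective f := fun v => by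
    obtain ⟨q, hq, hv⟩ := S.vec_surj (0, v.toAdd)
    exact ⟨⟨q, mem_QT_iff.2 ⟨hq, (T.mem_QT hq).2 (by rw [hv])⟩⟩, congrArg (fun w : V => Multiplicative.ofAdd w.2) hv⟩
  have hzq : Subgroup.zpowers S.z ≤ QT S t := Subgroup.zpowers_le.2 (mem_QT_iff.2 ⟨S.z_mem, T.comm_z.symm⟩)
  have hk : f.ker = (Subgroup.zpowers S.z).subgroupOf (QT S t) := by
    ext q
    rw [Subgroup.mem_subgroupOf, ← S.vec_ker _ (hm q)]
    show Multiplicative.ofAdd (S.vec (q : G)).2 = 1 ↔ _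
    rw [ofAdd_eq_one]
    exact ⟨fun h => Prod.ext ((T.mem_QT (hm q)).1 (mem_QT_iff.1 q.2).2) h, fun h => congrArg Prod.snd h⟩
  rw [← Subgroup.card_mul_index f.ker, Subgroup.index_ker, MonoidHom.range_eq_top.2 hs,
    Subgroup.card_top, hk, Nat.card_congr (Subgroup.subgroupOfEquivOfLe hzq).toEquiv, Nat.card_zpowers,
    S.z_ord]
  simp

/-- The action of `t` on `J`. -/
theorem conj_jj (v : J4) : t * S.jj v * t⁻¹ = S.jj (v.1, v.2.1, -v.2.2.1, v.2.2.2) := by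
  have hc : ∀ {a : G}, Commute t a → ∀ k : ℕ, t * a ^ k * t⁻¹ = a ^ k := fun h k => by
    rw [(h.pow_right k).eq, mul_inv_cancel_right]
  have hX : t * S.X ^ v.2.2.1.val * t⁻¹ = S.X ^ (-v.2.2.1).val := by
    rw [← conj_pow, T.conj_X, inv_pow]
    refine inv_eq_of_mul_eq_one_right ?_
    rw [← pow_val_add (S.cube _ S.X_mem), add_neg_cancel, ZMod.val_zero, pow_zero]
  simp only [jj]
  rw [show t * (S.z ^ v.1.val * S.y ^ v.2.1.val * S.X ^ v.2.2.1.val * S.X' ^ v.2.2.2.val) * t⁻¹ =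
    (t * S.z ^ v.1.val * t⁻¹) * (t * S.y ^ v.2.1.val * t⁻¹) * (t * S.X ^ v.2.2.1.val * t⁻¹) *
      (t * S.X' ^ v.2.2.2.val * t⁻¹) by group, hc T.comm_z, hc T.comm_y, hX, hc T.comm_X']

/-- `C_J(t) = ⟨z, y, X'⟩`. -/
theorem jj_comm (v : J4) : Commute (S.jj v) t ↔ v.2.2.1 = 0 := by
  refine ⟨fun h => ?_, fun h => ?_⟩
  · have e := T.conj_jj v
    rw [h.symm.eq, mul_inv_cancel_right] at e
    exact neg_eq_self _ (congrArg (fun w : J4 => w.2.2.1) (S.jj_inj e)).symm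
  · refine (mul_inv_eq_iff_eq_mul.1 ((T.conj_jj v).trans ?_)).symm
    obtain ⟨a, b, c, d⟩ := v
    obtain rfl : c = 0 := h
    rw [neg_zero]

/-- No exchange in `C(z) ∩ C(t)`. -/
theorem s_false {h : G} (hz : Commute h S.z) (ht : Commute h t) : (S.φ h).s = false := by
  have e : S.φ h * tm = tm * S.φ h := by
    rw [← T.φ_t, ← S.φ_mul _ _ hz T.comm_z, ← S.φ_mul _ _ T.comm_z hz, ht.eq]
  rcases hs : (S.φ h).s with _ | _
  · rfl
  · exfalso
    have e' := congrArg Mon.a e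
    simp [tm, Mon.mul_def, hs] at e'
    exact absurd e' (by decide +kernel)

/-- Everything commuting with the image of `t` lifts into `C(t)`. -/
theorem exists_mem {g : G} (hg : Commute g S.z) (hc : S.φ g * tm = tm * S.φ g) :
    ∃ h, Commute h S.z ∧ Commute h t ∧ S.φ h = S.φ g := by
  have hgt : Commute (g * t * g⁻¹) S.z := (hg.mul_left T.comm_z).mul_left hg.inv_left
  have hqm : t * (g * t * g⁻¹) ∈ S.Q := (S.φ_ker _ (T.comm_z.mul_left hgt)).1 (by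
    rw [S.φ_mul _ _ T.comm_z hgt, Cfg.φ_conj' _ hg T.comm_z, T.φ_t, hc, mul_inv_cancel_right, tm_sq])
  set q := t * (g * t * g⁻¹) with hq
  have hgt' : g * t * g⁻¹ = t * q := by rw [hq, ← mul_assoc, T.sq, one_mul]
  have htq : t * q * (t * q) = 1 := by
    rw [← hgt', show g * t * g⁻¹ * (g * t * g⁻¹) = g * (t * t) * g⁻¹ by group, T.sq]; group
  have hqq : t * q * t = q⁻¹ := eq_inv_of_mul_eq_one_left (by rw [← htq]; group)
  have hq3 : q ^ 3 = 1 := S.cube q hqm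
  have hconj : q * t * q⁻¹ = t * q := by
    have h2 : q⁻¹ * q⁻¹ = q := by
      calc q⁻¹ * q⁻¹ = (q ^ 3)⁻¹ * q := by group
        _ = q := by rw [hq3, inv_one, one_mul]
    calc q * t * q⁻¹ = t * (t * q * t) * q⁻¹ := by
          rw [show t * (t * q * t) = t * t * q * t by group, T.sq, one_mul]
      _ = t * q := by rw [hqq, mul_assoc, h2]
  have hqz := S.Q_le q hqm
  refine ⟨q⁻¹ * g, hqz.inv_left.mul_left hg, ?_, Cfg.φ_eq_of_mul _ hg (inv_mem hqm)⟩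
  show q⁻¹ * g * t = t * (q⁻¹ * g)
  calc q⁻¹ * g * t = q⁻¹ * (g * t * g⁻¹) * g := by group
    _ = q⁻¹ * (q * t * q⁻¹) * g := by rw [hgt', hconj]
    _ = _ := by group

/-- Lifts of order dividing four. -/
theorem exists_lift {a b : SL23} (ha : a ^ 4 = 1) (hb : b ^ 4 = 1) :
    ∃ h, Commute h S.z ∧ Commute h t ∧ h ^ 4 = 1 ∧ S.φ h = ⟨a, b, false⟩ := by
  obtain ⟨g, hg, hφ⟩ := S.quat a b ha hb
  have hcen : ∀ c : SL23, c * negOne = negOne * c := by decide +kernel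
  obtain ⟨h, hz, ht, hh⟩ := T.exists_mem hg (by rw [hφ, tm]; simp [Mon.mul_def, hcen])
  rw [hφ] at hh
  have h4 : h ^ 4 ∈ S.Q := (S.φ_ker _ (hz.pow_left 4)).1 (by
    rw [Cfg.φ_pow' _ hz, hh, Mon.pow_false rfl, ha, hb]; rfl)
  refine ⟨h ^ 9, hz.pow_left 9, ht.pow_left 9, ?_, ?_⟩
  · rw [← pow_mul, show 9 * 4 = 4 * 3 * 3 from rfl, pow_mul, pow_mul, S.cube _ h4, one_pow]
  · rw [Cfg.φ_pow' _ hz, hh, Mon.pow_false rfl]
    simp [sl_four_nine a ha, sl_four_nine b hb]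

omit T in
/-- The preimage of `Q8 × 1` centralising `C_Q(t)`. -/
def D0 (S : Std G) (t : G) : Subgroup G where
  carrier := {g | Commute g S.z ∧ Commute g t ∧ (S.φ g).s = false ∧ (S.φ g).b = 1 ∧ (S.φ g).a ^ 4 = 1 ∧
    ∀ q ∈ QT S t, Commute g q}
  one_mem' := by simp [S.φ_one, Mon.one_def]
  mul_mem' := by
    rintro g h ⟨g1, g2, g3, g4, g5, g6⟩ ⟨h1, h2, h3, h4, h5, h6⟩
    refine ⟨g1.mul_left h1, g2.mul_left h2, ?_, ?_, ?_, fun q hq => (g6 q hq).mul_left (h6 q hq)⟩ <;>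
      rw [S.φ_mul _ _ g1 h1]
    · simp [Mon.mul_def, g3, h3]
    · simp [Mon.mul_def, g3, g4, h4]
    · simp only [Mon.mul_def, g3, cond_false]
      exact sl_four_mul _ _ g5 h5
  inv_mem' := by
    rintro g ⟨g1, g2, g3, g4, g5, g6⟩
    refine ⟨g1.inv_left, g2.inv_left, ?_, ?_, ?_, fun q hq => (g6 q hq).inv_left⟩ <;> rw [S.φ_inv g1]
    · simp [Mon.inv_def, g3]
    · simp [Mon.inv_def, g3, g4]
    · simp [Mon.inv_def, g3, inv_pow, g5]

theorem mem_zpowers_of_ker {g : G} (hg : g ∈ D0 S t) (ha : (S.φ g).a = 1) : g ∈ Subgroup.zpowers S.z := by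
  obtain ⟨g1, g2, g3, g4, -, g6⟩ := hg
  have hQ : g ∈ S.Q := (S.φ_ker g g1).1 (Mon.ext ha g4 g3)
  rw [← S.vec_ker g hQ]
  refine Prod.ext ((T.mem_QT hQ).1 g2) ?_
  have key : ∀ u : V2, om (S.vec g) (0, u) = 0 := fun u => by
    obtain ⟨q, hq, hv⟩ := S.vec_surj (0, u)
    have hc := g6 q (mem_QT_iff.2 ⟨hq, (T.mem_QT hq).2 (by rw [hv])⟩)
    have e := S.comm g hQ q hq
    rw [hc.eq, mul_inv_cancel_right, mul_inv_cancel, hv] at e
    have h := orderOf_dvd_of_pow_eq_one e.symm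
    rw [S.z_ord] at h
    exact (ZMod.val_eq_zero _).1 (Nat.eq_zero_of_dvd_of_lt h (ZMod.val_lt _))
  have h1 := key (1, 0)
  have h2 := key (0, 1)
  simp [om, det2] at h1 h2
  exact Prod.ext h2 h1

/-- Every element of `D0` is a lift of order dividing four times a power of `z`. -/
theorem exists_D0_factor {a : SL23} (ha : a ^ 4 = 1) :
    ∃ d, d ∈ D0 S t ∧ d ^ 4 = 1 ∧ S.φ d = ⟨a, 1, false⟩ := by
  obtain ⟨d, hz, ht, h4, hφ⟩ := T.exists_lift ha (one_pow 4)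
  refine ⟨d, ⟨hz, ht, by rw [hφ], by rw [hφ], by rw [hφ]; exact ha, fun q hq => ?_⟩, h4, hφ⟩
  obtain ⟨hqQ, hqt⟩ := mem_QT_iff.1 hq
  refine Cfg.commute_of_fix _ hz hqQ h4 ?_
  have h1 : ∀ u : V2, act2 1 u = u := by decide
  have h0 : ∀ A : SL23, act2 A 0 = 0 := fun A => by simp [act2]
  rw [S.vec_conj _ hz _ hqQ, hφ]
  refine Prod.ext ?_ (by simp [Mon.act, h1])
  simp [Mon.act, (T.mem_QT hqQ).1 hqt, h0]

theorem four_eq [Finite G] {g : G} (hg : g ∈ D0 S t) {h : G} (hh : h ∈ D0 S t) (g4 : g ^ 4 = 1)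
    (h4 : h ^ 4 = 1) : (g * h) ^ 4 = 1 := by
  classical
  have : Fact (Nat.Prime 2) := ⟨Nat.prime_two⟩
  let f : D0 S t →* SL23 := MonoidHom.mk' (fun x => (S.φ x).a) fun x y => by
    show (S.φ ((x : G) * y)).a = _
    rw [S.φ_mul _ _ x.2.1 y.2.1]; simp [Mon.mul_def, x.2.2.2.1]
  have hcen : ∀ x : D0 S t, ∀ k : f.ker, (x : G) * ((k : D0 S t) : G) = ((k : D0 S t) : G) * x := fun x k => by
    obtain ⟨n, hn⟩ := Subgroup.mem_zpowers_iff.1 (T.mem_zpowers_of_ker (k : D0 S t).2 k.2)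
    rw [← hn]
    exact (x.2.1.zpow_right n).eq
  obtain ⟨P⟩ : Nonempty (Sylow 2 (D0 S t)) := inferInstance
  have hPn : (P : Subgroup (D0 S t)).Normal := by
    refine ⟨fun p hp x => ?_⟩
    have hidx : ∃ s ∈ (P : Subgroup (D0 S t)), f s = f x := by
      have hkc : Nat.card f.ker ∣ 3 := by
        have hle : f.ker.map (D0 S t).subtype ≤ Subgroup.zpowers S.z := by
          rintro _ ⟨k, hk, rfl⟩
          exact T.mem_zpowers_of_ker k.2 hk
        have := Subgroup.card_dvd_of_le hle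
        rwa [Subgroup.card_map_of_injective Subtype.val_injective, Nat.card_zpowers, S.z_ord] at this
      have hidx2 : Nat.Coprime (Nat.card f.ker) 2 := Nat.Coprime.coprime_dvd_left hkc (by norm_num)
      have hr : Nat.card f.range ∣ 8 := by
        let T4 : Subgroup SL23 :=
          { carrier := {a | a ^ 4 = 1}
            one_mem' := one_pow 4
            mul_mem' := fun {a b} ha hb => sl_four_mul a b ha hb
            inv_mem' := fun {a} ha => by show a⁻¹ ^ 4 = 1; rw [inv_pow, show a ^ 4 = 1 from ha, inv_one] }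
        have hT : Nat.card T4 = 8 := by
          show Nat.card {a : SL23 // a ^ 4 = 1} = 8
          rw [Nat.card_eq_fintype_card]; decide +kernel
        rw [← hT]
        exact Subgroup.card_dvd_of_le (by rintro _ ⟨y, rfl⟩; exact y.2.2.2.2.2.1)
      obtain ⟨m, hm, hm8⟩ := (Nat.dvd_prime_pow Nat.prime_two).1 (show Nat.card f.range ∣ 2 ^ 3 from hr)
      have hP : Nat.card (P : Subgroup (D0 S t)) = Nat.card f.range := by
        rw [Sylow.card_eq_multiplicity, ← Subgroup.card_mul_index f.ker, Subgroup.index_ker, hm8,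
          Nat.factorization_mul Nat.card_pos.ne' (by positivity), Finsupp.add_apply,
          Nat.factorization_eq_zero_of_not_dvd (fun h2 => by
            have := Nat.eq_one_of_dvd_coprimes hidx2 h2 dvd_rfl
            omega),
          zero_add, Nat.Prime.factorization_pow Nat.prime_two, Finsupp.single_eq_same]
      have hinj : Function.Injective (f.comp (P : Subgroup (D0 S t)).subtype) := by
        rw [injective_iff_map_eq_one]
        intro s hs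
        have h1 : orderOf (s : D0 S t) ∣ Nat.card f.ker := Subgroup.orderOf_dvd_natCard f.ker hs
        have h2 : orderOf (s : D0 S t) ∣ Nat.card f.range := hP ▸ Subgroup.orderOf_dvd_natCard _ s.2
        rw [hm8] at h2
        exact Subtype.ext (orderOf_eq_one_iff.1 (Nat.eq_one_of_dvd_coprimes (hidx2.pow_right m) h1 h2))
      have hrange : (f.comp (P : Subgroup (D0 S t)).subtype).range = f.range := by
        refine Subgroup.eq_of_le_of_card_ge (by rintro _ ⟨s, rfl⟩; exact ⟨_, rfl⟩) ?_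
        rw [← Nat.card_congr (MonoidHom.ofInjective hinj).toEquiv, hP]
      obtain ⟨s, hs⟩ := hrange.ge ⟨x, rfl⟩
      exact ⟨s, s.2, hs⟩
    obtain ⟨s, hs, hfs⟩ := hidx
    have hk : s⁻¹ * x ∈ f.ker := by rw [MonoidHom.mem_ker, map_mul, map_inv, hfs, inv_mul_cancel]
    have hkp : s⁻¹ * x * p = p * (s⁻¹ * x) := Subtype.ext (hcen p ⟨_, hk⟩).symm
    have hxp : x * p * x⁻¹ = s * p * s⁻¹ := by
      calc x * p * x⁻¹ = s * (s⁻¹ * x * p) * x⁻¹ := by group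
        _ = _ := by rw [hkp]; group
    rw [hxp]
    exact mul_mem (mul_mem hs hp) (inv_mem hs)
  have hmemP : ∀ x : D0 S t, x ^ 4 = 1 → x ∈ (P : Subgroup (D0 S t)) := fun x hx => by
    have hpg : IsPGroup 2 (Subgroup.zpowers x) := by
      obtain ⟨k, -, hk⟩ := (Nat.dvd_prime_pow Nat.prime_two).1
        (show orderOf x ∣ 2 ^ 2 from orderOf_dvd_of_pow_eq_one hx)
      exact IsPGroup.of_card (n := k) (by rw [Nat.card_zpowers, hk])
    obtain ⟨R, hR⟩ := hpg.exists_le_sylow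
    have : Unique (Sylow 2 (D0 S t)) := Sylow.unique_of_normal P hPn
    rw [Subsingleton.elim P R]
    exact hR (Subgroup.mem_zpowers x)
  have hgh := mul_mem (hmemP ⟨g, hg⟩ (Subtype.ext g4)) (hmemP ⟨h, hh⟩ (Subtype.ext h4))
  obtain ⟨k, hk⟩ := P.2 ⟨_, hgh⟩
  have hk' : (g * h) ^ 2 ^ k = 1 := congrArg (fun u : (P : Subgroup (D0 S t)) => ((u : D0 S t) : G)) hk
  have h12 : (g * h) ^ 12 = 1 := by
    have hm := mul_mem hg hh
    have h4a : (S.φ ((g * h) ^ 4)).a = 1 := by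
      rw [Cfg.φ_pow' _ hm.1, Mon.pow_false hm.2.2.1]
      exact hm.2.2.2.2.1
    rw [show 12 = 4 * 3 from rfl, pow_mul]
    exact S.cube _ (S.toCfg.zpowers_le (T.mem_zpowers_of_ker (pow_mem hm 4) h4a))
  have hd := Nat.dvd_gcd (orderOf_dvd_of_pow_eq_one hk') (orderOf_dvd_of_pow_eq_one h12)
  refine orderOf_dvd_iff_pow_eq_one.1 (hd.trans ?_)
  obtain ⟨j, hj, he⟩ := (Nat.dvd_prime_pow Nat.prime_two).1 (Nat.gcd_dvd_left (2 ^ k) 12)
  have h2 : 2 ^ j ∣ 12 := he ▸ Nat.gcd_dvd_right _ _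
  rw [he, show (4 : ℕ) = 2 ^ 2 from rfl]
  refine pow_dvd_pow 2 ?_
  by_contra hlt
  exact absurd ((pow_dvd_pow 2 (show 3 ≤ j by omega)).trans h2) (by norm_num)

omit T in
/-- The quaternion group above the first plane. -/
def D [Finite G] (T : S.TInv t) : Subgroup G where
  carrier := {g | g ∈ D0 S t ∧ g ^ 4 = 1}
  one_mem' := ⟨one_mem _, one_pow 4⟩
  mul_mem' := fun {g h} hg hh => ⟨mul_mem hg.1 hh.1, T.four_eq hg.1 hh.1 hg.2 hh.2⟩
  inv_mem' := fun {g} hg => ⟨inv_mem hg.1, by rw [inv_pow, hg.2, inv_one]⟩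

variable [Finite G]

omit T in
theorem mem_D (T : S.TInv t) {g : G} : g ∈ T.D ↔ g ∈ D0 S t ∧ g ^ 4 = 1 := Iff.rfl

theorem eq_one_of_a {g : G} (hg : g ∈ T.D) (ha : (S.φ g).a = 1) : g = 1 := by
  have h3 := S.cube _ (S.toCfg.zpowers_le (T.mem_zpowers_of_ker hg.1 ha))
  have h4 := hg.2
  rw [pow_succ, h3, one_mul] at h4
  exact h4

theorem t_mem : t ∈ T.D := by
  refine ⟨⟨T.comm_z, Commute.refl t, by rw [T.φ_t]; rfl, by rw [T.φ_t]; rfl, by rw [T.φ_t]; show negOne ^ 4 = 1; decide +kernel,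
    fun q hq => (mem_QT_iff.1 hq).2.symm⟩, T.pow_four⟩

/-- `D` is a quaternion group. -/
theorem equivQuat : Nonempty (T.D ≃* QuaternionGroup 2) := by
  obtain ⟨hmul, hinj, hsurj, h4⟩ := quatMap_facts
  let q : QuaternionGroup 2 →* SL23 := MonoidHom.mk' quatMap hmul
  let f : T.D →* SL23 := MonoidHom.mk' (fun x => (S.φ x).a) fun x y => by
    show (S.φ ((x : G) * y)).a = _
    rw [S.φ_mul _ _ x.2.1.1 y.2.1.1]; simp [Mon.mul_def, x.2.1.2.2.1]
  have hf : Function.Injective f := (injective_iff_map_eq_one f).2 fun x hx =>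
    Subtype.ext (T.eq_one_of_a x.2 hx)
  have hq : Function.Injective q := (injective_iff_map_eq_one q).2 hinj
  have hr : f.range = q.range := by
    ext a
    constructor
    · rintro ⟨x, rfl⟩
      obtain ⟨u, hu⟩ := hsurj _ x.2.1.2.2.2.2.1
      exact ⟨u, hu⟩
    · rintro ⟨u, rfl⟩
      obtain ⟨d, hd, hd4, hφ⟩ := T.exists_D0_factor (h4 u)
      exact ⟨⟨d, hd, hd4⟩, congrArg Mon.a hφ⟩
  exact ⟨((MonoidHom.ofInjective hf).trans (MulEquiv.subgroupCongr hr)).trans (MonoidHom.ofInjective hq).symm⟩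

theorem card_D : Nat.card T.D = 8 := by
  obtain ⟨e⟩ := T.equivQuat
  rw [Nat.card_congr e.toEquiv, Nat.card_eq_fintype_card, QuaternionGroup.card]

theorem exists_D {a : SL23} (ha : a ^ 4 = 1) : ∃ d ∈ T.D, S.φ d = ⟨a, 1, false⟩ := by
  obtain ⟨d, hd, hd4, hφ⟩ := T.exists_D0_factor ha
  exact ⟨d, ⟨hd, hd4⟩, hφ⟩

/-- `t` is the only involution of `D`. -/
theorem eq_t_of_sq {g : G} (hg : g ∈ T.D) (h2 : g * g = 1) : g = 1 ∨ g = t := by
  have ha : (S.φ g).a * (S.φ g).a = 1 := by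
    have := congrArg (fun x => (S.φ x).a) h2
    simpa [S.φ_mul _ _ hg.1.1 hg.1.1, Mon.mul_def, hg.1.2.2.1, S.φ_one, Mon.one_def] using this
  rcases sq_eq_one _ ha with h | h
  · exact Or.inl (T.eq_one_of_a hg h)
  · right
    have h1 : (S.φ (t * g)).a = 1 := by
      rw [S.φ_mul _ _ T.comm_z hg.1.1, T.φ_t]
      simp only [tm, Mon.mul_def, cond_false, h]
      decide +kernel
    exact (inv_mul_eq_one.1 (show t⁻¹ * g = 1 by rw [T.inv_eq]; exact T.eq_one_of_a (mul_mem T.t_mem hg) h1)).symm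

theorem comm_QT {g q : G} (hg : g ∈ T.D) (hq : q ∈ QT S t) : Commute g q := hg.1.2.2.2.2.2 q hq

theorem comm_X'_D {g : G} (hg : g ∈ T.D) : Commute g S.X' :=
  T.comm_QT hg (mem_QT_iff.2 ⟨S.X'_mem, T.comm_X'.symm⟩)

omit [Finite G] T in
theorem QT_normal {h q : G} (hz : Commute h S.z) (ht : Commute h t) (hq : q ∈ QT S t) :
    h * q * h⁻¹ ∈ QT S t := by
  obtain ⟨h1, h2⟩ := mem_QT_iff.1 hq
  exact mem_QT_iff.2 ⟨S.conj_mem h hz q h1, (ht.mul_left h2).mul_left ht.inv_left⟩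

/-- `D` is normalised by `C(z) ∩ C(t)`. -/
theorem D_normal {h g : G} (hz : Commute h S.z) (ht : Commute h t) (hg : g ∈ T.D) :
    h * g * h⁻¹ ∈ T.D := by
  obtain ⟨⟨g1, g2, g3, g4, g5, g6⟩, g7⟩ := hg
  have hs := T.s_false hz ht
  refine ⟨⟨(hz.mul_left g1).mul_left hz.inv_left, (ht.mul_left g2).mul_left ht.inv_left, ?_, ?_, ?_,
    fun q hq => ?_⟩, by rw [conj_pow, g7]; group⟩
  · rw [Cfg.φ_conj' _ hz g1]; simp [Mon.mul_def, Mon.inv_def, hs, g3]
  · rw [Cfg.φ_conj' _ hz g1]; simp [Mon.mul_def, Mon.inv_def, hs, g3, g4]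
  · rw [Cfg.φ_conj' _ hz g1]
    simp only [Mon.mul_def, Mon.inv_def, hs, g3, cond_false, Bool.xor_false]
    exact sl_four_conj _ _ g5
  · have h1 : Commute g (h⁻¹ * q * h⁻¹⁻¹) := g6 _ (QT_normal hz.inv_left ht.inv_left hq)
    have := h1.map (MulAut.conj h).toMonoidHom
    simpa [mul_assoc] using this

/-- A 2-element of `C(z) ∩ C(t)` centralising `C_Q(t)` lies in `D`. -/
theorem mem_D_of_comm {g : G} {k : ℕ} (hz : Commute g S.z) (ht : Commute g t) (hk : g ^ 2 ^ k = 1)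
    (hc : ∀ q ∈ QT S t, Commute g q) : g ∈ T.D := by
  have hs := T.s_false hz ht
  have hb : (S.φ g).b = 1 := sl_fix_eq_one _ fun u => by
    obtain ⟨q, hq, hv⟩ := S.vec_surj (0, u)
    have e := S.vec_conj g hz q hq
    rw [(hc q (mem_QT_iff.2 ⟨hq, (T.mem_QT hq).2 (by rw [hv])⟩)).eq, mul_inv_cancel_right, hv,
      Mon.act_false hs] at e
    exact (congrArg Prod.snd e).symm
  have key : ∀ (j : ℕ) (a : SL23), a ^ 2 ^ j = 1 → a ^ 4 = 1 := by
    intro j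
    induction j with
    | zero => intro a ha; rw [pow_zero, pow_one] at ha; rw [ha, one_pow]
    | succ j ih =>
      intro a ha
      rw [pow_succ', pow_mul] at ha
      exact sl_two_power _ (by rw [show 8 = 2 * 4 from rfl, pow_mul]; exact ih _ ha)
  have ha : (S.φ g).a ^ 4 = 1 := key k _ (by
    have := Cfg.φ_pow' S.toCfg hz (2 ^ k)
    rw [hk, S.φ_one, Mon.pow_false hs] at this
    exact (congrArg Mon.a this).symm)
  have hg : g ∈ D0 S t := ⟨hz, ht, hs, hb, ha, hc⟩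
  refine ⟨hg, ?_⟩
  have h3 := S.cube _ (S.toCfg.zpowers_le (T.mem_zpowers_of_ker (pow_mem hg 4) (by
    rw [Cfg.φ_pow' _ hz, Mon.pow_false hs]; exact ha)))
  rw [← pow_mul] at h3
  refine orderOf_dvd_iff_pow_eq_one.1 ?_
  obtain ⟨j, hj, he⟩ := (Nat.dvd_prime_pow Nat.prime_two).1 (orderOf_dvd_of_pow_eq_one hk)
  have h12 : 2 ^ j ∣ 12 := he ▸ orderOf_dvd_of_pow_eq_one h3
  rw [he, show (4 : ℕ) = 2 ^ 2 from rfl]
  refine pow_dvd_pow 2 ?_
  by_contra hlt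
  exact absurd ((pow_dvd_pow 2 (show 3 ≤ j by omega)).trans h12) (by norm_num)

/-- A 2-subgroup of `C(z) ∩ C(t)` normalised by `C_Q(t)` lies in `D`. -/
theorem le_D (R : Subgroup G) (hR : IsPGroup 2 R) (hz : ∀ r ∈ R, Commute r S.z)
    (ht : ∀ r ∈ R, Commute r t) (hn : ∀ q ∈ QT S t, ∀ r ∈ R, q * r * q⁻¹ ∈ R) : R ≤ T.D := by
  intro r hr
  obtain ⟨k, hk⟩ := hR ⟨r, hr⟩
  have hk' : r ^ 2 ^ k = 1 := congrArg Subtype.val hk
  refine T.mem_D_of_comm (hz r hr) (ht r hr) hk' fun q hq => ?_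
  have h1 : r * q * r⁻¹ * q⁻¹ ∈ R := by
    rw [mul_assoc, mul_assoc r q]
    exact mul_mem hr (by simpa [mul_assoc] using hn q hq r⁻¹ (inv_mem hr))
  have h2 : r * q * r⁻¹ * q⁻¹ ∈ S.Q :=
    mul_mem (S.conj_mem r (hz r hr) q (mem_QT_iff.1 hq).1) (inv_mem (mem_QT_iff.1 hq).1)
  obtain ⟨j, hj⟩ := hR ⟨_, h1⟩
  have e : orderOf (r * q * r⁻¹ * q⁻¹) = 1 := Nat.eq_one_of_dvd_coprimes
    ((show Nat.Coprime 3 2 by norm_num).pow_right j) (orderOf_dvd_of_pow_eq_one (S.cube _ h2))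
    (orderOf_dvd_of_pow_eq_one (congrArg Subtype.val hj))
  exact mul_inv_eq_iff_eq_mul.1 (mul_inv_eq_one.1 (orderOf_eq_one_iff.1 e))

/-- `C(z) ∩ C(t) = D · {h | (φ h).a ∈ ⟨upperU⟩}`. -/
theorem exists_factor {h : G} (hz : Commute h S.z) (ht : Commute h t) :
    ∃ d ∈ T.D, ∃ g, h = d * g ∧ Commute g S.z ∧ Commute g t ∧ (S.φ g).s = false ∧
      ∃ k : Fin 3, (S.φ g).a = upperU ^ (k : ℕ) ∧ (S.φ g).b = (S.φ h).b := by
  obtain ⟨q, k, hq, hak⟩ := sl_quat_upper (S.φ h).a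
  obtain ⟨d, hd, hφ⟩ := T.exists_D hq
  have hg1 : Commute (d⁻¹ * h) S.z := hd.1.1.inv_left.mul_left hz
  have hg2 : Commute (d⁻¹ * h) t := hd.1.2.1.inv_left.mul_left ht
  refine ⟨d, hd, d⁻¹ * h, by group, hg1, hg2, T.s_false hg1 hg2, k, ?_, ?_⟩
  · rw [S.φ_mul _ _ hd.1.1.inv_left hz, S.φ_inv hd.1.1, hφ]
    simp [Mon.mul_def, Mon.inv_def, hak]
  · rw [S.φ_mul _ _ hd.1.1.inv_left hz, S.φ_inv hd.1.1, hφ]
    simp [Mon.mul_def, Mon.inv_def]

end TInv

end Std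

end Cfsg.Agent.U62ThreeCent
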