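/-
What the local analysis at `X'` gives about the centraliser of the involution.

* `Std.TJ` : `J ∩ C(t)`;
* `Std.Exch` : elements of `C(t) ∩ C(X')` exchanging the lines of `z` and `y`;
* `Std.Core` : the two quaternion groups commute and, with the normaliser of `J ∩ C(t)`, cover `C(t) ∩ C(X')`.
-/
import Cfsg.Agent.Lib.U62ThreeCent.TCent

set_option autoImplicit false

namespace Cfsg.Agent.U62ThreeCent

namespace Std

variable {G : Type*} [Group G]

/-- The elements of `J` commuting with `t`. -/
def TJ (S : Std G) (t : G) : Subgroup G := S.J ⊓ Subgroup.centralizer {t}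

/-- An element centralising `t` and `X'` which sends the line of `z` to the line of `y`. -/
def Exch (S : Std G) (t n : G) : Prop :=
  Commute n t ∧ Commute n S.X' ∧ (n * S.z * n⁻¹ = S.y ∨ n * S.z * n⁻¹ = S.y⁻¹)

/-- The outcome of the local analysis at `X'`. -/
structure Core [Finite G] (S : Std G) (t : G) : Prop where
  tinv : S.TInv t
  exch : ∃ n, S.Exch t n
  comm : ∀ n, S.Exch t n → ∀ d ∈ tinv.D, ∀ e ∈ tinv.D, Commute d (n * e * n⁻¹)
  cw : ∀ g, Commute g t → Commute g S.X' → ∃ d ∈ tinv.D, ∃ e ∈ tinv.D, ∃ n x : G, S.Exch t n ∧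
    Commute x t ∧ x ∈ Subgroup.normalizer (S.TJ t : Set G) ∧ g = d * (n * e * n⁻¹) * x

end Std

end Cfsg.Agent.U62ThreeCent
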