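/-
The local analysis at `X'` when a Sylow three-subgroup of `C(z)/Q` has order nine: inside the centraliser of
a further element `h` of order three.

* `Std.CoreH` : as `Std.Core`, but covering only the elements of `C(t) ∩ C(X')` centralising `h` modulo `⟨X'⟩`.
-/
import Cfsg.Agent.Lib.U62ThreeCent.Core

set_option autoImplicit false

namespace Cfsg.Agent.U62ThreeCent

open Cfsg.Agent.PSpThree

namespace Std

variable {G : Type*} [Group G]

/-- The outcome of the local analysis at `X'` and `h`. -/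
structure CoreH [Finite G] (S : Std G) (t h : G) : Prop where
  tinv : S.TInv t
  h_cube : h ^ 3 = 1
  h_z : Commute h S.z
  h_φ : S.φ h = ⟨1, upperU, false⟩
  h_J : ∀ j ∈ S.J, Commute h j
  h_t : Commute h t
  h_D : ∀ d ∈ tinv.D, Commute d h
  exch : ∃ n, S.Exch t n ∧ Commute n h
  comm : ∀ n, S.Exch t n → Commute n h → ∀ d ∈ tinv.D, ∀ e ∈ tinv.D, Commute d (n * e * n⁻¹)
  cover : ∀ g, Commute g t → Commute g S.X' → h⁻¹ * (g * h * g⁻¹) ∈ Subgroup.zpowers S.X' →
    ∃ d ∈ tinv.D, ∃ e ∈ tinv.D, ∃ n x : G, S.Exch t n ∧ Commute n h ∧ Commute x t ∧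
      x ∈ Subgroup.normalizer (S.TJ t : Set G) ∧ g = d * (n * e * n⁻¹) * x
  canon : ∀ g, Commute g t → Commute g S.X' → g ∈ Subgroup.normalizer (S.TJ t : Set G) →
    h⁻¹ * (g * h * g⁻¹) ∈ Subgroup.zpowers S.X' ∨ h * (g * h * g⁻¹) ∈ Subgroup.zpowers S.X'

end Std

end Cfsg.Agent.U62ThreeCent
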