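/-
The subgroup `J` of order 81: weak closure and the action of its normaliser on the ten lines of points.

* `Std.conj_J_eq` : `J` is the only conjugate of itself in a three-group containing it;
* `Std.exists_normalizer_pair` : `N(J)` is 2-transitive on the lines of points;
* `Std.mem_J_of_pair` : any two independent points of `J` determine `J`;
* `Std.isPGroup_centralizer_J`, `Std.centralizer_inf_Q` : the centraliser of `J`;
* `Std.exists_sylow` : a Sylow three-subgroup of `G` centralising `z`;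
* `Std.eq_bot_of_normalized` : `J` normalises no non-trivial subgroup of order prime to three.
-/
import Cfsg.Agent.Lib.U62ThreeCent.Fusion
import Cfsg.Agent.Lib.U62ThreeCent.Coord
import Cfsg.Agent.Lib.Coprime.Generation

set_option autoImplicit false
set_option maxRecDepth 100000
set_option synthInstance.maxSize 2000

namespace Cfsg.Agent.U62ThreeCent

open Cfsg.Agent.PSpThree

/-- The image of `y`. -/
def uu : Mon := ⟨upperU, upperU, false⟩

theorem sl_fix : ∀ a : SL23, act2 a (1, 0) = (1, 0) → a ^ 3 = 1 ∧ a * upperU = upperU * a := by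
  decide +kernel

theorem sl_comm_fix : ∀ a : SL23, a ^ 3 = 1 → a * upperU = upperU * a → act2 a (1, 0) = (1, 0) := by
  decide +kernel

theorem sl_pow_inj : ∀ b : K, upperU ^ b.val = upperU → b = 1 := by decide +kernel

theorem fix_upper {m : Mon} (h1 : Mon.act m ((1, 0), 0) = ((1, 0), 0))
    (h2 : Mon.act m (0, (1, 0)) = (0, (1, 0))) :
    m.s = false ∧ act2 m.a (1, 0) = (1, 0) ∧ act2 m.b (1, 0) = (1, 0) := by
  have hz : ∀ A : SL23, act2 A 0 = 0 := fun A => by simp [act2]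
  cases hs : m.s
  · rw [Mon.act_false hs] at h1 h2
    exact ⟨rfl, congrArg Prod.fst h1, congrArg Prod.snd h2⟩
  · have h := congrArg Prod.fst h1
    simp [Mon.act, hs, act2] at h

theorem fix_upper_cube (m : Mon) (h1 : Mon.act m ((1, 0), 0) = ((1, 0), 0))
    (h2 : Mon.act m (0, (1, 0)) = (0, (1, 0))) : m ^ 3 = 1 := by
  obtain ⟨hs, ha, hb⟩ := fix_upper h1 h2
  rw [Mon.pow_false hs, (sl_fix _ ha).1, (sl_fix _ hb).1, Mon.one_def]

theorem fix_upper_comm (m : Mon) (h1 : Mon.act m ((1, 0), 0) = ((1, 0), 0))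
    (h2 : Mon.act m (0, (1, 0)) = (0, (1, 0))) : m * uu = uu * m := by
  obtain ⟨hs, ha, hb⟩ := fix_upper h1 h2
  simp [Mon.mul_def, uu, hs, (sl_fix _ ha).2, (sl_fix _ hb).2]

theorem comm_uu_fix (m : Mon) (h3 : m ^ 3 = 1) (hc : m * uu = uu * m) :
    Mon.act m ((1, 0), 0) = ((1, 0), 0) ∧ Mon.act m (0, (1, 0)) = (0, (1, 0)) := by
  obtain ⟨hs, ha, hb, -⟩ := Mon.cube_cases h3
  have ca : m.a * upperU = upperU * m.a := by simpa [Mon.mul_def, uu, hs] using congrArg Mon.a hc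
  have cb : m.b * upperU = upperU * m.b := by simpa [Mon.mul_def, uu, hs] using congrArg Mon.b hc
  have hz : ∀ A : SL23, act2 A 0 = 0 := fun A => by simp [act2]
  simp [Mon.act_false hs, hz, sl_comm_fix _ ha ca, sl_comm_fix _ hb cb]

theorem uu_pow_inj (b : K) (h : uu ^ b.val = uu) : b = 1 := by
  rw [Mon.pow_false rfl] at h
  exact sl_pow_inj b (congrArg Mon.a h)

theorem act_uu : ∀ v : V, v - Mon.act uu v = ((-v.1.2, 0), (-v.2.2, 0)) := by decide +kernel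

theorem om_left_X : ∀ v : V, (om v ((1, 0), 0)).val = 0 → v.1.2 = 0 := by decide +kernel

theorem om_left_X' : ∀ v : V, (om v (0, (1, 0))).val = 0 → v.2.2 = 0 := by decide +kernel

theorem quad_neg : ∀ v : J4, quad v = 0 → quad (-v) = 0 := by decide +kernel

theorem quad_perp : ∀ v : J4, v ≠ 0 → quad v = 0 → v.2.1 = 0 →
    v = (1, 0, 0, 0) ∨ v = -(1, 0, 0, 0) := by decide +kernel

theorem quad_beta : ∀ v : J4, v ≠ 0 → quad v = 0 → v.2.1 = 1 →
    v = (-(v.2.2.1 * v.2.2.1 + v.2.2.2 * v.2.2.2), 1, v.2.2.1, v.2.2.2) := by decide +kernel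

theorem beta_cases : ∀ b : K, b = 0 ∨ b = 1 ∨ b = -1 := by decide

theorem j4_decomp : ∀ v : J4, v = v.1.val • ((1, 0, 0, 0) : J4) + v.2.1.val • ((0, 1, 0, 0) : J4) +
    v.2.2.1.val • ((-1, 1, 1, 0) + (1, 0, 0, 0) + -(0, 1, 0, 0) : J4) +
    v.2.2.2.val • ((-1, 1, 0, 1) + (1, 0, 0, 0) + -(0, 1, 0, 0) : J4) := by decide +kernel

theorem dot_singular : ∀ c : J4, ∃ p : J4, p ≠ 0 ∧ quad p = 0 ∧
    c.1 * p.1 + c.2.1 * p.2.1 + c.2.2.1 * p.2.2.1 + c.2.2.2 * p.2.2.2 = 0 := by decide +kernel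

namespace Std

variable {G : Type*} [Group G] (S : Std G)

theorem φ_y' : S.φ S.y = uu := S.φ_y

theorem φ_cube_of_pow {r : G} (hr : Commute r S.z) {k : ℕ} (h : r ^ 3 ^ k = 1) : S.φ r ^ 3 = 1 := by
  have hp : ∀ n : ℕ, S.φ (r ^ n) = S.φ r ^ n := by
    intro n
    induction n with
    | zero => rw [pow_zero, pow_zero, S.φ_one]
    | succ n ih => rw [pow_succ, pow_succ, S.φ_mul _ _ (hr.pow_left n) hr, ih]
  refine Mon.cube_of_pow (k := k) ?_
  rw [← hp, h, S.φ_one]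

theorem φ_conj {a b : G} (ha : Commute a S.z) (hb : Commute b S.z) :
    S.φ (a * b * a⁻¹) = S.φ a * S.φ b * (S.φ a)⁻¹ := by
  rw [S.φ_mul _ _ (ha.mul_left hb) ha.inv_left, S.φ_mul _ _ ha hb, S.φ_inv ha]

theorem vec_pow {q : G} (hq : q ∈ S.Q) : ∀ n : ℕ, S.vec (q ^ n) = n • S.vec q
  | 0 => by rw [pow_zero, S.vec_one, zero_smul]
  | n + 1 => by rw [pow_succ, S.vec_mul _ (pow_mem hq n) _ hq, vec_pow hq n, succ_nsmul]

theorem jj_mem_Q {v : J4} (h : v.2.1 = 0) : S.jj v ∈ S.Q := by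
  rw [jj, h, ZMod.val_zero, pow_zero, mul_one]
  exact mul_mem (mul_mem (pow_mem S.z_mem _) (pow_mem S.X_mem _)) (pow_mem S.X'_mem _)

theorem nsmul_val : ∀ c : K, c.val • ((1 : K)) = c := by decide

theorem vec_jj {v : J4} (h : v.2.1 = 0) : S.vec (S.jj v) = ((v.2.2.1, 0), (v.2.2.2, 0)) := by
  rw [jj, h, ZMod.val_zero, pow_zero, mul_one,
    S.vec_mul _ (mul_mem (pow_mem S.z_mem _) (pow_mem S.X_mem _)) _ (pow_mem S.X'_mem _),
    S.vec_mul _ (pow_mem S.z_mem _) _ (pow_mem S.X_mem _), S.vec_pow S.z_mem, S.vec_pow S.X_mem,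
    S.vec_pow S.X'_mem, S.vec_z, S.vec_X, S.vec_X']
  ext <;> simp

theorem zpowers_cases {g : G} (h : g ∈ Subgroup.zpowers S.z) : ∃ k : K, g = S.z ^ k.val := by
  obtain ⟨n, rfl⟩ := Subgroup.mem_zpowers_iff.1 h
  refine ⟨(n : K), ?_⟩
  rw [← zpow_natCast, zpow_eq_zpow_iff_modEq, S.z_ord, Int.ModEq, ZMod.val_intCast]
  simp

/-- The elements of `Q` with image in the fixed plane of `y`. -/
theorem exists_jj_of_coords {q : G} (hq : q ∈ S.Q) (h1 : (S.vec q).1.2 = 0) (h2 : (S.vec q).2.2 = 0) :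
    ∃ v : J4, v.2.1 = 0 ∧ S.jj v = q := by
  set u : J4 := (0, 0, (S.vec q).1.1, (S.vec q).2.1) with hu
  have huQ : S.jj u ∈ S.Q := S.jj_mem_Q rfl
  have hker : q * (S.jj u)⁻¹ ∈ Subgroup.zpowers S.z := by
    rw [← S.vec_ker _ (mul_mem hq (inv_mem huQ)), S.vec_mul _ hq _ (inv_mem huQ), S.vec_inv huQ,
      S.vec_jj rfl]
    ext <;> simp [hu, h1, h2]
  obtain ⟨k, hk⟩ := S.zpowers_cases hker
  refine ⟨(k, 0, 0, 0) + u, by simp [hu], ?_⟩
  rw [S.jj_add, show S.jj (k, 0, 0, 0) = S.z ^ k.val by simp [jj], ← hk, inv_mul_cancel_right]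

theorem om_eq_zero {i j : G} (hi : i ∈ S.Q) (hj : j ∈ S.Q) (h : Commute i j) :
    (om (S.vec i) (S.vec j)).val = 0 := by
  have h1 := S.comm i hi j hj
  rw [h.eq, mul_inv_cancel_right, mul_inv_cancel] at h1
  have h2 : orderOf S.z ∣ (om (S.vec i) (S.vec j)).val := orderOf_dvd_of_pow_eq_one h1.symm
  rw [S.z_ord] at h2
  exact Nat.eq_zero_of_dvd_of_lt h2 (ZMod.val_lt _)

theorem coords_of_commute {q : G} (hq : q ∈ S.Q) (hX : Commute q S.X) (hX' : Commute q S.X') :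
    (S.vec q).1.2 = 0 ∧ (S.vec q).2.2 = 0 := by
  have h1 := S.om_eq_zero hq S.X_mem hX
  have h2 := S.om_eq_zero hq S.X'_mem hX'
  rw [S.vec_X] at h1
  rw [S.vec_X'] at h2
  exact ⟨om_left_X _ h1, om_left_X' _ h2⟩

theorem mem_J_of_mem_Q_of_commute {q : G} (hq : q ∈ S.Q) (hX : Commute q S.X) (hX' : Commute q S.X') :
    ∃ v : J4, v.2.1 = 0 ∧ S.jj v = q :=
  S.exists_jj_of_coords hq (S.coords_of_commute hq hX hX').1 (S.coords_of_commute hq hX hX').2

theorem commute_J {j : G} (hj : j ∈ S.J) (v : J4) : Commute j (S.jj v) := by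
  obtain ⟨u, rfl⟩ := S.mem_J.1 hj
  exact S.commute_jj u v

/-- The image of `X`, `X'` under an element fixing both modulo `⟨z⟩`. -/
theorem conj_W {r : G} (hr : Commute r S.z) (hf1 : Mon.act (S.φ r) ((1, 0), 0) = ((1, 0), 0))
    (hf2 : Mon.act (S.φ r) (0, (1, 0)) = (0, (1, 0))) :
    r * S.X * r⁻¹ ∈ S.J ∧ r * S.X' * r⁻¹ ∈ S.J := by
  constructor
  · obtain ⟨v, -, hv⟩ := S.exists_jj_of_coords (S.conj_mem r hr _ S.X_mem)
      (by rw [S.vec_conj r hr _ S.X_mem, S.vec_X, hf1])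
      (by rw [S.vec_conj r hr _ S.X_mem, S.vec_X, hf1]; rfl)
    exact S.mem_J.2 ⟨v, hv⟩
  · obtain ⟨v, -, hv⟩ := S.exists_jj_of_coords (S.conj_mem r hr _ S.X'_mem)
      (by rw [S.vec_conj r hr _ S.X'_mem, S.vec_X', hf2]; rfl)
      (by rw [S.vec_conj r hr _ S.X'_mem, S.vec_X', hf2])
    exact S.mem_J.2 ⟨v, hv⟩

/-- An element of `C(z)` acting as a three-element commuting with the image of `y` normalises `J`. -/
theorem conj_mem_J {r : G} (hr : Commute r S.z) (h3 : S.φ r ^ 3 = 1) (hc : S.φ r * uu = uu * S.φ r)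
    {j : G} (hj : j ∈ S.J) : r * j * r⁻¹ ∈ S.J := by
  obtain ⟨hf1, hf2⟩ := comm_uu_fix _ h3 hc
  obtain ⟨hX, hX'⟩ := S.conj_W hr hf1 hf2
  have hr' : Commute r⁻¹ S.z := hr.inv_left
  have hi : ∀ v : V, Mon.act (S.φ r) v = v → Mon.act (S.φ r⁻¹) v = v := fun v hv => by
    conv_lhs => rw [← hv]
    rw [← Mon.act_mul, S.φ_inv hr, inv_mul_cancel, act_one]
  obtain ⟨gX, gX'⟩ := S.conj_W hr' (hi _ hf1) (hi _ hf2)
  rw [inv_inv] at gX gX'
  have hcomm : ∀ w : G, r⁻¹ * w * r ∈ S.J → Commute (r * S.y * r⁻¹) w := fun w hw => by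
    have h1 := ((S.commute_J hw (0, 1, 0, 0)).map (MulAut.conj r).toMonoidHom).symm
    rw [S.jj_y] at h1
    simpa [mul_assoc] using h1
  have hy1 : Commute (r * S.y * r⁻¹) S.z := (hr.mul_left S.y_comm).mul_left hr.inv_left
  have hq : r * S.y * r⁻¹ * S.y⁻¹ ∈ S.Q := by
    rw [← S.φ_ker _ (hy1.mul_left S.y_comm.inv_left), S.φ_mul _ _ hy1 S.y_comm.inv_left,
      S.φ_conj hr S.y_comm, S.φ_inv S.y_comm, S.φ_y', hc, mul_inv_cancel_right, mul_inv_cancel]
  obtain ⟨v, -, hv⟩ := S.mem_J_of_mem_Q_of_commute hq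
    ((hcomm _ gX).mul_left S.y_X.inv_left) ((hcomm _ gX').mul_left S.y_X'.inv_left)
  have hy : r * S.y * r⁻¹ ∈ S.J := by
    refine S.mem_J.2 ⟨v + (0, 1, 0, 0), ?_⟩
    rw [S.jj_add, hv, S.jj_y, inv_mul_cancel_right]
  obtain ⟨u, rfl⟩ := S.mem_J.1 hj
  rw [show r * S.jj u * r⁻¹ = MulAut.conj r (S.jj u) from rfl, jj, map_mul, map_mul, map_mul, map_pow,
    map_pow, map_pow, map_pow]
  have hz : MulAut.conj r S.z ∈ S.J := by
    rw [MulAut.conj_apply, hr.eq, mul_inv_cancel_right, ← S.jj_z]; exact S.jj_mem _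
  exact mul_mem (mul_mem (mul_mem (pow_mem hz _) (pow_mem hy _)) (pow_mem hX _)) (pow_mem hX' _)

theorem mem_normalizer_of {r : G} [Finite G] (h : ∀ j ∈ S.J, r * j * r⁻¹ ∈ S.J) :
    r ∈ Subgroup.normalizer (S.J : Set G) :=
  Subgroup.mem_normalizer_fintype h

theorem Q_le_normalizer [Finite G] : S.Q ≤ Subgroup.normalizer (S.J : Set G) := fun q hq =>
  S.mem_normalizer_of fun _ hj => S.conj_mem_J (S.Q_le q hq) (by rw [S.φ_of_mem hq, one_pow])
    (by rw [S.φ_of_mem hq, one_mul, mul_one]) hj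

theorem y_mem_J : S.y ∈ S.J := S.jj_y ▸ S.jj_mem _

theorem z_mem_J : S.z ∈ S.J := S.jj_z ▸ S.jj_mem _

/-- In a three-group centralising `z` and containing `J` every element normalises `J`. -/
theorem three_facts {R : Subgroup G} (hR : IsPGroup 3 R) (hRz : ∀ r ∈ R, Commute r S.z) (hJ : S.J ≤ R)
    {r : G} (hr : r ∈ R) : S.φ r ^ 3 = 1 ∧ S.φ r * uu = uu * S.φ r := by
  have hpow : ∀ a ∈ R, ∃ k : ℕ, a ^ 3 ^ k = 1 := fun a ha => by
    obtain ⟨k, hk⟩ := hR ⟨a, ha⟩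
    exact ⟨k, by simpa using congrArg Subtype.val hk⟩
  have hy := hJ S.y_mem_J
  obtain ⟨i, hi⟩ := hpow r hr
  have h1 := S.φ_cube_of_pow (hRz r hr) hi
  refine ⟨h1, Mon.comm_of_three (i := 1) (j := 1) (l := 1) (by rwa [pow_one]) ?_ ?_⟩
  · rw [pow_one, ← S.φ_y']
    exact S.φ_cube_of_pow S.y_comm (k := 1) (by rw [pow_one]; exact S.y_cube)
  · have hm : r * S.y * r⁻¹ * S.y⁻¹ ∈ R := mul_mem (mul_mem (mul_mem hr hy) (inv_mem hr)) (inv_mem hy)
    obtain ⟨k, hk⟩ := hpow _ hm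
    have hcz := hRz _ hm
    have h2 := S.φ_cube_of_pow hcz hk
    rw [S.φ_mul _ _ (((hRz r hr).mul_left S.y_comm).mul_left (hRz r hr).inv_left) S.y_comm.inv_left,
      S.φ_conj (hRz r hr) S.y_comm, S.φ_inv S.y_comm, S.φ_y'] at h2
    rwa [pow_one]

theorem conj_mem_J_of_three {R : Subgroup G} (hR : IsPGroup 3 R) (hRz : ∀ r ∈ R, Commute r S.z)
    (hJ : S.J ≤ R) {r : G} (hr : r ∈ R) {j : G} (hj : j ∈ S.J) : r * j * r⁻¹ ∈ S.J :=
  S.conj_mem_J (hRz r hr) (S.three_facts hR hRz hJ hr).1 (S.three_facts hR hRz hJ hr).2 hj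

/-- The points of a three-group centralising `z` and containing `J` lie in `J`. -/
theorem mem_J_of_three {R : Subgroup G} (hR : IsPGroup 3 R) (hRz : ∀ r ∈ R, Commute r S.z)
    (hJ : S.J ≤ R) {x : G} (hx : x ∈ R) (hpt : S.IsPt x) : x ∈ S.J :=
  S.mem_J_of_pt' hpt (hRz x hx) (by rw [S.φ_y']; exact (S.three_facts hR hRz hJ hx).2)

/-- A subgroup containing four of the points contains `J`. -/
theorem J_le {H : Subgroup G} (h1 : S.jj (1, 0, 0, 0) ∈ H) (h2 : S.jj (0, 1, 0, 0) ∈ H)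
    (h3 : S.jj (-1, 1, 1, 0) ∈ H) (h4 : S.jj (-1, 1, 0, 1) ∈ H) : S.J ≤ H := by
  intro g hg
  obtain ⟨v, rfl⟩ := S.mem_J.1 hg
  have hn : ∀ (n : ℕ) (u : J4), S.jj u ∈ H → S.jj (n • u) ∈ H := fun n u hu => by
    induction n with
    | zero => rw [zero_smul, S.jj_zero]; exact one_mem _
    | succ n ih => rw [succ_nsmul, S.jj_add]; exact mul_mem ih hu
  rw [j4_decomp v]
  simp only [S.jj_add]
  refine mul_mem (mul_mem (mul_mem (hn _ _ h1) (hn _ _ h2)) (hn _ _ ?_)) (hn _ _ ?_)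
  · rw [S.jj_add, S.jj_add, S.jj_neg]; exact mul_mem (mul_mem h3 h1) (inv_mem h2)
  · rw [S.jj_add, S.jj_add, S.jj_neg]; exact mul_mem (mul_mem h4 h1) (inv_mem h2)

/-- A subgroup containing the points of `J` contains `J`. -/
theorem J_le_of_pts {H : Subgroup G} (h : ∀ x ∈ S.J, S.IsPt x → x ∈ H) : S.J ≤ H :=
  S.J_le (h _ (S.jj_mem _) ((S.isPt_jj _).2 (by decide +kernel)))
    (h _ (S.jj_mem _) ((S.isPt_jj _).2 (by decide +kernel)))
    (h _ (S.jj_mem _) ((S.isPt_jj _).2 (by decide +kernel)))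
    (h _ (S.jj_mem _) ((S.isPt_jj _).2 (by decide +kernel)))

theorem isPGroup_Q : IsPGroup 3 S.Q := fun q => ⟨1, Subtype.ext (by simpa using S.cube q q.2)⟩

theorem isPGroup_J : IsPGroup 3 S.J := IsPGroup.of_card (n := 4) (by rw [S.card_J]; rfl)

/-- A Sylow three-subgroup of `G` containing `Q` and `J` and centralising `z`. -/
theorem exists_sylow [Finite G] :
    ∃ P : Sylow 3 G, S.Q ≤ P ∧ S.J ≤ P ∧ ∀ p ∈ (P : Subgroup G), Commute p S.z := by
  haveI := Fact.mk Nat.prime_three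
  set C := Subgroup.centralizer ({S.z} : Set G) with hC
  have hmemC : ∀ g : G, g ∈ C ↔ Commute g S.z := fun g => Subgroup.mem_centralizer_singleton_iff
  have hQJ : IsPGroup 3 (S.J ⊔ S.Q : Subgroup G) :=
    S.isPGroup_J.to_sup_of_normal_right' S.isPGroup_Q fun j hj => by
      refine Subgroup.mem_normalizer_fintype fun q hq => ?_
      obtain ⟨v, rfl⟩ := S.mem_J.1 hj
      exact S.conj_mem _ (S.commute_z_jj v) q hq
  have hQJC : S.J ⊔ S.Q ≤ C := by
    refine sup_le (fun j hj => (hmemC j).2 ?_) fun q hq => (hmemC q).2 (S.Q_le q hq)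
    obtain ⟨v, rfl⟩ := S.mem_J.1 hj
    exact S.commute_z_jj v
  have hP0 : IsPGroup 3 ((S.J ⊔ S.Q).subgroupOf C : Subgroup C) :=
    hQJ.comap_of_injective _ C.subtype_injective
  obtain ⟨P0, hle0⟩ := hP0.exists_le_sylow
  set P1 := (P0 : Subgroup C).map C.subtype with hP1
  have hP1p : IsPGroup 3 P1 := P0.isPGroup'.map _
  have hP1C : ∀ p ∈ P1, Commute p S.z := by
    rintro _ ⟨p, -, rfl⟩
    exact (hmemC _).1 p.2
  have hle1 : S.J ⊔ S.Q ≤ P1 := fun g hg => ⟨⟨g, hQJC hg⟩, hle0 hg, rfl⟩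
  obtain ⟨P, hP⟩ := hP1p.exists_le_sylow
  suffices heq : P1 = (P : Subgroup G) by
    exact ⟨P, heq ▸ le_sup_right.trans hle1, heq ▸ le_sup_left.trans hle1, heq ▸ hP1C⟩
  by_contra hne
  have hlt : P1.subgroupOf P < ⊤ := lt_top_iff_ne_top.2 fun e =>
    hne (le_antisymm hP (Subgroup.subgroupOf_eq_top.1 e))
  haveI : Group.IsNilpotent (P : Subgroup G) := P.isPGroup'.isNilpotent
  obtain ⟨r, hrN, hr⟩ := SetLike.exists_of_lt (Group.normalizerCondition_of_isNilpotent (G := (P : Subgroup G)) _ hlt)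
  have hrP1 : ∀ g ∈ P1, (r : G) * g * (r : G)⁻¹ ∈ P1 := fun g hg =>
    (Subgroup.mem_normalizer_iff.1 hrN ⟨g, hP hg⟩).1 hg
  have hrP1' : ∀ g ∈ P1, (r : G)⁻¹ * g * (r : G) ∈ P1 := fun g hg => by
    have h := (Subgroup.mem_normalizer_iff.1 (inv_mem hrN) ⟨g, hP hg⟩).1 hg
    simpa [Subgroup.mem_subgroupOf] using h
  set x := (r : G) * S.z * (r : G)⁻¹ with hx
  have hxP1 : x ∈ P1 := hrP1 _ (hle1 (Subgroup.mem_sup_left S.z_mem_J))
  have hxc : ∀ g ∈ P1, Commute g x := fun g hg => by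
    have h := (hP1C _ (hrP1' g hg)).map (MulAut.conj (r : G)).toMonoidHom
    simpa [hx, mul_assoc] using h
  have hxQ : x ∈ S.Q := by
    have hxz := hP1C x hxP1
    refine (S.φ_ker x hxz).1 (act_ext fun v => ?_)
    obtain ⟨q, hq, rfl⟩ := S.vec_surj v
    rw [act_one, ← S.vec_conj x hxz q hq, ← (hxc q (hle1 (Subgroup.mem_sup_right hq))).eq,
      mul_inv_cancel_right]
  have hxpt : S.IsPt x := (S.toCfg.isPt_z).conj _
  obtain ⟨k, hk⟩ := S.zpowers_cases (hxpt.mem_zpowers hxQ)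
  obtain ⟨n, hn⟩ := P.isPGroup' r
  have hn' : (r : G) ^ 3 ^ n = 1 := by simpa using congrArg Subtype.val hn
  have hrz : Commute (r : G) S.z := by
    rcases beta_cases k with rfl | rfl | rfl
    · exact absurd hk (by rw [ZMod.val_zero, pow_zero]; exact hxpt.ne_one)
    · rw [ZMod.val_one, pow_one] at hk
      exact mul_inv_eq_iff_eq_mul.1 hk
    · have hzinv : S.z ^ (-1 : K).val = S.z⁻¹ := by
        refine eq_inv_of_mul_eq_one_left ?_
        rw [show (-1 : K).val = 2 from rfl, ← pow_succ, S.z_pow]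
      rw [hzinv] at hk
      have hit : ∀ m : ℕ, (r : G) ^ (2 * m + 1) * S.z * ((r : G) ^ (2 * m + 1))⁻¹ = S.z⁻¹ := by
        intro m
        induction m with
        | zero => simpa using hk
        | succ m ih =>
          rw [show 2 * (m + 1) + 1 = 1 + (1 + (2 * m + 1)) by ring, pow_add, pow_add, pow_one]
          calc (r : G) * ((r : G) * (r : G) ^ (2 * m + 1)) * S.z * ((r : G) * ((r : G) * (r : G) ^ (2 * m + 1)))⁻¹
              = (r : G) * ((r : G) * ((r : G) ^ (2 * m + 1) * S.z * ((r : G) ^ (2 * m + 1))⁻¹) * (r : G)⁻¹) * (r : G)⁻¹ := by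
                group
            _ = ((r : G) * ((r : G) * S.z * (r : G)⁻¹) * (r : G)⁻¹)⁻¹ := by
              rw [ih]; simp only [mul_inv_rev, inv_inv, mul_assoc]
            _ = S.z⁻¹ := by
              rw [← hx, hk, show (r : G) * S.z⁻¹ * (r : G)⁻¹ = x⁻¹ by rw [hx]; group, hk, inv_inv]
      obtain ⟨m, hm⟩ : ∃ m, 3 ^ n = 2 * m + 1 := by
        obtain ⟨m, hm⟩ := (by decide : Odd 3).pow (n := n)
        exact ⟨m, hm⟩
      have h2 := hit m
      rw [← hm, hn'] at h2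
      exfalso
      have h3 : S.z = S.z⁻¹ := by simpa using h2
      have h4 : S.z ^ 2 = 1 := by rw [pow_two]; exact mul_eq_one_iff_eq_inv.2 h3
      have h5 := orderOf_dvd_of_pow_eq_one h4
      rw [S.z_ord] at h5
      norm_num at h5
  apply hr
  show (r : G) ∈ P1
  set N := (Subgroup.closure {(r : G)} ⊔ P1 : Subgroup G) with hN
  have hNP : N ≤ (P : Subgroup G) := sup_le (by simp) hP
  have hNC : N ≤ C := sup_le (by simpa using (hmemC _).2 hrz) fun g hg => (hmemC g).2 (hP1C g hg)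
  have hNp : IsPGroup 3 (N.subgroupOf C) :=
    (P.isPGroup'.to_le hNP).comap_of_injective _ C.subtype_injective
  have hmax := P0.is_maximal' hNp (fun g hg => (le_sup_right : P1 ≤ N) ⟨g, hg, rfl⟩)
  have hrN' : (⟨r, (hmemC _).2 hrz⟩ : C) ∈ N.subgroupOf C :=
    (le_sup_left : _ ≤ N) (Subgroup.subset_closure rfl)
  rw [hmax] at hrN'
  exact ⟨_, hrN', rfl⟩

theorem conj_J_le [Finite G] {T : Sylow 3 G} {g : G}
    (hT : ∀ j ∈ S.J, g * j * g⁻¹ ∈ (T : Subgroup G)) {P : Sylow 3 G} (hPJ : S.J ≤ P)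
    (hPz : ∀ p ∈ (P : Subgroup G), Commute p S.z) {h : G} (hh : ∀ p, p ∈ (T : Subgroup G) ↔ h⁻¹ * p * h ∈ (P : Subgroup G)) :
    ∀ j ∈ S.J, h⁻¹ * (g * j * g⁻¹) * h ∈ S.J := by
  intro j hj
  have hK : S.J ≤ (S.J.map (MulAut.conj (h⁻¹ * g)⁻¹).toMonoidHom) := by
    refine S.J_le_of_pts fun x hx hpt => ?_
    have hm : (h⁻¹ * g) * x * (h⁻¹ * g)⁻¹ ∈ S.J := by
      refine S.mem_J_of_three P.isPGroup' hPz hPJ ?_ (hpt.conj _)
      have := (hh _).1 (hT x hx)
      simpa [mul_assoc] using this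
    exact ⟨_, hm, by simp [mul_assoc]⟩
  obtain ⟨j', hj', he⟩ := hK hj
  have : h⁻¹ * (g * j * g⁻¹) * h = j' := by
    rw [← he]; simp [mul_assoc]
  rw [this]; exact hj'

/-- `J` is the only conjugate of itself in a three-group containing it. -/
theorem conj_J_eq [Finite G] {R : Subgroup G} (hR : IsPGroup 3 R)
    (hJ : S.J ≤ R) {g : G} (hg : ∀ j ∈ S.J, g * j * g⁻¹ ∈ R) :
    g ∈ Subgroup.normalizer (S.J : Set G) := by
  haveI := Fact.mk Nat.prime_three
  obtain ⟨T, hRT⟩ := hR.exists_le_sylow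
  obtain ⟨P, -, hPJ, hPz⟩ := S.exists_sylow
  obtain ⟨h, hh⟩ := MulAction.exists_smul_eq G P T
  have hmemT : ∀ p, p ∈ (T : Subgroup G) ↔ h⁻¹ * p * h ∈ (P : Subgroup G) := fun p => by
    rw [← hh, Sylow.coe_subgroup_smul, Subgroup.mem_pointwise_smul_iff_inv_smul_mem]
    simp [mul_assoc]
  have h1 := S.conj_J_le (T := T) (g := 1) (fun j hj => by simpa using hRT (hJ hj)) hPJ hPz hmemT
  have h2 := S.conj_J_le (fun j hj => hRT (hg j hj)) hPJ hPz hmemT
  have hh' : h⁻¹ ∈ Subgroup.normalizer (S.J : Set G) :=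
    S.mem_normalizer_of fun j hj => by simpa using h1 j hj
  have hhg : h⁻¹ * g ∈ Subgroup.normalizer (S.J : Set G) :=
    S.mem_normalizer_of fun j hj => by simpa [mul_assoc] using h2 j hj
  simpa using mul_mem (inv_mem hh') hhg

/-- Some element of the normaliser takes `z` to `y` or its inverse. -/
theorem exists_normalizer_y [Finite G] :
    ∃ g ∈ Subgroup.normalizer (S.J : Set G), g * S.z * g⁻¹ = S.y ∨ g * S.z * g⁻¹ = S.y⁻¹ := by
  haveI := Fact.mk Nat.prime_three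
  obtain ⟨g, hg⟩ := S.isPt_y
  have hgy : g * S.z * g⁻¹ = S.y ∨ g * S.z * g⁻¹ = S.y⁻¹ := by
    rcases hg with e | e
    · exact Or.inl e.symm
    · exact Or.inr (by rw [e, inv_inv])
  set C := Subgroup.centralizer ({S.y} : Set G) with hC
  have hJC : S.J ≤ C := fun j hj =>
    Subgroup.mem_centralizer_singleton_iff.2 (S.jj_y ▸ S.commute_J hj _).eq
  set J' := S.J.map (MulAut.conj g).toMonoidHom with hJ'
  have hJ'C : J' ≤ C := by
    rintro _ ⟨j, hj, rfl⟩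
    refine Subgroup.mem_centralizer_singleton_iff.2 (Commute.eq ?_)
    have h := (S.jj_z ▸ S.commute_J hj _ : Commute j S.z).map (MulAut.conj g).toMonoidHom
    rcases hgy with e | e
    · simpa [e] using h
    · have h' : Commute (g * j * g⁻¹) S.y⁻¹ := by simpa [e] using h
      simpa using h'.inv_right
  obtain ⟨S1, h1⟩ := (S.isPGroup_J.comap_of_injective C.subtype C.subtype_injective).exists_le_sylow
  obtain ⟨S2, h2⟩ := ((S.isPGroup_J.map (MulAut.conj g).toMonoidHom).comap_of_injective C.subtype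
    C.subtype_injective).exists_le_sylow
  obtain ⟨c, hc⟩ := MulAction.exists_smul_eq C S2 S1
  have hR : IsPGroup 3 ((S1 : Subgroup C).map C.subtype) := S1.isPGroup'.map _
  refine ⟨(c : G) * g, S.conj_J_eq hR (fun j hj => ⟨⟨j, hJC hj⟩, h1 hj, rfl⟩) ?_, ?_⟩
  · intro j hj
    have hm : (⟨g * j * g⁻¹, hJ'C ⟨j, hj, rfl⟩⟩ : C) ∈ (S2 : Subgroup C) := h2 ⟨j, hj, rfl⟩
    refine ⟨c * ⟨g * j * g⁻¹, hJ'C ⟨j, hj, rfl⟩⟩ * c⁻¹, ?_, by simp [mul_assoc]⟩
    rw [← hc, Sylow.coe_subgroup_smul]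
    exact Subgroup.mem_pointwise_smul_iff_inv_smul_mem.2 (by simpa [mul_assoc] using hm)
  · have hcy : Commute (c : G) S.y := Subgroup.mem_centralizer_singleton_iff.1 c.2
    have e : ∀ w : G, Commute (c : G) w → (c : G) * w * (c : G)⁻¹ = w := fun w h => by
      rw [h.eq, mul_inv_cancel_right]
    have e' : (c : G) * g * S.z * ((c : G) * g)⁻¹ = c * (g * S.z * g⁻¹) * (c : G)⁻¹ := by group
    rw [e']
    rcases hgy with h | h
    · exact Or.inl (by rw [h, e _ hcy])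
    · exact Or.inr (by rw [h, e _ hcy.inv_right])

/-- `Q` is transitive on the nine lines of points other than `⟨z⟩`. -/
theorem exists_Q_y {v : J4} (h0 : v ≠ 0) (hq : quad v = 0) (hb : v.2.1 ≠ 0) :
    ∃ q ∈ S.Q, q * S.y * q⁻¹ = S.jj v ∨ q * S.y * q⁻¹ = (S.jj v)⁻¹ := by
  have key : ∀ u : J4, u ≠ 0 → quad u = 0 → u.2.1 = 1 → ∃ q ∈ S.Q, q * S.y * q⁻¹ = S.jj u := by
    intro u hu0 huq hu1
    obtain ⟨q, hq', hvq⟩ := S.vec_surj ((0, -u.2.2.1), (0, -u.2.2.2))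
    refine ⟨q, hq', ?_⟩
    have hqz := S.Q_le q hq'
    have hq3 : S.φ q ^ 3 = 1 := by rw [S.φ_of_mem hq', one_pow]
    obtain ⟨⟨k, b, c, d⟩, hw⟩ := S.mem_J.1
      (S.conj_mem_J hqz hq3 (by rw [S.φ_of_mem hq', one_mul, mul_one]) S.y_mem_J)
    have hb1 : b = 1 := uu_pow_inj b (by
      rw [← S.φ_y', ← S.φ_jj (k, b, c, d), hw, S.φ_conj hqz S.y_comm, S.φ_of_mem hq', one_mul, inv_one,
        mul_one])
    subst hb1
    have hyq : S.y * q⁻¹ * S.y⁻¹ ∈ S.Q := S.conj_mem _ S.y_comm _ (inv_mem hq')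
    have hvec : S.vec (S.jj ((k, 1, c, d) + -(0, 1, 0, 0))) = ((u.2.2.1, 0), (u.2.2.2, 0)) := by
      rw [S.jj_add, hw, S.jj_neg, S.jj_y,
        show q * S.y * q⁻¹ * S.y⁻¹ = q * (S.y * q⁻¹ * S.y⁻¹) by group, S.vec_mul _ hq' _ hyq,
        S.vec_conj _ S.y_comm _ (inv_mem hq'), S.vec_inv hq', S.φ_y', hvq]
      have : ∀ c d : K, ((0, -c), (0, -d)) + Mon.act uu (-((0, -c), (0, -d)) : V) = ((c, 0), (d, 0)) := by
        decide +kernel
      exact this _ _
    rw [S.vec_jj (by simp)] at hvec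
    obtain ⟨hc, hd⟩ : c = u.2.2.1 ∧ d = u.2.2.2 := by simpa [Prod.ext_iff] using hvec
    have hne : ((k, 1, c, d) : J4) ≠ 0 := by simp [Prod.ext_iff]
    have hsing := ((S.isPt_jj _).1 (hw ▸ (S.isPt_y).conj q)).2
    rw [← hw]
    refine congrArg S.jj ?_
    rw [quad_beta u hu0 huq hu1, quad_beta _ hne hsing rfl]
    simp [hc, hd]
  rcases beta_cases v.2.1 with h | h | h
  · exact absurd h hb
  · obtain ⟨q, hq', e⟩ := key v h0 hq h
    exact ⟨q, hq', Or.inl e⟩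
  · obtain ⟨q, hq', e⟩ := key (-v) (neg_ne_zero.2 h0) (quad_neg v hq) (by simp [h])
    exact ⟨q, hq', Or.inr (by rw [e, S.jj_neg])⟩

/-- The normaliser of `J` is transitive on the lines of points. -/
theorem exists_normalizer_z [Finite G] {v : J4} (h0 : v ≠ 0)
    (hq : quad v = 0) : ∃ g ∈ Subgroup.normalizer (S.J : Set G),
      g * S.z * g⁻¹ = S.jj v ∨ g * S.z * g⁻¹ = (S.jj v)⁻¹ := by
  by_cases hb : v.2.1 = 0
  · refine ⟨1, one_mem _, ?_⟩
    rcases quad_perp v h0 hq hb with rfl | rfl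
    · exact Or.inl (by rw [S.jj_z]; group)
    · exact Or.inr (by rw [S.jj_neg, inv_inv, S.jj_z]; group)
  obtain ⟨g, hg, hgy⟩ := S.exists_normalizer_y
  obtain ⟨q, hqQ, hqv⟩ := S.exists_Q_y h0 hq hb
  refine ⟨q * g, mul_mem (S.Q_le_normalizer hqQ) hg, ?_⟩
  have e : q * g * S.z * (q * g)⁻¹ = q * (g * S.z * g⁻¹) * q⁻¹ := by group
  have e' : q * S.y⁻¹ * q⁻¹ = (q * S.y * q⁻¹)⁻¹ := by group
  rw [e]
  rcases hgy with h | h <;> rcases hqv with h' | h' <;> rw [h] <;> simp [e', h']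

/-- The normaliser of `J` is 2-transitive on the lines of points. -/
theorem exists_normalizer_pair [Finite G] {v w : J4} (hv : v ≠ 0)
    (hvq : quad v = 0) (hw : w ≠ 0) (hwq : quad w = 0) (hne : w ≠ v) (hne' : w ≠ -v) :
    ∃ g ∈ Subgroup.normalizer (S.J : Set G), (g * S.z * g⁻¹ = S.jj v ∨ g * S.z * g⁻¹ = (S.jj v)⁻¹) ∧
      (g * S.y * g⁻¹ = S.jj w ∨ g * S.y * g⁻¹ = (S.jj w)⁻¹) := by
  obtain ⟨g, hg, hgz⟩ := S.exists_normalizer_z hv hvq
  have hm : g⁻¹ * S.jj w * g ∈ S.J := by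
    have := (Subgroup.mem_normalizer_iff.1 (inv_mem hg) (S.jj w)).1 (S.jj_mem w)
    simpa using this
  obtain ⟨u, hu⟩ := S.mem_J.1 hm
  have hback : g * S.jj u * g⁻¹ = S.jj w := by rw [hu]; group
  have hpt : S.IsPt (S.jj u) := by
    rw [hu]; simpa using ((S.isPt_jj w).2 ⟨hw, hwq⟩).conj g⁻¹
  obtain ⟨hu0, huq⟩ := (S.isPt_jj u).1 hpt
  have hub : u.2.1 ≠ 0 := fun hb => by
    have hback' : S.jj w = S.jj v ∨ S.jj w = (S.jj v)⁻¹ := by
      have e : g * S.z⁻¹ * g⁻¹ = (g * S.z * g⁻¹)⁻¹ := by group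
      rcases quad_perp u hu0 huq hb with rfl | rfl
      · rw [S.jj_z] at hback
        rcases hgz with h | h <;> rw [h] at hback
        exacts [Or.inl hback.symm, Or.inr hback.symm]
      · rw [S.jj_neg, S.jj_z, e] at hback
        rcases hgz with h | h <;> rw [h] at hback
        exacts [Or.inr hback.symm, Or.inl (by rw [← hback, inv_inv])]
    rcases hback' with h | h
    · exact hne (S.jj_inj h)
    · exact hne' (S.jj_inj (by rw [h, S.jj_neg]))
  obtain ⟨q, hqQ, hqu⟩ := S.exists_Q_y hu0 huq hub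
  refine ⟨g * q, mul_mem hg (S.Q_le_normalizer hqQ), ?_, ?_⟩
  · have e : g * q * S.z * (g * q)⁻¹ = g * (q * S.z * q⁻¹) * g⁻¹ := by group
    rw [e, (S.Q_le q hqQ).eq, mul_inv_cancel_right]
    exact hgz
  · have e : g * q * S.y * (g * q)⁻¹ = g * (q * S.y * q⁻¹) * g⁻¹ := by group
    rw [e]
    rcases hqu with h | h
    · exact Or.inl (by rw [h, hback])
    · exact Or.inr (by rw [h, ← hback]; group)

/-- Two independent points of `J` determine `J`. -/
theorem mem_J_of_pair [Finite G] {v w : J4} (hv : v ≠ 0)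
    (hvq : quad v = 0) (hw : w ≠ 0) (hwq : quad w = 0) (hne : w ≠ v) (hne' : w ≠ -v) {x : G}
    (hx : S.IsPt x) (hxv : Commute x (S.jj v)) (hxw : Commute x (S.jj w)) : x ∈ S.J := by
  obtain ⟨g, hg, h1, h2⟩ := S.exists_normalizer_pair hv hvq hw hwq hne hne'
  have cz : Commute x (g * S.z * g⁻¹) := by
    rcases h1 with h | h <;> rw [h]
    exacts [hxv, hxv.inv_right]
  have cy : Commute x (g * S.y * g⁻¹) := by
    rcases h2 with h | h <;> rw [h]
    exacts [hxw, hxw.inv_right]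
  have key : g⁻¹ * x * g ∈ S.J := by
    refine S.mem_J_of_pt (x := g⁻¹ * x * g) (by simpa using hx.conj g⁻¹) ?_ ?_
    · simpa [mul_assoc] using cz.map (MulAut.conj g⁻¹).toMonoidHom
    · simpa [mul_assoc] using cy.map (MulAut.conj g⁻¹).toMonoidHom
  have := (Subgroup.mem_normalizer_iff.1 hg _).1 key
  simpa [mul_assoc] using this

/-! ### The centraliser of `J` -/

theorem φ_of_commute_W {h : G} (hz : Commute h S.z) (hX : Commute h S.X) (hX' : Commute h S.X') :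
    Mon.act (S.φ h) ((1, 0), 0) = ((1, 0), 0) ∧ Mon.act (S.φ h) (0, (1, 0)) = (0, (1, 0)) := by
  constructor
  · rw [← S.vec_X, ← S.vec_conj h hz _ S.X_mem, hX.eq, mul_inv_cancel_right]
  · rw [← S.vec_X', ← S.vec_conj h hz _ S.X'_mem, hX'.eq, mul_inv_cancel_right]

theorem pow_nine_of_commute_W {h : G} (hz : Commute h S.z) (hX : Commute h S.X) (hX' : Commute h S.X') :
    h ^ 9 = 1 := by
  obtain ⟨h1, h2⟩ := S.φ_of_commute_W hz hX hX'
  have h3 := fix_upper_cube _ h1 h2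
  have hQ : h ^ 3 ∈ S.Q := by
    refine (S.φ_ker _ (hz.pow_left _)).1 ?_
    rw [pow_three, S.φ_mul _ _ hz (hz.mul_left hz), S.φ_mul _ _ hz hz, ← pow_three, h3]
  rw [show 9 = 3 * 3 from rfl, pow_mul]
  exact S.cube _ hQ

theorem commute_of_mem_centralizer {h : G} (hh : h ∈ Subgroup.centralizer (S.J : Set G)) (v : J4) :
    Commute h (S.jj v) :=
  (hh (S.jj v) (S.jj_mem v)).symm

/-- The centraliser of `J` is a three-group. -/
theorem isPGroup_centralizer_J : IsPGroup 3 (Subgroup.centralizer (S.J : Set G)) := fun h =>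
  ⟨2, Subtype.ext (by
    have := S.pow_nine_of_commute_W (h := (h : G)) (S.jj_z ▸ S.commute_of_mem_centralizer h.2 _)
      (S.jj_X ▸ S.commute_of_mem_centralizer h.2 _) (S.jj_X' ▸ S.commute_of_mem_centralizer h.2 _)
    simpa using this)⟩

/-- The centraliser of `J` meets `Q` in `⟨z, X, X'⟩`. -/
theorem centralizer_inf_Q :
    Subgroup.centralizer (S.J : Set G) ⊓ S.Q = Subgroup.closure {S.z, S.X, S.X'} := by
  apply le_antisymm
  · rintro q ⟨hc, hq⟩
    obtain ⟨v, hv, rfl⟩ := S.mem_J_of_mem_Q_of_commute hq (S.jj_X ▸ S.commute_of_mem_centralizer hc _)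
      (S.jj_X' ▸ S.commute_of_mem_centralizer hc _)
    rw [jj, hv, ZMod.val_zero, pow_zero, mul_one]
    exact mul_mem (mul_mem (pow_mem (Subgroup.subset_closure (by simp)) _)
      (pow_mem (Subgroup.subset_closure (by simp)) _)) (pow_mem (Subgroup.subset_closure (by simp)) _)
  · rw [Subgroup.closure_le]
    have hc : ∀ v : J4, S.jj v ∈ Subgroup.centralizer (S.J : Set G) := fun v g hg =>
      (S.commute_J hg v).eq
    rintro x (rfl | rfl | rfl)
    · exact ⟨S.jj_z ▸ hc _, S.z_mem⟩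
    · exact ⟨S.jj_X ▸ hc _, S.X_mem⟩
    · exact ⟨S.jj_X' ▸ hc _, S.X'_mem⟩

/-! ### Subgroups of order prime to three normalised by `J` -/

theorem eq_bot_of_le_cent [Finite G] {L : Subgroup G} (hL : ¬ 3 ∣ Nat.card L)
    (hLz : ∀ l ∈ L, Commute l S.z) (hJL : S.J ≤ Subgroup.normalizer (L : Set G)) : L = ⊥ := by
  rw [Subgroup.eq_bot_iff_forall]
  intro l hl
  have hcop : ∀ w ∈ S.J, w ∈ S.Q → Commute l w := fun w hwJ hwQ => by
    have h1 : l * w * l⁻¹ * w⁻¹ ∈ L := by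
      have := (Subgroup.mem_normalizer_iff.1 (hJL hwJ) l⁻¹).1 (inv_mem hl)
      have e : l * w * l⁻¹ * w⁻¹ = l * (w * l⁻¹ * w⁻¹) := by group
      rw [e]; exact mul_mem hl this
    have h2 : l * w * l⁻¹ * w⁻¹ ∈ S.Q := mul_mem (S.conj_mem l (hLz l hl) w hwQ) (inv_mem hwQ)
    have h3 : orderOf (l * w * l⁻¹ * w⁻¹) = 1 := by
      rcases (Nat.dvd_prime Nat.prime_three).1 (orderOf_dvd_of_pow_eq_one (S.cube _ h2)) with h | h
      · exact h
      · exact absurd (h ▸ Subgroup.orderOf_dvd_natCard L h1) hL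
    exact mul_inv_eq_iff_eq_mul.1 (mul_inv_eq_one.1 (orderOf_eq_one_iff.1 h3))
  have h9 := S.pow_nine_of_commute_W (hLz l hl) (hcop _ (S.jj_X ▸ S.jj_mem _) S.X_mem)
    (hcop _ (S.jj_X' ▸ S.jj_mem _) S.X'_mem)
  have hd : orderOf l ∣ Nat.gcd 9 (Nat.card L) :=
    Nat.dvd_gcd (orderOf_dvd_of_pow_eq_one h9) (Subgroup.orderOf_dvd_natCard L hl)
  have hg : Nat.gcd 9 (Nat.card L) = 1 := by
    rw [show 9 = 3 ^ 2 from rfl]
    exact ((Nat.Prime.coprime_iff_not_dvd Nat.prime_three).2 hL).pow_left 2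
  rw [hg, Nat.dvd_one, orderOf_eq_one_iff] at hd
  exact hd

/-- Every hyperplane of `J` contains a point. -/
theorem exists_pt_of_cyclic {B : Subgroup G} (hB : B ≤ S.J)
    (hc : ∃ g ∈ S.J, S.J ≤ B ⊔ Subgroup.zpowers g) : ∃ p : J4, p ≠ 0 ∧ quad p = 0 ∧ S.jj p ∈ B := by
  obtain ⟨g, hg, hle⟩ := hc
  obtain ⟨w, rfl⟩ := S.mem_J.1 hg
  have hn : ∀ (n : ℕ) (u : J4), S.jj (n • u) = S.jj u ^ n := fun n u => by
    induction n with
    | zero => rw [zero_smul, pow_zero, S.jj_zero]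
    | succ n ih => rw [succ_nsmul, S.jj_add, ih, pow_succ]
  have hdec : ∀ v : J4, ∃ k : K, S.jj (v + -(k.val • w)) ∈ B := fun v => by
    have hnorm : Subgroup.zpowers (S.jj w) ≤ Subgroup.normalizer (B : Set G) := by
      rw [Subgroup.zpowers_le]
      refine Subgroup.mem_normalizer_iff.2 fun b => ⟨fun hb => ?_, fun hb => ?_⟩
      · rwa [← (S.commute_J (hB hb) w).eq, mul_inv_cancel_right]
      · have hc' := S.commute_J (hB hb) w
        have e : b = S.jj w * b * (S.jj w)⁻¹ := by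
          calc b = (S.jj w)⁻¹ * (S.jj w * b * (S.jj w)⁻¹ * S.jj w) := by group
            _ = _ := by rw [hc'.eq, inv_mul_cancel_left]
        exact e ▸ hb
    have h := hle (S.jj_mem v)
    rw [← SetLike.mem_coe, Subgroup.coe_mul_of_right_le_normalizer_left _ _ hnorm] at h
    obtain ⟨b, hb, z', hz', e⟩ := h
    obtain ⟨n, rfl⟩ := Subgroup.mem_zpowers_iff.1 hz'
    refine ⟨(n : K), ?_⟩
    have hk : S.jj w ^ n = S.jj w ^ (n : K).val := by
      rw [← zpow_natCast, ZMod.val_intCast]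
      refine zpow_eq_zpow_iff_modEq.2 ?_
      have hd : (orderOf (S.jj w) : ℤ) ∣ 3 :=
        Int.natCast_dvd_natCast.2 (orderOf_dvd_of_pow_eq_one (S.jj_cube w))
      exact Int.ModEq.of_dvd hd (Int.mod_modEq n 3).symm
    rw [S.jj_add, S.jj_neg, hn, ← hk, ← e]
    simpa using hb
  choose f hf using hdec
  obtain ⟨p, hp0, hpq, hpd⟩ := dot_singular (f (1, 0, 0, 0), f (0, 1, 0, 0), f (0, 0, 1, 0), f (0, 0, 0, 1))
  refine ⟨p, hp0, hpq, ?_⟩
  have hmul : ∀ (n : ℕ) (u : J4), S.jj u ∈ B → S.jj (n • u) ∈ B := fun n u hu => by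
    rw [hn]; exact pow_mem hu n
  have hsum : ∀ (p c w : J4), c.1 * p.1 + c.2.1 * p.2.1 + c.2.2.1 * p.2.2.1 + c.2.2.2 * p.2.2.2 = 0 →
      p = p.1.val • ((1, 0, 0, 0) + -(c.1.val • w)) + p.2.1.val • ((0, 1, 0, 0) + -(c.2.1.val • w)) +
        p.2.2.1.val • ((0, 0, 1, 0) + -(c.2.2.1.val • w)) +
        p.2.2.2.val • ((0, 0, 0, 1) + -(c.2.2.2.val • w)) := by
    intro p c w h
    have hs : ∀ (a : K) (u : J4), a.val • u = (a * u.1, a * u.2.1, a * u.2.2.1, a * u.2.2.2) := by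
      intro a u
      ext <;> simp
    simp only [hs]
    obtain ⟨p1, p2, p3, p4⟩ := p
    obtain ⟨w1, w2, w3, w4⟩ := w
    ext <;> simp only [Prod.fst_add, Prod.snd_add, Prod.neg_mk] <;>
      [linear_combination w1 * h; linear_combination w2 * h; linear_combination w3 * h;
        linear_combination w4 * h]
  rw [hsum p _ w hpd]
  simp only [S.jj_add]
  exact mul_mem (mul_mem (mul_mem (hmul _ _ (hf _)) (hmul _ _ (hf _))) (hmul _ _ (hf _)))
    (hmul _ _ (hf _))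

/-- `J` normalises no non-trivial subgroup of order prime to three. -/
theorem eq_bot_of_normalized [Finite G] {L : Subgroup G}
    (hL : ¬ 3 ∣ Nat.card L) (hJL : S.J ≤ Subgroup.normalizer (L : Set G)) : L = ⊥ := by
  haveI : IsMulCommutative S.J := ⟨⟨fun a b => Subtype.ext (by
    obtain ⟨v, hv⟩ := S.mem_J.1 b.2
    have h := (S.commute_J a.2 v).eq
    rw [hv] at h
    exact h)⟩⟩
  rw [eq_bot_iff]
  have hcop : (Nat.card S.J).Coprime (Nat.card L) := by
    rw [S.card_J, show 81 = 3 ^ 4 from rfl]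
    exact ((Nat.Prime.coprime_iff_not_dvd Nat.prime_three).2 hL).pow_left 4
  refine Coprime.le_of_cyclic_quotient hJL hcop fun B hB hc => ?_
  obtain ⟨p, hp0, hpq, hpB⟩ := S.exists_pt_of_cyclic hB hc
  obtain ⟨g, hg, hgz⟩ := S.exists_normalizer_z hp0 hpq
  rw [le_bot_iff, Subgroup.eq_bot_iff_forall]
  intro l hl
  set L0 := L ⊓ Subgroup.centralizer ({g * S.z * g⁻¹} : Set G) with hL0
  set L1 := L0.map (MulAut.conj g⁻¹).toMonoidHom with hL1
  have hbot : L1 = ⊥ := by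
    refine S.eq_bot_of_le_cent ?_ ?_ ?_
    · rw [hL1, Subgroup.card_map_of_injective (MulAut.conj g⁻¹).injective]
      exact fun hd => hL (hd.trans (Subgroup.card_dvd_of_le inf_le_left))
    · rintro _ ⟨a, ⟨-, ha⟩, rfl⟩
      have hc : Commute a (g * S.z * g⁻¹) := Subgroup.mem_centralizer_singleton_iff.1 ha
      simpa [mul_assoc] using hc.map (MulAut.conj g⁻¹).toMonoidHom
    · intro j hj
      refine Subgroup.mem_normalizer_fintype ?_
      rintro _ ⟨a, ⟨haL, hac⟩, rfl⟩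
      have hj' : g * j * g⁻¹ ∈ S.J := (Subgroup.mem_normalizer_iff.1 hg j).1 hj
      refine ⟨g * j * g⁻¹ * a * (g * j * g⁻¹)⁻¹, ⟨?_, ?_⟩, ?_⟩
      · exact (Subgroup.mem_normalizer_iff.1 (hJL hj') a).1 haL
      · refine Subgroup.mem_centralizer_singleton_iff.2 (Commute.eq ?_)
        have hc : Commute a (g * S.z * g⁻¹) := Subgroup.mem_centralizer_singleton_iff.1 hac
        have hjc : Commute (g * j * g⁻¹) (g * S.z * g⁻¹) := by
          simpa using ((S.jj_z ▸ S.commute_J hj _ : Commute j S.z)).map (MulAut.conj g).toMonoidHom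
        exact (hjc.mul_left hc).mul_left hjc.inv_left
      · simp [mul_assoc]
  have hc' : Commute l (g * S.z * g⁻¹) := by
    have h : Commute l (S.jj p) := (hl.2 (S.jj p) hpB).symm
    rcases hgz with e | e <;> rw [e]
    exacts [h, h.inv_right]
  have hm : MulAut.conj g⁻¹ l ∈ L1 := ⟨l, ⟨hl.1, Subgroup.mem_centralizer_singleton_iff.2 hc'.eq⟩, rfl⟩
  rw [hbot, Subgroup.mem_bot] at hm
  rw [MulAut.conj_apply, inv_inv] at hm
  calc l = g * (g⁻¹ * l * g) * g⁻¹ := by group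
    _ = 1 := by rw [hm]; group

end Std

end Cfsg.Agent.U62ThreeCent
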