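/-
Elements fixing points of `J` and elements centralising `J`.

* `Std.mem_norm_of_pair` : an element fixing two independent points of `J` normalises `J`;
* `Std.mem_norm_of_point` : so does one fixing a point and a plane of elements orthogonal to it without points;
* `Std.jh`, `Std.exists_jh` : coordinates of `C(J) = J⟨h⟩`.
-/
import Cfsg.Agent.Lib.U62ThreeCent.JStruct
import Cfsg.Agent.Lib.U62ThreeCent.CoreH

set_option autoImplicit false
set_option maxRecDepth 100000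
set_option linter.unusedSectionVars false

namespace Cfsg.Agent.U62ThreeCent

open Cfsg.Agent.PSpThree

theorem orth_of_free : ∀ W : J4, quad W ≠ 0 → quad ((1, 0, 0, 0) + W) ≠ 0 →
    quad ((1, 0, 0, 0) + -W) ≠ 0 → W.2.1 = 0 := by decide +kernel

theorem free_line : ∀ W : J4, W.2.1 = 0 → W.2.2.1 = 0 → W.2.2.2 = 0 → quad W = 0 := by decide +kernel

theorem plane_span : ∀ c₁ d₁ c₂ d₂ : K, (∀ r s : K, r ≠ 0 ∨ s ≠ 0 → r * c₁ + s * c₂ ≠ 0 ∨ r * d₁ + s * d₂ ≠ 0) →
    (∃ r s : K, r * c₁ + s * c₂ = 1 ∧ r * d₁ + s * d₂ = 0) ∧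
    ∃ r s : K, r * c₁ + s * c₂ = 0 ∧ r * d₁ + s * d₂ = 1 := by decide +kernel

namespace Std

variable {G : Type*} [Group G] (S : Std G)

theorem quad_iff_of_conj {n : G} {u w : J4} (e : n * S.jj u * n⁻¹ = S.jj w) : quad u = 0 ↔ quad w = 0 := by
  rcases eq_or_ne u 0 with rfl | hu
  · rw [S.jj_zero, mul_one, mul_inv_cancel] at e
    rw [S.jj_eq_one.1 e.symm]
  have hw : w ≠ 0 := fun h => hu (S.jj_eq_one.1 (conj_eq_one_iff.1 (e.trans (by rw [h, S.jj_zero]))))
  have h : S.IsPt (S.jj u) ↔ S.IsPt (S.jj w) := by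
    constructor
    · intro h; rw [← e]; exact h.conj n
    · intro h
      have := h.conj n⁻¹
      rw [← e] at this
      simpa [mul_assoc] using this
  rw [S.isPt_jj, S.isPt_jj] at h
  exact ⟨fun hq => (h.1 ⟨hu, hq⟩).2, fun hq => (h.2 ⟨hw, hq⟩).2⟩

theorem jj_smul (c : K) (v : J4) : S.jj (c • v) = S.jj v ^ c.val := by
  have h : ∀ c : K, c = 0 ∨ c = 1 ∨ c = 2 := by decide
  rcases h c with rfl | rfl | rfl
  · rw [zero_smul, S.jj_zero, ZMod.val_zero, pow_zero]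
  · rw [one_smul, ZMod.val_one, pow_one]
  · rw [show (2 : K) • v = v + v by rw [show (2 : K) = 1 + 1 from rfl, add_smul, one_smul], S.jj_add,
      show (2 : K).val = 2 from rfl, pow_two]

theorem commute_comb {g : G} {v w : J4} (hv : Commute g (S.jj v)) (hw : Commute g (S.jj w)) (r s : K) :
    Commute g (S.jj (r • v + s • w)) := by
  rw [S.jj_add, S.jj_smul, S.jj_smul]
  exact (hv.pow_right _).mul_right (hw.pow_right _)

variable [Finite G]

/-- An element fixing two independent points of `J` normalises `J`. -/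
theorem mem_norm_of_pair {v w : J4} (hv : v ≠ 0) (hvq : quad v = 0) (hw : w ≠ 0) (hwq : quad w = 0)
    (hne : w ≠ v) (hne' : w ≠ -v) {g : G} (h1 : Commute g (S.jj v)) (h2 : Commute g (S.jj w)) :
    g ∈ Subgroup.normalizer (S.J : Set G) := by
  refine S.mem_normalizer_of fun j hj => ?_
  have hle : S.J ≤ S.J.comap (MulAut.conj g).toMonoidHom := S.J_le_of_pts fun x hx hxp => by
    have key : ∀ u : J4, Commute g (S.jj u) → Commute (g * x * g⁻¹) (S.jj u) := fun u hu => by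
      have h := (S.commute_J hx u).map (MulAut.conj g).toMonoidHom
      simp only [MulEquiv.coe_toMonoidHom, MulAut.conj_apply] at h
      rwa [hu.eq, mul_inv_cancel_right] at h
    exact S.mem_J_of_pair hv hvq hw hwq hne hne' (hxp.conj g) (key v h1) (key w h2)
  exact hle hj

/-- An element fixing a point and a plane orthogonal to it without points normalises `J`. -/
theorem mem_norm_of_point {p l₁ l₂ : J4} (hp : p ≠ 0) (hpq : quad p = 0)
    (hl : ∀ r s : K, r ≠ 0 ∨ s ≠ 0 → quad (r • l₁ + s • l₂) ≠ 0 ∧ quad (p + (r • l₁ + s • l₂)) ≠ 0)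
    {g : G} (hgp : Commute g (S.jj p)) (hg₁ : Commute g (S.jj l₁)) (hg₂ : Commute g (S.jj l₂)) :
    g ∈ Subgroup.normalizer (S.J : Set G) := by
  obtain ⟨m, hm, hmz⟩ := S.exists_normalizer_z hp hpq
  have hmem : ∀ u : J4, ∃ w, S.jj w = m⁻¹ * S.jj u * m := fun u => by
    have := (Subgroup.mem_normalizer_iff.1 (inv_mem hm) (S.jj u)).1 (S.jj_mem u)
    rw [inv_inv] at this
    exact S.mem_J.1 this
  obtain ⟨w₁, hw₁⟩ := hmem l₁
  obtain ⟨w₂, hw₂⟩ := hmem l₂
  have hcw : ∀ u w, S.jj w = m⁻¹ * S.jj u * m → Commute g (S.jj u) → Commute (m⁻¹ * g * m) (S.jj w) := by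
    intro u w e hu
    have := hu.map (MulAut.conj m⁻¹).toMonoidHom
    simpa [e, mul_assoc] using this
  set g' := m⁻¹ * g * m with hg'
  have hz : Commute g' S.z := by
    have e : Commute g (m * S.z * m⁻¹) := by
      rcases hmz with h | h <;> rw [h]
      exacts [hgp, hgp.inv_right]
    have := e.map (MulAut.conj m⁻¹).toMonoidHom
    simpa [hg', mul_assoc] using this
  have hc : ∀ r s : K, m * S.jj (r • w₁ + s • w₂) * m⁻¹ = S.jj (r • l₁ + s • l₂) := fun r s => by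
    rw [S.jj_add, S.jj_smul, S.jj_smul, S.jj_add, S.jj_smul, S.jj_smul, hw₁, hw₂,
      show m * ((m⁻¹ * S.jj l₁ * m) ^ r.val * (m⁻¹ * S.jj l₂ * m) ^ s.val) * m⁻¹ =
        (m * (m⁻¹ * S.jj l₁ * m) ^ r.val * m⁻¹) * (m * (m⁻¹ * S.jj l₂ * m) ^ s.val * m⁻¹) by group,
      ← conj_pow, ← conj_pow]
    group
  -- the plane seen from `z`
  have hW : ∀ r s : K, r ≠ 0 ∨ s ≠ 0 → (r • w₁ + s • w₂).2.1 = 0 := by
    have hsum : ∀ r s : K, (quad ((1, 0, 0, 0) + (r • w₁ + s • w₂)) = 0 ↔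
        quad (p + (r • l₁ + s • l₂)) = 0 ∨ False) ∨
        (quad ((1, 0, 0, 0) + (r • w₁ + s • w₂)) = 0 ↔ quad (-p + (r • l₁ + s • l₂)) = 0) := by
      intro r s
      rcases hmz with h | h
      · left
        rw [or_false]
        refine S.quad_iff_of_conj (n := m) ?_
        rw [S.jj_add, S.jj_z, show m * (S.z * S.jj (r • w₁ + s • w₂)) * m⁻¹ =
          (m * S.z * m⁻¹) * (m * S.jj (r • w₁ + s • w₂) * m⁻¹) by group, h, hc, ← S.jj_add]
      · right
        refine S.quad_iff_of_conj (n := m) ?_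
        rw [S.jj_add, S.jj_z, show m * (S.z * S.jj (r • w₁ + s • w₂)) * m⁻¹ =
          (m * S.z * m⁻¹) * (m * S.jj (r • w₁ + s • w₂) * m⁻¹) by group, h, hc, ← S.jj_neg, ← S.jj_add]
    have hfree : ∀ r s : K, r ≠ 0 ∨ s ≠ 0 → quad ((1, 0, 0, 0) + (r • w₁ + s • w₂)) ≠ 0 := by
      intro r s hrs h0
      rcases hsum r s with e | e
      · exact (e.1 h0).elim (hl r s hrs).2 id
      · have hn := (hl (-r) (-s) (hrs.imp neg_ne_zero.2 neg_ne_zero.2)).2
        refine hn ?_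
        have : p + ((-r) • l₁ + (-s) • l₂) = -(-p + (r • l₁ + s • l₂)) := by module
        rw [this]
        exact quad_neg _ (e.1 h0)
    intro r s hrs
    refine orth_of_free _ (fun h0 => ?_) (hfree r s hrs) ?_
    · exact (hl r s hrs).1 ((S.quad_iff_of_conj (hc r s)).1 h0)
    · have := hfree (-r) (-s) (hrs.imp neg_ne_zero.2 neg_ne_zero.2)
      rwa [show (-r) • w₁ + (-s) • w₂ = -(r • w₁ + s • w₂) by module] at this
  have hWne : ∀ r s : K, r ≠ 0 ∨ s ≠ 0 →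
      r * w₁.2.2.1 + s * w₂.2.2.1 ≠ 0 ∨ r * w₁.2.2.2 + s * w₂.2.2.2 ≠ 0 := by
    intro r s hrs
    by_contra h
    push Not at h
    have hq : quad (r • w₁ + s • w₂) = 0 :=
      free_line _ (hW r s hrs) (by simpa using h.1) (by simpa using h.2)
    exact (hl r s hrs).1 ((S.quad_iff_of_conj (hc r s)).1 hq)
  have hX : ∀ c d : K, (∃ r s : K, r * w₁.2.2.1 + s * w₂.2.2.1 = c ∧ r * w₁.2.2.2 + s * w₂.2.2.2 = d) →
      c ≠ 0 ∨ d ≠ 0 → Commute g' (S.jj (0, 0, c, d)) := by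
    rintro c d ⟨r, s, hcc, hdd⟩ hcd
    have hrs : r ≠ 0 ∨ s ≠ 0 := by
      by_contra h
      push Not at h
      rw [h.1, h.2] at hcc hdd
      simp at hcc hdd
      exact hcd.elim (fun h => h hcc.symm) (fun h => h hdd.symm)
    set W := r • w₁ + s • w₂ with hWdef
    have h1 : Commute g' (S.jj W) :=
      S.commute_comb (hcw l₁ w₁ hw₁ hg₁) (hcw l₂ w₂ hw₂ hg₂) r s
    have e : ((0, 0, c, d) : J4) = W + (-W.1) • ((1, 0, 0, 0) : J4) :=
      Prod.ext (by simp) (Prod.ext (by simpa [hWdef] using (hW r s hrs).symm) (Prod.ext (by simp [hWdef, hcc])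
        (by simp [hWdef, hdd])))
    rw [e, S.jj_add, S.jj_smul, S.jj_z]
    exact h1.mul_right (hz.pow_right _)
  obtain ⟨hr, hs⟩ := plane_span _ _ _ _ hWne
  have hgX := hX 1 0 hr (Or.inl one_ne_zero)
  have hgX' := hX 0 1 hs (Or.inr one_ne_zero)
  rw [S.jj_X] at hgX
  rw [S.jj_X'] at hgX'
  obtain ⟨f1, f2⟩ := S.φ_of_commute_W hz hgX hgX'
  have hg'N : g' ∈ Subgroup.normalizer (S.J : Set G) :=
    S.mem_normalizer_of fun j hj => S.conj_mem_J hz (fix_upper_cube _ f1 f2) (fix_upper_comm _ f1 f2) hj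
  have := mul_mem (mul_mem hm hg'N) (inv_mem hm)
  simpa [hg', mul_assoc] using this

end Std

namespace Std

variable {G : Type*} [Group G] [Finite G] {S : Std G} {t h : G}

/-- Coordinates of `J⟨h⟩`. -/
def jh (S : Std G) (h : G) (v : J4 × K) : G := S.jj v.1 * h ^ v.2.val

namespace CoreH

variable (hc : S.CoreH t h)
include hc

theorem jh_add (v w : J4 × K) : S.jh h (v + w) = S.jh h v * S.jh h w := by
  simp only [jh, Prod.fst_add, Prod.snd_add]
  rw [S.jj_add, pow_val_add hc.h_cube, mul_mul_mul_mul ((hc.h_J _ (S.jj_mem w.1)).pow_left v.2.val)]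

theorem jh_zero : S.jh h 0 = 1 := by simp [jh, S.jj_zero]

theorem jh_neg (v : J4 × K) : S.jh h (-v) = (S.jh h v)⁻¹ :=
  eq_inv_of_mul_eq_one_left (by rw [← hc.jh_add, neg_add_cancel, hc.jh_zero])

theorem commute_jh (v w : J4 × K) : Commute (S.jh h v) (S.jh h w) := by
  show _ * _ = _ * _
  rw [← hc.jh_add, ← hc.jh_add, add_comm]

theorem commute_h (v : J4) : Commute h (S.jj v) := hc.h_J _ (S.jj_mem v)

theorem φ_h_pow (n : ℕ) : S.φ (h ^ n) = ⟨1, upperU ^ n, false⟩ := by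
  induction n with
  | zero => rw [pow_zero, pow_zero, S.φ_one, Mon.one_def]
  | succ n ih => rw [pow_succ, pow_succ, S.φ_mul _ _ (hc.h_z.pow_left n) hc.h_z, ih, hc.h_φ]; simp [Mon.mul_def]

theorem φ_jh (u : J4) (e : K) : S.φ (S.jh h (u, e)) = ⟨upperU ^ u.2.1.val, upperU ^ (u.2.1 + e).val, false⟩ := by
  rw [jh, S.φ_mul _ _ (S.commute_z_jj u) (hc.h_z.pow_left _), S.φ_jj, hc.φ_h_pow, S.φ_y, Mon.pow_false rfl]
  simp [Mon.mul_def, pow_val_add (show upperU ^ 3 = 1 by decide +kernel)]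

theorem jh_eq_one {v : J4 × K} (e : S.jh h v = 1) : v = 0 := by
  obtain ⟨u, k⟩ := v
  have hφ := hc.φ_jh u k
  rw [e, S.φ_one, Mon.one_def] at hφ
  simp only [Mon.mk.injEq, and_true] at hφ
  have h0 : ∀ k : K, (1 : SL23) = upperU ^ k.val → k = 0 := by decide +kernel
  have hb := h0 _ hφ.1
  have hk := h0 _ hφ.2
  rw [hb, zero_add] at hk
  subst hk
  have hu : S.jj u = 1 := by simpa [jh] using e
  rw [S.jj_eq_one.1 hu]; rfl

theorem jh_inj : Function.Injective (S.jh h) := fun v w e => sub_eq_zero.1 (hc.jh_eq_one (by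
  rw [sub_eq_add_neg, hc.jh_add, hc.jh_neg, e, mul_inv_cancel]))

/-- The centraliser of `J` is `J⟨h⟩`. -/
theorem exists_jh {g : G} (hg : ∀ v, Commute g (S.jj v)) : ∃ v, S.jh h v = g := by
  have hz : Commute g S.z := S.jj_z ▸ hg _
  obtain ⟨f1, f2⟩ := S.φ_of_commute_W hz (S.jj_X ▸ hg _) (S.jj_X' ▸ hg _)
  obtain ⟨hs, ha, hb⟩ := fix_upper f1 f2
  obtain ⟨i, hi⟩ := upperU_comm _ (sl_fix _ ha).1 (sl_fix _ ha).2
  obtain ⟨l, hl⟩ := upperU_comm _ (sl_fix _ hb).1 (sl_fix _ hb).2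
  set d := S.jh h ((0, i, 0, 0), l - i) with hd
  have hdc : ∀ v, Commute d (S.jj v) := fun v =>
    (S.commute_jj _ v).mul_left ((hc.commute_h v).pow_left _)
  have hdz : Commute d S.z := S.jj_z ▸ hdc _
  have hQ : g * d⁻¹ ∈ S.Q := by
    refine (S.φ_ker _ (hz.mul_left hdz.inv_left)).1 ?_
    rw [S.φ_mul _ _ hz hdz.inv_left, S.φ_inv hdz, hd, hc.φ_jh]
    simp [Mon.mul_def, Mon.inv_def, Mon.one_def, hs, hi, hl]
  obtain ⟨v, -, hv⟩ := S.mem_J_of_mem_Q_of_commute hQ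
    ((S.jj_X ▸ hg _ : Commute g S.X).mul_left (S.jj_X ▸ hdc _ : Commute d S.X).inv_left)
    ((S.jj_X' ▸ hg _ : Commute g S.X').mul_left (S.jj_X' ▸ hdc _ : Commute d S.X').inv_left)
  refine ⟨(v, 0) + ((0, i, 0, 0), l - i), ?_⟩
  rw [hc.jh_add, ← hd, show S.jh h (v, 0) = S.jj v by simp [jh], hv, inv_mul_cancel_right]

/-- The points of `J⟨h⟩` lie in `J`. -/
theorem jh_pt {v : J4 × K} (hp : S.IsPt (S.jh h v)) : v.2 = 0 := by
  have hcm : ∀ u, Commute (S.jh h v) (S.jj u) := fun u =>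
    (S.commute_jj _ u).mul_left ((hc.commute_h u).pow_left _)
  obtain ⟨u, hu⟩ := S.mem_J.1 (S.mem_J_of_pt hp (S.jj_z ▸ hcm _) (S.jj_y ▸ hcm _))
  have : S.jh h (u, 0) = S.jh h v := by rw [← hu]; simp [jh]
  rw [← hc.jh_inj this]

end CoreH

end Std

end Cfsg.Agent.U62ThreeCent
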