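/-
The cases of the configuration.

* `Cfg.Big` : a Sylow three-subgroup of `C(z)/Q` has order nine;
* `Cfg.Swap` : some element of `C(z)` exchanges the two planes.
-/
import Cfsg.Agent.Lib.U62ThreeCent.Linear

set_option autoImplicit false

namespace Cfsg.Agent.U62ThreeCent

namespace Cfg

variable {G : Type*} [Group G] (C : Cfg G)

/-- Some element of order three modulo `Q` acts trivially on one of the planes only. -/
def Big : Prop := ∃ h, Commute h C.z ∧ C.φ h ^ 3 = 1 ∧ (C.φ h).IsHalf

/-- Some element exchanges the two planes. -/
def Swap : Prop := ∃ h, Commute h C.z ∧ (C.φ h).s = true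

end Cfg

end Cfsg.Agent.U62ThreeCent
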