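/-
Elements inverting `z`: they normalise `Q` and permute the two planes.

* `refl`, `Mon.tw` : a fixed map of determinant `-1` on each plane and conjugation by it;
* `Cfg.inv_Q` : an element inverting `z` normalises `Q`;
* `Cfg.inv_coord` : its effect on `vec` and `φ` is given by an element of `Mon` following `refl`;
* `Std.exists_exchange` : some element inverting `z` exchanges the planes;
* `Std.no_inv_commute_X'` : without `Swap` none of them centralises `X'`.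
-/
import Cfsg.Agent.Lib.U62ThreeCent.Coord
import Cfsg.Agent.Lib.U62ThreeCent.Std
import Cfsg.Agent.Lib.U62ThreeCent.Cases

set_option autoImplicit false
set_option maxRecDepth 100000
set_option synthInstance.maxSize 2000
set_option linter.unusedSectionVars false

namespace Cfsg.Agent.U62ThreeCent

open Cfsg.Agent.PSpThree

/-- A reflection on each plane. -/
def refl2 (v : V2) : V2 := (v.1, -v.2)

/-- The reflection on both planes. -/
def refl (v : V) : V := (refl2 v.1, refl2 v.2)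

theorem refl_refl (v : V) : refl (refl v) = v := by simp [refl, refl2]

theorem refl_add (v w : V) : refl (v + w) = refl v + refl w := by
  simp [refl, refl2, add_comm]

theorem om_refl (v w : V) : om (refl v) (refl w) = -om v w := by
  simp [refl, refl2, om, det2]; ring

/-- Conjugation by the reflection. -/
def tw2 (A : SL23) : SL23 :=
  ⟨!![A.1 0 0, -A.1 0 1; -A.1 1 0, A.1 1 1], by
    have h := A.2
    rw [Matrix.det_fin_two] at h ⊢
    simp
    exact h⟩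

/-- Conjugation by the reflection on both planes. -/
def Mon.tw (m : Mon) : Mon := ⟨tw2 m.a, tw2 m.b, m.s⟩

theorem Mon.tw_s (m : Mon) : m.tw.s = m.s := rfl

theorem act2_tw2 (A : SL23) (v : V2) : act2 (tw2 A) v = refl2 (act2 A (refl2 v)) := by
  refine Prod.ext ?_ ?_ <;> simp [tw2, act2, refl2] <;> ring

theorem Mon.act_tw (m : Mon) (v : V) : Mon.act m.tw v = refl (Mon.act m (refl v)) := by
  rcases m with ⟨a, b, s⟩
  cases s <;> simp [Mon.tw, Mon.act, refl, act2_tw2]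

theorem sl_invol : ∀ a : SL23, a * a = 1 → a = 1 ∨ a = negOne := by decide +kernel

theorem sl_three_quat : ∀ a : SL23, a ^ 3 = 1 →
    (∀ b : SL23, b ^ 4 = 1 → (a * b * a⁻¹ * b⁻¹) ^ 3 = 1) → a = 1 := by decide +kernel

theorem sl_neg_comm : ∃ a b : SL23, a ^ 4 = 1 ∧ b ^ 4 = 1 ∧ a * b * a⁻¹ * b⁻¹ = negOne := by
  decide +kernel

theorem sl_neg_act : ∀ v : V2, act2 negOne v = -v := by decide +kernel

theorem neg_neg_ne : negOne * negOne = 1 ∧ negOne ≠ 1 := by decide +kernel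

theorem eq_zero_of_neg : ∀ v : V2, v = -v → v = 0 := by decide

theorem Mon.comm_s (x y : Mon) : (x * y * x⁻¹ * y⁻¹).s = false := by
  rcases x with ⟨xa, xb, xs⟩
  rcases y with ⟨ya, yb, ys⟩
  cases xs <;> cases ys <;> rfl

theorem Mon.mul_false (a b c d : SL23) :
    (⟨a, b, false⟩ : Mon) * ⟨c, d, false⟩ = ⟨a * c, b * d, false⟩ := by simp [Mon.mul_def]

theorem Mon.inv_false (a b : SL23) : (⟨a, b, false⟩ : Mon)⁻¹ = ⟨a⁻¹, b⁻¹, false⟩ := by
  simp [Mon.inv_def]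

theorem commute_conj {G : Type*} [Group G] {g h z : G} (hg : g * z * g⁻¹ = z⁻¹) (hh : Commute h z) :
    Commute (g * h * g⁻¹) z := by
  have h1 : Commute (g * h * g⁻¹) (g * z * g⁻¹) := (SemiconjBy.conj_iff (a := h) (b := g)).2 hh
  rw [hg] at h1
  exact Commute.inv_right_iff.1 h1

theorem inverts_inv {G : Type*} [Group G] {g z : G} (hg : g * z * g⁻¹ = z⁻¹) : g⁻¹ * z * g⁻¹⁻¹ = z⁻¹ := by
  have h : g * z⁻¹ * g⁻¹ = z := by rw [← conj_inv, hg, inv_inv]
  calc g⁻¹ * z * g⁻¹⁻¹ = g⁻¹ * (g * z⁻¹ * g⁻¹) * g⁻¹⁻¹ := by rw [h]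
    _ = z⁻¹ := by group

namespace Cfg

variable {G : Type*} [Group G] (C : Cfg G)

theorem φ_pow {x : G} (hx : Commute x C.z) (n : ℕ) : C.φ (x ^ n) = C.φ x ^ n := by
  induction n with
  | zero => rw [pow_zero, pow_zero, C.φ_one]
  | succ n ih => rw [pow_succ, pow_succ, C.φ_mul _ _ (hx.pow_left n) hx, ih]

theorem φ_comm {x y : G} (hx : Commute x C.z) (hy : Commute y C.z) :
    C.φ (x * y * x⁻¹ * y⁻¹) = C.φ x * C.φ y * (C.φ x)⁻¹ * (C.φ y)⁻¹ := by
  rw [C.φ_mul _ _ ((hx.mul_left hy).mul_left hx.inv_left) hy.inv_left,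
    C.φ_mul _ _ (hx.mul_left hy) hx.inv_left, C.φ_mul _ _ hx hy, C.φ_inv hx, C.φ_inv hy]

/-- An element inverting `z` normalises `Q`. -/
theorem inv_Q {g : G} (hg : g * C.z * g⁻¹ = C.z⁻¹) {q : G} (hq : q ∈ C.Q) : g * q * g⁻¹ ∈ C.Q := by
  have hx : Commute (g * q * g⁻¹) C.z := commute_conj hg (C.Q_le q hq)
  have hx3 : C.φ (g * q * g⁻¹) ^ 3 = 1 := by
    rw [← C.φ_pow hx, conj_pow, C.cube q hq, mul_one, mul_inv_cancel, C.φ_one]
  obtain ⟨hs, ha3, hb3, -⟩ := Mon.cube_cases hx3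
  have key : ∀ h, Commute h C.z →
      (C.φ (g * q * g⁻¹) * C.φ h * (C.φ (g * q * g⁻¹))⁻¹ * (C.φ h)⁻¹) ^ 3 = 1 := by
    intro h hh
    have hk : Commute (g⁻¹ * h * g⁻¹⁻¹) C.z := commute_conj (inverts_inv hg) hh
    have hm := C.conj_mem _ hk _ (inv_mem hq)
    rw [← C.φ_comm hx hh, ← C.φ_pow (((hx.mul_left hh).mul_left hx.inv_left).mul_left hh.inv_left),
      show g * q * g⁻¹ * h * (g * q * g⁻¹)⁻¹ * h⁻¹ =
        g * (q * ((g⁻¹ * h * g⁻¹⁻¹) * q⁻¹ * (g⁻¹ * h * g⁻¹⁻¹)⁻¹)) * g⁻¹ by group,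
      conj_pow, C.cube _ (mul_mem hq hm), mul_one, mul_inv_cancel, C.φ_one]
  have hmk : C.φ (g * q * g⁻¹) = ⟨(C.φ (g * q * g⁻¹)).a, (C.φ (g * q * g⁻¹)).b, false⟩ :=
    Mon.ext rfl rfl hs
  rw [← C.φ_ker _ hx, hmk]
  refine Mon.ext (sl_three_quat _ ha3 fun b hb => ?_) (sl_three_quat _ hb3 fun b hb => ?_) rfl
  · obtain ⟨h, hh, hφ⟩ := C.quat b 1 hb (one_pow _)
    have := key h hh
    rw [hφ, hmk, Mon.inv_false, Mon.inv_false, Mon.mul_false, Mon.mul_false, Mon.mul_false,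
      Mon.pow_false rfl] at this
    simpa [Mon.one_def] using congrArg Mon.a this
  · obtain ⟨h, hh, hφ⟩ := C.quat 1 b (one_pow _) hb
    have := key h hh
    rw [hφ, hmk, Mon.inv_false, Mon.inv_false, Mon.mul_false, Mon.mul_false, Mon.mul_false,
      Mon.pow_false rfl] at this
    simpa [Mon.one_def] using congrArg Mon.b this

theorem vec_eq {p q : G} (hp : p ∈ C.Q) (hq : q ∈ C.Q) :
    C.vec p = C.vec q ↔ p⁻¹ * q ∈ Subgroup.zpowers C.z := by
  rw [← C.vec_ker _ (mul_mem (inv_mem hp) hq), C.vec_mul _ (inv_mem hp) _ hq, C.vec_inv hp, neg_add_eq_zero]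

theorem vec_conj_eq {g : G} (hg : g * C.z * g⁻¹ = C.z⁻¹) {p q : G} (hp : p ∈ C.Q) (hq : q ∈ C.Q)
    (h : C.vec p = C.vec q) : C.vec (g * p * g⁻¹) = C.vec (g * q * g⁻¹) := by
  rw [C.vec_eq (C.inv_Q hg hp) (C.inv_Q hg hq)]
  obtain ⟨k, hk⟩ := Subgroup.mem_zpowers_iff.1 ((C.vec_eq hp hq).1 h)
  refine Subgroup.mem_zpowers_iff.2 ⟨-k, ?_⟩
  calc C.z ^ (-k) = (g * C.z * g⁻¹) ^ k := by rw [hg, inv_zpow, zpow_neg]
    _ = g * C.z ^ k * g⁻¹ := conj_zpow
    _ = (g * p * g⁻¹)⁻¹ * (g * q * g⁻¹) := by rw [hk]; group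

theorem z_pow_val_inj {a b : K} (h : C.z ^ a.val = C.z ^ b.val) : a = b := by
  have h' := pow_eq_pow_iff_modEq.1 h
  rw [C.z_ord] at h'
  exact ZMod.val_injective 3 (Nat.ModEq.eq_of_lt_of_lt h' (ZMod.val_lt a) (ZMod.val_lt b))

theorem inverts_pow_val {g : G} (hg : g * C.z * g⁻¹ = C.z⁻¹) (a : K) :
    g * C.z ^ a.val * g⁻¹ = C.z ^ (-a).val := by
  have h3 := C.z_pow
  rw [← conj_pow, hg]
  obtain rfl | rfl | rfl : a = 0 ∨ a = 1 ∨ a = 2 := (by decide : ∀ a : K, a = 0 ∨ a = 1 ∨ a = 2) a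
  · simp
  · rw [show (-1 : K).val = 2 from rfl, show (1 : K).val = 1 from rfl, pow_one]
    exact inv_eq_of_mul_eq_one_right (by rw [← pow_succ']; exact h3)
  · rw [show (-2 : K).val = 1 from rfl, show (2 : K).val = 2 from rfl, pow_one, inv_pow]
    exact inv_eq_of_mul_eq_one_right (by rw [← pow_succ]; exact h3)

/-- An element inverting `z` permutes the planes. -/
theorem inv_coord {g : G} (hg : g * C.z * g⁻¹ = C.z⁻¹) :
    ∃ m : Mon, (∀ q ∈ C.Q, C.vec (g * q * g⁻¹) = Mon.act m (refl (C.vec q))) ∧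
      ∀ h, Commute h C.z → Commute (g * h * g⁻¹) C.z ∧ C.φ (g * h * g⁻¹) = m * (C.φ h).tw * m⁻¹ := by
  choose w hw hwv using C.vec_surj
  let L : V → V := fun v => C.vec (g * w v * g⁻¹)
  have hLq : ∀ q ∈ C.Q, L (C.vec q) = C.vec (g * q * g⁻¹) := fun q hq =>
    C.vec_conj_eq hg (hw _) hq (hwv _)
  have hLadd : ∀ u v, L (u + v) = L u + L v := by
    intro u v
    have h := hLq _ (mul_mem (hw u) (hw v))
    rw [C.vec_mul _ (hw u) _ (hw v), hwv, hwv] at h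
    rw [h, show g * (w u * w v) * g⁻¹ = g * w u * g⁻¹ * (g * w v * g⁻¹) by group,
      C.vec_mul _ (C.inv_Q hg (hw u)) _ (C.inv_Q hg (hw v))]
  have hLom : ∀ u v, om (L u) (L v) = -om u v := by
    intro u v
    refine C.z_pow_val_inj ?_
    rw [← C.comm _ (C.inv_Q hg (hw u)) _ (C.inv_Q hg (hw v)), ← C.inverts_pow_val hg,
      show om u v = om (C.vec (w u)) (C.vec (w v)) by rw [hwv, hwv], ← C.comm _ (hw u) _ (hw v)]
    group
  have hconj : ∀ h, Commute h C.z → ∀ v,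
      Mon.act (C.φ (g * h * g⁻¹)) (L v) = L (Mon.act (C.φ h) v) := by
    intro h hh v
    have e := C.vec_conj _ (commute_conj hg hh) _ (C.inv_Q hg (hw v))
    rw [show g * h * g⁻¹ * (g * w v * g⁻¹) * (g * h * g⁻¹)⁻¹ = g * (h * w v * h⁻¹) * g⁻¹ by group,
      ← hLq _ (C.conj_mem h hh _ (hw v)), C.vec_conj h hh _ (hw v), hwv] at e
    exact e.symm
  obtain ⟨a, b, ha, hb, hab⟩ := sl_neg_comm
  obtain ⟨i, hi, hφi⟩ := C.quat a 1 ha (one_pow _)
  obtain ⟨j, hj, hφj⟩ := C.quat b 1 hb (one_pow _)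
  let h₁ : G := i * j * i⁻¹ * j⁻¹
  have hh₁ : Commute h₁ C.z := ((hi.mul_left hj).mul_left hi.inv_left).mul_left hj.inv_left
  have hφ₁ : C.φ h₁ = ⟨negOne, 1, false⟩ := by
    rw [C.φ_comm hi hj, hφi, hφj, Mon.inv_false, Mon.inv_false, Mon.mul_false, Mon.mul_false,
      Mon.mul_false, hab]
    simp
  set m₀ := C.φ (g * h₁ * g⁻¹) with hm₀
  have hm₀s : m₀.s = false := by
    rw [hm₀, show g * h₁ * g⁻¹ = g * i * g⁻¹ * (g * j * g⁻¹) * (g * i * g⁻¹)⁻¹ * (g * j * g⁻¹)⁻¹ by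
      simp only [h₁]; group, C.φ_comm (commute_conj hg hi) (commute_conj hg hj)]
    exact Mon.comm_s _ _
  have hm₀2 : m₀ * m₀ = 1 := by
    have hQ : h₁ * h₁ ∈ C.Q := by
      rw [← C.φ_ker _ (hh₁.mul_left hh₁), C.φ_mul _ _ hh₁ hh₁, hφ₁, Mon.mul_false, neg_neg_ne.1,
        one_mul]
      rfl
    rw [hm₀, ← C.φ_mul _ _ (commute_conj hg hh₁) (commute_conj hg hh₁),
      show g * h₁ * g⁻¹ * (g * h₁ * g⁻¹) = g * (h₁ * h₁) * g⁻¹ by group,
      C.φ_of_mem (C.inv_Q hg hQ)]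
  have hm₀L : ∀ v : V, Mon.act m₀ (L v) = L (-v.1, v.2) := by
    intro v
    rw [hm₀, hconj h₁ hh₁, hφ₁, Mon.act_false rfl, sl_neg_act, act2_one]
  have hm₀a : m₀.a * m₀.a = 1 := by
    simpa [Mon.mul_def, Mon.one_def, hm₀s] using congrArg Mon.a hm₀2
  have hm₀b : m₀.b * m₀.b = 1 := by
    simpa [Mon.mul_def, Mon.one_def, hm₀s] using congrArg Mon.b hm₀2
  have hL0 : L 0 = 0 := by simpa using hLadd 0 0
  have hLneg : ∀ v, L (-v) = -L v := fun v =>
    eq_neg_of_add_eq_zero_left (by rw [← hLadd, neg_add_cancel, hL0])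
  have hLinj : ∀ v, L v = 0 → v = 0 := by
    intro v hv
    have h := (C.vec_ker _ (C.inv_Q hg (hw v))).1 hv
    obtain ⟨k, hk⟩ := Subgroup.mem_zpowers_iff.1 h
    rw [← hwv v, C.vec_ker _ (hw v)]
    refine Subgroup.mem_zpowers_iff.2 ⟨-k, ?_⟩
    calc C.z ^ (-k) = (g⁻¹ * C.z * g⁻¹⁻¹) ^ k := by rw [inverts_inv hg, inv_zpow, zpow_neg]
      _ = g⁻¹ * C.z ^ k * g⁻¹⁻¹ := conj_zpow
      _ = w v := by rw [hk]; group
  have hsig : ∃ σ : Bool, (∀ u : V2, cond σ (L (u, 0)).1 (L (u, 0)).2 = 0) ∧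
      ∀ u : V2, cond σ (L (0, u)).2 (L (0, u)).1 = 0 := by
    have e1 : ∀ u : V2, Mon.act m₀ (L (u, 0)) = -L (u, 0) := fun u => by
      rw [hm₀L, show ((-u, 0) : V) = -(u, 0) by simp, hLneg]
    have e2 : ∀ u : V2, Mon.act m₀ (L (0, u)) = L (0, u) := fun u => by
      rw [hm₀L]; simp
    rcases sl_invol _ hm₀a with hA | hA <;> rcases sl_invol _ hm₀b with hB | hB
    · exfalso
      have h := e1 (1, 0)
      rw [Mon.act_false hm₀s, hA, hB, act2_one, act2_one] at h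
      have h' : L ((1, 0), 0) = 0 :=
        Prod.ext (eq_zero_of_neg _ (congrArg Prod.fst h)) (eq_zero_of_neg _ (congrArg Prod.snd h))
      exact (by decide : (((1, 0), 0) : V) ≠ 0) (hLinj _ h')
    · refine ⟨true, fun u => ?_, fun u => ?_⟩
      · have h := e1 u
        rw [Mon.act_false hm₀s, hA, hB, act2_one, sl_neg_act] at h
        exact eq_zero_of_neg _ (congrArg Prod.fst h)
      · have h := e2 u
        rw [Mon.act_false hm₀s, hA, hB, act2_one, sl_neg_act] at h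
        exact eq_zero_of_neg _ (congrArg Prod.snd h).symm
    · refine ⟨false, fun u => ?_, fun u => ?_⟩
      · have h := e1 u
        rw [Mon.act_false hm₀s, hA, hB, act2_one, sl_neg_act] at h
        exact eq_zero_of_neg _ (congrArg Prod.snd h)
      · have h := e2 u
        rw [Mon.act_false hm₀s, hA, hB, act2_one, sl_neg_act] at h
        exact eq_zero_of_neg _ (congrArg Prod.fst h).symm
    · exfalso
      have h := e2 (1, 0)
      rw [Mon.act_false hm₀s, hA, hB, sl_neg_act, sl_neg_act] at h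
      have h' : L (0, (1, 0)) = 0 :=
        Prod.ext (eq_zero_of_neg _ (congrArg Prod.fst h).symm)
          (eq_zero_of_neg _ (congrArg Prod.snd h).symm)
      exact (by decide : ((0, (1, 0)) : V) ≠ 0) (hLinj _ h')
  obtain ⟨σ, hσ1, hσ2⟩ := hsig
  have r0 : refl2 0 = 0 := by simp [refl2]
  obtain ⟨m, -, hm⟩ := exists_mon (fun v => L (refl v))
    (fun v w => by simp only [refl_add, hLadd])
    (fun v w => by rw [hLom, om_refl, neg_neg]) σ
    (fun u => by simpa [refl, r0] using hσ1 (refl2 u))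
    (fun u => by simpa [refl, r0] using hσ2 (refl2 u))
  have hmL : ∀ v, L v = Mon.act m (refl v) := fun v => by rw [hm, refl_refl]
  refine ⟨m, fun q hq => by rw [← hLq q hq, hmL], fun h hh => ⟨commute_conj hg hh, act_ext fun v => ?_⟩⟩
  have hv : v = L (refl (Mon.act m⁻¹ v)) := by
    rw [hmL, refl_refl, ← Mon.act_mul, mul_inv_cancel, act_one]
  conv_lhs => rw [hv, hconj h hh, hmL]
  rw [Mon.act_mul, Mon.act_mul, Mon.act_tw]

/-- The exchange of an element inverting `z`, read off one vector of the second plane. -/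
theorem inv_coord_s {m : Mon} {u : V2} (hu : u ≠ 0) (h : (Mon.act m (refl (0, u))).1 = 0) :
    m.s = false := by
  rcases m with ⟨a, b, s⟩
  cases s
  · rfl
  · exfalso
    have h' : act2 a (refl2 u) = 0 := by simpa [Mon.act, refl] using h
    have h2 := congrArg (act2 a⁻¹) h'
    rw [← act2_mul, inv_mul_cancel, act2_one] at h2
    refine hu ?_
    have : refl2 u = 0 := by rw [h2]; simp [act2]
    simpa [refl2, Prod.ext_iff] using this

/-- The product of two elements inverting `z`. -/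
theorem φ_mul_inv {g g' : G} (hg : g * C.z * g⁻¹ = C.z⁻¹) (hg' : g' * C.z * g'⁻¹ = C.z⁻¹) {m m' : Mon}
    (hm : ∀ q ∈ C.Q, C.vec (g * q * g⁻¹) = Mon.act m (refl (C.vec q)))
    (hm' : ∀ q ∈ C.Q, C.vec (g' * q * g'⁻¹) = Mon.act m' (refl (C.vec q))) :
    Commute (g * g') C.z ∧ C.φ (g * g') = m * m'.tw := by
  have hc : Commute (g * g') C.z := by
    refine mul_inv_eq_iff_eq_mul.1 ?_
    calc g * g' * C.z * (g * g')⁻¹ = g * (g' * C.z * g'⁻¹) * g⁻¹ := by group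
      _ = C.z := by rw [hg', ← conj_inv, hg, inv_inv]
  refine ⟨hc, act_ext fun v => ?_⟩
  obtain ⟨q, hq, rfl⟩ := C.vec_surj v
  rw [← C.vec_conj _ hc q hq, show g * g' * q * (g * g')⁻¹ = g * (g' * q * g'⁻¹) * g⁻¹ by group,
    hm _ (C.inv_Q hg' hq), hm' q hq, Mon.act_mul, Mon.act_tw]

/-- Without `Swap` all elements inverting `z` exchange the planes in the same way. -/
theorem inv_s_eq (hs : ¬ C.Swap) {g g' : G} (hg : g * C.z * g⁻¹ = C.z⁻¹) (hg' : g' * C.z * g'⁻¹ = C.z⁻¹)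
    {m m' : Mon} (hm : ∀ q ∈ C.Q, C.vec (g * q * g⁻¹) = Mon.act m (refl (C.vec q)))
    (hm' : ∀ q ∈ C.Q, C.vec (g' * q * g'⁻¹) = Mon.act m' (refl (C.vec q))) : m.s = m'.s := by
  obtain ⟨hc, hφ⟩ := C.φ_mul_inv hg hg' hm hm'
  by_contra h
  refine hs ⟨_, hc, ?_⟩
  rw [hφ, Mon.mul_def, Mon.tw_s]
  cases hms : m.s <;> cases hm's : m'.s <;> simp_all

end Cfg

/-- The action of an element of `Q` on `J`. -/
def uni (p : K × K) (v : J4) : J4 :=
  (v.1 - v.2.1 * (p.1 * p.1 + p.2 * p.2) + p.1 * v.2.2.1 + p.2 * v.2.2.2, v.2.1,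
    v.2.2.1 + v.2.1 * p.1, v.2.2.2 + v.2.1 * p.2)

/-- An element exchanging the lines of `z` and `y`, in coordinates. -/
def flipL (l m p r p' r' : K) (v : J4) : J4 :=
  (m * v.2.1, l * v.1, p * v.2.2.1 + p' * v.2.2.2, r * v.2.2.1 + r' * v.2.2.2)

/-- Words reaching an exchanging inverter. -/
def exWords : List (List (K × K)) :=
  [[(0, 1), (1, 0), (0, 0)],
  [(0, 1), (2, 0), (0, 0)],
  [(0, 1), (1, 0), (2, 1), (0, 0)],
  [(0, 1), (1, 0), (1, 1), (0, 0)],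
  [(0, 1), (0, 2), (2, 2), (0, 0)],
  [(0, 0), (0, 0)],
  [(0, 1), (0, 2), (1, 2), (0, 0)],
  [(0, 1), (0, 1), (1, 2), (0, 0)],
  [(0, 1), (0, 1), (2, 2), (0, 0)],
  [(0, 1), (0, 1), (1, 1), (0, 0)],
  [(0, 1), (0, 1), (2, 1), (0, 0)],
  [(1, 1), (1, 1), (0, 0)],
  [(1, 1), (1, 2), (0, 0)],
  [(1, 1), (2, 1), (0, 0)],
  [(1, 1), (2, 2), (0, 0)]]

/-- The effect of a word. -/
def runWord (L : J4 → J4) (w : List (K × K)) (v : J4) : J4 := w.foldl (fun u p => uni p (L u)) v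

theorem exWords_ok : ∀ l m : K, l ≠ 0 → m ≠ 0 → ∀ p r p' r' : K,
    p * p + r * r = l * m → p' * p' + r' * r' = l * m → p * p' + r * r' = 0 →
    ∃ w ∈ exWords, runWord (flipL l m p r p' r') w (1, 0, 0, 0) = -(1, 0, 0, 0) ∧
      (runWord (flipL l m p r p' r') w (0, 0, 1, 0)).2.1 = 0 ∧
      (runWord (flipL l m p r p' r') w (0, 0, 1, 0)).2.2.1 = 0 ∧
      (runWord (flipL l m p r p' r') w (0, 0, 1, 0)).2.2.2 ≠ 0 := by decide +kernel

theorem uni_reach : ∀ b e f : K, b ≠ 0 → ∀ a : K, quad (a, b, e, f) = 0 →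
    (a, b, e, f) = b • uni (b * e, b * f) (0, 1, 0, 0) := by decide +kernel

theorem quad_zero_line : ∀ a e f : K, quad (a, 0, e, f) = 0 → (a, 0, e, f) = a • ((1, 0, 0, 0) : J4) := by
  decide +kernel

theorem flip_plane : ∀ l m : K, l ≠ 0 → m ≠ 0 → ∀ w : J4,
    quad ((-m, l, 0, 0) + w) = 0 → quad ((m, -l, 0, 0) + w) = 0 → w.1 * l = w.2.1 * m := by decide +kernel

theorem flip_diag : ∀ l m : K, l ≠ 0 → m ≠ 0 → ∀ w : J4,
    quad ((m, l, 0, 0) + w) = 0 → quad ((-m, -l, 0, 0) + w) = 0 → w.1 * l = -(w.2.1 * m) := by decide +kernel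

theorem flip_solve : ∀ l m : K, l ≠ 0 → m ≠ 0 → ∀ a b a' b' : K, a * l = b * m → a' * l = b' * m →
    (a + a') * l = -((b + b') * m) → (a - a') * l = -((b - b') * m) → a = 0 ∧ b = 0 ∧ a' = 0 ∧ b' = 0 := by
  decide +kernel

theorem flip_norm : ∀ l m p r : K, quad ((-m, l, 0, 0) + ((0, 0, p, r) : J4)) = 0 →
    p * p + r * r = l * m := by decide +kernel

theorem flip_orth : ∀ l m p r p' r' : K, quad ((m, l, 0, 0) + (((0, 0, p, r) : J4) + (0, 0, p', r'))) = 0 →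
    p * p + r * r = l * m → p' * p' + r' * r' = l * m → p * p' + r * r' = 0 := by decide +kernel

theorem singular_words : ((1 : K), (-1 : K), (1 : K), (0 : K)) ≠ 0 ∧
    quad ((-1, 1, 0, 0) + (0, 0, 1, 0)) = 0 ∧ quad ((1, -1, 0, 0) + (0, 0, 1, 0)) = 0 ∧
    quad ((-1, 1, 0, 0) + (0, 0, 0, 1)) = 0 ∧ quad ((1, -1, 0, 0) + (0, 0, 0, 1)) = 0 ∧
    quad ((1, 1, 0, 0) + (0, 0, 1, 1)) = 0 ∧ quad ((-1, -1, 0, 0) + (0, 0, 1, 1)) = 0 ∧
    quad ((1, 1, 0, 0) + (0, 0, 1, -1)) = 0 ∧ quad ((-1, -1, 0, 0) + (0, 0, 1, -1)) = 0 := by decide +kernel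

theorem upper_sub : ∀ v : V, v + Mon.act ⟨upperU, upperU, false⟩ (-v) = ((-v.1.2, 0), (-v.2.2, 0)) := by
  decide +kernel

theorem om_X : ∀ v : V, om v ((1, 0), 0) = -v.1.2 ∧ om v (0, (1, 0)) = -v.2.2 := by decide +kernel

theorem k_cases : ∀ c : K, c = 0 ∨ c = 1 ∨ c = 2 := by decide

theorem uni_add (p : K × K) (v w : J4) : uni p (v + w) = uni p v + uni p w := by
  ext <;> simp [uni] <;> ring

theorem additive_smul (L : J4 → J4) (hL : ∀ v w, L (v + w) = L v + L w) (c : K) (v : J4) :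
    L (c • v) = c • L v := by
  have h0 : L 0 = 0 := by simpa using hL 0 0
  rcases k_cases c with rfl | rfl | rfl
  · simp [h0]
  · simp
  · rw [show (2 : K) = 1 + 1 from rfl, add_smul, add_smul, one_smul, one_smul, hL]

theorem additive_decomp (L : J4 → J4) (hL : ∀ v w, L (v + w) = L v + L w) (v : J4) :
    L v = v.1 • L (1, 0, 0, 0) + v.2.1 • L (0, 1, 0, 0) + v.2.2.1 • L (0, 0, 1, 0) +
      v.2.2.2 • L (0, 0, 0, 1) := by
  rw [← additive_smul L hL, ← additive_smul L hL, ← additive_smul L hL, ← additive_smul L hL, ← hL, ← hL, ← hL]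
  congr 1
  ext <;> simp

namespace Std

variable {G : Type*} [Group G] (S : Std G)

theorem vec_pow {x : G} (hx : x ∈ S.Q) (k : ℕ) : S.vec (x ^ k) = k • S.vec x := by
  induction k with
  | zero => rw [pow_zero, S.vec_one, zero_smul]
  | succ k ih => rw [pow_succ, S.vec_mul _ (pow_mem hx k) _ hx, ih, succ_nsmul]

theorem jj_of_Q {x : G} (hx : x ∈ S.Q) {c d : K} (hv : S.vec x = ((c, 0), (d, 0))) :
    ∃ a : K, x = S.jj (a, 0, c, d) := by
  have hq : S.jj (0, 0, c, d) ∈ S.Q := by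
    simpa [jj] using mul_mem (pow_mem S.X_mem c.val) (pow_mem S.X'_mem d.val)
  have hv' : S.vec (S.jj (0, 0, c, d)) = ((c, 0), (d, 0)) := by
    have e : S.jj (0, 0, c, d) = S.X ^ c.val * S.X' ^ d.val := by simp [jj]
    rw [e, S.vec_mul _ (pow_mem S.X_mem _) _ (pow_mem S.X'_mem _), S.vec_pow S.X_mem, S.vec_pow S.X'_mem,
      S.vec_X, S.vec_X']
    simp
  obtain ⟨k, hk⟩ := Subgroup.mem_zpowers_iff.1 ((S.vec_eq hq hx).1 (hv'.trans hv.symm))
  refine ⟨(k : K), ?_⟩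
  have hz : S.jj ((k : K), 0, 0, 0) = S.z ^ k := by
    simp only [jj, ZMod.val_zero, pow_zero, mul_one]
    rw [← zpow_natCast, ZMod.val_intCast, ← S.z_ord, zpow_mod_orderOf]
  calc x = S.jj (0, 0, c, d) * S.z ^ k := by rw [hk]; group
    _ = S.jj ((k : K), 0, c, d) := by rw [← hz, ← S.jj_add]; simp

theorem quad_of_pt {v : J4} (h : S.IsPt (S.jj v)) : quad v = 0 := ((S.isPt_jj v).1 h).2

/-- An element of `Q` acts on `J` as a transvection group element. -/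
theorem conj_Q {q : G} (hq : q ∈ S.Q) (v : J4) :
    q * S.jj v * q⁻¹ = S.jj (uni (-(S.vec q).1.2, -(S.vec q).2.2) v) := by
  set c := -(S.vec q).1.2 with hc
  set d := -(S.vec q).2.2 with hd
  have hz : q * S.z * q⁻¹ = S.z := by rw [(S.Q_le q hq).eq]; group
  have hX : q * S.X * q⁻¹ = S.jj (c, 0, 1, 0) := by
    have h := S.comm q hq _ S.X_mem
    rw [S.vec_X, (om_X _).1, mul_inv_eq_iff_eq_mul] at h
    rw [h]; simp [jj, hc, ZMod.val_one]
  have hX' : q * S.X' * q⁻¹ = S.jj (d, 0, 0, 1) := by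
    have h := S.comm q hq _ S.X'_mem
    rw [S.vec_X', (om_X _).2, mul_inv_eq_iff_eq_mul] at h
    rw [h]; simp [jj, hd, ZMod.val_one]
  have hy : q * S.y * q⁻¹ = S.jj (-(c * c + d * d), 1, c, d) := by
    have hm := S.conj_mem S.y S.y_comm _ (inv_mem hq)
    have hx : q * (S.y * q⁻¹ * S.y⁻¹) ∈ S.Q := mul_mem hq hm
    obtain ⟨a, ha⟩ := S.jj_of_Q (c := c) (d := d) hx (by
      rw [S.vec_mul _ hq _ hm, S.vec_conj _ S.y_comm _ (inv_mem hq), S.φ_y, S.vec_inv hq, upper_sub])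
    have e : q * S.y * q⁻¹ = S.jj (a, 1, c, d) := by
      rw [show q * S.y * q⁻¹ = q * (S.y * q⁻¹ * S.y⁻¹) * S.y by group, ha]
      nth_rewrite 1 [← S.jj_y]
      rw [← S.jj_add]; simp
    have hp : S.IsPt (S.jj (a, 1, c, d)) := by
      rw [← e]
      refine Cfg.IsPt.conj ?_ q
      rw [← S.jj_y]; exact (S.isPt_jj _).2 (by decide)
    have h0 := S.quad_of_pt hp
    rw [e]
    refine congrArg S.jj (Prod.ext (eq_neg_of_add_eq_zero_left ?_) rfl)
    simpa [quad, add_assoc] using h0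
  have hp : ∀ (w : J4) (k : K), S.jj w ^ k.val = S.jj (k • w) := by
    intro w k
    rcases k_cases k with rfl | rfl | rfl
    · simp [S.jj_zero]
    · simp [ZMod.val_one]
    · rw [show (2 : K).val = 2 from rfl, pow_two, ← S.jj_add, show (2 : K) = 1 + 1 from rfl, add_smul, one_smul]
  rw [show q * S.jj v * q⁻¹ = (q * S.z * q⁻¹) ^ v.1.val * (q * S.y * q⁻¹) ^ v.2.1.val *
      (q * S.X * q⁻¹) ^ v.2.2.1.val * (q * S.X' * q⁻¹) ^ v.2.2.2.val by
    simp only [jj, conj_pow]; group, hz, hy, hX, hX']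
  nth_rewrite 1 [← S.jj_z]
  rw [hp, hp, hp, hp, ← S.jj_add, ← S.jj_add, ← S.jj_add]
  refine congrArg S.jj ?_
  ext <;> simp [uni, hc, hd] <;> ring

theorem exists_uni (p : K × K) : ∃ q ∈ S.Q, ∀ v, q * S.jj v * q⁻¹ = S.jj (uni p v) := by
  obtain ⟨q, hq, hv⟩ := S.vec_surj ((0, -p.1), (0, -p.2))
  refine ⟨q, hq, fun v => ?_⟩
  rw [S.conj_Q hq, hv]; simp

/-- An element normalising `J` is a linear map permuting the singular vectors. -/
theorem exists_lin {n : G} (hn : ∀ x ∈ S.J, n * x * n⁻¹ ∈ S.J) :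
    ∃ L : J4 → J4, (∀ v, n * S.jj v * n⁻¹ = S.jj (L v)) ∧ (∀ v w, L (v + w) = L v + L w) ∧
      Function.Surjective L ∧ ∀ v, quad v = 0 → quad (L v) = 0 := by
  choose L hL using fun v => S.mem_J.1 (hn _ (S.jj_mem v))
  refine ⟨L, fun v => (hL v).symm, fun v w => S.jj_inj ?_, ?_, fun v hv => ?_⟩
  · rw [S.jj_add, hL, hL, hL, S.jj_add]; group
  · refine Finite.injective_iff_surjective.1 fun v w e => S.jj_inj ?_
    have h := congrArg S.jj e
    rw [hL, hL] at h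
    simpa using h
  · rcases eq_or_ne v 0 with rfl | hne
    · have h0 : L 0 = 0 := S.jj_inj (by rw [hL, S.jj_zero]; simp)
      rw [h0]; exact hv
    · exact S.quad_of_pt (by rw [hL]; exact Cfg.IsPt.conj ((S.isPt_jj v).2 ⟨hne, hv⟩) n)

/-- Some element inverting `z` exchanges the planes. -/
theorem exists_exchange (hsw : ∃ n : G, (∀ x ∈ S.J, n * x * n⁻¹ ∈ S.J) ∧
      n * S.z * n⁻¹ ∈ Subgroup.zpowers S.y) :
    ∃ g : G, g * S.z * g⁻¹ = S.z⁻¹ ∧ ∃ m : Mon, m.s = true ∧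
      ∀ q ∈ S.Q, S.vec (g * q * g⁻¹) = Mon.act m (refl (S.vec q)) := by
  obtain ⟨n, hn, hnz⟩ := hsw
  obtain ⟨L, hL, hadd, hsurj, hquad⟩ := S.exists_lin hn
  obtain ⟨k, hk⟩ := Subgroup.mem_zpowers_iff.1 hnz
  have he1 : L (1, 0, 0, 0) = (0, (k : K), 0, 0) := by
    refine S.jj_inj ?_
    rw [← hL, S.jj_z, ← hk]
    simp only [jj, ZMod.val_zero, pow_zero, mul_one, one_mul]
    rw [← zpow_natCast, ZMod.val_intCast]
    have h3 : ((3 : ℕ) : ℤ) = (orderOf S.y : ℤ) := by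
      rw [orderOf_eq_prime S.y_cube fun h => by
        have := S.jj_eq_one.1 (S.jj_y.trans h); simp [Prod.ext_iff] at this]
    rw [h3, zpow_mod_orderOf]
  set l : K := (k : K) with hl
  have hl0 : l ≠ 0 := by
    intro h
    rw [h] at he1
    have h1 : S.jj (L (1, 0, 0, 0)) = 1 := by rw [he1]; exact S.jj_zero
    rw [← hL, S.jj_z, conj_eq_one_iff] at h1
    exact S.z_ne h1
  obtain ⟨⟨a, b, e, f⟩, hv⟩ := hsurj (1, 0, 0, 0)
  have hq0 : quad (a, b, e, f) = 0 := by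
    by_contra h
    -- the inverse of `L` preserves singular vectors as well
    have hsing : ∀ u, quad (L u) = 0 → quad u = 0 := fun u hu => by
      rcases eq_or_ne u 0 with rfl | hne
      · decide
      · refine S.quad_of_pt ?_
        have hne' : L u ≠ 0 := fun e0 => hne (by
          refine S.jj_eq_one.1 ?_
          have := hL u
          rw [e0, S.jj_zero, conj_eq_one_iff] at this
          exact this)
        have := Cfg.IsPt.conj ((S.isPt_jj (L u)).2 ⟨hne', hu⟩) n⁻¹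
        rwa [← hL, show n⁻¹ * (n * S.jj u * n⁻¹) * n⁻¹⁻¹ = S.jj u by group] at this
    exact h (hsing _ (by rw [hv]; decide))
  have hb : b ≠ 0 := by
    intro hb
    subst hb
    rw [quad_zero_line a e f hq0, additive_smul L hadd, he1] at hv
    simp [Prod.ext_iff] at hv
  obtain ⟨q, -, hq⟩ := S.exists_uni (b * e, b * f)
  set L' : J4 → J4 := fun v => L (uni (b * e, b * f) v) with hL'
  have hn' : ∀ v, (n * q) * S.jj v * (n * q)⁻¹ = S.jj (L' v) := fun v => by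
    rw [show n * q * S.jj v * (n * q)⁻¹ = n * (q * S.jj v * q⁻¹) * n⁻¹ by group, hq, hL]
  have hadd' : ∀ v w, L' (v + w) = L' v + L' w := fun v w => by simp only [hL', uni_add, hadd]
  have hquad' : ∀ v, quad v = 0 → quad (L' v) = 0 := fun v hv => by
    refine hquad _ ?_
    rcases eq_or_ne v 0 with rfl | hne
    · simp [uni, quad]
    · refine S.quad_of_pt ?_
      rw [← hq]; exact Cfg.IsPt.conj ((S.isPt_jj v).2 ⟨hne, hv⟩) q
  have h1 : L' (1, 0, 0, 0) = (0, l, 0, 0) := by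
    simp only [hL']; rw [← he1]; congr 1; simp [uni]
  have h2 : L' (0, 1, 0, 0) = (b, 0, 0, 0) := by
    have h := hv
    rw [uni_reach b e f hb a hq0, additive_smul L hadd] at h
    have hbb : b * b = 1 := (by decide : ∀ b : K, b ≠ 0 → b * b = 1) b hb
    simp only [hL']
    have h' := congrArg (fun w : J4 => b • w) h
    simp only [smul_smul, hbb, one_smul] at h'
    rw [h']; simp
  have hz4 : ∀ c c' : K, L' (c, c', 0, 0) = (c' * b, c * l, 0, 0) := fun c c' => by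
    rw [additive_decomp L' hadd', h1, h2]; simp
  have key : ∀ c c' : K, ∀ u : J4, quad ((c, c', 0, 0) + u) = 0 →
      quad ((c' * b, c * l, 0, 0) + L' u) = 0 := fun c c' u h => by
    rw [← hz4, ← hadd']; exact hquad' _ h
  obtain ⟨-, t1, t2, t3, t4, t5, t6, t7, t8⟩ := singular_words
  set w₃ := L' (0, 0, 1, 0) with hw3
  set w₄ := L' (0, 0, 0, 1) with hw4
  have ha : L' (0, 0, 1, 1) = w₃ + w₄ := by rw [← hadd']; simp
  have hb' : L' (0, 0, 1, -1) = w₃ - w₄ := by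
    rw [additive_decomp L' hadd' (0, 0, 1, -1)]; simp [sub_eq_add_neg]; rfl
  have k1 := key (-1) 1 _ t1
  have k2 := key 1 (-1) _ t2
  have k3 := key (-1) 1 _ t3
  have k4 := key 1 (-1) _ t4
  have k5 := key 1 1 _ t5
  have k6 := key (-1) (-1) _ t6
  have k7 := key 1 1 _ t7
  have k8 := key (-1) (-1) _ t8
  simp only [one_mul, neg_one_mul] at k1 k2 k3 k4 k5 k6 k7 k8
  rw [ha] at k5 k6
  rw [hb'] at k7 k8
  have p3 := flip_plane l b hl0 hb w₃ k2 k1
  have p4 := flip_plane l b hl0 hb w₄ k4 k3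
  have p5 := flip_diag l b hl0 hb _ k5 k6
  have p7 := flip_diag l b hl0 hb _ k7 k8
  obtain ⟨z1, z2, z3, z4⟩ := flip_solve l b hl0 hb _ _ _ _ p3 p4 (by simpa using p5) (by simpa using p7)
  have hw3' : w₃ = (0, 0, w₃.2.2.1, w₃.2.2.2) := Prod.ext z1 (Prod.ext z2 rfl)
  have hw4' : w₄ = (0, 0, w₄.2.2.1, w₄.2.2.2) := Prod.ext z3 (Prod.ext z4 rfl)
  rw [← hw3, hw3'] at k2
  rw [← hw4, hw4'] at k4
  rw [hw3', hw4'] at k5
  have n3 := flip_norm l b _ _ k2
  have n4 := flip_norm l b _ _ k4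
  have n5 := flip_orth l b _ _ _ _ k5 n3 n4
  have hflip : ∀ v, L' v = flipL l b w₃.2.2.1 w₃.2.2.2 w₄.2.2.1 w₄.2.2.2 v := fun v => by
    rw [additive_decomp L' hadd' v, h1, h2, ← hw3, ← hw4, hw3', hw4']
    ext <;> simp [flipL] <;> ring
  obtain ⟨w, -, hw1, hw2, hw3z, hw3r⟩ := exWords_ok l b hl0 hb _ _ _ _ n3 n4 n5
  have hrun : ∀ (w : List (K × K)), ∃ g : G, ∀ v, g * S.jj v * g⁻¹ =
      S.jj (runWord (flipL l b w₃.2.2.1 w₃.2.2.2 w₄.2.2.1 w₄.2.2.2) w v) := by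
    intro w
    induction w with
    | nil => exact ⟨1, fun v => by simp [runWord]⟩
    | cons p w ih =>
      obtain ⟨g, hg⟩ := ih
      obtain ⟨u, -, hu⟩ := S.exists_uni p
      refine ⟨g * u * (n * q), fun v => ?_⟩
      rw [show g * u * (n * q) * S.jj v * (g * u * (n * q))⁻¹ =
          g * (u * (n * q * S.jj v * (n * q)⁻¹) * u⁻¹) * g⁻¹ by group, hn', hu, hg, hflip]
      rfl
  obtain ⟨g, hg⟩ := hrun w
  have hgz : g * S.z * g⁻¹ = S.z⁻¹ := by
    have h := hg (1, 0, 0, 0)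
    rw [hw1, S.jj_neg, S.jj_z] at h
    exact h
  obtain ⟨m, hm, -⟩ := S.toCfg.inv_coord hgz
  refine ⟨g, hgz, m, ?_, hm⟩
  set v₃ := runWord (flipL l b w₃.2.2.1 w₃.2.2.2 w₄.2.2.1 w₄.2.2.2) w (0, 0, 1, 0) with hv₃
  have hX : g * S.X * g⁻¹ = S.jj v₃ := by rw [← S.jj_X]; exact hg _
  have e : S.jj v₃ = S.z ^ v₃.1.val * S.X' ^ v₃.2.2.2.val := by simp [jj, hw2, hw3z]
  have hvec := hm _ S.X_mem
  rw [hX, e, S.vec_mul _ (pow_mem S.z_mem _) _ (pow_mem S.X'_mem _), S.vec_pow S.z_mem,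
    S.vec_pow S.X'_mem, S.vec_z, S.vec_X, S.vec_X'] at hvec
  rcases m with ⟨ma, mb, _ | _⟩
  · exfalso
    have h := congrArg Prod.snd hvec
    simp [Mon.act, refl, refl2, act2, Prod.ext_iff] at h
    exact hw3r h
  · rfl

/-- Without `Swap` no element inverting `z` centralises `X'`. -/
theorem no_inv_commute_X' (hsw : ∃ n : G, (∀ x ∈ S.J, n * x * n⁻¹ ∈ S.J) ∧
      n * S.z * n⁻¹ ∈ Subgroup.zpowers S.y) (hs : ¬ S.toCfg.Swap) {g : G} (hc : Commute g S.X') :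
    g * S.z * g⁻¹ ≠ S.z⁻¹ := by
  intro hg
  obtain ⟨g', hg', m', hm's, hm'⟩ := S.exists_exchange hsw
  obtain ⟨m, hm, -⟩ := S.toCfg.inv_coord hg
  have h : m.s = m'.s := S.toCfg.inv_s_eq hs hg hg' hm hm'
  have hv := hm _ S.X'_mem
  rw [mul_inv_eq_iff_eq_mul.2 hc.eq, S.vec_X'] at hv
  have hfalse : m.s = false :=
    Cfg.inv_coord_s (u := (1, 0)) (by decide) (congrArg Prod.fst hv).symm
  rw [hfalse, hm's] at h
  exact Bool.false_ne_true h

end Std

end Cfsg.Agent.U62ThreeCent
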