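/-
The case of a large Sylow three-subgroup with an exchange: the centraliser of `⟨X', z y, h z^k⟩`.

* `Std.CoreH.fix_coset`, `Std.CoreH.normalizer_cases` : the local structure of that centraliser;
* `Std.CoreH.centralizer_axis_h` : it normalises `J`.
-/
import Cfsg.Agent.Lib.U62ThreeCent.BigPoint
import Cfsg.Agent.Lib.U62ThreeCent.AxisGroup
import Cfsg.Agent.Lib.U62ThreeCent.Planes

set_option autoImplicit false
set_option maxRecDepth 100000
set_option synthInstance.maxSize 2000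
set_option linter.unusedSectionVars false

namespace Cfsg.Agent.U62ThreeCent

open Cfsg.Agent.PSpThree

/-- A vector of the coset of `(m, 0, c, 0)` modulo `⟨z y, X'⟩`. -/
def axv (c m i j : K) : J4 := (m + i, i, c, j)

theorem axis_shift : ∀ c m i₀ j₀ : K, c ≠ 0 ∨ m ≠ 0 →
    (∀ i j : K, quad (axv c m i j) = 0 → quad (axv c m (i + i₀) (j + j₀)) = 0) → i₀ = 0 ∧ j₀ = 0 := by
  decide +kernel

theorem axis_exists : ∀ c m : K, c ≠ 0 ∨ m ≠ 0 → ∃ i j : K, quad (axv c m i j) = 0 := by decide +kernel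

theorem axv_ne : ∀ c m i j : K, c ≠ 0 ∨ m ≠ 0 → axv c m i j ≠ 0 := by decide +kernel

theorem axis_pts : ∀ c m : K, c ≠ 0 ∨ m ≠ 0 →
    (∃ i j i' j' : K, quad (axv c m i j) = 0 ∧ quad (axv c m i' j') = 0 ∧
      axv c m i' j' ≠ axv c m i j ∧ axv c m i' j' ≠ -axv c m i j) ∨
    ∀ i j : K, quad (axv c m i j) = 0 → ∀ r s : K, r ≠ 0 ∨ s ≠ 0 →
      quad (r • ((1, 1, 0, 0) : J4) + s • ((0, 0, 0, 1) : J4)) ≠ 0 ∧
        quad (axv c m i j + (r • ((1, 1, 0, 0) : J4) + s • ((0, 0, 0, 1) : J4))) ≠ 0 := by decide +kernel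

theorem z_image : ∀ P : J4, (∀ i j : K, (quad ((1, 0, 0, 0) + (i • ((1, 1, 0, 0) : J4) + j • ((0, 0, 0, 1) : J4))) = 0 ↔
    quad (P + (i • ((1, 1, 0, 0) : J4) + j • ((0, 0, 0, 1) : J4))) = 0)) → P = (1, 0, 0, 0) ∨ P = (0, 1, 0, 0) := by
  decide +kernel

theorem X_image : ∀ q : J4, (∀ i i' j : K,
    (quad ((0, 0, 1, 0) + ((i, i', 0, 0) + j • ((0, 0, 0, 1) : J4))) = 0 ↔
      quad (q + ((i, i', 0, 0) + j • ((0, 0, 0, 1) : J4))) = 0)) → q = (0, 0, 1, 0) ∨ q = (0, 0, -1, 0) := by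
  decide +kernel

theorem K_neg_self : ∀ a : K, a = -a → a = 0 := by decide

namespace Std

variable {G : Type*} [Group G] [Finite G] {S : Std G} {t h : G}

/-- `⟨X', z y, h z^k⟩`, in the coordinates of `J⟨h⟩`. -/
def axA (k : K) (p : K × K × K) : J4 × K := ((p.1 + k * p.2.2, p.1, 0, p.2.1), p.2.2)

theorem axA_add (k : K) (p q : K × K × K) : axA k (p + q) = axA k p + axA k q := by
  ext <;> simp [axA] <;> ring

/-- The centraliser of `⟨X', z y, h z^k⟩`. -/
def axC (S : Std G) (h : G) (k : K) : Subgroup G :=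
  Subgroup.centralizer {S.X', S.z * S.y, h * S.z ^ k.val}

theorem mem_axC {k : K} {g : G} : g ∈ axC S h k ↔
    Commute g S.X' ∧ Commute g (S.z * S.y) ∧ Commute g (h * S.z ^ k.val) := by
  rw [axC, Subgroup.mem_centralizer_iff]
  simp only [Set.mem_insert_iff, Set.mem_singleton_iff, forall_eq_or_imp, forall_eq]
  exact ⟨fun e => ⟨e.1.symm, e.2.1.symm, e.2.2.symm⟩, fun e => ⟨e.1.eq.symm, e.2.1.eq.symm, e.2.2.eq.symm⟩⟩

theorem jj_zy : S.jj (1, 1, 0, 0) = S.z * S.y := by simp [jj, ZMod.val_one]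

namespace CoreH

variable (hc : S.CoreH t h)
include hc

theorem jh_jj (u : J4) : S.jh h (u, 0) = S.jj u := by simp [jh]

theorem jh_h : S.jh h (0, 1) = h := by simp [jh, S.jj_zero, ZMod.val_one]

theorem jh_b (k : K) : S.jh h ((k, 0, 0, 0), 1) = h * S.z ^ k.val := by
  rw [jh, show S.jj (k, 0, 0, 0) = S.z ^ k.val by simp [jj], ZMod.val_one, pow_one,
    (hc.h_z.pow_right k.val).eq]

theorem jh_mem_axC (k : K) (v : J4 × K) : S.jh h v ∈ axC S h k := by
  refine mem_axC.2 ⟨?_, ?_, ?_⟩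
  · rw [← S.jj_X', ← hc.jh_jj]; exact hc.commute_jh _ _
  · rw [← jj_zy, ← hc.jh_jj]; exact hc.commute_jh _ _
  · rw [← hc.jh_b]; exact hc.commute_jh _ _

/-- The centre `⟨X', z y, h z^k⟩`. -/
def axHom (k : K) : Multiplicative (K × K × K) →* G :=
  MonoidHom.mk' (fun p => S.jh h (axA k p.toAdd)) fun p q => by
    show S.jh h (axA k (p.toAdd + q.toAdd)) = _
    rw [axA_add, hc.jh_add]

theorem commute_axA {k : K} {g : G} (hg : g ∈ axC S h k) (p : K × K × K) : Commute g (S.jh h (axA k p)) := by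
  obtain ⟨h1, h2, h3⟩ := mem_axC.1 hg
  have e : axA k p = (p.1 • ((1, 1, 0, 0) : J4) + p.2.1 • ((0, 0, 0, 1) : J4), 0) + ((k * p.2.2, 0, 0, 0), p.2.2) := by
    ext <;> simp [axA]
  rw [e, hc.jh_add, hc.jh_jj]
  refine (S.commute_comb (jj_zy (S := S) ▸ h2) (S.jj_X' ▸ h1) _ _).mul_right ?_
  have e2 : S.jh h ((k * p.2.2, 0, 0, 0), p.2.2) = (h * S.z ^ k.val) ^ p.2.2.val := by
    have hp : ∀ n : ℕ, S.jh h ((k * n, 0, 0, 0), (n : K)) = (h * S.z ^ k.val) ^ n := by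
      intro n
      induction n with
      | zero => simp [jh, jj]
      | succ n ih =>
        rw [pow_succ, ← ih, ← hc.jh_b, ← hc.jh_add]
        congr 1
        ext <;> simp
        ring
    rw [← hp p.2.2.val, ZMod.natCast_zmod_val]
  rw [e2]
  exact h3.pow_right _

/-- Elements fixing a coset of the axis fix it pointwise, hence normalise `J`. -/
theorem fix_coset {k c m : K} (hcm : c ≠ 0 ∨ m ≠ 0) {g : G} (hg : g ∈ axC S h k) {p : K × K × K}
    (e : g * S.jj (m, 0, c, 0) * g⁻¹ = S.jj (m, 0, c, 0) * S.jh h (axA k p)) :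
    g ∈ Subgroup.normalizer (S.J : Set G) := by
  have hl : ∀ i j : K, g * S.jj (axv c m i j) * g⁻¹ = S.jh h ((axv c m i j, 0) + axA k p) := by
    intro i j
    have hL : Commute g (S.jj (i, i, 0, j)) := by
      have := hc.commute_axA hg (i, j, 0)
      rwa [show axA k (i, j, 0) = ((i, i, 0, j), (0 : K)) by simp [axA], hc.jh_jj] at this
    have hsplit : axv c m i j = (m, 0, c, 0) + (i, i, 0, j) := by simp [axv]
    rw [hc.jh_add, hc.jh_jj, hsplit, S.jj_add,
      show g * (S.jj (m, 0, c, 0) * S.jj (i, i, 0, j)) * g⁻¹ =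
        (g * S.jj (m, 0, c, 0) * g⁻¹) * (g * S.jj (i, i, 0, j) * g⁻¹) by group,
      e, hL.eq, mul_inv_cancel_right, mul_assoc (S.jj (m, 0, c, 0)), mul_assoc (S.jj (m, 0, c, 0))]
    congr 1
    rw [← hc.jh_jj (i, i, 0, j)]
    exact (hc.commute_jh _ _).eq
  obtain ⟨i, j, hij⟩ := axis_exists c m hcm
  have hpt : ∀ i j : K, quad (axv c m i j) = 0 → S.IsPt (S.jh h ((axv c m i j, 0) + axA k p)) :=
    fun i j hij => hl i j ▸ ((S.isPt_jj _).2 ⟨axv_ne c m i j hcm, hij⟩).conj g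
  have he : p.2.2 = 0 := by simpa [axA] using hc.jh_pt (hpt i j hij)
  have hshift : ∀ i j : K, (axv c m i j, (0 : K)) + axA k p = (axv c m (i + p.1) (j + p.2.1), 0) := by
    intro i j
    ext <;> simp [axA, axv, he, add_assoc]
  obtain ⟨h10, h20⟩ := axis_shift c m p.1 p.2.1 hcm fun i j hij => by
    have := hpt i j hij
    rw [hshift, hc.jh_jj] at this
    exact S.quad_of_pt this
  have hfix : ∀ i j : K, Commute g (S.jj (axv c m i j)) := fun i j => by
    refine mul_inv_eq_iff_eq_mul.1 ?_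
    rw [hl, hshift, h10, h20, add_zero, add_zero, hc.jh_jj]
  rcases axis_pts c m hcm with ⟨i, j, i', j', q1, q2, n1, n2⟩ | hfree
  · exact S.mem_norm_of_pair (axv_ne c m i j hcm) q1 (axv_ne c m i' j' hcm) q2 n1 n2 (hfix i j) (hfix i' j')
  · obtain ⟨hX', hzy, -⟩ := mem_axC.1 hg
    exact S.mem_norm_of_point (axv_ne c m i j hcm) hij (hfree i j hij) (hfix i j) (jj_zy (S := S) ▸ hzy)
      (S.jj_X' ▸ hX')

/-- An element normalising `J⟨h⟩` normalises `J`. -/
theorem norm_of_jh {g : G} (hg : ∀ u, ∃ v, S.jh h v = g * S.jj u * g⁻¹) :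
    g ∈ Subgroup.normalizer (S.J : Set G) := by
  refine S.mem_normalizer_of fun j hj => ?_
  have hle : S.J ≤ S.J.comap (MulAut.conj g).toMonoidHom := S.J_le_of_pts fun x hx hxp => by
    obtain ⟨u, rfl⟩ := S.mem_J.1 hx
    obtain ⟨⟨v, e⟩, hv⟩ := hg u
    have hp : S.IsPt (S.jh h (v, e)) := hv ▸ hxp.conj g
    obtain rfl : e = 0 := hc.jh_pt hp
    rw [hc.jh_jj] at hv
    exact S.mem_J.2 ⟨v, hv⟩
  exact hle hj

theorem conj_t_jh (v : J4 × K) :
    t * S.jh h v * t⁻¹ = S.jh h ((v.1.1, v.1.2.1, -v.1.2.2.1, v.1.2.2.2), v.2) := by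
  rw [jh, jh, show t * (S.jj v.1 * h ^ v.2.val) * t⁻¹ = (t * S.jj v.1 * t⁻¹) * (t * h ^ v.2.val * t⁻¹) by group,
    hc.tinv.conj_jj, (hc.h_t.symm.pow_right v.2.val).eq, mul_inv_cancel_right]

theorem t_mem_axC (k : K) : t ∈ axC S h k :=
  mem_axC.2 ⟨hc.tinv.comm_X', hc.tinv.comm_z.mul_right hc.tinv.comm_y,
    hc.h_t.symm.mul_right (hc.tinv.comm_z.pow_right _)⟩

theorem t_mem_normJ : t ∈ Subgroup.normalizer (S.J : Set G) := S.mem_normalizer_of fun j hj => by
  obtain ⟨u, rfl⟩ := S.mem_J.1 hj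
  rw [hc.tinv.conj_jj]
  exact S.jj_mem _

/-- The elements of the axis centraliser normalising `J` are those of `J⟨h⟩⟨t⟩`. -/
theorem normalizer_cases {k : K} (hk : k ≠ 0) {g : G} (hg : g ∈ axC S h k)
    (hgJ : g ∈ Subgroup.normalizer (S.J : Set G)) :
    (∃ v, S.jh h v = g) ∨ ∃ v, S.jh h v = t⁻¹ * g := by
  have T := hc.tinv
  obtain ⟨hX', hzy, hb⟩ := mem_axC.1 hg
  obtain ⟨L, hL, hadd, -, -⟩ := S.exists_lin fun x hx => (Subgroup.mem_normalizer_iff.1 hgJ x).1 hx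
  have hq : ∀ u, quad u = 0 ↔ quad (L u) = 0 := fun u => S.quad_iff_of_conj (hL u)
  have eX' : L (0, 0, 0, 1) = (0, 0, 0, 1) := S.jj_inj (by rw [← hL, S.jj_X', hX'.eq, mul_inv_cancel_right])
  have ezy : L (1, 1, 0, 0) = (1, 1, 0, 0) := S.jj_inj (by rw [← hL, jj_zy, hzy.eq, mul_inv_cancel_right])
  have hsm : ∀ (r : K) (u : J4), L (r • u) = r • L u := fun r u => additive_smul L hadd r u
  have hz : L (1, 0, 0, 0) = (1, 0, 0, 0) ∨ L (1, 0, 0, 0) = (0, 1, 0, 0) := z_image _ fun i j => by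
    rw [hq, hadd, hadd, hsm, hsm, ezy, eX']
  have hy : L (0, 1, 0, 0) = (1, 1, 0, 0) + -L (1, 0, 0, 0) := by
    rw [← ezy, show ((1, 1, 0, 0) : J4) = (0, 1, 0, 0) + (1, 0, 0, 0) by decide, hadd, add_neg_cancel_right]
  have hplane : ∀ i i' : K, L (i, i', 0, 0) = i • L (1, 0, 0, 0) + i' • L (0, 1, 0, 0) := fun i i' => by
    rw [additive_decomp L hadd]; simp
  have hX : L (0, 0, 1, 0) = (0, 0, 1, 0) ∨ L (0, 0, 1, 0) = (0, 0, -1, 0) := X_image _ fun i i' j => by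
    rcases hz with hz | hz
    · rw [hq, hadd, hadd, hsm, eX', hplane, hy, hz]
      simp
    · have hswap : ∀ q : J4, (∀ i i' j : K,
          (quad ((0, 0, 1, 0) + ((i, i', 0, 0) + j • ((0, 0, 0, 1) : J4))) = 0 ↔
            quad ((0, 0, 1, 0) + ((i', i, 0, 0) + j • ((0, 0, 0, 1) : J4))) = 0)) := fun _ => by decide +kernel
      rw [hswap (L (0, 0, 1, 0)) i i' j, hq, hadd, hadd, hsm, eX', hplane, hy, hz]
      simp
  have hgen : ∀ g' : G, Commute g' S.z → Commute g' S.y → Commute g' S.X → Commute g' S.X' →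
      ∀ v, Commute g' (S.jj v) := fun g' a b c d v =>
    (((a.pow_right _).mul_right (b.pow_right _)).mul_right (c.pow_right _)).mul_right (d.pow_right _)
  rcases hz with hz | hz
  · -- `z` fixed
    have gz : Commute g S.z := mul_inv_eq_iff_eq_mul.1 (by rw [← S.jj_z, hL, hz])
    have gy : Commute g S.y := mul_inv_eq_iff_eq_mul.1 (by
      rw [← S.jj_y, hL, hy, hz]
      congr 1)
    rcases hX with hX | hX
    · exact Or.inl (hc.exists_jh (hgen g gz gy (mul_inv_eq_iff_eq_mul.1 (by rw [← S.jj_X, hL, hX])) hX'))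
    · refine Or.inr (hc.exists_jh (hgen _ (T.comm_z.inv_left.mul_left gz) (T.comm_y.inv_left.mul_left gy)
        (mul_inv_eq_iff_eq_mul.1 ?_) (T.comm_X'.inv_left.mul_left hX')))
      rw [show t⁻¹ * g * S.X * (t⁻¹ * g)⁻¹ = t⁻¹ * (g * S.X * g⁻¹) * t by group, ← S.jj_X, hL, hX,
        T.inv_eq]
      have := T.conj_jj (0, 0, -1, 0)
      rw [T.inv_eq, neg_neg] at this
      exact this
  · -- `z` and `y` exchanged
    exfalso
    have gz : g * S.z * g⁻¹ = S.y := by rw [← S.jj_z, hL, hz, S.jj_y]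
    have gy : g * S.y * g⁻¹ = S.z := by
      rw [← S.jj_y, hL, hy, hz, ← S.jj_z]
      congr 1
    have giz : g⁻¹ * S.z * g = S.y := by rw [← gy]; group
    have giy : g⁻¹ * S.y * g = S.z := by rw [← gz]; group
    have gh : g * h * g⁻¹ = S.jh h ((k, -k, 0, 0), 1) := by
      have e1 : g * (h * S.z ^ k.val) * g⁻¹ = h * S.z ^ k.val := by rw [hb.eq, mul_inv_cancel_right]
      rw [show g * (h * S.z ^ k.val) * g⁻¹ = g * h * g⁻¹ * (g * S.z ^ k.val * g⁻¹) by group, ← conj_pow, gz,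
        ← eq_mul_inv_iff_mul_eq] at e1
      rw [e1, ← hc.jh_b k, show S.y ^ k.val = S.jh h ((0, k, 0, 0), 0) by simp [jh, jj], ← hc.jh_neg,
        ← hc.jh_add]
      simp
    have ghi : g⁻¹ * h * g = S.jh h ((k, -k, 0, 0), 1) := by
      have e : h = g⁻¹ * (g * h * g⁻¹) * g := by group
      rw [gh, jh, show g⁻¹ * (S.jj (k, -k, 0, 0) * h ^ (1 : K).val) * g =
        (g⁻¹ * S.jj (k, -k, 0, 0) * g) * (g⁻¹ * h ^ (1 : K).val * g) by group, ZMod.val_one, pow_one,
        show g⁻¹ * S.jj (k, -k, 0, 0) * g = (g⁻¹ * S.z * g) ^ k.val * (g⁻¹ * S.y * g) ^ (-k).val by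
          have hm := map_mul (MulAut.conj g⁻¹) (S.z ^ k.val) (S.y ^ (-k).val)
          simp only [map_pow, MulAut.conj_apply, inv_inv] at hm
          rw [show S.jj (k, -k, 0, 0) = S.z ^ k.val * S.y ^ (-k).val by simp [jj]]
          exact hm,
        giz, giy] at e
      have e' : g⁻¹ * h * g = (S.y ^ k.val * S.z ^ (-k).val)⁻¹ * h := by
        rw [eq_inv_mul_iff_mul_eq]; exact e.symm
      rw [e', show S.y ^ k.val = S.jh h ((0, k, 0, 0), 0) by simp [jh, jj],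
        show S.z ^ (-k).val = S.jh h ((-k, 0, 0, 0), 0) by simp [jh, jj], ← hc.jh_add, ← hc.jh_neg]
      nth_rewrite 2 [← hc.jh_h]
      rw [← hc.jh_add]
      simp
    set t' := g * t * g⁻¹ with ht'
    have htc : ∀ a, Commute t (g⁻¹ * a * g) → Commute t' a := fun a ha => by
      have := ha.map (MulAut.conj g).toMonoidHom
      simpa [ht', mul_assoc] using this
    have t'z : Commute t' S.z := htc _ (giz ▸ T.comm_y)
    have t'y : Commute t' S.y := htc _ (giy ▸ T.comm_z)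
    have t'X' : Commute t' S.X' := htc _ (by
      rw [(mul_inv_eq_iff_eq_mul.1 (show g⁻¹ * S.X' * g⁻¹⁻¹ = S.X' by
        rw [hX'.inv_left.eq, mul_inv_cancel_right])), inv_mul_cancel_right]
      exact T.comm_X')
    have t'h : Commute t' h := htc _ (by
      rw [ghi]
      refine mul_inv_eq_iff_eq_mul.1 ?_
      rw [hc.conj_t_jh, neg_zero])
    have hiX : ∃ ε : K, g⁻¹ * S.X * g = S.jj (0, 0, ε, 0) ∧ g * S.jj (0, 0, -ε, 0) * g⁻¹ = S.X⁻¹ := by
      rcases hX with hX | hX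
      · refine ⟨1, ?_, ?_⟩
        · rw [← S.jj_X]; conv_lhs => rw [← hX, ← hL]
          group
        · rw [show ((0, 0, -1, 0) : J4) = -(0, 0, 1, 0) by simp, S.jj_neg, ← conj_inv, hL, hX, S.jj_X]
      · refine ⟨-1, ?_, ?_⟩
        · have := hL (0, 0, 1, 0)
          rw [hX, show ((0, 0, -1, 0) : J4) = -(0, 0, 1, 0) by simp, S.jj_neg, S.jj_X] at this
          rw [show ((0, 0, -1, 0) : J4) = -(0, 0, 1, 0) by simp, S.jj_neg, S.jj_X,
            show g⁻¹ * S.X * g = (g⁻¹ * S.X⁻¹ * g)⁻¹ by group]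
          nth_rewrite 1 [← this]
          group
        · rw [neg_neg, hL, hX, show ((0, 0, -1, 0) : J4) = -(0, 0, 1, 0) by simp, S.jj_neg, S.jj_X]
    obtain ⟨ε, he1, he2⟩ := hiX
    have t'X : t' * S.X * t'⁻¹ = S.X⁻¹ := by
      rw [ht', show g * t * g⁻¹ * S.X * (g * t * g⁻¹)⁻¹ = g * (t * (g⁻¹ * S.X * g) * t⁻¹) * g⁻¹ by group, he1,
        T.conj_jj]
      exact he2
    have hcc : ∀ v, Commute (t' * t) (S.jj v) := hgen _ (t'z.mul_left T.comm_z) (t'y.mul_left T.comm_y)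
      (mul_inv_eq_iff_eq_mul.1 (by
        rw [show t' * t * S.X * (t' * t)⁻¹ = t' * (t * S.X * t⁻¹) * t'⁻¹ by group, T.conj_X, ← conj_inv,
          t'X, inv_inv]))
      (t'X'.mul_left T.comm_X')
    obtain ⟨⟨w, e⟩, hw⟩ := hc.exists_jh hcc
    have ht'2 : t' * t' = 1 := by
      rw [ht', show g * t * g⁻¹ * (g * t * g⁻¹) = g * (t * t) * g⁻¹ by group, T.sq]; group
    have hinv : t * S.jh h (w, e) * t⁻¹ = (S.jh h (w, e))⁻¹ := by
      rw [hw, T.inv_eq]
      refine eq_inv_of_mul_eq_one_right ?_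
      rw [show t' * t * (t * (t' * t) * t) = t' * (t * t) * t' * (t * t) by group, T.sq, mul_one, mul_one,
        ht'2]
    rw [hc.conj_t_jh, ← hc.jh_neg] at hinv
    have hv := hc.jh_inj hinv
    simp only [Prod.neg_mk, Prod.ext_iff] at hv
    obtain ⟨⟨ha, hbb, -, hd⟩, hee⟩ := hv
    have hw' : w = (0, 0, w.2.2.1, 0) :=
      Prod.ext (K_neg_self _ ha) (Prod.ext (K_neg_self _ hbb) (Prod.ext rfl (K_neg_self _ hd)))
    rw [K_neg_self _ hee, hc.jh_jj, hw'] at hw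
    generalize w.2.2.1 = cc at hw
    set j := S.jj (0, 0, -cc, 0) with hj
    have hj1 : j * t * j⁻¹ = t' := by
      have e1 : j * t * j⁻¹ = j * (t * j⁻¹ * t⁻¹) * t := by group
      rw [e1, hj, ← S.jj_neg, T.conj_jj, ← S.jj_add,
        show ((0, 0, -cc, 0) : J4) + ((-(0, 0, -cc, 0) : J4).1, (-(0, 0, -cc, 0) : J4).2.1,
          -(-(0, 0, -cc, 0) : J4).2.2.1, (-(0, 0, -cc, 0) : J4).2.2.2) = (0, 0, cc, 0) by
          have : ∀ a : K, -a + -a = a := by decide
          simp [this], hw, mul_assoc, T.sq, mul_one]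
    set g₁ := j⁻¹ * g with hg₁
    have g₁t : Commute g₁ t := mul_inv_eq_iff_eq_mul.1 (by
      rw [hg₁, show j⁻¹ * g * t * (j⁻¹ * g)⁻¹ = j⁻¹ * (g * t * g⁻¹) * j by group, ← ht', ← hj1]
      group)
    have g₁X' : Commute g₁ S.X' := (hj ▸ S.jj_X' ▸ S.commute_jj _ _ : Commute j S.X').inv_left.mul_left hX'
    have g₁N : g₁ ∈ Subgroup.normalizer (S.TJ t : Set G) := Coprime.mem_normalizer_of_forall fun x hx => by
      obtain ⟨⟨u, rfl⟩, hu⟩ := (Subgroup.mem_inf.1 hx).imp_left S.mem_J.1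
      have hJ : g₁ * S.jj u * g₁⁻¹ ∈ S.J := by
        rw [hg₁, show j⁻¹ * g * S.jj u * (j⁻¹ * g)⁻¹ = j⁻¹ * (g * S.jj u * g⁻¹) * j by group, hL]
        exact mul_mem (mul_mem (inv_mem (S.jj_mem _)) (S.jj_mem _)) (S.jj_mem _)
      refine Subgroup.mem_inf.2 ⟨hJ, Subgroup.mem_centralizer_singleton_iff.2 ?_⟩
      exact ((g₁t.mul_left (Subgroup.mem_centralizer_singleton_iff.1 hu)).mul_left g₁t.inv_left).eq
    have g₁h : g₁ * h * g₁⁻¹ = S.jh h ((k, -k, 0, 0), 1) := by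
      rw [hg₁, show j⁻¹ * g * h * (j⁻¹ * g)⁻¹ = j⁻¹ * (g * h * g⁻¹) * j by group, gh, hj, ← hc.jh_jj,
        (hc.commute_jh ((0, 0, -cc, 0), 0) ((k, -k, 0, 0), 1)).inv_left.eq, inv_mul_cancel_right]
    have hX'c : ∀ v, S.jh h v ∈ Subgroup.zpowers S.X' → v.1.1 = 0 ∧ v.2 = 0 := by
      intro v hv
      have h3 : S.X' ^ 3 = 1 := S.cube _ S.X'_mem
      obtain ⟨n, hn⟩ := Subgroup.mem_zpowers_iff.1 hv
      have e : S.X' ^ n = S.jh h ((0, 0, 0, (n : K)), 0) := by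
        rw [hc.jh_jj]
        simp only [jj, ZMod.val_zero, pow_zero, one_mul, mul_one]
        rw [← zpow_natCast, ZMod.val_intCast]
        exact (zpow_eq_zpow_iff_modEq.2 (Int.ModEq.of_dvd
          (Int.natCast_dvd_natCast.2 (orderOf_dvd_of_pow_eq_one h3)) (Int.mod_modEq n 3))).symm
      rw [e] at hn
      rw [← hc.jh_inj hn]
      exact ⟨rfl, rfl⟩
    rcases hc.canon g₁ g₁t g₁X' g₁N with hcan | hcan <;> rw [g₁h] at hcan <;>
      nth_rewrite 1 [← hc.jh_h] at hcan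
    · rw [← hc.jh_neg, ← hc.jh_add] at hcan
      exact hk (by simpa using (hX'c _ hcan).1)
    · rw [← hc.jh_add] at hcan
      exact absurd (hX'c _ hcan).2 (by simp; decide)

/-- The centraliser of `⟨X', z y, h z^k⟩` normalises `J`. -/
theorem centralizer_axis_h (k : K) (hk : k ≠ 0) :
    Subgroup.centralizer {S.X', S.z * S.y, h * S.z ^ k.val} ≤ Subgroup.normalizer (S.J : Set G) := by
  have T := hc.tinv
  set Ag := (hc.axHom k).range.subgroupOf (axC S h k) with hAg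
  have memAg : ∀ {a : axC S h k}, a ∈ Ag ↔ ∃ p, S.jh h (axA k p) = (a : G) := by
    intro a
    rw [hAg, Subgroup.mem_subgroupOf, MonoidHom.mem_range]
    exact ⟨fun ⟨p, hp⟩ => ⟨p.toAdd, hp⟩, fun ⟨p, hp⟩ => ⟨Multiplicative.ofAdd p, hp⟩⟩
  have hAn : Ag.Normal := ⟨fun a ha g => by
    obtain ⟨p, hp⟩ := memAg.1 ha
    refine memAg.2 ⟨p, ?_⟩
    simp only [Subgroup.coe_mul, InvMemClass.coe_inv, ← hp]
    rw [(hc.commute_axA g.2 p).eq, mul_inv_cancel_right]⟩
  let π : axC S h k →* axC S h k ⧸ Ag := QuotientGroup.mk' Ag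
  have hπ : Function.Surjective π := QuotientGroup.mk'_surjective Ag
  let rv : K × K → J4 := fun p => (p.2, 0, p.1, 0)
  let el : K × K → axC S h k := fun p => ⟨S.jh h (rv p, 0), hc.jh_mem_axC k _⟩
  let ρ : Multiplicative (K × K) →* axC S h k ⧸ Ag := MonoidHom.mk' (fun p => π (el p.toAdd)) fun p q => by
    rw [← map_mul]
    refine congrArg π (Subtype.ext ?_)
    show S.jh h (rv (p.toAdd + q.toAdd), 0) = S.jh h (rv p.toAdd, 0) * S.jh h (rv q.toAdd, 0)
    rw [← hc.jh_add]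
    simp [rv]
  have hρ : Function.Injective ρ := (injective_iff_map_eq_one ρ).2 fun p hp => by
    obtain ⟨q, hq⟩ := memAg.1 ((QuotientGroup.eq_one_iff _).1 hp)
    have e := hc.jh_inj hq
    simp only [axA, rv, Prod.ext_iff] at e
    obtain ⟨⟨e1, e2, e3, -⟩, e4⟩ := e
    rw [e2, e4, mul_zero, add_zero] at e1
    exact congrArg Multiplicative.ofAdd (Prod.ext e3.symm e1.symm)
  set Tb := ρ.range with hTb
  have memT : ∀ (g : axC S h k), (∃ v, S.jh h v = (g : G)) → π g ∈ Tb := by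
    rintro g ⟨⟨u, e⟩, hu⟩
    refine ⟨Multiplicative.ofAdd (u.2.2.1, u.1 + -u.2.1 + -(k * e)), ?_⟩
    refine (QuotientGroup.eq).2 (memAg.2 ⟨(u.2.1, u.2.2.2, e), ?_⟩)
    simp only [Subgroup.coe_mul, InvMemClass.coe_inv, el, toAdd_ofAdd]
    rw [← hu, ← hc.jh_neg, ← hc.jh_add]
    congr 1
    ext <;> simp [axA, rv]
    ring
  set M := ((Subgroup.normalizer (S.J : Set G)).subgroupOf (axC S h k)).map π with hM
  have memM : ∀ g : axC S h k, (g : G) ∈ Subgroup.normalizer (S.J : Set G) → π g ∈ M := fun g hg => ⟨g, hg, rfl⟩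
  have hcentJ : ∀ v, S.jh h v ∈ Subgroup.normalizer (S.J : Set G) := fun v =>
    S.mem_normalizer_of fun j hj => by
      obtain ⟨u, rfl⟩ := S.mem_J.1 hj
      rw [← hc.jh_jj u, (hc.commute_jh _ _).eq, mul_inv_cancel_right, hc.jh_jj]
      exact S.jj_mem u
  set s := π ⟨t, hc.t_mem_axC k⟩ with hs
  have hsx : s * ρ (Multiplicative.ofAdd (1, 0)) * s⁻¹ = (ρ (Multiplicative.ofAdd (1, 0)))⁻¹ := by
    show s * π (el (1, 0)) * s⁻¹ = (π (el (1, 0)))⁻¹
    rw [hs, ← map_inv, ← map_inv, ← map_mul, ← map_mul]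
    refine congrArg π (Subtype.ext ?_)
    show t * S.jh h (rv (1, 0), 0) * t⁻¹ = (S.jh h (rv (1, 0), 0))⁻¹
    rw [hc.conj_t_jh, ← hc.jh_neg]
    simp [rv]
  have hsv : Commute s (ρ (Multiplicative.ofAdd (0, 1))) := by
    show Commute s (π (el (0, 1)))
    refine Commute.map (Subtype.ext (mul_inv_eq_iff_eq_mul.1 ?_) : Commute (⟨t, hc.t_mem_axC k⟩ : axC S h k) _) π
    show t * S.jh h (rv (0, 1), 0) * t⁻¹ = S.jh h (rv (0, 1), 0)
    rw [hc.conj_t_jh]
    simp [rv]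
  have hcases : ∀ m ∈ M, m ∈ Tb ∨ s⁻¹ * m ∈ Tb := by
    rintro _ ⟨g, hg, rfl⟩
    rcases hc.normalizer_cases hk g.2 hg with h1 | h1
    · exact Or.inl (memT g h1)
    · refine Or.inr ?_
      rw [hs, ← map_inv, ← map_mul]
      exact memT _ h1
  have hcube : ∀ p : K × K, Multiplicative.ofAdd p ^ 3 = 1 := by decide +kernel
  have hcent : ∀ a ∈ Tb, a ≠ 1 → Subgroup.centralizer {a} ≤ M := by
    rintro _ ⟨p, rfl⟩ hne q hq
    obtain ⟨g, rfl⟩ := hπ q
    refine memM g ?_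
    have hcm : (p.toAdd).1 ≠ 0 ∨ (p.toAdd).2 ≠ 0 := by
      by_contra hh
      push Not at hh
      exact hne (by rw [show p = 1 from congrArg Multiplicative.ofAdd (Prod.ext hh.1 hh.2), map_one])
    have hx : π (g * el p.toAdd * g⁻¹) = π (el p.toAdd) := by
      rw [map_mul, map_mul, map_inv,
        show π g * π (el p.toAdd) = π (el p.toAdd) * π g from Subgroup.mem_centralizer_singleton_iff.1 hq,
        mul_inv_cancel_right]
    obtain ⟨a, ha⟩ := memAg.1 ((QuotientGroup.eq).1 hx.symm)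
    refine hc.fix_coset (c := (p.toAdd).1) (m := (p.toAdd).2) hcm g.2 (p := a) ?_
    simp only [Subgroup.coe_mul, InvMemClass.coe_inv, el, rv, hc.jh_jj] at ha
    rw [ha]
    group
  have hA : Axis Tb M (ρ (Multiplicative.ofAdd (1, 0))) (ρ (Multiplicative.ofAdd (0, 1))) s :=
    { card := by
        rw [hTb, ← Nat.card_congr (MonoidHom.ofInjective hρ).toEquiv, Nat.card_congr Multiplicative.toAdd,
          Nat.card_eq_fintype_card]
        rfl
      cube := by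
        rintro _ ⟨p, rfl⟩
        rw [← map_pow, show p = Multiplicative.ofAdd p.toAdd from rfl, hcube, map_one]
      comm := by
        rintro _ ⟨p, rfl⟩ _ ⟨q, rfl⟩
        exact (Commute.all p q).map ρ
      T_le := by
        rintro _ ⟨p, rfl⟩
        exact memM _ (hcentJ _)
      M_cases := hcases
      x_mem := ⟨_, rfl⟩
      x_ne := fun e => absurd (hρ (e.trans (map_one ρ).symm)) (by decide)
      v_mem := ⟨_, rfl⟩
      v_ne := fun e => by
        obtain ⟨n, hn⟩ := Subgroup.mem_zpowers_iff.1 e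
        rw [← map_zpow] at hn
        have := congrArg (fun p : Multiplicative (K × K) => (p.toAdd).2) (hρ hn)
        simp at this
      s_mem := memM _ hc.t_mem_normJ
      s_x := hsx
      s_v := hsv
      norm := by
        intro q hq
        obtain ⟨g, rfl⟩ := hπ q
        refine memM g (hc.norm_of_jh fun u => ?_)
        have hmem := (Subgroup.mem_normalizer_iff.1 hq _).1
          (memT ⟨S.jh h (u, 0), hc.jh_mem_axC k _⟩ ⟨_, rfl⟩)
        obtain ⟨p, hp⟩ := hmem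
        rw [← map_inv, ← map_mul, ← map_mul] at hp
        obtain ⟨a, ha⟩ := memAg.1 ((QuotientGroup.eq).1 hp)
        refine ⟨(rv p.toAdd, 0) + axA k a, ?_⟩
        simp only [Subgroup.coe_mul, InvMemClass.coe_inv, el] at ha
        rw [hc.jh_add, ha, hc.jh_jj u]
        group
      cent := hcent
      cent_x := by
        intro q hq
        have hx1 : ρ (Multiplicative.ofAdd ((1 : K), (0 : K))) ≠ 1 :=
          fun e => absurd (hρ (e.trans (map_one ρ).symm)) (by decide)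
        rcases hcases q (hcent _ ⟨_, rfl⟩ hx1 hq) with h1 | h1
        · exact h1
        exfalso
        obtain ⟨p, hp⟩ := h1
        set x := ρ (Multiplicative.ofAdd ((1 : K), (0 : K))) with hxdef
        have hqs : q = s * ρ p := by rw [hp]; group
        have hqx : Commute q x := Subgroup.mem_centralizer_singleton_iff.1 hq
        have hpx : Commute (ρ p) x := (Commute.all p _).map ρ
        have h1 : s * x * s⁻¹ = x := by
          have hs' : s = q * (ρ p)⁻¹ := by rw [hqs]; group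
          rw [hs', (hqx.mul_left hpx.inv_left).eq, mul_inv_cancel_right]
        rw [hsx, hxdef, ← map_inv] at h1
        exact absurd (hρ h1) (by decide) }
  intro g hg
  obtain ⟨m, hm, hmg⟩ := (hA.eq_top.symm ▸ Subgroup.mem_top (π ⟨g, hg⟩) : π ⟨g, hg⟩ ∈ M)
  obtain ⟨a, ha⟩ := memAg.1 ((QuotientGroup.eq).1 hmg)
  have hgm : g = (m : G) * S.jh h (axA k a) := by
    rw [ha]
    simp
  rw [hgm]
  exact mul_mem hm (hcentJ _)

end CoreH

end Std

end Cfsg.Agent.U62ThreeCent
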