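/-
Points in the centraliser of the involution, and the centralisers of `z` and `X'` there.

* `Std.TInv.exists_sylow` : a Sylow three-subgroup of `C(t)` centralising `z` whose points lie in `TJ`;
* `Std.TInv.weak` : `TJ` holds the points of every three-subgroup of `C(t)` containing it;
* `Std.EData` : what is known about the extraspecial subgroup `E`;
* `Std.EData.meet_z`, `Std.EData.meet_X'` : an element of `C(t)` moving `z` or `X'` into `N(E)` lies in `N(E)`.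
-/
import Cfsg.Agent.Lib.U62ThreeCent.Core
import Cfsg.Agent.Lib.U62ThreeCent.Planes
import Cfsg.Prelude.Def_Transfer

set_option autoImplicit false
set_option maxRecDepth 100000
set_option synthInstance.maxSize 2000
set_option linter.unusedSectionVars false

namespace Cfsg.Agent.U62ThreeCent

open Cfsg.Agent.PSpThree
open scoped Pointwise

theorem T_points : ∀ v : J4, v ≠ 0 → quad v = 0 → v.2.2.1 = 0 →
    v = (1, 0, 0, 0) ∨ v = -(1, 0, 0, 0) ∨
      ∃ d : K, v = uni (0, d) (0, 1, 0, 0) ∨ v = -uni (0, d) (0, 1, 0, 0) := by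
  decide +kernel

theorem T_span : ∀ v : J4, v.2.2.1 = 0 → v = v.1.val • ((1, 0, 0, 0) : J4) + v.2.1.val • ((0, 1, 0, 0) : J4) +
    v.2.2.2.val • (uni (0, 1) (0, 1, 0, 0) + (1, 0, 0, 0) + -(0, 1, 0, 0) : J4) := by decide +kernel

theorem T_moved : ∀ d : K, uni (0, 1) (uni (0, d) ((0, 1, 0, 0) : J4)) ≠ uni (0, d) (0, 1, 0, 0) := by
  decide +kernel

namespace Std

variable {G : Type*} [Group G] {S : Std G} {t : G}

namespace TInv

variable (T : S.TInv t)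
include T

theorem mem_TJ_iff {g : G} : g ∈ S.TJ t ↔ ∃ v : J4, v.2.2.1 = 0 ∧ S.jj v = g := by
  rw [TJ, Subgroup.mem_inf, Subgroup.mem_centralizer_singleton_iff, S.mem_J]
  constructor
  · rintro ⟨⟨v, rfl⟩, h⟩; exact ⟨v, (T.jj_comm v).1 h, rfl⟩
  · rintro ⟨v, hv, rfl⟩; exact ⟨⟨v, rfl⟩, ((T.jj_comm v).2 hv).eq⟩

theorem z_mem_TJ : S.z ∈ S.TJ t := T.mem_TJ_iff.2 ⟨(1, 0, 0, 0), rfl, S.jj_z⟩

theorem y_mem_TJ : S.y ∈ S.TJ t := T.mem_TJ_iff.2 ⟨(0, 1, 0, 0), rfl, S.jj_y⟩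

theorem X'_mem_TJ : S.X' ∈ S.TJ t := T.mem_TJ_iff.2 ⟨(0, 0, 0, 1), rfl, S.jj_X'⟩

theorem commute_TJ {g : G} (hg : g ∈ S.TJ t) : Commute g t :=
  Subgroup.mem_centralizer_singleton_iff.1 hg.2

/-- An element of `C_Q(t)` for every translation. -/
theorem exists_trans (d : K) : ∃ q ∈ QT S t, ∀ v, q * S.jj v * q⁻¹ = S.jj (uni (0, d) v) := by
  obtain ⟨q, hq, hv⟩ := S.vec_surj (0, (0, -d))
  refine ⟨q, mem_QT_iff.2 ⟨hq, (T.mem_QT hq).2 (by rw [hv])⟩, fun v => ?_⟩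
  rw [S.conj_Q hq, hv]; simp

theorem QT_norm_TJ {q v} (hq : q ∈ QT S t) (hv : v ∈ S.TJ t) : q * v * q⁻¹ ∈ S.TJ t := by
  obtain ⟨hqQ, hqt⟩ := mem_QT_iff.1 hq
  obtain ⟨w, hw, rfl⟩ := T.mem_TJ_iff.1 hv
  rw [S.conj_Q hqQ]
  refine T.mem_TJ_iff.2 ⟨_, ?_, rfl⟩
  simp [uni, hw, (T.mem_QT hqQ).1 hqt]

/-- The points in `TJ`. -/
theorem pt_cases {p : G} (hp : S.IsPt p) (hpT : p ∈ S.TJ t) : p = S.z ∨ p = S.z⁻¹ ∨
    ∃ q ∈ QT S t, ∃ d : K, (∀ v, q * S.jj v * q⁻¹ = S.jj (uni (0, d) v)) ∧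
      (p = q * S.y * q⁻¹ ∨ p = (q * S.y * q⁻¹)⁻¹) := by
  obtain ⟨v, hv, rfl⟩ := T.mem_TJ_iff.1 hpT
  obtain ⟨h0, hq⟩ := (S.isPt_jj v).1 hp
  rcases T_points v h0 hq hv with rfl | rfl | ⟨d, hd⟩
  · exact Or.inl S.jj_z
  · exact Or.inr (Or.inl (by rw [S.jj_neg, S.jj_z]))
  · obtain ⟨q, hq, hqv⟩ := T.exists_trans d
    refine Or.inr (Or.inr ⟨q, hq, d, hqv, ?_⟩)
    rw [show q * S.y * q⁻¹ = S.jj (uni (0, d) (0, 1, 0, 0)) by rw [← hqv, S.jj_y]]
    rcases hd with rfl | rfl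
    · exact Or.inl rfl
    · exact Or.inr (by rw [S.jj_neg])

variable [Finite G]

/-- A conjugate of `TJ` holding its points contains it. -/
theorem le_of_points {U : Subgroup G} (h : ∀ p ∈ S.TJ t, S.IsPt p → p ∈ U) : S.TJ t ≤ U := by
  intro g hg
  obtain ⟨v, hv, rfl⟩ := T.mem_TJ_iff.1 hg
  have hp : ∀ w : J4, w.2.2.1 = 0 → w ≠ 0 → quad w = 0 → S.jj w ∈ U := fun w h1 h2 h3 =>
    h _ (T.mem_TJ_iff.2 ⟨w, h1, rfl⟩) ((S.isPt_jj w).2 ⟨h2, h3⟩)
  rw [T_span v hv]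
  have hn : ∀ (n : ℕ) (w : J4), S.jj w ∈ U → S.jj (n • w) ∈ U := fun n w hw => by
    induction n with
    | zero => rw [zero_smul, S.jj_zero]; exact one_mem _
    | succ n ih => rw [succ_nsmul, S.jj_add]; exact mul_mem ih hw
  have h1 := hp (1, 0, 0, 0) rfl (by decide) (by decide)
  have h2 := hp (0, 1, 0, 0) rfl (by decide) (by decide)
  have h3 := hp (uni (0, 1) (0, 1, 0, 0)) (by decide) (by decide +kernel) (by decide +kernel)
  rw [S.jj_add, S.jj_add]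
  refine mul_mem (mul_mem (hn _ _ h1) (hn _ _ h2)) (hn _ _ ?_)
  rw [S.jj_add, S.jj_add, S.jj_neg]
  exact mul_mem (mul_mem h3 h1) (inv_mem h2)

/-- A Sylow three-subgroup of `C(t)` centralising `z`; its points lie in `TJ`. -/
theorem exists_sylow : ∃ R : Subgroup G, IsPGroup 3 R ∧ S.TJ t ≤ R ∧ QT S t ≤ R ∧
    (∀ r ∈ R, Commute r S.z) ∧ (∀ r ∈ R, Commute r t) ∧ (∀ p ∈ R, S.IsPt p → p ∈ S.TJ t) ∧
    ∀ R' : Subgroup G, IsPGroup 3 R' → R ≤ R' → (∀ r ∈ R', Commute r t) → R' = R := by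
  have : Fact (Nat.Prime 3) := ⟨Nat.prime_three⟩
  set C := Subgroup.centralizer ({S.z, t} : Set G) with hC
  have memC : ∀ g, g ∈ C ↔ Commute g S.z ∧ Commute g t := by
    intro g
    rw [hC, Subgroup.mem_centralizer_iff]
    simp only [Set.mem_insert_iff, Set.mem_singleton_iff, forall_eq_or_imp, forall_eq]
    exact ⟨fun h => ⟨h.1.symm, h.2.symm⟩, fun h => ⟨h.1.eq.symm, h.2.eq.symm⟩⟩
  have hTC : S.TJ t ≤ C := fun g hg => (memC g).2 ⟨by
    obtain ⟨v, -, rfl⟩ := T.mem_TJ_iff.1 hg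
    exact S.commute_z_jj v, T.commute_TJ hg⟩
  have hT3 : IsPGroup 3 ((S.TJ t).subgroupOf C : Subgroup C) := fun g => by
    obtain ⟨v, -, hv⟩ := T.mem_TJ_iff.1 g.2
    replace hv : S.jj v = ((g : C) : G) := hv
    refine ⟨1, Subtype.ext (Subtype.ext ?_)⟩
    show ((g : C) : G) ^ 3 ^ 1 = 1
    rw [← hv, pow_one]; exact S.jj_cube v
  obtain ⟨P, hP⟩ := hT3.exists_le_sylow
  set R := (P : Subgroup C).map C.subtype with hR
  have hR3 : IsPGroup 3 R := P.isPGroup'.map _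
  have hRC : R ≤ C := Subgroup.map_subtype_le _
  have hTR : S.TJ t ≤ R := fun g hg => ⟨⟨g, hTC hg⟩, hP hg, rfl⟩
  have hQC : QT S t ≤ C := fun q hq => (memC q).2 ⟨S.Q_le q (mem_QT_iff.1 hq).1, (mem_QT_iff.1 hq).2⟩
  have hQn : ((QT S t).subgroupOf C).Normal := ⟨fun q hq c => TInv.QT_normal ((memC _).1 c.2).1 ((memC _).1 c.2).2 hq⟩
  have hQ3 : IsPGroup 3 ((QT S t).subgroupOf C) := fun g => ⟨1, Subtype.ext (Subtype.ext (by
    show ((g : C) : G) ^ 3 ^ 1 = 1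
    rw [pow_one]; exact S.cube _ (mem_QT_iff.1 g.2).1))⟩
  have hQP : (QT S t).subgroupOf C ≤ P := by
    obtain ⟨P', hP'⟩ := hQ3.exists_le_sylow
    obtain ⟨c, rfl⟩ := MulAction.exists_smul_eq C P' P
    intro q hq
    rw [Sylow.coe_subgroup_smul, Subgroup.mem_pointwise_smul_iff_inv_smul_mem]
    exact hP' (by simpa using hQn.conj_mem q hq c⁻¹)
  have hQR : QT S t ≤ R := fun g hg => ⟨⟨g, hQC hg⟩, hQP hg, rfl⟩
  have hRz : ∀ r ∈ R, Commute r S.z := fun r hr => ((memC r).1 (hRC hr)).1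
  have hRt : ∀ r ∈ R, Commute r t := fun r hr => ((memC r).1 (hRC hr)).2
  have hpts : ∀ p ∈ R, S.IsPt p → p ∈ S.TJ t := by
    intro p hp hpt
    have hy : S.y ∈ R := hTR T.y_mem_TJ
    have cube : ∀ r ∈ R, ∃ k, S.φ r ^ 3 ^ k = 1 := fun r hr => by
      obtain ⟨k, hk⟩ := hR3 ⟨r, hr⟩
      refine ⟨k, ?_⟩
      rw [← S.toCfg.φ_pow' (hRz r hr), show r ^ 3 ^ k = 1 from congrArg Subtype.val hk, S.φ_one]
    have hcR : p * S.y * p⁻¹ * S.y⁻¹ ∈ R := mul_mem (mul_mem (mul_mem hp hy) (inv_mem hp)) (inv_mem hy)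
    obtain ⟨i, hi⟩ := cube p hp
    obtain ⟨j, hj⟩ := cube _ hy
    obtain ⟨l, hl⟩ := cube _ hcR
    have hpz := hRz p hp
    rw [S.φ_mul _ _ ((hpz.mul_left S.y_comm).mul_left hpz.inv_left) S.y_comm.inv_left,
      S.φ_mul _ _ (hpz.mul_left S.y_comm) hpz.inv_left, S.φ_mul _ _ hpz S.y_comm, S.φ_inv hpz,
      S.φ_inv S.y_comm] at hl
    exact ⟨S.mem_J_of_pt' hpt hpz (Mon.comm_of_three hi hj hl),
      Subgroup.mem_centralizer_singleton_iff.2 (hRt p hp).eq⟩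
  refine ⟨R, hR3, hTR, hQR, hRz, hRt, hpts, fun R' hR' hle ht' => ?_⟩
  by_contra hne
  have hlt : R < R' := lt_of_le_of_ne hle fun e => hne e.symm
  have : Group.IsNilpotent R' := hR'.isNilpotent
  have hlt' : R.subgroupOf R' < ⊤ := by
    rw [lt_top_iff_ne_top, Ne, Subgroup.subgroupOf_eq_top]
    exact not_le_of_gt hlt
  obtain ⟨n, hn, hnR⟩ := SetLike.exists_of_lt (Group.normalizerCondition_of_isNilpotent _ hlt')
  have hconj : ∀ r ∈ R, (n : G) * r * (n : G)⁻¹ ∈ R := fun r hr =>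
    (Subgroup.mem_normalizer_iff.1 hn ⟨r, hle hr⟩).1 hr
  set p := (n : G) * S.z * (n : G)⁻¹ with hp
  have hppt : S.IsPt p := Cfg.IsPt.conj S.toCfg.isPt_z _
  have hpR : p ∈ R := hconj _ (hTR T.z_mem_TJ)
  have hcent : ∀ r ∈ R, Commute r p := by
    intro r hr
    have h1 : (n : G)⁻¹ * r * (n : G) ∈ R := by
      have := (Subgroup.mem_normalizer_iff.1 (inv_mem hn) ⟨r, hle hr⟩).1 hr
      simpa [Subgroup.mem_subgroupOf] using this
    have := (hRz _ h1).map (MulAut.conj (n : G)).toMonoidHom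
    rw [show (MulAut.conj (n : G)).toMonoidHom ((n : G)⁻¹ * r * (n : G)) = r by simp [mul_assoc]] at this
    exact this
  -- `p` is `z` or its inverse
  have hz : p = S.z ∨ p = S.z⁻¹ := by
    rcases T.pt_cases hppt (hpts p hpR hppt) with h | h | ⟨q, -, d, hqv, h⟩
    · exact Or.inl h
    · exact Or.inr h
    exfalso
    obtain ⟨q₁, hq₁, hqv₁⟩ := T.exists_trans 1
    have hc : Commute q₁ (q * S.y * q⁻¹) := by
      rcases h with h | h <;> have := hcent q₁ (hQR hq₁) <;> rw [h] at this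
      · exact this
      · exact Commute.inv_right_iff.1 this
    rw [← S.jj_y, hqv] at hc
    exact T_moved d (S.jj_inj (by rw [← hqv₁, hc.eq, mul_inv_cancel_right]))
  obtain ⟨k, hk⟩ := hR' n
  have hk' : (n : G) ^ 3 ^ k = 1 := congrArg Subtype.val hk
  have hnz : Commute (n : G) S.z := by
    rcases hz with h | h
    · exact mul_inv_eq_iff_eq_mul.1 h
    exfalso
    have hpw : ∀ i : ℕ, (n : G) ^ (2 * i + 1) * S.z * ((n : G) ^ (2 * i + 1))⁻¹ = S.z⁻¹ := by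
      intro i
      induction i with
      | zero => simpa using h
      | succ i ih =>
        rw [show 2 * (i + 1) + 1 = 1 + 1 + (2 * i + 1) by omega, pow_add, pow_add, pow_one]
        calc (n : G) * n * (n : G) ^ (2 * i + 1) * S.z * ((n : G) * n * (n : G) ^ (2 * i + 1))⁻¹
            = (n : G) * n * ((n : G) ^ (2 * i + 1) * S.z * ((n : G) ^ (2 * i + 1))⁻¹) * ((n : G) * n)⁻¹ := by
              group
          _ = (n : G) * ((n : G) * S.z * (n : G)⁻¹)⁻¹ * (n : G)⁻¹ := by rw [ih]; group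
          _ = S.z⁻¹ := by rw [← hp, h, inv_inv, ← hp, h]
    obtain ⟨l, hl⟩ := (Odd.pow (by decide : Odd 3) : Odd (3 ^ k))
    have := hpw l
    rw [← hl, hk', inv_one, mul_one, one_mul] at this
    have h2 : S.z ^ 2 = 1 := by rw [pow_two, ← mul_inv_cancel S.z, ← this]
    have h3 := orderOf_dvd_of_pow_eq_one h2
    rw [S.z_ord] at h3
    norm_num at h3
  -- so it lies in `R`
  have hP' : IsPGroup 3 ((R' ⊓ C).subgroupOf C : Subgroup C) :=
    (hR'.to_le inf_le_left).comap_of_injective _ C.subtype_injective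
  have hPle : (P : Subgroup C) ≤ (R' ⊓ C).subgroupOf C := fun g hg => ⟨hle ⟨g, hg, rfl⟩, g.2⟩
  have heq := P.is_maximal' hP' hPle
  apply hnR
  have hnC : (n : G) ∈ C := (memC _).2 ⟨hnz, ht' _ n.2⟩
  exact ⟨⟨n, hnC⟩, by rw [← heq]; exact ⟨n.2, hnC⟩, rfl⟩

/-- In a three-subgroup of `C(t)` containing `TJ` all points lie in `TJ`. -/
theorem weak {R₁ : Subgroup G} (h3 : IsPGroup 3 R₁) (ht : ∀ r ∈ R₁, Commute r t) (hle : S.TJ t ≤ R₁)
    {p : G} (hp : p ∈ R₁) (hpt : S.IsPt p) : p ∈ S.TJ t := by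
  have : Fact (Nat.Prime 3) := ⟨Nat.prime_three⟩
  obtain ⟨R, hR3, hTR, -, -, hRt, hpts, hmax⟩ := T.exists_sylow
  set C := Subgroup.centralizer ({t} : Set G)
  have memC : ∀ g, g ∈ C ↔ Commute g t := fun g => Subgroup.mem_centralizer_singleton_iff
  have hRC : R ≤ C := fun r hr => (memC r).2 (hRt r hr)
  have h1C : R₁ ≤ C := fun r hr => (memC r).2 (ht r hr)
  obtain ⟨P, hP⟩ := (hR3.comap_of_injective C.subtype C.subtype_injective).exists_le_sylow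
  have hPR : (P : Subgroup C).map C.subtype = R := hmax _ (P.isPGroup'.map _)
    (fun r hr => ⟨⟨r, hRC hr⟩, hP hr, rfl⟩) (by rintro _ ⟨r, -, rfl⟩; exact (memC _).1 r.2)
  obtain ⟨P₁, hP₁⟩ := (h3.comap_of_injective C.subtype C.subtype_injective).exists_le_sylow
  obtain ⟨c, hc⟩ := MulAction.exists_smul_eq C P₁ P
  have key : ∀ r ∈ R₁, (c : G) * r * (c : G)⁻¹ ∈ R := by
    intro r hr
    have hmem := Subgroup.smul_mem_pointwise_smul _ (MulAut.conj c) _ (hP₁ (x := ⟨r, h1C hr⟩) hr)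
    rw [show MulAut.conj c • (P₁ : Subgroup C) = ((c • P₁ : Sylow 3 C) : Subgroup C) from rfl, hc] at hmem
    rw [← hPR]
    exact ⟨_, hmem, rfl⟩
  have hmove : ∀ r ∈ R₁, S.IsPt r → (c : G) * r * (c : G)⁻¹ ∈ S.TJ t := fun r hr hrp =>
    hpts _ (key r hr) (Cfg.IsPt.conj hrp _)
  have hle' : S.TJ t ≤ (S.TJ t).comap (MulAut.conj (c : G)).toMonoidHom :=
    T.le_of_points fun q hq hqp => hmove q (hle hq) hqp
  have hcard : Nat.card ((S.TJ t).map (MulAut.conj (c : G)).toMonoidHom) = Nat.card (S.TJ t) :=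
    Subgroup.card_map_of_injective (MulAut.conj (c : G)).injective
  have heq : (S.TJ t).map (MulAut.conj (c : G)).toMonoidHom = S.TJ t :=
    Subgroup.eq_of_le_of_card_ge (Subgroup.map_le_iff_le_comap.2 hle') hcard.ge
  have h := hmove p hp hpt
  rw [← heq] at h
  obtain ⟨u, hu, he⟩ := h
  exact (MulAut.conj (c : G)).injective he ▸ hu

end TInv

/-- What is known about the extraspecial subgroup. -/
structure EData [Finite G] (S : Std G) (t : G) (E : Subgroup G) : Prop where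
  core : S.Core t
  le : E ≤ Subgroup.centralizer {t}
  extra : Cfsg.IsExtraspecial 2 E
  card : Nat.card E = 2 ^ 9
  D_le : core.tinv.D ≤ E
  cent_z : ∀ e ∈ E, Commute e S.z → e ∈ core.tinv.D
  norm_T : ∀ g, Commute g t → g ∈ Subgroup.normalizer (S.TJ t : Set G) → g ∈ Subgroup.normalizer (E : Set G)
  norm_z : ∀ g, Commute g t → Commute g S.z → g ∈ Subgroup.normalizer (E : Set G)
  norm_X' : ∀ g, Commute g t → Commute g S.X' → g ∈ Subgroup.normalizer (E : Set G)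

/-- `N(E) ∩ C(t)`. -/
def N0 (t : G) (E : Subgroup G) : Subgroup G := Subgroup.normalizer (E : Set G) ⊓ Subgroup.centralizer {t}

theorem mem_N0 {E : Subgroup G} {g : G} :
    g ∈ N0 t E ↔ g ∈ Subgroup.normalizer (E : Set G) ∧ Commute g t :=
  Subgroup.mem_inf.trans (and_congr_right fun _ => Subgroup.mem_centralizer_singleton_iff)

variable [Finite G]

/-- Some element of `C(t) ∩ N(TJ)` maps the line of `z` to the line of `y`. -/
theorem Core.exists_exch_norm (hc : S.Core t) : ∃ m, Commute m t ∧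
    m ∈ Subgroup.normalizer (S.TJ t : Set G) ∧ (m * S.z * m⁻¹ = S.y ∨ m * S.z * m⁻¹ = S.y⁻¹) := by
  have : Fact (Nat.Prime 3) := ⟨Nat.prime_three⟩
  have T := hc.tinv
  obtain ⟨n, hnt, hnX, hnz⟩ := hc.exch
  set C := Subgroup.centralizer ({S.y, S.X', t} : Set G) with hC
  have memC : ∀ g, g ∈ C ↔ Commute g S.y ∧ Commute g S.X' ∧ Commute g t := by
    intro g
    rw [hC, Subgroup.mem_centralizer_iff]
    simp only [Set.mem_insert_iff, Set.mem_singleton_iff, forall_eq_or_imp, forall_eq]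
    exact ⟨fun h => ⟨h.1.symm, h.2.1.symm, h.2.2.symm⟩, fun h => ⟨h.1.eq.symm, h.2.1.eq.symm, h.2.2.eq.symm⟩⟩
  have hT3 : IsPGroup 3 (S.TJ t) := fun g => ⟨1, Subtype.ext (by
    obtain ⟨v, -, hv⟩ := T.mem_TJ_iff.1 g.2
    show (g : G) ^ 3 ^ 1 = 1
    rw [← hv, pow_one]; exact S.jj_cube v)⟩
  have hTC : S.TJ t ≤ C := fun g hg => (memC g).2 ⟨by
      obtain ⟨v, -, rfl⟩ := T.mem_TJ_iff.1 hg; rw [← S.jj_y]; exact S.commute_jj _ _, by
      obtain ⟨v, -, rfl⟩ := T.mem_TJ_iff.1 hg; rw [← S.jj_X']; exact S.commute_jj _ _, T.commute_TJ hg⟩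
  have hTC' : ∀ g ∈ S.TJ t, n * g * n⁻¹ ∈ C := by
    intro g hg
    obtain ⟨v, -, rfl⟩ := T.mem_TJ_iff.1 hg
    have hm : ∀ x, Commute (S.jj v) x → Commute (n * S.jj v * n⁻¹) (n * x * n⁻¹) := fun x h => by
      simpa using h.map (MulAut.conj n).toMonoidHom
    refine (memC _).2 ⟨?_, ?_, ?_⟩
    · have h := hm S.z (S.commute_z_jj v)
      rcases hnz with e | e <;> rw [e] at h
      exacts [h, Commute.inv_right_iff.1 h]
    · have h := hm S.X' (by rw [← S.jj_X']; exact S.commute_jj _ _)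
      rwa [hnX.eq, mul_inv_cancel_right] at h
    · exact (hnt.mul_left (T.commute_TJ hg)).mul_left hnt.inv_left
  obtain ⟨P, hP⟩ := (hT3.comap_of_injective C.subtype C.subtype_injective).exists_le_sylow
  obtain ⟨P', hP'⟩ := ((hT3.map (MulAut.conj n).toMonoidHom).comap_of_injective C.subtype
    C.subtype_injective).exists_le_sylow
  obtain ⟨c, hc'⟩ := MulAction.exists_smul_eq C P' P
  set R₁ := (P : Subgroup C).map C.subtype
  have key : ∀ g ∈ S.TJ t, ((c : G) * n) * g * ((c : G) * n)⁻¹ ∈ R₁ := by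
    intro g hg
    have hmem := Subgroup.smul_mem_pointwise_smul _ (MulAut.conj c) _
      (hP' (x := ⟨n * g * n⁻¹, hTC' g hg⟩) ⟨g, hg, rfl⟩)
    rw [show MulAut.conj c • (P' : Subgroup C) = ((c • P' : Sylow 3 C) : Subgroup C) from rfl, hc'] at hmem
    exact ⟨_, hmem, by simp [mul_assoc]⟩
  have hR1t : ∀ r ∈ R₁, Commute r t := by rintro _ ⟨r, -, rfl⟩; exact ((memC _).1 r.2).2.2
  have hsub : S.TJ t ≤ (S.TJ t).comap (MulAut.conj ((c : G) * n)).toMonoidHom :=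
    T.le_of_points fun q hq hqp => T.weak (P.isPGroup'.map _) hR1t (fun g hg => ⟨⟨g, hTC hg⟩, hP hg, rfl⟩)
      (key q hq) (Cfg.IsPt.conj hqp _)
  obtain ⟨hcy, -, hct⟩ := (memC _).1 c.2
  refine ⟨(c : G) * n, hct.mul_left hnt, Subgroup.mem_normalizer_fintype fun g hg => hsub hg, ?_⟩
  rw [show (c : G) * n * S.z * ((c : G) * n)⁻¹ = (c : G) * (n * S.z * n⁻¹) * (c : G)⁻¹ by group]
  rcases hnz with e | e <;> rw [e]
  · exact Or.inl (by rw [hcy.eq, mul_inv_cancel_right])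
  · exact Or.inr (by rw [hcy.inv_right.eq, mul_inv_cancel_right])

namespace EData

variable {E : Subgroup G} (hE : S.EData t E)
include hE

theorem t_mem_N0_of_TJ {g : G} (hg : g ∈ S.TJ t) : g ∈ N0 t E :=
  mem_N0.2 ⟨hE.norm_T g (hE.core.tinv.commute_TJ hg) (Subgroup.le_normalizer hg), hE.core.tinv.commute_TJ hg⟩

/-- `N(E) ∩ C(t)` is transitive on the lines of points in `TJ`. -/
theorem exists_move {p : G} (hp : S.IsPt p) (hpT : p ∈ S.TJ t) :
    ∃ n ∈ N0 t E, n * S.z * n⁻¹ = p ∨ n * S.z * n⁻¹ = p⁻¹ := by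
  rcases hE.core.tinv.pt_cases hp hpT with h | h | ⟨q, hq, d, -, h⟩
  · exact ⟨1, one_mem _, Or.inl (by simp [h])⟩
  · exact ⟨1, one_mem _, Or.inr (by simp [h])⟩
  obtain ⟨m, hmt, hmT, hmz⟩ := hE.core.exists_exch_norm
  have hqQ := TInv.mem_QT_iff.1 hq
  have hqN : q ∈ N0 t E := mem_N0.2 ⟨hE.norm_z q hqQ.2 (S.Q_le q hqQ.1), hqQ.2⟩
  refine ⟨q * m, mul_mem hqN (mem_N0.2 ⟨hE.norm_T m hmt hmT, hmt⟩), ?_⟩
  rw [show q * m * S.z * (q * m)⁻¹ = q * (m * S.z * m⁻¹) * q⁻¹ by group]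
  rcases hmz with e | e <;> rw [e] <;> rcases h with rfl | rfl <;>
    simp [mul_assoc]

/-- An element inverting or fixing `z` normalises `E`. -/
theorem mem_of_line {g : G} (ht : Commute g t) (hz : g * S.z * g⁻¹ = S.z ∨ g * S.z * g⁻¹ = S.z⁻¹) :
    g ∈ N0 t E := by
  have : Fact (Nat.Prime 3) := ⟨Nat.prime_three⟩
  have T := hE.core.tinv
  rcases hz with hz | hz
  · exact mem_N0.2 ⟨hE.norm_z g ht (mul_inv_eq_iff_eq_mul.1 hz), ht⟩
  set C := Subgroup.centralizer ({S.z, t} : Set G) with hC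
  have memC : ∀ x, x ∈ C ↔ Commute x S.z ∧ Commute x t := by
    intro x
    rw [hC, Subgroup.mem_centralizer_iff]
    simp only [Set.mem_insert_iff, Set.mem_singleton_iff, forall_eq_or_imp, forall_eq]
    exact ⟨fun h => ⟨h.1.symm, h.2.symm⟩, fun h => ⟨h.1.eq.symm, h.2.eq.symm⟩⟩
  have hT3 : IsPGroup 3 (S.TJ t) := fun u => ⟨1, Subtype.ext (by
    obtain ⟨v, -, hv⟩ := T.mem_TJ_iff.1 u.2
    show (u : G) ^ 3 ^ 1 = 1
    rw [← hv, pow_one]; exact S.jj_cube v)⟩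
  have hzT : ∀ u ∈ S.TJ t, Commute u S.z := fun u hu => by
    obtain ⟨v, -, rfl⟩ := T.mem_TJ_iff.1 hu
    exact S.commute_z_jj v
  have hTC : S.TJ t ≤ C := fun u hu => (memC u).2 ⟨hzT u hu, T.commute_TJ hu⟩
  have hTC' : ∀ u ∈ S.TJ t, g * u * g⁻¹ ∈ C := fun u hu => (memC _).2 ⟨by
    have h := (hzT u hu).map (MulAut.conj g).toMonoidHom
    simp only [MulEquiv.coe_toMonoidHom, MulAut.conj_apply, hz] at h
    exact Commute.inv_right_iff.1 h, (ht.mul_left (T.commute_TJ hu)).mul_left ht.inv_left⟩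
  obtain ⟨P, hP⟩ := (hT3.comap_of_injective C.subtype C.subtype_injective).exists_le_sylow
  obtain ⟨P', hP'⟩ := ((hT3.map (MulAut.conj g).toMonoidHom).comap_of_injective C.subtype
    C.subtype_injective).exists_le_sylow
  obtain ⟨c, hc'⟩ := MulAction.exists_smul_eq C P' P
  set R₁ := (P : Subgroup C).map C.subtype
  have key : ∀ u ∈ S.TJ t, ((c : G) * g) * u * ((c : G) * g)⁻¹ ∈ R₁ := by
    intro u hu
    have hmem := Subgroup.smul_mem_pointwise_smul _ (MulAut.conj c) _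
      (hP' (x := ⟨g * u * g⁻¹, hTC' u hu⟩) ⟨u, hu, rfl⟩)
    rw [show MulAut.conj c • (P' : Subgroup C) = ((c • P' : Sylow 3 C) : Subgroup C) from rfl, hc'] at hmem
    exact ⟨_, hmem, by simp [mul_assoc]⟩
  obtain ⟨hcz, hct⟩ := (memC _).1 c.2
  have hR1t : ∀ r ∈ R₁, Commute r t := by rintro _ ⟨r, -, rfl⟩; exact ((memC _).1 r.2).2
  have hsub : S.TJ t ≤ (S.TJ t).comap (MulAut.conj ((c : G) * g)).toMonoidHom :=
    T.le_of_points fun q hq hqp => T.weak (P.isPGroup'.map _) hR1t (fun u hu => ⟨⟨u, hTC hu⟩, hP hu, rfl⟩)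
      (key q hq) (Cfg.IsPt.conj hqp _)
  have hcg : (c : G) * g ∈ N0 t E := mem_N0.2 ⟨hE.norm_T _ (hct.mul_left ht)
    (Subgroup.mem_normalizer_fintype fun u hu => hsub hu), hct.mul_left ht⟩
  have hcN : (c : G) ∈ N0 t E := mem_N0.2 ⟨hE.norm_z _ hct hcz, hct⟩
  simpa using mul_mem (inv_mem hcN) hcg

/-- A point in `N(E) ∩ C(t)` can be moved to `z`. -/
theorem exists_to_z {p : G} (hp : S.IsPt p) (hpN : p ∈ N0 t E) :
    ∃ m ∈ N0 t E, m * p * m⁻¹ = S.z ∨ m * p * m⁻¹ = S.z⁻¹ := by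
  have : Fact (Nat.Prime 3) := ⟨Nat.prime_three⟩
  obtain ⟨R, hR3, -, -, hRz, hRt, hpts, hmax⟩ := hE.core.tinv.exists_sylow
  have hRN : R ≤ N0 t E := fun r hr => mem_N0.2 ⟨hE.norm_z r (hRt r hr) (hRz r hr), hRt r hr⟩
  obtain ⟨P, hP⟩ := (hR3.comap_of_injective (N0 t E).subtype (N0 t E).subtype_injective).exists_le_sylow
  have hPR : (P : Subgroup (N0 t E)).map (N0 t E).subtype = R := hmax _ (P.isPGroup'.map _)
    (fun r hr => ⟨⟨r, hRN hr⟩, hP hr, rfl⟩) (by rintro _ ⟨r, -, rfl⟩; exact (mem_N0.1 r.2).2)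
  have hp3 : IsPGroup 3 (Subgroup.zpowers (⟨p, hpN⟩ : N0 t E)) := by
    refine IsPGroup.of_card_dvd_pow (n := 1) ?_
    rw [Nat.card_zpowers, pow_one]
    refine orderOf_dvd_of_pow_eq_one (Subtype.ext ?_)
    obtain ⟨g, rfl | rfl⟩ := hp
    · show (g * S.z * g⁻¹) ^ 3 = 1
      rw [conj_pow, S.z_pow, mul_one, mul_inv_cancel]
    · show (g * S.z * g⁻¹)⁻¹ ^ 3 = 1
      rw [inv_pow, conj_pow, S.z_pow, mul_one, mul_inv_cancel, inv_one]
  obtain ⟨P', hP'⟩ := hp3.exists_le_sylow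
  obtain ⟨c, hc⟩ := MulAction.exists_smul_eq (N0 t E) P' P
  have hmem : (c : G) * p * (c : G)⁻¹ ∈ R := by
    have h := Subgroup.smul_mem_pointwise_smul _ (MulAut.conj c) _ (hP' (Subgroup.mem_zpowers _))
    rw [show MulAut.conj c • (P' : Subgroup (N0 t E)) = ((c • P' : Sylow 3 (N0 t E)) : Subgroup (N0 t E))
      from rfl, hc] at h
    rw [← hPR]; exact ⟨_, h, rfl⟩
  have hcp : S.IsPt ((c : G) * p * (c : G)⁻¹) := Cfg.IsPt.conj hp _
  obtain ⟨n, hn, h⟩ := hE.exists_move hcp (hpts _ hmem hcp)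
  refine ⟨n⁻¹ * c, mul_mem (inv_mem hn) c.2, ?_⟩
  rw [show n⁻¹ * c * p * (n⁻¹ * (c : G))⁻¹ = n⁻¹ * ((c : G) * p * (c : G)⁻¹) * n by group]
  rcases h with h | h
  · exact Or.inl (by rw [← h]; group)
  · right
    rw [← inv_inv ((c : G) * p * (c : G)⁻¹), ← h]; group

/-- An element of `C(t)` moving `z` into `N(E)` lies in `N(E)`. -/
theorem meet_z {k : G} (ht : Commute k t) (hk : k * S.z * k⁻¹ ∈ N0 t E) : k ∈ N0 t E := by
  obtain ⟨m, hm, h⟩ := hE.exists_to_z (Cfg.IsPt.conj S.toCfg.isPt_z k) hk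
  rw [show m * (k * S.z * k⁻¹) * m⁻¹ = (m * k) * S.z * (m * k)⁻¹ by group] at h
  have := hE.mem_of_line ((mem_N0.1 hm).2.mul_left ht) h
  exact ((N0 t E).mul_mem_cancel_left hm).1 this

/-- An element of `C(t)` moving `X'` into `N(E)` lies in `N(E)`. -/
theorem meet_X' {k : G} (ht : Commute k t) (hk : k * S.X' * k⁻¹ ∈ N0 t E) : k ∈ N0 t E := by
  have : Fact (Nat.Prime 3) := ⟨Nat.prime_three⟩
  have T := hE.core.tinv
  obtain ⟨R, hR3, -, -, hRz, hRt, -, hmax⟩ := T.exists_sylow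
  have hRN : R ≤ N0 t E := fun r hr => mem_N0.2 ⟨hE.norm_z r (hRt r hr) (hRz r hr), hRt r hr⟩
  obtain ⟨P, hP⟩ := (hR3.comap_of_injective (N0 t E).subtype (N0 t E).subtype_injective).exists_le_sylow
  have hPR : (P : Subgroup (N0 t E)).map (N0 t E).subtype = R := hmax _ (P.isPGroup'.map _)
    (fun r hr => ⟨⟨r, hRN hr⟩, hP hr, rfl⟩) (by rintro _ ⟨r, -, rfl⟩; exact (mem_N0.1 r.2).2)
  have hw3 : IsPGroup 3 (Subgroup.zpowers (⟨k * S.X' * k⁻¹, hk⟩ : N0 t E)) := by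
    refine IsPGroup.of_card_dvd_pow (n := 1) ?_
    rw [Nat.card_zpowers, pow_one]
    refine orderOf_dvd_of_pow_eq_one (Subtype.ext ?_)
    show (k * S.X' * k⁻¹) ^ 3 = 1
    rw [conj_pow, S.cube _ S.X'_mem, mul_one, mul_inv_cancel]
  obtain ⟨P', hP'⟩ := hw3.exists_le_sylow
  obtain ⟨c, hc⟩ := MulAction.exists_smul_eq (N0 t E) P' P
  have hmem : (c : G) * (k * S.X' * k⁻¹) * (c : G)⁻¹ ∈ R := by
    have h := Subgroup.smul_mem_pointwise_smul _ (MulAut.conj c) _ (hP' (Subgroup.mem_zpowers _))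
    rw [show MulAut.conj c • (P' : Subgroup (N0 t E)) = ((c • P' : Sylow 3 (N0 t E)) : Subgroup (N0 t E))
      from rfl, hc] at h
    rw [← hPR]; exact ⟨_, h, rfl⟩
  set k' := (c : G) * k with hk'
  have hk't : Commute k' t := (mem_N0.1 c.2).2.mul_left ht
  have hz' : Commute (k'⁻¹ * S.z * k') S.X' := by
    have h := hRz _ hmem
    rw [show (c : G) * (k * S.X' * k⁻¹) * (c : G)⁻¹ = k' * S.X' * k'⁻¹ by rw [hk']; group] at h
    have h2 := h.symm.map (MulAut.conj k'⁻¹).toMonoidHom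
    simp only [MulEquiv.coe_toMonoidHom, MulAut.conj_apply, inv_inv] at h2
    rwa [show k'⁻¹ * (k' * S.X' * k'⁻¹) * k' = S.X' by group] at h2
  set p := k'⁻¹ * S.z * k' with hp
  have hppt : S.IsPt p := by
    have := Cfg.IsPt.conj S.toCfg.isPt_z k'⁻¹
    rwa [inv_inv] at this
  have hpt : Commute p t := (hk't.inv_left.mul_left T.comm_z.symm).mul_left hk't
  have hpN : p ∈ N0 t E := mem_N0.2 ⟨hE.norm_X' p hpt hz', hpt⟩
  obtain ⟨m, hm, h⟩ := hE.exists_to_z hppt hpN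
  have hfin : m * k'⁻¹ ∈ N0 t E := by
    refine hE.mem_of_line ((mem_N0.1 hm).2.mul_left hk't.inv_left) ?_
    rw [show m * k'⁻¹ * S.z * (m * k'⁻¹)⁻¹ = m * p * m⁻¹ by rw [hp]; group]
    exact h
  have h2 : k' ∈ N0 t E := by simpa using inv_mem (((N0 t E).mul_mem_cancel_left hm).1 hfin)
  rw [hk'] at h2
  exact ((N0 t E).mul_mem_cancel_left c.2).1 h2

end EData

end Std

end Cfsg.Agent.U62ThreeCent
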