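/-
What the local analysis gives when a Sylow three-subgroup of `C(z)/Q` has order nine and the planes are exchanged.

* `Std.BigX` : `C(X')` normalises `⟨X', h⟩`; an element inverting `h`; no fusion of `t` into the quaternion groups;
* `Std.C0` : the elements of `N(E) ∩ C(t)` centralising `c` modulo `E`;
* `Std.BigQuot` : the element `c` acting without fixed points on `E/⟨t⟩`, and the quotient by `E` and `c`.
-/
import Cfsg.Agent.Lib.U62ThreeCent.CoreH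
import Cfsg.Agent.Lib.U62ThreeCent.Meet

set_option autoImplicit false
set_option linter.unusedSectionVars false

namespace Cfsg.Agent.U62ThreeCent

namespace Std

variable {G : Type*} [Group G] [Finite G] {S : Std G}

/-- The outcome of the analysis of `C(X')`. -/
structure BigX (S : Std G) (t h : G) : Prop where
  coreH : S.CoreH t h
  core : S.Core t
  canon : ∀ g, Commute g S.X' →
    h⁻¹ * (g * h * g⁻¹) ∈ Subgroup.zpowers S.X' ∨ h * (g * h * g⁻¹) ∈ Subgroup.zpowers S.X'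
  refl : ∃ r, Commute r t ∧ Commute r S.X' ∧ r ∈ Subgroup.normalizer (S.TJ t : Set G) ∧
    (∀ v : J4, r * S.jj v * r⁻¹ = S.jj (v.2.1, v.1, v.2.2.1, v.2.2.2)) ∧
    h * (r * h * r⁻¹) ∈ Subgroup.zpowers S.X'
  no_fus : ∀ g n, Commute g S.X' → S.Exch t n → Commute n h →
    ∀ d ∈ coreH.tinv.D, ∀ d' ∈ coreH.tinv.D, g * t * g⁻¹ = d * (n * d' * n⁻¹) → g * t * g⁻¹ = t

/-- The elements of `N(E) ∩ C(t)` centralising `c` modulo `E`. -/
def C0 (t : G) (E : Subgroup G) (c : G) : Subgroup G where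
  carrier := {g | g ∈ N0 t E ∧ c⁻¹ * (g * c * g⁻¹) ∈ E}
  one_mem' := ⟨one_mem _, by simp⟩
  mul_mem' := by
    rintro a b ⟨ha, ha'⟩ ⟨hb, hb'⟩
    refine ⟨mul_mem ha hb, ?_⟩
    have h1 := (Subgroup.mem_normalizer_iff.1 (mem_N0.1 ha).1 _).1 hb'
    rw [show c⁻¹ * (a * b * c * (a * b)⁻¹) =
      c⁻¹ * (a * c * a⁻¹) * (a * (c⁻¹ * (b * c * b⁻¹)) * a⁻¹) by group]
    exact mul_mem ha' h1
  inv_mem' := by
    rintro a ⟨ha, ha'⟩
    refine ⟨inv_mem ha, ?_⟩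
    have h1 := (Subgroup.mem_normalizer_iff.1 (mem_N0.1 (inv_mem ha)).1 _).1 (inv_mem ha')
    rw [show c⁻¹ * (a⁻¹ * c * a⁻¹⁻¹) = a⁻¹ * (c⁻¹ * (a * c * a⁻¹))⁻¹ * a⁻¹⁻¹ by group]
    exact h1

/-- The element acting as a scalar on `E/⟨t⟩`. -/
structure BigQuot (S : Std G) (t h c : G) (E : Subgroup G) : Prop where
  edata : S.EData t E
  bigX : S.BigX t h
  c_cube : c ^ 3 = 1
  c_t : Commute c t
  c_J : ∀ j ∈ S.J, Commute c j
  c_eq : ∃ i : ℕ, c = h * S.z * S.y⁻¹ * S.X' ^ i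
  c_QT : ∀ q ∈ TInv.QT S t, Commute c q
  c_n : ∀ n, S.Exch t n → Commute n h → n ∈ Subgroup.normalizer (S.TJ t : Set G) → Commute n c
  c_mem : c ∈ N0 t E
  c_fix : ∀ e ∈ E, Commute e c → e ∈ Subgroup.zpowers t
  norm : ∀ g ∈ N0 t E, c⁻¹ * (g * c * g⁻¹) ∈ E ∨ c * (g * c * g⁻¹) ∈ E
  quot : ∃ f : C0 t E c →* Cfsg.PSp 2 (ZMod 3), Function.Surjective f ∧
    ∀ g : C0 t E c, f g = 1 ↔ (g : G) ∈ E ⊔ Subgroup.zpowers c

end Std

end Cfsg.Agent.U62ThreeCent
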