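/-
Central products of groups with centre of order two and derived group in the centre.

* `CPart A t` : centre, commutators and squares of `A` lie in `{1, t}`;
* `CPart.sup`, `CPart.card_sup`, `CPart.fix_split` : the product of two commuting ones;
* `CPart.map` : conjugates.
-/
import Mathlib
import Cfsg.Agent.EqLemmas

set_option autoImplicit false

namespace Cfsg.Agent.U62ThreeCent

variable {G : Type*} [Group G]

/-- Centre, commutators and squares in `{1, t}`. -/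
structure CPart (A : Subgroup G) (t : G) : Prop where
  ord : orderOf t = 2
  mem : t ∈ A
  tc : ∀ a ∈ A, Commute a t
  cent : ∀ x ∈ A, (∀ a ∈ A, Commute x a) → x = 1 ∨ x = t
  comm : ∀ a ∈ A, ∀ b ∈ A, a * b * a⁻¹ * b⁻¹ = 1 ∨ a * b * a⁻¹ * b⁻¹ = t
  sq : ∀ a ∈ A, a * a = 1 ∨ a * a = t

theorem mem_sup_of_commute {A B : Subgroup G} (h : ∀ a ∈ A, ∀ b ∈ B, Commute a b) {x : G} :
    x ∈ A ⊔ B ↔ ∃ a ∈ A, ∃ b ∈ B, x = a * b := by
  refine ⟨fun hx => ?_, ?_⟩
  · have := MonoidHom.noncommCoprod_range A.subtype B.subtype fun a b => h a a.2 b b.2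
    rw [A.range_subtype, B.range_subtype] at this
    rw [← this] at hx
    obtain ⟨⟨a, b⟩, rfl⟩ := hx
    exact ⟨a, a.2, b, b.2, rfl⟩
  · rintro ⟨a, ha, b, hb, rfl⟩
    exact Subgroup.mul_mem_sup ha hb

/-- An element of order three moving `a` at most by `t` fixes it. -/
theorem cube_fix {z a t : G} (hz : z ^ 3 = 1) (hzt : Commute z t) (ht : t * t = 1)
    (h : z * a * z⁻¹ = a ∨ z * a * z⁻¹ = a * t) : z * a * z⁻¹ = a := by
  rcases h with h | h
  · exact h
  have h2 : z * (z * a * z⁻¹) * z⁻¹ = a := by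
    rw [h, show z * (a * t) * z⁻¹ = z * a * z⁻¹ * (z * t * z⁻¹) by group, h, hzt.eq,
      mul_inv_cancel_right, mul_assoc, ht, mul_one]
  have h3 : z * (z * (z * a * z⁻¹) * z⁻¹) * z⁻¹ = a := by
    rw [show z * (z * (z * a * z⁻¹) * z⁻¹) * z⁻¹ = (z * z * z) * a * (z * z * z)⁻¹ by group,
      show z * z * z = 1 by rw [← hz, pow_three, mul_assoc]]
    group
  rwa [h2] at h3

namespace CPart

variable {A B : Subgroup G} {t : G}

theorem mul_self (hA : CPart A t) : t * t = 1 := by rw [← pow_two, ← hA.ord, pow_orderOf_eq_one]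

theorem inf_eq (hA : CPart A t) (hB : CPart B t) (h : ∀ a ∈ A, ∀ b ∈ B, Commute a b) {x : G}
    (hxA : x ∈ A) (hxB : x ∈ B) : x = 1 ∨ x = t :=
  hA.cent x hxA fun a ha => (h a ha x hxB).symm

theorem mul_cases (hA : CPart A t) {x y : G} (hx : x = 1 ∨ x = t) (hy : y = 1 ∨ y = t) :
    x * y = 1 ∨ x * y = t := by
  rcases hx with rfl | rfl <;> rcases hy with rfl | rfl <;> simp [hA.mul_self]

theorem sup (hA : CPart A t) (hB : CPart B t) (h : ∀ a ∈ A, ∀ b ∈ B, Commute a b) :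
    CPart (A ⊔ B) t := by
  refine ⟨hA.ord, Subgroup.mem_sup_left hA.mem, fun x hx => ?_, fun x hx hc => ?_, fun x hx y hy => ?_,
    fun x hx => ?_⟩ <;> obtain ⟨a, ha, b, hb, rfl⟩ := (mem_sup_of_commute h).1 hx
  · exact (hA.tc a ha).mul_left (hB.tc b hb)
  · refine hA.mul_cases (hA.cent a ha fun a' ha' => ?_) (hB.cent b hb fun b' hb' => ?_)
    · have := (hc a' (Subgroup.mem_sup_left ha')).mul_left (h a' ha' b hb).symm.inv_left |>.eq
      have h1 : Commute (a * b * b⁻¹) a' := this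
      rwa [mul_inv_cancel_right] at h1
    · have h1 : Commute (a⁻¹ * (a * b)) b' :=
        (h a ha b' hb').inv_left.mul_left (hc b' (Subgroup.mem_sup_right hb'))
      rwa [inv_mul_cancel_left] at h1
  · obtain ⟨a', ha', b', hb', rfl⟩ := (mem_sup_of_commute h).1 hy
    have e : a * b * (a' * b') * (a * b)⁻¹ * (a' * b')⁻¹ =
        (a * a' * a⁻¹ * a'⁻¹) * (b * b' * b⁻¹ * b'⁻¹) := by
      calc a * b * (a' * b') * (a * b)⁻¹ * (a' * b')⁻¹
          = a * (b * a') * (b' * b⁻¹) * (a⁻¹ * b'⁻¹) * a'⁻¹ := by group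
        _ = a * (a' * b) * (b' * b⁻¹) * (b'⁻¹ * a⁻¹) * a'⁻¹ := by
          rw [← (h a' ha' b hb).eq, ((h a ha b' hb').inv_inv).eq]
        _ = a * a' * (b * b' * b⁻¹ * b'⁻¹ * (a⁻¹ * a'⁻¹)) := by group
        _ = a * a' * (a⁻¹ * a'⁻¹ * (b * b' * b⁻¹ * b'⁻¹)) := by
          rw [(h (a⁻¹ * a'⁻¹) (mul_mem (inv_mem ha) (inv_mem ha')) (b * b' * b⁻¹ * b'⁻¹)
            (mul_mem (mul_mem (mul_mem hb hb') (inv_mem hb)) (inv_mem hb'))).eq]
        _ = _ := by group
    rw [e]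
    exact hA.mul_cases (hA.comm a ha a' ha') (hB.comm b hb b' hb')
  · rw [show a * b * (a * b) = a * a * (b * b) by
      rw [mul_assoc, ← mul_assoc b a, ← (h a ha b hb).eq]; group]
    exact hA.mul_cases (hA.sq a ha) (hB.sq b hb)

theorem card_sup [Finite G] (hA : CPart A t) (hB : CPart B t) (h : ∀ a ∈ A, ∀ b ∈ B, Commute a b) :
    Nat.card (A ⊔ B : Subgroup G) * 2 = Nat.card A * Nat.card B := by
  have hsub : ∀ (a : A) (b : B), Commute (A.subtype a) (B.subtype b) := fun a b => h a a.2 b b.2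
  let f : A × B →* G := MonoidHom.noncommCoprod A.subtype B.subtype hsub
  have hr : f.range = A ⊔ B :=
    (MonoidHom.noncommCoprod_range A.subtype B.subtype hsub).trans (by rw [A.range_subtype, B.range_subtype])
  have hk : ∀ k ∈ f.ker, (k.1 : G) = 1 ∨ (k.1 : G) = t := fun k hk =>
    hA.inf_eq hB h k.1.2 (by rw [eq_inv_of_mul_eq_one_left (show (k.1 : G) * k.2 = 1 from hk)]; exact inv_mem k.2.2)
  have hker : Nat.card f.ker = 2 := by
    rw [Nat.card_eq_two_iff' (1 : f.ker)]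
    refine ⟨⟨(⟨t, hA.mem⟩, ⟨t, hB.mem⟩), hA.mul_self⟩, fun e => ?_, fun y hy => ?_⟩
    · have h1 : t = 1 := congrArg (fun u : f.ker => ((u : A × B).1 : G)) e
      have := hA.ord
      rw [h1, orderOf_one] at this
      omega
    · have e : ((y : A × B).1 : G) * (y : A × B).2 = 1 := y.2
      rcases hk y y.2 with h1 | h1 <;> rw [h1] at e
      · refine absurd (Subtype.ext (Prod.ext (Subtype.ext h1) (Subtype.ext ?_))) hy
        simpa using e
      · refine Subtype.ext (Prod.ext (Subtype.ext h1) (Subtype.ext ?_))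
        exact (mul_left_cancel (e.trans hA.mul_self.symm))
  rw [← hr, ← Nat.card_prod, ← Subgroup.card_mul_index f.ker, Subgroup.index_ker, hker, mul_comm]

/-- An element of order three normalising both factors fixes a product only by fixing both. -/
theorem fix_split (hA : CPart A t) (hB : CPart B t) (h : ∀ a ∈ A, ∀ b ∈ B, Commute a b) {z a b : G}
    (hz : z ^ 3 = 1) (hzt : Commute z t) (ha : a ∈ A) (hb : b ∈ B) (hza : z * a * z⁻¹ ∈ A)
    (hzb : z * b * z⁻¹ ∈ B) (hf : Commute z (a * b)) : Commute z a ∧ Commute z b := by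
  have e : z * a * z⁻¹ * (z * b * z⁻¹) = a * b := by
    rw [show z * a * z⁻¹ * (z * b * z⁻¹) = z * (a * b) * z⁻¹ by group, hf.eq, mul_inv_cancel_right]
  have e' : a⁻¹ * (z * a * z⁻¹) = b * (z * b * z⁻¹)⁻¹ :=
    inv_mul_eq_of_eq_mul (by rw [← mul_assoc]; exact eq_mul_inv_of_mul_eq e)
  have hc : a⁻¹ * (z * a * z⁻¹) = 1 ∨ a⁻¹ * (z * a * z⁻¹) = t :=
    hA.inf_eq hB h (mul_mem (inv_mem ha) hza) (e' ▸ mul_mem hb (inv_mem hzb))
  have h1 : z * a * z⁻¹ = a := cube_fix hz hzt hA.mul_self (by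
    rcases hc with h1 | h1
    · exact Or.inl (inv_mul_eq_one.1 h1).symm
    · exact Or.inr (inv_mul_eq_iff_eq_mul.1 h1))
  rw [h1] at e
  exact ⟨mul_inv_eq_iff_eq_mul.1 h1, mul_inv_eq_iff_eq_mul.1 (mul_left_cancel e)⟩

theorem map (hA : CPart A t) {g : G} (hg : Commute g t) :
    CPart (A.map (MulAut.conj g).toMonoidHom) t := by
  set f := (MulAut.conj g).toMonoidHom with hf
  have ft : f t = t := by simp [hf, hg.eq]
  refine ⟨hA.ord, ⟨t, hA.mem, ft⟩, ?_, ?_, ?_, ?_⟩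
  · rintro _ ⟨a, ha, rfl⟩
    have := (hA.tc a ha).map f
    rwa [ft] at this
  · rintro _ ⟨a, ha, rfl⟩ hc
    rcases hA.cent a ha fun b hb => by
      have := hc _ ⟨b, hb, rfl⟩
      exact (MulAut.conj g).injective (by simpa [hf] using this.eq) with rfl | rfl
    exacts [Or.inl (map_one f), Or.inr ft]
  · rintro _ ⟨a, ha, rfl⟩ _ ⟨b, hb, rfl⟩
    rw [← map_inv, ← map_inv, ← map_mul, ← map_mul, ← map_mul]
    rcases hA.comm a ha b hb with h | h <;> rw [h]
    exacts [Or.inl (map_one f), Or.inr ft]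
  · rintro _ ⟨a, ha, rfl⟩
    rw [← map_mul]
    rcases hA.sq a ha with h | h <;> rw [h]
    exacts [Or.inl (map_one f), Or.inr ft]

end CPart

end Cfsg.Agent.U62ThreeCent
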