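/-
The four quaternion groups over the points of `J ∩ C(t)` and their product `E`.

* `Core.exists_exch_normalizing` : some exchange normalises `J ∩ C(t)`;
* `Core.DP`, `Core.DP_eq`, `Core.comm_DP` : the four quaternion groups; they commute in pairs;
* `Core.E`, `Core.isExtraspecial_E`, `Core.card_E` : their product;
* `Core.mem_DP_of_commute` : `C_E(point) = ` its quaternion group;
* `Core.norm_E_of_NT` : the normaliser of `J ∩ C(t)` in `C(t)` normalises `E`.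
-/
import Cfsg.Agent.Lib.U62ThreeCent.Meet
import Cfsg.Agent.Lib.U62ThreeCent.CentralProd
import Cfsg.Agent.Lib.LargeExtraspecial.Central

set_option autoImplicit false
set_option maxRecDepth 100000
set_option linter.unusedSectionVars false

namespace Cfsg.Agent.U62ThreeCent

open Cfsg.Agent.PSpThree

/-- The four singular lines of `J ∩ C(t)`. -/
def pv : Fin 4 → J4
  | 0 => (1, 0, 0, 0)
  | 1 => (0, 1, 0, 0)
  | 2 => (1, -1, 0, 1)
  | 3 => (1, -1, 0, -1)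

theorem pv_facts : (∀ i, pv i ≠ 0 ∧ quad (pv i) = 0 ∧ (pv i).2.2.1 = 0) ∧
    (∀ i j, pv i = pv j ∨ pv i = -pv j → i = j) ∧ ∀ i, i ≠ 0 → (pv i).2.1 ≠ 0 := by decide +kernel

theorem singular_cases : ∀ v : J4, v ≠ 0 → quad v = 0 → v.2.2.1 = 0 → ∃ i, v = pv i ∨ v = -pv i := by
  decide +kernel

theorem uni_lines : ∀ v : J4, v = pv 1 ∨ v = -pv 1 →
    (uni (0, -1) v = pv 2 ∨ uni (0, -1) v = -pv 2) ∧ (uni (0, 1) v = pv 3 ∨ uni (0, 1) v = -pv 3) := by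
  rintro v (rfl | rfl) <;> decide +kernel

theorem upper_comm_quat : ∀ a : SL23, ∀ k : K, k ≠ 0 → a ^ 4 = 1 → a * upperU ^ k.val = upperU ^ k.val * a →
    a * a = 1 := by decide +kernel

theorem quat_group_facts : (∀ a : QuaternionGroup 2, (∀ b, a * b = b * a) → a * a = 1) ∧
    (∀ a b : QuaternionGroup 2, a * b * a⁻¹ * b⁻¹ * (a * b * a⁻¹ * b⁻¹) = 1) ∧
    (∀ a : QuaternionGroup 2, a * a * (a * a) = 1) ∧ ∃ a b : QuaternionGroup 2, a * b ≠ b * a := by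
  decide +kernel

namespace Std

variable {G : Type*} [Group G]

/-- The elements of `C(t)` normalising `J ∩ C(t)`. -/
def NT (S : Std G) (t : G) : Subgroup G :=
  Subgroup.centralizer {t} ⊓ Subgroup.normalizer (S.TJ t : Set G)

/-- `g` sends the line of `z` to the `i`-th singular line. -/
def Line (S : Std G) (g : G) (i : Fin 4) : Prop :=
  ∃ v, (v = pv i ∨ v = -pv i) ∧ g * S.z * g⁻¹ = S.jj v

variable {S : Std G} {t : G}

theorem mem_NT {g : G} : g ∈ NT S t ↔ Commute g t ∧ g ∈ Subgroup.normalizer (S.TJ t : Set G) := by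
  rw [NT, Subgroup.mem_inf, Subgroup.mem_centralizer_singleton_iff]
  exact and_congr_left fun _ => ⟨fun h => h, fun h => h⟩

namespace TInv

theorem TJ_comm (T : S.TInv t) {x : G} (hx : x ∈ S.TJ t) : Commute x t ∧ Commute x S.z := by
  obtain ⟨v, hv, rfl⟩ := T.mem_TJ_iff.1 hx
  exact ⟨(T.jj_comm v).2 hv, S.commute_z_jj v⟩

theorem pv_mem (T : S.TInv t) (i : Fin 4) : S.jj (pv i) ∈ S.TJ t :=
  T.mem_TJ_iff.2 ⟨_, (pv_facts.1 i).2.2, rfl⟩

variable [Finite G]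

theorem TJ_le_NT (T : S.TInv t) : S.TJ t ≤ NT S t := fun _ hx =>
  mem_NT.2 ⟨(T.TJ_comm hx).1, Subgroup.le_normalizer hx⟩

theorem exists_uni_QT (T : S.TInv t) (b : K) :
    ∃ q ∈ QT S t, ∀ v, q * S.jj v * q⁻¹ = S.jj (uni (0, b) v) := by
  obtain ⟨q, hq, hv⟩ := S.vec_surj (0, (0, -b))
  refine ⟨q, mem_QT_iff.2 ⟨hq, (T.mem_QT hq).2 (by rw [hv])⟩, fun v => ?_⟩
  rw [S.conj_Q hq, hv]
  simp

theorem QT_le_NT (T : S.TInv t) : QT S t ≤ NT S t := fun q hq => by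
  obtain ⟨hqQ, hqt⟩ := mem_QT_iff.1 hq
  refine mem_NT.2 ⟨hqt, Coprime.mem_normalizer_of_forall fun x hx => ?_⟩
  obtain ⟨v, hv, rfl⟩ := T.mem_TJ_iff.1 hx
  refine T.mem_TJ_iff.2 ⟨_, ?_, (S.conj_Q hqQ v).symm⟩
  simp [uni, hv, (T.mem_QT hqQ).1 hqt]

/-- Every element normalising `J ∩ C(t)` moves `z` to one of the four lines. -/
theorem exists_line (T : S.TInv t) {g : G} (hg : g ∈ NT S t) : ∃ i, S.Line g i := by
  obtain ⟨v, hv, e⟩ := T.mem_TJ_iff.1 ((Subgroup.mem_normalizer_iff.1 (mem_NT.1 hg).2 S.z).1 T.z_mem_TJ)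
  have hp : S.IsPt (S.jj v) := by rw [e]; exact S.isPt_z.conj g
  obtain ⟨i, hi⟩ := singular_cases v ((S.isPt_jj v).1 hp).1 ((S.isPt_jj v).1 hp).2 hv
  exact ⟨i, v, hi, e.symm⟩

/-- Elements of `C(t)` fixing the line of `z` normalise `D`. -/
theorem conj_D (T : S.TInv t) {g : G} (ht : Commute g t)
    (hz : g * S.z * g⁻¹ = S.z ∨ g * S.z * g⁻¹ = S.z⁻¹) {d : G} (hd : d ∈ T.D) : g * d * g⁻¹ ∈ T.D := by
  rcases hz with hz | hz
  · exact T.D_normal (mul_inv_eq_iff_eq_mul.1 hz) ht hd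
  refine T.le_D (T.D.map (MulAut.conj g).toMonoidHom) ?_ ?_ ?_ ?_ ⟨d, hd, rfl⟩
  · exact (IsPGroup.of_card (n := 3) (by rw [T.card_D]; norm_num)).map _
  · rintro _ ⟨e, he, rfl⟩
    exact commute_conj hz he.1.1
  · rintro _ ⟨e, he, rfl⟩
    exact (ht.mul_left he.1.2.1).mul_left ht.inv_left
  · rintro q hq _ ⟨e, he, rfl⟩
    obtain ⟨h1, h2⟩ := mem_QT_iff.1 hq
    have hq' : g⁻¹ * q * g⁻¹⁻¹ ∈ QT S t :=
      mem_QT_iff.2 ⟨S.toCfg.inv_Q (inverts_inv hz) h1, (ht.inv_left.mul_left h2).mul_left ht.inv_left.inv_left⟩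
    refine ⟨e, he, ?_⟩
    show g * e * g⁻¹ = q * (g * e * g⁻¹) * q⁻¹
    rw [show q * (g * e * g⁻¹) * q⁻¹ = g * ((g⁻¹ * q * g⁻¹⁻¹) * e * (g⁻¹ * q * g⁻¹⁻¹)⁻¹) * g⁻¹ by group,
      (T.comm_QT he hq').symm.eq, mul_inv_cancel_right]

theorem map_D_eq (T : S.TInv t) {g h : G} (hg : Commute g t) (hh : Commute h t)
    (e : g * S.z * g⁻¹ = h * S.z * h⁻¹ ∨ g * S.z * g⁻¹ = (h * S.z * h⁻¹)⁻¹) :
    T.D.map (MulAut.conj g).toMonoidHom = T.D.map (MulAut.conj h).toMonoidHom := by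
  have key : ∀ a b : G, Commute a t → Commute b t →
      (a * S.z * a⁻¹ = b * S.z * b⁻¹ ∨ a * S.z * a⁻¹ = (b * S.z * b⁻¹)⁻¹) →
      T.D.map (MulAut.conj a).toMonoidHom ≤ T.D.map (MulAut.conj b).toMonoidHom := by
    rintro a b ha hb e _ ⟨d, hd, rfl⟩
    refine ⟨(b⁻¹ * a) * d * (b⁻¹ * a)⁻¹, T.conj_D (hb.inv_left.mul_left ha) ?_ hd, ?_⟩
    · rcases e with e | e
      · left
        rw [show b⁻¹ * a * S.z * (b⁻¹ * a)⁻¹ = b⁻¹ * (a * S.z * a⁻¹) * b by group, e]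
        group
      · right
        rw [show b⁻¹ * a * S.z * (b⁻¹ * a)⁻¹ = b⁻¹ * (a * S.z * a⁻¹) * b by group, e]
        group
    · simp [mul_assoc]
  refine le_antisymm (key g h hg hh e) (key h g hh hg ?_)
  rcases e with e | e <;> rw [e] <;> simp

theorem cpart_D (T : S.TInv t) : CPart T.D t := by
  obtain ⟨f⟩ := T.equivQuat
  obtain ⟨q1, q2, q3, -⟩ := quat_group_facts
  refine ⟨T.ord, T.t_mem, fun a ha => ha.1.2.1, fun x hx hc => T.eq_t_of_sq hx ?_,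
    fun a ha b hb => T.eq_t_of_sq (mul_mem (mul_mem (mul_mem ha hb) (inv_mem ha)) (inv_mem hb)) ?_,
    fun a ha => T.eq_t_of_sq (mul_mem ha ha) ?_⟩
  · have h := q1 (f ⟨x, hx⟩) fun b => by
      obtain ⟨⟨y, hy⟩, rfl⟩ := f.surjective b
      rw [← map_mul, ← map_mul]
      exact congrArg f (Subtype.ext (hc y hy).eq)
    rw [← map_mul] at h
    exact congrArg Subtype.val (f.map_eq_one_iff.1 h)
  · have h := q2 (f ⟨a, ha⟩) (f ⟨b, hb⟩)
    simp only [← map_inv, ← map_mul] at h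
    exact congrArg Subtype.val (f.map_eq_one_iff.1 h)
  · have h := q3 (f ⟨a, ha⟩)
    simp only [← map_mul] at h
    exact congrArg Subtype.val (f.map_eq_one_iff.1 h)

theorem exists_noncomm_D (T : S.TInv t) : ∃ a ∈ T.D, ∃ b ∈ T.D, a * b ≠ b * a := by
  obtain ⟨f⟩ := T.equivQuat
  obtain ⟨-, -, -, x, y, hxy⟩ := quat_group_facts
  refine ⟨_, (f.symm x).2, _, (f.symm y).2, fun e => hxy (f.symm.injective ?_)⟩
  rw [map_mul, map_mul]
  exact Subtype.ext e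

/-- An element of `D` commuting with an element of `J` outside `Q` is central. -/
theorem D_central (T : S.TInv t) {d : G} (hd : d ∈ T.D) {v : J4} (hv : v.2.1 ≠ 0)
    (h : (S.φ d).a * upperU ^ v.2.1.val = upperU ^ v.2.1.val * (S.φ d).a) : d = 1 ∨ d = t := by
  refine T.eq_t_of_sq hd (T.eq_one_of_a (mul_mem hd hd) ?_)
  rw [S.φ_mul _ _ hd.1.1 hd.1.1]
  simp only [Mon.mul_def, hd.1.2.2.1, cond_false]
  exact upper_comm_quat _ _ hv hd.1.2.2.2.2.1 h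

theorem D_fix (T : S.TInv t) {d : G} (hd : d ∈ T.D) {v : J4} (hv : v.2.1 ≠ 0)
    (hc : Commute d (S.jj v)) : d = 1 ∨ d = t := by
  refine T.D_central hd hv ?_
  have e := congrArg S.φ hc.eq
  rw [S.φ_mul _ _ hd.1.1 (S.commute_z_jj v), S.φ_mul _ _ (S.commute_z_jj v) hd.1.1, S.φ_jj, S.φ_y,
    Mon.pow_false rfl] at e
  simpa [Mon.mul_def, hd.1.2.2.1] using congrArg Mon.a e

end TInv

variable [Finite G]

namespace Core

variable (hc : S.Core t)

include hc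

/-- Some exchange normalises `J ∩ C(t)`. -/
theorem exists_exch_normalizing : ∃ n ∈ NT S t, S.Line n 1 ∧ Commute n S.X' := by
  obtain ⟨n₀, ht, hX, hn₀⟩ := hc.exch
  obtain ⟨d, hd, e, he, n, x, ⟨hnt, hnX, hnz⟩, hxt, hxN, hg⟩ := hc.cw n₀ ht hX
  have T := hc.tinv
  set e' := n * e * n⁻¹ with he'
  have hde : Commute d e' := hc.comm n ⟨hnt, hnX, hnz⟩ d hd e he
  have hey : Commute e' S.y := by
    have h := (he.1.1).map (MulAut.conj n).toMonoidHom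
    rcases hnz with h1 | h1
    · simpa [h1, he'] using h
    · simpa [h1, he'] using h
  obtain ⟨v, hv, hvz⟩ : ∃ v, (v = pv 1 ∨ v = -pv 1) ∧ n₀ * S.z * n₀⁻¹ = S.jj v := by
    rcases hn₀ with h | h
    · exact ⟨_, Or.inl rfl, h.trans S.jj_y.symm⟩
    · exact ⟨_, Or.inr rfl, by rw [h, S.jj_neg, ← S.jj_y]; rfl⟩
  have hv1 : v.2.1 ≠ 0 ∧ v.2.2.1 = 0 := by rcases hv with rfl | rfl <;> decide
  have hev : Commute e' (S.jj v) := by
    rcases hv with rfl | rfl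
    · rw [show pv 1 = (0, 1, 0, 0) from rfl, S.jj_y]; exact hey
    · rw [S.jj_neg, show pv 1 = (0, 1, 0, 0) from rfl, S.jj_y]; exact hey.inv_right
  obtain ⟨i, w, hw, hxz⟩ := T.exists_line (mem_NT.2 ⟨hxt, hxN⟩)
  have key : d * S.jj w * d⁻¹ = S.jj v := by
    have h1 : n₀ * S.z * n₀⁻¹ = e' * (d * S.jj w * d⁻¹) * e'⁻¹ := by
      rw [← hxz, hg, hde.eq]; group
    rw [hvz] at h1
    calc d * S.jj w * d⁻¹ = e'⁻¹ * (e' * (d * S.jj w * d⁻¹) * e'⁻¹) * e' := by group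
      _ = e'⁻¹ * (S.jj v * e') := by rw [← h1]; group
      _ = _ := by rw [← hev.eq]; group
  have hdc : d = 1 ∨ d = t := by
    have h := congrArg S.φ key
    rw [Cfg.φ_conj' _ hd.1.1 (S.commute_z_jj w), S.φ_jj, S.φ_jj, S.φ_y, Mon.pow_false rfl,
      Mon.pow_false rfl] at h
    simp only [Mon.mul_def, Mon.inv_def, hd.1.2.2.1, hd.1.2.2.2.1, cond_false, Bool.xor_false,
      Mon.mk.injEq, one_mul, inv_one, mul_one, and_true] at h
    obtain ⟨ha, hb⟩ := h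
    rw [upperU_val _ _ hb] at ha
    exact T.D_central hd hv1.1 (mul_inv_eq_iff_eq_mul.1 ha)
  have hwv : S.jj w = S.jj v := by
    have hcm : Commute d (S.jj v) := by
      rcases hdc with rfl | rfl
      exacts [Commute.one_left _, ((T.jj_comm v).2 hv1.2).symm]
    calc S.jj w = d⁻¹ * (d * S.jj w * d⁻¹) * d := by group
      _ = d⁻¹ * (d * S.jj v) := by rw [key, hcm.eq]; group
      _ = _ := by group
  refine ⟨x, mem_NT.2 ⟨hxt, hxN⟩, ⟨v, hv, hxz.trans hwv⟩, ?_⟩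
  have heX : Commute e' S.X' := (hnX.mul_left (T.comm_X'_D he)).mul_left hnX.inv_left
  rw [show x = e'⁻¹ * d⁻¹ * n₀ by rw [hg]; group]
  exact (heX.inv_left.mul_left (T.comm_X'_D hd).inv_left).mul_left hX

theorem exists_move (i : Fin 4) : ∃ g ∈ NT S t, S.Line g i := by
  obtain ⟨n, hn, ⟨v, hv, hnz⟩, -⟩ := hc.exists_exch_normalizing
  have hq : ∀ b : K, ∃ g ∈ NT S t, g * S.z * g⁻¹ = S.jj (uni (0, b) v) := fun b => by
    obtain ⟨q, hq, hqv⟩ := hc.tinv.exists_uni_QT b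
    refine ⟨q * n, mul_mem (hc.tinv.QT_le_NT hq) hn, ?_⟩
    rw [show q * n * S.z * (q * n)⁻¹ = q * (n * S.z * n⁻¹) * q⁻¹ by group, hnz, hqv]
  fin_cases i
  · exact ⟨1, one_mem _, pv 0, Or.inl rfl, by rw [show pv 0 = (1, 0, 0, 0) from rfl, S.jj_z]; group⟩
  · exact ⟨n, hn, v, hv, hnz⟩
  · obtain ⟨g, hg, h⟩ := hq (-1)
    exact ⟨g, hg, _, (uni_lines v hv).1, h⟩
  · obtain ⟨g, hg, h⟩ := hq 1
    exact ⟨g, hg, _, (uni_lines v hv).2, h⟩

/-- A chosen element moving the line of `z` to the `i`-th line. -/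
noncomputable def mv (i : Fin 4) : G := (hc.exists_move i).choose

theorem mv_mem (i : Fin 4) : hc.mv i ∈ NT S t := (hc.exists_move i).choose_spec.1

theorem mv_line (i : Fin 4) : S.Line (hc.mv i) i := (hc.exists_move i).choose_spec.2

theorem mv_t (i : Fin 4) : Commute (hc.mv i) t := (mem_NT.1 (hc.mv_mem i)).1

/-- The quaternion group over the `i`-th line. -/
noncomputable def DP (i : Fin 4) : Subgroup G := hc.tinv.D.map (MulAut.conj (hc.mv i)).toMonoidHom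

theorem mem_DP {i : Fin 4} {x : G} : x ∈ hc.DP i ↔ (hc.mv i)⁻¹ * x * hc.mv i ∈ hc.tinv.D := by
  constructor
  · rintro ⟨d, hd, rfl⟩
    simpa [mul_assoc] using hd
  · intro h
    exact ⟨_, h, by simp [mul_assoc]⟩

omit hc in
theorem line_same {g h : G} {i : Fin 4} (hg : S.Line g i) (hh : S.Line h i) :
    g * S.z * g⁻¹ = h * S.z * h⁻¹ ∨ g * S.z * g⁻¹ = (h * S.z * h⁻¹)⁻¹ := by
  obtain ⟨v, hv, e⟩ := hg
  obtain ⟨w, hw, e'⟩ := hh
  rw [e, e', ← S.jj_neg]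
  rcases hv with rfl | rfl <;> rcases hw with rfl | rfl <;> simp

/-- Any element of `C(t)` moving `z` to the `i`-th line gives the same group. -/
theorem DP_eq {g : G} {i : Fin 4} (hg : Commute g t) (hl : S.Line g i) :
    hc.DP i = hc.tinv.D.map (MulAut.conj g).toMonoidHom :=
  hc.tinv.map_D_eq (hc.mv_t i) hg (line_same (hc.mv_line i) hl)

omit hc in
theorem line_one : S.Line 1 0 :=
  ⟨pv 0, Or.inl rfl, by rw [show pv 0 = (1, 0, 0, 0) from rfl, S.jj_z]; group⟩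

theorem DP_zero : hc.DP 0 = hc.tinv.D := by
  rw [hc.DP_eq (Commute.one_left t) line_one]
  ext x
  simp

theorem conj_DP {g : G} {i j : Fin 4} (hg : Commute g t) (hl : S.Line (g * hc.mv i) j) {x : G}
    (hx : x ∈ hc.DP i) : g * x * g⁻¹ ∈ hc.DP j := by
  rw [hc.DP_eq (hg.mul_left (hc.mv_t i)) hl]
  obtain ⟨d, hd, rfl⟩ := hx
  exact ⟨d, hd, by simp [mul_assoc]⟩

omit hc in
theorem line_zero_right {g h : G} {i j : Fin 4} (hg : S.Line g i) (hh : S.Line h j)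
    (hk : S.Line (g⁻¹ * h) 0) : i = j := by
  obtain ⟨v, hv, e⟩ := hg
  obtain ⟨w, hw, e'⟩ := hh
  obtain ⟨u, hu, e''⟩ := hk
  have h1 : h * S.z * h⁻¹ = g * S.jj u * g⁻¹ := by rw [← e'']; group
  have hu' : S.jj u = S.z ∨ S.jj u = S.z⁻¹ := by
    rcases hu with rfl | rfl
    · exact Or.inl (by rw [show pv 0 = (1, 0, 0, 0) from rfl, S.jj_z])
    · exact Or.inr (by rw [S.jj_neg, show pv 0 = (1, 0, 0, 0) from rfl, S.jj_z])
  have hvw : w = v ∨ w = -v := by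
    rcases hu' with h2 | h2 <;> rw [h2] at h1
    · exact Or.inl (S.jj_inj (by rw [← e', h1, e]))
    · exact Or.inr (S.jj_inj (by rw [← e', h1, ← conj_inv, e, S.jj_neg]))
  refine pv_facts.2.1 i j ?_
  rcases hv with rfl | rfl <;> rcases hw with rfl | rfl <;> rcases hvw with h2 | h2 <;>
    simp_all

theorem comm_DP_zero {j : Fin 4} (hj : j ≠ 0) {x y : G} (hx : x ∈ hc.tinv.D) (hy : y ∈ hc.DP j) :
    Commute x y := by
  obtain ⟨n, hn, hl, hnX⟩ := hc.exists_exch_normalizing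
  obtain ⟨v, hv, hnz⟩ := hl
  have hnt := (mem_NT.1 hn).1
  have hex : S.Exch t n := ⟨hnt, hnX, by
    rcases hv with rfl | rfl
    · exact Or.inl (hnz.trans S.jj_y)
    · exact Or.inr (hnz.trans (by rw [S.jj_neg, ← S.jj_y]; rfl))⟩
  have base : ∀ q ∈ TInv.QT S t, ∀ e ∈ hc.tinv.D, Commute x (q * n * e * (q * n)⁻¹) := fun q hq e he => by
    have h := (hc.comm n hex x hx e he).map (MulAut.conj q).toMonoidHom
    simp only [MulEquiv.coe_toMonoidHom, MulAut.conj_apply] at h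
    rw [(hc.tinv.comm_QT hx hq).symm.eq, mul_inv_cancel_right] at h
    rwa [show q * n * e * (q * n)⁻¹ = q * (n * e * n⁻¹) * q⁻¹ by group]
  have hcase : ∃ q ∈ TInv.QT S t, S.Line (q * n) j := by
    fin_cases j
    · exact absurd rfl hj
    · exact ⟨1, one_mem _, v, hv, by rw [one_mul, hnz]⟩
    · obtain ⟨q, hq, hqv⟩ := hc.tinv.exists_uni_QT (-1)
      exact ⟨q, hq, _, (uni_lines v hv).1, by
        rw [show q * n * S.z * (q * n)⁻¹ = q * (n * S.z * n⁻¹) * q⁻¹ by group, hnz, hqv]⟩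
    · obtain ⟨q, hq, hqv⟩ := hc.tinv.exists_uni_QT 1
      exact ⟨q, hq, _, (uni_lines v hv).2, by
        rw [show q * n * S.z * (q * n)⁻¹ = q * (n * S.z * n⁻¹) * q⁻¹ by group, hnz, hqv]⟩
  obtain ⟨q, hq, hl⟩ := hcase
  rw [hc.DP_eq ((TInv.mem_QT_iff.1 hq).2.mul_left hnt) hl] at hy
  obtain ⟨e, he, rfl⟩ := hy
  exact base q hq e he

/-- Distinct quaternion groups commute. -/
theorem comm_DP {i j : Fin 4} (hij : i ≠ j) {x y : G} (hx : x ∈ hc.DP i) (hy : y ∈ hc.DP j) :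
    Commute x y := by
  set g := hc.mv i with hg
  obtain ⟨k, hk⟩ := hc.tinv.exists_line (mul_mem (inv_mem (hc.mv_mem i)) (hc.mv_mem j))
  have hk0 : k ≠ 0 := by
    rintro rfl
    exact hij (line_zero_right (hc.mv_line i) (hc.mv_line j) hk)
  have h1 := hc.comm_DP_zero hk0 (hc.mem_DP.1 hx) (hc.conj_DP (hc.mv_t i).inv_left hk hy)
  have h2 := h1.map (MulAut.conj g).toMonoidHom
  simpa [mul_assoc, hg] using h2

theorem cpart_DP (i : Fin 4) : CPart (hc.DP i) t := hc.tinv.cpart_D.map (hc.mv_t i)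

theorem card_DP (i : Fin 4) : Nat.card (hc.DP i) = 8 := by
  rw [DP, Subgroup.card_map_of_injective (MulAut.conj (hc.mv i)).injective, hc.tinv.card_D]

/-- The product of the four quaternion groups. -/
noncomputable def E : Subgroup G := hc.DP 0 ⊔ hc.DP 1 ⊔ hc.DP 2 ⊔ hc.DP 3

theorem DP_le_E (i : Fin 4) : hc.DP i ≤ hc.E := by
  fin_cases i
  exacts [le_sup_left.trans (le_sup_left.trans le_sup_left),
    le_sup_right.trans (le_sup_left.trans le_sup_left), le_sup_right.trans le_sup_left, le_sup_right]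

theorem E_le {H : Subgroup G} (h : ∀ i, hc.DP i ≤ H) : hc.E ≤ H :=
  sup_le (sup_le (sup_le (h 0) (h 1)) (h 2)) (h 3)

theorem comm01 : ∀ a ∈ hc.DP 0, ∀ b ∈ hc.DP 1, Commute a b := fun _ ha _ hb =>
  hc.comm_DP (by decide) ha hb

theorem comm012 : ∀ a ∈ hc.DP 0 ⊔ hc.DP 1, ∀ b ∈ hc.DP 2, Commute a b := fun _ ha b hb => by
  obtain ⟨u, hu, v, hv, rfl⟩ := (mem_sup_of_commute hc.comm01).1 ha
  exact (hc.comm_DP (by decide) hu hb).mul_left (hc.comm_DP (by decide) hv hb)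

theorem comm0123 : ∀ a ∈ hc.DP 0 ⊔ hc.DP 1 ⊔ hc.DP 2, ∀ b ∈ hc.DP 3, Commute a b := fun _ ha b hb => by
  obtain ⟨u, hu, v, hv, rfl⟩ := (mem_sup_of_commute hc.comm012).1 ha
  obtain ⟨u', hu', v', hv', rfl⟩ := (mem_sup_of_commute hc.comm01).1 hu
  exact ((hc.comm_DP (by decide) hu' hb).mul_left (hc.comm_DP (by decide) hv' hb)).mul_left
    (hc.comm_DP (by decide) hv hb)

theorem cpart_01 : CPart (hc.DP 0 ⊔ hc.DP 1) t := (hc.cpart_DP 0).sup (hc.cpart_DP 1) hc.comm01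

theorem cpart_012 : CPart (hc.DP 0 ⊔ hc.DP 1 ⊔ hc.DP 2) t := hc.cpart_01.sup (hc.cpart_DP 2) hc.comm012

theorem cpart_E : CPart hc.E t := hc.cpart_012.sup (hc.cpart_DP 3) hc.comm0123

theorem card_E : Nat.card hc.E = 2 ^ 9 := by
  have h1 := (hc.cpart_DP 0).card_sup (hc.cpart_DP 1) hc.comm01
  have h2 := hc.cpart_01.card_sup (hc.cpart_DP 2) hc.comm012
  have h3 := hc.cpart_012.card_sup (hc.cpart_DP 3) hc.comm0123
  simp only [hc.card_DP] at h1 h2 h3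
  show Nat.card (hc.DP 0 ⊔ hc.DP 1 ⊔ hc.DP 2 ⊔ hc.DP 3 : Subgroup G) = _
  omega

theorem isPGroup_E : IsPGroup 2 hc.E := IsPGroup.of_card hc.card_E

theorem E_comm_t {x : G} (hx : x ∈ hc.E) : Commute x t := hc.cpart_E.tc x hx

theorem E_le_centralizer : hc.E ≤ Subgroup.centralizer {t} := fun _ hx =>
  Subgroup.mem_centralizer_singleton_iff.2 (hc.E_comm_t hx).eq

theorem D_le_E : hc.tinv.D ≤ hc.E := hc.DP_zero ▸ hc.DP_le_E 0

theorem t_mem_E : t ∈ hc.E := hc.cpart_E.mem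

/-- `E` is extraspecial. -/
theorem isExtraspecial_E : Cfsg.IsExtraspecial 2 hc.E := by
  have h := hc.cpart_E
  refine (LargeExtraspecial.isExtraspecial_of_gen (z := t) hc.isPGroup_E h.mem ?_ (fun q hq => (h.tc q hq).eq)
    (fun x hx hcx => h.cent x hx fun a ha => (hcx a ha).symm) (fun a ha b hb => ?_) h.sq ?_).1
  · exact fun e => by simpa [e] using h.ord
  · simpa [commutatorElement_def] using h.comm a ha b hb
  · obtain ⟨a, ha, b, hb, hab⟩ := hc.tinv.exists_noncomm_D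
    exact ⟨a, hc.D_le_E ha, b, hc.D_le_E hb, fun e => hab (commutatorElement_eq_one_iff_mul_comm.1 e)⟩

/-- The normaliser of `J ∩ C(t)` in `C(t)` normalises `E`. -/
theorem norm_E_of_NT {g : G} (hg : g ∈ NT S t) : g ∈ Subgroup.normalizer (hc.E : Set G) := by
  refine Coprime.mem_normalizer_of_forall fun x hx => ?_
  have h : hc.E ≤ hc.E.comap (MulAut.conj g).toMonoidHom := hc.E_le fun i x hx => by
    obtain ⟨j, hj⟩ := hc.tinv.exists_line (mul_mem hg (hc.mv_mem i))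
    exact hc.DP_le_E j (hc.conj_DP (mem_NT.1 hg).1 hj hx)
  exact h hx

theorem DP_fix {i : Fin 4} (hi : i ≠ 0) {x : G} (hx : x ∈ hc.DP i) (hz : Commute x S.z) :
    x = 1 ∨ x = t := by
  set g := hc.mv i with hg
  obtain ⟨k, v, hv, e⟩ := hc.tinv.exists_line (inv_mem (hc.mv_mem i))
  have hk : k ≠ 0 := by
    rintro rfl
    exact hi (line_zero_right (hc.mv_line i) line_one ⟨v, hv, by simpa [hg] using e⟩)
  have hv1 : v.2.1 ≠ 0 := by
    rcases hv with rfl | rfl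
    exacts [pv_facts.2.2 k hk, neg_ne_zero.2 (pv_facts.2.2 k hk)]
  have h1 : Commute (g⁻¹ * x * g) (S.jj v) := by
    have := hz.map (MulAut.conj g⁻¹).toMonoidHom
    simp only [MulEquiv.coe_toMonoidHom, MulAut.conj_apply] at this
    rw [← hg] at e
    rwa [e, inv_inv] at this
  have hxg : x = g * (g⁻¹ * x * g) * g⁻¹ := by group
  rcases hc.tinv.D_fix (hc.mem_DP.1 hx) hv1 h1 with h | h <;> rw [← hg] at h <;> rw [h] at hxg
  · exact Or.inl (by rw [hxg]; group)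
  · exact Or.inr (by rw [hxg, (hc.mv_t i).eq, mul_inv_cancel_right])

theorem conj_z_DP {i : Fin 4} {x : G} (hx : x ∈ hc.DP i) : S.z * x * S.z⁻¹ ∈ hc.DP i := by
  refine hc.conj_DP hc.tinv.comm_z.symm ?_ hx
  obtain ⟨v, hv, e⟩ := hc.mv_line i
  refine ⟨v, hv, ?_⟩
  rw [show S.z * hc.mv i * S.z * (S.z * hc.mv i)⁻¹ = S.z * (hc.mv i * S.z * (hc.mv i)⁻¹) * S.z⁻¹ by group, e,
    ← (S.commute_z_jj v).eq, mul_inv_cancel_right]

/-- `C_E(z) = D`. -/
theorem mem_D_of_commute_z {x : G} (hx : x ∈ hc.E) (hz : Commute x S.z) : x ∈ hc.tinv.D := by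
  have hzt : Commute S.z t := hc.tinv.comm_z.symm
  have n01 : ∀ a ∈ hc.DP 0 ⊔ hc.DP 1, S.z * a * S.z⁻¹ ∈ hc.DP 0 ⊔ hc.DP 1 := fun a ha => by
    obtain ⟨u, hu, v, hv, rfl⟩ := (mem_sup_of_commute hc.comm01).1 ha
    rw [show S.z * (u * v) * S.z⁻¹ = S.z * u * S.z⁻¹ * (S.z * v * S.z⁻¹) by group]
    exact Subgroup.mul_mem_sup (hc.conj_z_DP hu) (hc.conj_z_DP hv)
  have n012 : ∀ a ∈ hc.DP 0 ⊔ hc.DP 1 ⊔ hc.DP 2,
      S.z * a * S.z⁻¹ ∈ hc.DP 0 ⊔ hc.DP 1 ⊔ hc.DP 2 := fun a ha => by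
    obtain ⟨u, hu, v, hv, rfl⟩ := (mem_sup_of_commute hc.comm012).1 ha
    rw [show S.z * (u * v) * S.z⁻¹ = S.z * u * S.z⁻¹ * (S.z * v * S.z⁻¹) by group]
    exact Subgroup.mul_mem_sup (n01 u hu) (hc.conj_z_DP hv)
  obtain ⟨a, ha, d3, h3, rfl⟩ := (mem_sup_of_commute hc.comm0123).1 hx
  obtain ⟨hA, h3z⟩ := hc.cpart_012.fix_split (hc.cpart_DP 3) hc.comm0123 S.z_pow hzt ha h3 (n012 a ha)
    (hc.conj_z_DP h3) hz.symm
  obtain ⟨b, hb, d2, h2, rfl⟩ := (mem_sup_of_commute hc.comm012).1 ha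
  obtain ⟨hB, h2z⟩ := hc.cpart_01.fix_split (hc.cpart_DP 2) hc.comm012 S.z_pow hzt hb h2 (n01 b hb)
    (hc.conj_z_DP h2) hA
  obtain ⟨d0, h0, d1, h1, rfl⟩ := (mem_sup_of_commute hc.comm01).1 hb
  obtain ⟨-, h1z⟩ := (hc.cpart_DP 0).fix_split (hc.cpart_DP 1) hc.comm01 S.z_pow hzt h0 h1
    (hc.conj_z_DP h0) (hc.conj_z_DP h1) hB
  have cen : ∀ i : Fin 4, i ≠ 0 → ∀ d ∈ hc.DP i, Commute S.z d → d ∈ hc.tinv.D := fun i hi d hd h => by
    rcases hc.DP_fix hi hd h.symm with rfl | rfl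
    exacts [one_mem _, hc.tinv.t_mem]
  exact mul_mem (mul_mem (mul_mem (hc.DP_zero ▸ h0) (cen 1 (by decide) d1 h1 h1z))
    (cen 2 (by decide) d2 h2 h2z)) (cen 3 (by decide) d3 h3 h3z)

/-- The centraliser in `E` of a point of `J ∩ C(t)` is its quaternion group. -/
theorem mem_DP_of_commute {i : Fin 4} {x : G} (hx : x ∈ hc.E) (h : Commute x (S.jj (pv i))) :
    x ∈ hc.DP i := by
  set g := hc.mv i with hg
  obtain ⟨v, hv, e⟩ := hc.mv_line i
  rw [hc.mem_DP]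
  refine hc.mem_D_of_commute_z ?_ ?_
  · have := (Subgroup.mem_normalizer_iff.1 (hc.norm_E_of_NT (inv_mem (hc.mv_mem i))) x).1 hx
    simpa using this
  · have h' : Commute x (g * S.z * g⁻¹) := by
      rw [e]
      rcases hv with rfl | rfl
      exacts [h, by rw [S.jj_neg]; exact h.inv_right]
    have := h'.map (MulAut.conj g⁻¹).toMonoidHom
    simpa [mul_assoc] using this

/-- A point of `J ∩ C(t)` moves the other three quaternion groups. -/
theorem DP_fix_pt {i j : Fin 4} (hij : i ≠ j) {x : G} (hx : x ∈ hc.DP j)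
    (h : Commute x (S.jj (pv i))) : x = 1 ∨ x = t :=
  (hc.cpart_DP j).inf_eq (hc.cpart_DP i) (fun _ ha _ hb => hc.comm_DP (Ne.symm hij) ha hb) hx
    (hc.mem_DP_of_commute (hc.DP_le_E j hx) h)

end Core

end Std

end Cfsg.Agent.U62ThreeCent
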