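/-
The normaliser and the centraliser of `E` in `C(t)`.

* `Core.mem_norm_X'`, `Core.mem_norm_z` : `C(t) ∩ C(X')` and `C(t) ∩ C(z)` normalise `E`;
* `Core.cent_E` : `C_{C(t)}(E) = Z(E)`;
* `Core.exists_edata` : `E` has the properties collected in `EData`.
-/
import Cfsg.Agent.Lib.U62ThreeCent.EGroup
import Cfsg.Agent.Lib.Coprime.Generation

set_option autoImplicit false
set_option maxRecDepth 100000
set_option linter.unusedSectionVars false

namespace Cfsg.Agent.U62ThreeCent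

open Cfsg.Agent.PSpThree
open scoped commutatorElement

theorem sl_cent_quat : ∀ a : SL23, (∀ b : SL23, b ^ 4 = 1 → a * b = b * a) → a = 1 ∨ a = negOne := by
  decide +kernel

namespace Std

variable {G : Type*} [Group G] [Finite G] {S : Std G} {t : G}

namespace Core

variable (hc : S.Core t)

include hc

/-- Every element of `C(t) ∩ C(X')` is an element of `E` times one normalising `J ∩ C(t)`. -/
theorem exists_factor_X' {g : G} (ht : Commute g t) (hX : Commute g S.X') :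
    ∃ e ∈ hc.E, ∃ x ∈ NT S t, g = e * x := by
  obtain ⟨d, hd, e, he, n, x, ⟨hnt, -, hnz⟩, hxt, hxN, hg⟩ := hc.cw g ht hX
  have hl : S.Line n 1 := by
    rcases hnz with h | h
    · exact ⟨pv 1, Or.inl rfl, h.trans S.jj_y.symm⟩
    · exact ⟨-pv 1, Or.inr rfl, by rw [h, S.jj_neg, ← S.jj_y]; rfl⟩
  exact ⟨d * (n * e * n⁻¹), mul_mem (hc.D_le_E hd) (hc.DP_le_E 1 (hc.DP_eq hnt hl ▸ ⟨e, he, rfl⟩)),
    x, mem_NT.2 ⟨hxt, hxN⟩, hg⟩

/-- `C(t) ∩ C(X')` normalises `E`. -/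
theorem mem_norm_X' {g : G} (ht : Commute g t) (hX : Commute g S.X') :
    g ∈ Subgroup.normalizer (hc.E : Set G) := by
  obtain ⟨e, he, x, hx, rfl⟩ := hc.exists_factor_X' ht hX
  exact mul_mem (Subgroup.le_normalizer he) (hc.norm_E_of_NT hx)

theorem conj_mem_E {g x : G} (hg : g ∈ NT S t) (hx : x ∈ hc.E) : g * x * g⁻¹ ∈ hc.E :=
  (Subgroup.mem_normalizer_iff.1 (hc.norm_E_of_NT hg) x).1 hx

theorem conj_QT_mem {q x : G} (hq : q ∈ TInv.QT S t) (hx : x ∈ hc.E) : q * x * q⁻¹ ∈ hc.E :=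
  hc.conj_mem_E (hc.tinv.QT_le_NT hq) hx

/-- Generation by the centralisers of `z` and of the conjugates of `X'`. -/
theorem le_of_QT {M W : Subgroup G} (hM : ∀ q ∈ TInv.QT S t, ∀ x ∈ M, q * x * q⁻¹ ∈ M)
    (hW : ∀ q ∈ TInv.QT S t, ∀ x ∈ W, q * x * q⁻¹ ∈ W) (hcop : ¬ 3 ∣ Nat.card M)
    (hz : ∀ x ∈ M, Commute x S.z → x ∈ W) (hX : ∀ x ∈ M, Commute x S.X' → x ∈ W) : M ≤ W := by
  have T := hc.tinv
  set A := S.TJ t ⊓ TInv.QT S t with hA
  haveI : IsMulCommutative A := ⟨⟨fun a b => Subtype.ext (by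
    obtain ⟨v, -, hv⟩ := T.mem_TJ_iff.1 a.2.1
    obtain ⟨w, -, hw⟩ := T.mem_TJ_iff.1 b.2.1
    show (a : G) * b = b * a
    rw [← hv, ← hw]
    exact (S.commute_jj v w).eq)⟩⟩
  have hzA : S.z ∈ A := ⟨T.z_mem_TJ, TInv.mem_QT_iff.2 ⟨S.z_mem, T.comm_z.symm⟩⟩
  have hXA : S.X' ∈ A :=
    ⟨T.mem_TJ_iff.2 ⟨(0, 0, 0, 1), rfl, S.jj_X'⟩, TInv.mem_QT_iff.2 ⟨S.X'_mem, T.comm_X'.symm⟩⟩
  have hcard : (Nat.card A).Coprime (Nat.card M) := by
    have h27 : Nat.card A ∣ 3 ^ 3 := (Subgroup.card_dvd_of_le inf_le_right).trans (by rw [T.card_QT]; norm_num)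
    exact Nat.Coprime.coprime_dvd_left h27 ((Nat.Prime.coprime_iff_not_dvd Nat.prime_three).2 hcop |>.pow_left 3)
  refine Coprime.le_of_pair (A := A) (fun a ha => Coprime.mem_normalizer_of_forall (hM a ha.2)) hcard Nat.prime_three
    hzA hXA (by rw [S.z_pow]; exact one_mem _) (by rw [S.cube _ S.X'_mem]; exact one_mem _) ?_
  rintro i j hij x ⟨hxM, hxc⟩
  have hxc' : Commute x (S.z ^ i * S.X' ^ j) := Subgroup.mem_centralizer_singleton_iff.1 hxc
  have hm : ∀ {a : G}, a ^ 3 = 1 → ∀ n : ℕ, a ^ n = a ^ (n : K).val := fun ha n => by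
    rw [ZMod.val_natCast]; exact pow_eq_pow_mod n ha
  rw [hm S.z_pow i, hm (S.cube _ S.X'_mem) j] at hxc'
  have hij' : (i : K) ≠ 0 ∨ (j : K) ≠ 0 := by
    by_contra h
    push Not at h
    exact hij ⟨(ZMod.natCast_eq_zero_iff _ _).1 h.1, (ZMod.natCast_eq_zero_iff _ _).1 h.2⟩
  generalize (i : K) = a at hxc' hij'
  generalize (j : K) = b at hxc' hij'
  have sq1 : ∀ c : K, c ≠ 0 → c * c = 1 := by decide
  by_cases hb : b = 0
  · subst hb
    rw [ZMod.val_zero, pow_zero, mul_one] at hxc'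
    have ha := hij'.resolve_right (not_not.2 rfl)
    have h := hxc'.pow_right a.val
    rw [pow_val_mul S.z_pow, sq1 a ha, ZMod.val_one, pow_one] at h
    exact hz x hxM h
  obtain ⟨q, hq, hqv⟩ := T.exists_uni_QT (a * b)
  have e : S.z ^ a.val * S.X' ^ b.val = q * S.X' ^ b.val * q⁻¹ := by
    have h := hqv (0, 0, 0, b)
    simp only [uni, jj, mul_zero, zero_mul, zero_add, add_zero, sub_zero, ZMod.val_zero, pow_zero, one_mul,
      mul_one, mul_assoc a b b, sq1 b hb] at h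
    exact h.symm
  rw [e] at hxc'
  have h1 : q⁻¹ * x * q⁻¹⁻¹ ∈ M := hM _ (inv_mem hq) x hxM
  have h2 : Commute (q⁻¹ * x * q⁻¹⁻¹) (S.X' ^ b.val) := by
    have := hxc'.map (MulAut.conj q⁻¹).toMonoidHom
    simpa [mul_assoc] using this
  have h3 := h2.pow_right b.val
  rw [pow_val_mul (S.cube _ S.X'_mem), sq1 b hb, ZMod.val_one, pow_one] at h3
  have h4 := hW q hq _ (hX _ h1 h3)
  simpa [mul_assoc] using h4

/-- A 2-element of `E (J ∩ C(t))` lies in `E`. -/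
theorem mem_E_of_two {e j : G} (he : e ∈ hc.E) (hj : j ∈ S.TJ t) {k : ℕ} (hk : (e * j) ^ 2 ^ k = 1) :
    e * j ∈ hc.E := by
  have hpow : ∀ n : ℕ, ∃ e' ∈ hc.E, (e * j) ^ n = e' * j ^ n := by
    intro n
    induction n with
    | zero => exact ⟨1, one_mem _, by simp⟩
    | succ n ih =>
      obtain ⟨e', he', h⟩ := ih
      refine ⟨e' * (j ^ n * e * (j ^ n)⁻¹),
        mul_mem he' (hc.conj_mem_E (hc.tinv.TJ_le_NT (pow_mem hj n)) he), ?_⟩
      rw [pow_succ, h, pow_succ]; group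
  obtain ⟨e', he', h⟩ := hpow (2 ^ k)
  rw [hk] at h
  have hm : j ^ 2 ^ k ∈ hc.E := by rw [eq_inv_of_mul_eq_one_right h.symm]; exact inv_mem he'
  obtain ⟨v, -, rfl⟩ := hc.tinv.mem_TJ_iff.1 hj
  have h3 := S.jj_cube v
  obtain ⟨l, hl⟩ := hc.isPGroup_E ⟨_, hm⟩
  have hl' : (S.jj v ^ 2 ^ k) ^ 2 ^ l = 1 := congrArg Subtype.val hl
  rw [← pow_mul, ← pow_add] at hl'
  have : orderOf (S.jj v) = 1 := Nat.eq_one_of_dvd_coprimes
    ((show Nat.Coprime 3 2 by norm_num).pow_right (k + l)) (orderOf_dvd_of_pow_eq_one h3)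
    (orderOf_dvd_of_pow_eq_one hl')
  rw [orderOf_eq_one_iff.1 this, mul_one]
  exact he

/-- `C(t) ∩ C(z)` normalises `E`. -/
theorem mem_norm_z {h : G} (ht : Commute h t) (hz : Commute h S.z) :
    h ∈ Subgroup.normalizer (hc.E : Set G) := by
  have T := hc.tinv
  set R := hc.E.map (MulAut.conj h).toMonoidHom with hR
  have hRp : IsPGroup 2 R := hc.isPGroup_E.map _
  have hRt : ∀ r ∈ R, Commute r t := by
    rintro _ ⟨e, he, rfl⟩
    exact (ht.mul_left (hc.E_comm_t he)).mul_left ht.inv_left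
  have hRz : ∀ r ∈ R, Commute r S.z → r ∈ hc.E := by
    rintro _ ⟨e, he, rfl⟩ hrz
    have hez : Commute e S.z := by
      have h1 := (hz.inv_left.mul_left hrz).mul_left hz
      simpa [mul_assoc] using h1
    exact hc.D_le_E (T.D_normal hz ht (hc.mem_D_of_commute_z he hez))
  have hRq : ∀ q ∈ TInv.QT S t, ∀ r ∈ R, q * r * q⁻¹ ∈ R := by
    rintro q hq _ ⟨e, he, rfl⟩
    refine ⟨_, hc.conj_QT_mem (TInv.QT_normal hz.inv_left ht.inv_left hq) he, ?_⟩
    simp [mul_assoc]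
  have hzQ : S.z ∈ TInv.QT S t := TInv.mem_QT_iff.2 ⟨S.z_mem, T.comm_z.symm⟩
  have key : ∀ r ∈ R, Commute r S.X' → r ∈ hc.E := by
    set R' := R ⊓ Subgroup.centralizer {S.X'} with hR'
    have hR'z : ∀ a ∈ Subgroup.zpowers S.z, ∀ r ∈ R', a * r * a⁻¹ ∈ R' := fun a ha r hr => by
      obtain ⟨hr1, hr2⟩ := hr
      obtain ⟨n, rfl⟩ := Subgroup.mem_zpowers_iff.1 ha
      have hzX : Commute (S.z ^ n) S.X' := S.z_X'.zpow_left n
      exact ⟨hRq _ (zpow_mem hzQ n) r hr1, Subgroup.mem_centralizer_singleton_iff.2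
        ((hzX.mul_left (Subgroup.mem_centralizer_singleton_iff.1 hr2 : Commute r S.X')).mul_left hzX.inv_left).eq⟩
    have hnorm : Subgroup.zpowers S.z ≤ Subgroup.normalizer (R' : Set G) := fun a ha =>
      Coprime.mem_normalizer_of_forall (hR'z a ha)
    have hp : IsPGroup 2 R' := hRp.to_le inf_le_left
    obtain ⟨m, hm⟩ := IsPGroup.iff_card.1 hp
    have hcop : (Nat.card (Subgroup.zpowers S.z)).Coprime (Nat.card R') := by
      rw [Nat.card_zpowers, S.z_ord, hm]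
      exact (show Nat.Coprime 3 2 by norm_num).pow_right m
    haveI : Fact (Nat.Prime 2) := ⟨Nat.prime_two⟩
    have hsol : Group.IsSolvable (Subgroup.zpowers S.z) ∨ Group.IsSolvable R' :=
      Or.inr (by haveI := hp.isNilpotent; infer_instance)
    intro r hr hrX
    have hle : R' ≤ hc.E := by
      rw [← Coprime.commutator_sup_centralizer hnorm hcop hsol, sup_le_iff]
      refine ⟨Subgroup.commutator_le.2 fun r hr a ha => ?_, fun r hr => hRz r hr.1.1 ?_⟩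
      · obtain ⟨e, he, x, hx, hrx⟩ := hc.exists_factor_X' (hRt r hr.1)
          (Subgroup.mem_centralizer_singleton_iff.1 hr.2)
        have haT : a ∈ S.TJ t := Subgroup.zpowers_le.2 T.z_mem_TJ ha
        have hj : x * a * x⁻¹ ∈ S.TJ t := (Subgroup.mem_normalizer_iff.1 (mem_NT.1 hx).2 a).1 haT
        have hw : ⁅r, a⁆ = e * (x * a * x⁻¹ * e⁻¹ * (x * a * x⁻¹)⁻¹) * (x * a * x⁻¹ * a⁻¹) := by
          rw [commutatorElement_def, hrx]; group
        have hwR : ⁅r, a⁆ ∈ R := by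
          rw [show ⁅r, a⁆ = r * (a * r⁻¹ * a⁻¹) by rw [commutatorElement_def]; group]
          exact mul_mem hr.1 (hR'z a ha _ (inv_mem hr)).1
        obtain ⟨k, hk⟩ := hRp ⟨_, hwR⟩
        have hk' : ⁅r, a⁆ ^ 2 ^ k = 1 := congrArg Subtype.val hk
        rw [hw] at hk' ⊢
        exact hc.mem_E_of_two (mul_mem he (hc.conj_mem_E (T.TJ_le_NT hj) (inv_mem he)))
          (mul_mem hj (inv_mem haT)) hk'
      · exact (Subgroup.mem_centralizer_iff.1 hr.2 _ (Subgroup.mem_zpowers S.z)).symm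
    exact hle ⟨hr, Subgroup.mem_centralizer_singleton_iff.2 hrX.eq⟩
  have h3 : ¬ 3 ∣ Nat.card R := fun h3 => by
    obtain ⟨m, hm⟩ := IsPGroup.iff_card.1 hRp
    rw [hm] at h3
    exact absurd (Nat.prime_three.dvd_of_dvd_pow h3) (by norm_num)
  have hle := hc.le_of_QT hRq (fun q hq x hx => hc.conj_QT_mem hq hx) h3 hRz key
  exact Coprime.mem_normalizer_of_forall fun x hx => hle ⟨x, hx, rfl⟩

theorem jj_nsmul (v : J4) (n : ℕ) : S.jj v ^ n = S.jj (n • v) := by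
  induction n with
  | zero => rw [pow_zero, zero_smul, S.jj_zero]
  | succ n ih => rw [pow_succ, ih, ← S.jj_add, succ_nsmul]

/-- `J ∩ C(t)` acts faithfully on `E`. -/
theorem TJ_faithful {j : G} (hj : j ∈ S.TJ t) (hjc : ∀ e ∈ hc.E, Commute j e) : j = 1 := by
  have T := hc.tinv
  have hb : ∀ v : J4, (∀ e ∈ hc.E, Commute (S.jj v) e) → v.2.1 = 0 := fun v hv => by
    by_contra hne
    obtain ⟨a, ha, b, hb, hab⟩ := T.exists_noncomm_D
    rcases T.D_fix ha hne (hv a (hc.D_le_E ha)).symm with rfl | rfl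
    · exact hab (by simp)
    · exact hab (hc.E_comm_t (hc.D_le_E hb)).symm.eq
  obtain ⟨n, hn, ⟨v1, hv1, hnz⟩, hnX⟩ := hc.exists_exch_normalizing
  have conjc : ∀ g ∈ NT S t, ∀ x, (∀ e ∈ hc.E, Commute x e) → ∀ e ∈ hc.E, Commute (g * x * g⁻¹) e := by
    intro g hg x hx e he
    have := (hx _ (hc.conj_mem_E (inv_mem hg) he)).map (MulAut.conj g).toMonoidHom
    simpa [mul_assoc] using this
  have ha : ∀ v : J4, v.2.2.1 = 0 → (∀ e ∈ hc.E, Commute (S.jj v) e) → v.1 = 0 := by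
    intro v hv hvc
    obtain ⟨w, hw, hwe⟩ := T.mem_TJ_iff.1
      ((Subgroup.mem_normalizer_iff.1 (mem_NT.1 (inv_mem hn)).2 _).1 (T.mem_TJ_iff.2 ⟨v, hv, rfl⟩))
    have hw1 := hb w fun e he => by rw [hwe]; exact conjc _ (inv_mem hn) _ hvc e he
    have h1 : S.jj v = n * S.jj w * n⁻¹ := by rw [hwe]; group
    have h2 : S.jj w = S.z ^ w.1.val * S.X' ^ w.2.2.2.val := by simp [jj, hw, hw1]
    rw [h2, show n * (S.z ^ w.1.val * S.X' ^ w.2.2.2.val) * n⁻¹ =
      (n * S.z ^ w.1.val * n⁻¹) * (n * S.X' ^ w.2.2.2.val * n⁻¹) by group, ← conj_pow, ← conj_pow, hnz,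
      hnX.eq, mul_inv_cancel_right, ← S.jj_X', jj_nsmul hc, jj_nsmul hc, ← S.jj_add] at h1
    rw [S.jj_inj h1]
    rcases hv1 with rfl | rfl <;> simp [pv]
  obtain ⟨v, hv, rfl⟩ := T.mem_TJ_iff.1 hj
  have h1 := hb v hjc
  have h2 := ha v hv hjc
  obtain ⟨q, hq, hqv⟩ := T.exists_uni_QT 1
  have h3 : (uni (0, 1) v).1 = 0 := ha _ (by simp [uni, hv]) fun e he => by
    rw [← hqv]; exact conjc q (T.QT_le_NT hq) _ hjc e he
  have hd : v.2.2.2 = 0 := by simpa [uni, h1, h2, hv] using h3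
  rw [show v = 0 from Prod.ext h2 (Prod.ext h1 (Prod.ext hv hd)), S.jj_zero]

/-- `C_Q(t)` acts faithfully on `E`. -/
theorem QT_faithful {q : G} (hq : q ∈ TInv.QT S t) (hqc : ∀ e ∈ hc.E, Commute q e) : q = 1 := by
  have T := hc.tinv
  obtain ⟨hQ, hqt⟩ := TInv.mem_QT_iff.1 hq
  have hcomm : ∀ q' ∈ TInv.QT S t, Commute q q' := fun q' hq' => by
    obtain ⟨hQ', -⟩ := TInv.mem_QT_iff.1 hq'
    have hm : q * q' * q⁻¹ * q'⁻¹ ∈ S.TJ t := by
      rw [S.comm q hQ q' hQ']; exact pow_mem T.z_mem_TJ _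
    refine mul_inv_eq_iff_eq_mul.1 (mul_inv_eq_one.1 (hc.TJ_faithful hm fun e he => ?_))
    have h1 : Commute (q' * q⁻¹ * q'⁻¹) e := by
      have := ((hqc _ (hc.conj_QT_mem (inv_mem hq') he)).inv_left).map (MulAut.conj q').toMonoidHom
      simpa [mul_assoc] using this
    rw [show q * q' * q⁻¹ * q'⁻¹ = q * (q' * q⁻¹ * q'⁻¹) by group]
    exact (hqc e he).mul_left h1
  have hD : q ∈ TInv.D0 S t := ⟨S.Q_le q hQ, hqt, by rw [S.φ_of_mem hQ]; rfl, by rw [S.φ_of_mem hQ]; rfl,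
    by rw [S.φ_of_mem hQ]; exact one_pow 4, hcomm⟩
  exact hc.TJ_faithful
    (Subgroup.zpowers_le.2 T.z_mem_TJ (T.mem_zpowers_of_ker hD (by rw [S.φ_of_mem hQ]; rfl))) hqc

theorem cent_E_z {g : G} (ht : Commute g t) (hz : Commute g S.z) (hg : ∀ e ∈ hc.E, Commute g e) :
    g = 1 ∨ g = t := by
  have T := hc.tinv
  have hs := T.s_false hz ht
  have hq : ∀ q ∈ TInv.QT S t, Commute g q := fun q hq => by
    refine mul_inv_eq_iff_eq_mul.1 (mul_inv_eq_one.1 (hc.QT_faithful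
      (mul_mem (TInv.QT_normal hz ht hq) (inv_mem hq)) fun e he => ?_))
    have h1 : Commute (q * g⁻¹ * q⁻¹) e := by
      have := ((hg _ (hc.conj_QT_mem (inv_mem hq) he)).inv_left).map (MulAut.conj q).toMonoidHom
      simpa [mul_assoc] using this
    rw [show g * q * g⁻¹ * q⁻¹ = g * (q * g⁻¹ * q⁻¹) by group]
    exact (hg e he).mul_left h1
  have hb : (S.φ g).b = 1 := sl_fix_eq_one _ fun u => by
    obtain ⟨q, hqQ, hv⟩ := S.vec_surj (0, u)
    have e := S.vec_conj g hz q hqQ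
    rw [(hq q (TInv.mem_QT_iff.2 ⟨hqQ, (T.mem_QT hqQ).2 (by rw [hv])⟩)).eq, mul_inv_cancel_right, hv,
      Mon.act_false hs] at e
    exact (congrArg Prod.snd e).symm
  have key : ∀ x : G, Commute x t → Commute x S.z → (S.φ x).s = false → (S.φ x).b = 1 → (S.φ x).a = 1 →
      (∀ q ∈ TInv.QT S t, Commute x q) → (∀ e ∈ hc.E, Commute x e) → x = 1 := by
    intro x xt xz xs xb xa xq xe
    exact hc.TJ_faithful (Subgroup.zpowers_le.2 T.z_mem_TJ
      (T.mem_zpowers_of_ker ⟨xz, xt, xs, xb, by rw [xa, one_pow], xq⟩ xa)) xe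
  rcases sl_cent_quat (S.φ g).a (fun a ha => by
      obtain ⟨d, hd, hφ⟩ := T.exists_D ha
      have e := congrArg S.φ (hg d (hc.D_le_E hd)).eq
      rw [S.φ_mul _ _ hz hd.1.1, S.φ_mul _ _ hd.1.1 hz, hφ] at e
      simpa [Mon.mul_def, hs] using congrArg Mon.a e) with h | h
  · exact Or.inl (key g ht hz hs hb h hq hg)
  · refine Or.inr (inv_mul_eq_one.1 (show t⁻¹ * g = 1 from ?_)).symm
    have hz' : Commute (t⁻¹ * g) S.z := T.comm_z.inv_left.mul_left hz
    refine key _ ((Commute.refl t).inv_left.mul_left ht) hz' ?_ ?_ ?_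
      (fun q hq' => (TInv.mem_QT_iff.1 hq').2.symm.inv_left.mul_left (hq q hq'))
      (fun e he => (hc.E_comm_t he).symm.inv_left.mul_left (hg e he)) <;>
      rw [S.φ_mul _ _ T.comm_z.inv_left hz, S.φ_inv T.comm_z, T.φ_t] <;>
      simp [Mon.mul_def, Mon.inv_def, tm, hs, hb, h]

theorem cent_E_X' {g : G} (ht : Commute g t) (hX : Commute g S.X') (hg : ∀ e ∈ hc.E, Commute g e) :
    g = 1 ∨ g = t := by
  have T := hc.tinv
  refine hc.cent_E_z ht ?_ hg
  obtain ⟨e, he, x, hx, hgx⟩ := hc.exists_factor_X' ht hX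
  set j := x * S.z * x⁻¹ with hj
  have hjT : j ∈ S.TJ t := (Subgroup.mem_normalizer_iff.1 (mem_NT.1 hx).2 S.z).1 T.z_mem_TJ
  set w := g * S.z * g⁻¹ * S.z⁻¹ with hw
  have hwc : ∀ d ∈ hc.E, Commute w d := fun d hd => by
    have hzN : S.z ∈ NT S t := T.TJ_le_NT T.z_mem_TJ
    have h1 : Commute (S.z * g⁻¹ * S.z⁻¹) d := by
      have := ((hg _ (hc.conj_mem_E (inv_mem hzN) hd)).inv_left).map (MulAut.conj S.z).toMonoidHom
      simpa [mul_assoc] using this
    rw [hw, show g * S.z * g⁻¹ * S.z⁻¹ = g * (S.z * g⁻¹ * S.z⁻¹) by group]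
    exact (hg d hd).mul_left h1
  set e2 := e * (j * e⁻¹ * j⁻¹) with he2
  have he2E : e2 ∈ hc.E := mul_mem he (hc.conj_mem_E (T.TJ_le_NT hjT) (inv_mem he))
  have hwe : w = e2 * (j * S.z⁻¹) := by rw [hw, he2, hj, hgx]; group
  have hjz : j * S.z⁻¹ ∈ S.TJ t := mul_mem hjT (inv_mem T.z_mem_TJ)
  have h1 : j * S.z⁻¹ = 1 := by
    refine hc.TJ_faithful hjz fun d hd => ?_
    obtain ⟨v, -, hv⟩ := T.mem_TJ_iff.1 hjz
    refine mul_inv_eq_iff_eq_mul.1 (cube_fix (t := t) ?_ (T.TJ_comm hjz).1 T.sq ?_)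
    · rw [← hv]; exact S.jj_cube v
    · have e1 : j * S.z⁻¹ * d * (j * S.z⁻¹)⁻¹ = d * (d⁻¹ * e2⁻¹ * d⁻¹⁻¹ * e2⁻¹⁻¹) := by
        rw [show j * S.z⁻¹ = e2⁻¹ * w by rw [hwe]; group,
          show e2⁻¹ * w * d * (e2⁻¹ * w)⁻¹ = e2⁻¹ * (w * d * w⁻¹) * e2 by group, (hwc d hd).eq,
          mul_inv_cancel_right]
        group
      rcases hc.cpart_E.comm _ (inv_mem hd) _ (inv_mem he2E) with h | h <;> rw [h] at e1
      exacts [Or.inl (by rw [e1, mul_one]), Or.inr e1]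
  have hjz' : j = S.z := mul_inv_eq_one.1 h1
  have hwE : w ∈ hc.E := by rw [hwe, h1, mul_one]; exact he2E
  have hg1 : g * S.z * g⁻¹ = w * S.z := by rw [hw]; group
  rcases hc.cpart_E.cent w hwE hwc with h | h <;> rw [h] at hg1
  · rw [one_mul] at hg1; exact mul_inv_eq_iff_eq_mul.1 hg1
  · exfalso
    have h3 := conj_pow (i := 3) (a := g) (b := S.z)
    rw [hg1, T.comm_z.mul_pow, S.z_pow, mul_one, mul_one, mul_inv_cancel, pow_succ, pow_two, T.sq,
      one_mul] at h3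
    have := T.ord
    rw [h3, orderOf_one] at this
    omega

/-- The centraliser of `E` in `C(t)` is its centre. -/
theorem cent_E' {g : G} (ht : Commute g t) (hg : ∀ e ∈ hc.E, Commute g e) : g = 1 ∨ g = t := by
  have T := hc.tinv
  set M := Subgroup.centralizer {t} ⊓ Subgroup.centralizer (hc.E : Set G) with hM
  have hmem : ∀ x, x ∈ M ↔ Commute x t ∧ ∀ e ∈ hc.E, Commute x e := fun x => by
    rw [hM, Subgroup.mem_inf, Subgroup.mem_centralizer_singleton_iff, Subgroup.mem_centralizer_iff]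
    exact and_congr_right fun _ => ⟨fun h e he => (h e he).symm, fun h e he => (h e he).symm⟩
  have hconj : ∀ q ∈ NT S t, ∀ x ∈ M, q * x * q⁻¹ ∈ M := fun q hq x hx => by
    obtain ⟨h1, h2⟩ := (hmem x).1 hx
    have hqt := (mem_NT.1 hq).1
    refine (hmem _).2 ⟨(hqt.mul_left h1).mul_left hqt.inv_left, fun e he => ?_⟩
    have := (h2 _ (hc.conj_mem_E (inv_mem hq) he)).map (MulAut.conj q).toMonoidHom
    simpa [mul_assoc] using this
  have hzfix : ∀ x ∈ M, Commute x S.z → x = 1 ∨ x = t := fun x hx h =>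
    hc.cent_E_z ((hmem x).1 hx).1 h ((hmem x).1 hx).2
  have h3 : ¬ 3 ∣ Nat.card M := by
    haveI : Fact (Nat.Prime 3) := ⟨Nat.prime_three⟩
    have hzK : ∀ a ∈ Subgroup.zpowers S.z, ∀ x ∈ M, a * x * a⁻¹ ∈ M := fun a ha =>
      hconj a (T.TJ_le_NT (Subgroup.zpowers_le.2 T.z_mem_TJ ha))
    letI : MulAction (Subgroup.zpowers S.z) M :=
      { smul := fun a x => ⟨(a : G) * x * (a : G)⁻¹, hzK a a.2 x x.2⟩
        one_smul := fun x => Subtype.ext (by show (1 : G) * x * (1 : G)⁻¹ = x; group)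
        mul_smul := fun a b x => Subtype.ext (by
          show (a : G) * b * x * ((a : G) * b)⁻¹ = a * (b * x * (b : G)⁻¹) * (a : G)⁻¹; group) }
    have hpg : IsPGroup 3 (Subgroup.zpowers S.z) := IsPGroup.of_card (n := 1) (by
      rw [Nat.card_zpowers, S.z_ord, pow_one])
    have hmod := hpg.card_modEq_card_fixedPoints M
    have hfix : Nat.card (MulAction.fixedPoints (Subgroup.zpowers S.z) M) = 2 := by
      have hone : (1 : M) ∈ MulAction.fixedPoints (Subgroup.zpowers S.z) M := fun a =>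
        Subtype.ext (by show (a : G) * 1 * (a : G)⁻¹ = 1; group)
      have htK : t ∈ M := (hmem t).2 ⟨Commute.refl t, fun e he => (hc.E_comm_t he).symm⟩
      rw [Nat.card_eq_two_iff' ⟨1, hone⟩]
      refine ⟨⟨⟨t, htK⟩, fun a => Subtype.ext (show (a : G) * t * (a : G)⁻¹ = t by
        obtain ⟨n, hn⟩ := Subgroup.mem_zpowers_iff.1 a.2
        rw [← hn, ((T.comm_z.symm).zpow_left n).eq, mul_inv_cancel_right])⟩, fun h => ?_, ?_⟩
      · have h1 : t = 1 := congrArg (fun u : MulAction.fixedPoints (Subgroup.zpowers S.z) M => ((u : M) : G)) h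
        have := T.ord
        rw [h1, orderOf_one] at this
        omega
      · rintro ⟨⟨x, hx⟩, hfx⟩ hne
        have hcx : Commute x S.z := (mul_inv_eq_iff_eq_mul.1
          (congrArg Subtype.val (hfx ⟨S.z, Subgroup.mem_zpowers S.z⟩) : S.z * x * S.z⁻¹ = x)).symm
        rcases hzfix x hx hcx with rfl | rfl
        · exact absurd rfl hne
        · rfl
    rw [hfix] at hmod
    intro hd
    have := (Nat.modEq_zero_iff_dvd.2 hd).symm.trans hmod
    exact absurd this (by decide)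
  have hin : ∀ x, (x = 1 ∨ x = t) → x ∈ Subgroup.zpowers t := by
    rintro x (rfl | rfl)
    exacts [one_mem _, Subgroup.mem_zpowers _]
  have hle : M ≤ Subgroup.zpowers t := hc.le_of_QT (fun q hq => hconj q (T.QT_le_NT hq))
    (fun q hq x hx => by
      obtain ⟨n, rfl⟩ := Subgroup.mem_zpowers_iff.1 hx
      rw [((TInv.mem_QT_iff.1 hq).2.zpow_right n).eq, mul_inv_cancel_right]
      exact zpow_mem (Subgroup.mem_zpowers _) n) h3
    (fun x hx h => hin x (hzfix x hx h))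
    (fun x hx h => hin x (hc.cent_E_X' ((hmem x).1 hx).1 h ((hmem x).1 hx).2))
  obtain ⟨n, hn⟩ := Subgroup.mem_zpowers_iff.1 (hle ((hmem g).2 ⟨ht, hg⟩))
  rcases Int.emod_two_eq_zero_or_one n with h | h <;>
    rw [← zpow_mod_orderOf, T.ord, show ((2 : ℕ) : ℤ) = 2 from rfl, h] at hn
  exacts [Or.inl (by simpa using hn.symm), Or.inr (by simpa using hn.symm)]

/-- `C_{C(t)}(E) ≤ E`. -/
theorem cent_E {g : G} (ht : Commute g t) (hg : ∀ e ∈ hc.E, Commute g e) : g ∈ hc.E := by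
  rcases hc.cent_E' ht hg with rfl | rfl
  exacts [one_mem _, hc.t_mem_E]

theorem edata : S.EData t hc.E :=
  ⟨hc, hc.E_le_centralizer, hc.isExtraspecial_E, hc.card_E, hc.D_le_E,
    fun _ he h => hc.mem_D_of_commute_z he h, fun _ ht hn => hc.norm_E_of_NT (mem_NT.2 ⟨ht, hn⟩),
    fun _ ht hz => hc.mem_norm_z ht hz, fun _ ht hX => hc.mem_norm_X' ht hX⟩

/-- The extraspecial subgroup exists. -/
theorem exists_edata : ∃ E, S.EData t E := ⟨_, hc.edata⟩

end Core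

end Std

end Cfsg.Agent.U62ThreeCent
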