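/-
The endgame: from the centraliser of an involution to the conclusion on F*(G).

* `Cfg.mem_Q_of_cent` : `Q` contains its centraliser;
* `Cfg.Q_le_of_small` : `Q` lies in every normal subgroup of index at most six;
* `conclude_of_normal` : the conclusion passes up from such a subgroup;
* `conclude` : from an involution centraliser 2^(1+8).PSp4(3), or extended by 2, through `U62Rec`.
-/
import Cfsg.Agent.Lib.U62ThreeCent.Cfg
import Cfsg.Agent.Lib.U62Rec.OutMain
import Cfsg.Agent.Lib.ONanLines.FStar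
import Cfsg.Prelude.Def_Local

set_option autoImplicit false

namespace Cfsg.Agent.U62ThreeCent

open Cfsg.Agent.PSpThree
open scoped commutatorElement

theorem act2_one_eq : ∀ a : SL23, act2 a (1, 0) = (1, 0) → act2 a (0, 1) = (0, 1) → a = 1 := by
  decide +kernel

/-- The action is faithful. -/
theorem Mon.act_faithful (m : Mon) (h : ∀ v : V, Mon.act m v = v) : m = 1 := by
  rcases m with ⟨a, b, s⟩
  cases s with
  | true =>
    exfalso
    have h1 := congrArg (fun v : V => v.1.1) (h ((1, 0), (0, 0)))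
    simp [Mon.act, act2] at h1
  | false =>
    have ha := fun v : V2 => congrArg Prod.fst (h (v, (0, 0)))
    have hb := fun v : V2 => congrArg Prod.snd (h ((0, 0), v))
    simp only [Mon.act, cond_false] at ha hb
    rw [act2_one_eq a (ha _) (ha _), act2_one_eq b (hb _) (hb _)]
    rfl

theorem negOne_comm : ∃ a b : SL23, a ^ 4 = 1 ∧ b ^ 4 = 1 ∧ a * b * a⁻¹ * b⁻¹ = negOne := by decide +kernel

theorem quat_cent : ∀ a : SL23, (∀ b : SL23, b ^ 4 = 1 → a * b = b * a) → a * a = 1 := by decide +kernel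

theorem quat_conj : ∀ a b : SL23, b ^ 4 = 1 → (a * b * a⁻¹) ^ 4 = 1 := fun a b h => by
  rw [conj_pow, h, mul_one, mul_inv_cancel]

theorem act2_negOne : ∀ v : V2, act2 negOne v = -v := by decide +kernel

theorem neg_sub_self : ∀ v : V2, -v + -v = v := by decide

theorem pair_det : det2 ((1, 0) : V2) (0, 1) = 1 := by decide

namespace Cfg

variable {G : Type*} [Group G] (C : Cfg G)

/-- `Q` contains its centraliser. -/
theorem mem_Q_of_cent {c : G} (h : ∀ q ∈ C.Q, Commute c q) : c ∈ C.Q := by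
  have hc : Commute c C.z := h _ C.z_mem
  refine (C.φ_ker c hc).1 (Mon.act_faithful _ fun v => ?_)
  obtain ⟨q, hq, rfl⟩ := C.vec_surj v
  rw [← C.vec_conj c hc q hq, (h q hq).eq, mul_inv_cancel_right]

/-- An element of the centraliser acting as minus one on both planes, a commutator there. -/
theorem exists_negs : ∃ h k, Commute h C.z ∧ Commute k C.z ∧
    C.φ (h * k * h⁻¹ * k⁻¹) = ⟨negOne, negOne, false⟩ := by
  obtain ⟨a, b, ha, hb, hab⟩ := negOne_comm
  obtain ⟨h, hh, hφh⟩ := C.quat a a ha ha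
  obtain ⟨k, hk, hφk⟩ := C.quat b b hb hb
  refine ⟨h, k, hh, hk, ?_⟩
  rw [C.φ_mul _ _ ((hh.mul_left hk).mul_left hh.inv_left) hk.inv_left,
    C.φ_mul _ _ (hh.mul_left hk) hh.inv_left, C.φ_mul _ _ hh hk, C.φ_inv hh, C.φ_inv hk, hφh, hφk]
  simp [Mon.mul_def, Mon.inv_def, hab]

theorem exists_comm_z : ∃ i ∈ C.Q, ∃ j ∈ C.Q, i * j * i⁻¹ * j⁻¹ = C.z := by
  obtain ⟨i, hi, ei⟩ := C.vec_surj ((1, 0), (0, 0))
  obtain ⟨j, hj, ej⟩ := C.vec_surj ((0, 1), (0, 0))
  refine ⟨i, hi, j, hj, ?_⟩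
  rw [C.comm i hi j hj, ei, ej, show (om ((1, 0), (0, 0)) ((0, 1), (0, 0))).val = 1 by decide, pow_one]

/-- `Q` lies in a normal subgroup of index at most six. -/
theorem Q_le_of_small [Finite G] (N : Subgroup G) [N.Normal] (hidx : N.index ≤ 6) : C.Q ≤ N := by
  haveI : Fact (Nat.Prime 3) := ⟨Nat.prime_three⟩
  set π := QuotientGroup.mk' N with hπ
  have hQ : IsPGroup 3 C.Q := fun q => ⟨1, Subtype.ext (by simpa using C.cube q q.2)⟩
  obtain ⟨n, hn⟩ := IsPGroup.iff_card.1 (hQ.map π)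
  have hn1 : n ≤ 1 := by
    by_contra hcon
    have h1 : Nat.card ↥(C.Q.map π) ≤ 6 := le_trans (Subgroup.card_le_card_group _)
      (by rw [← Subgroup.index_eq_card]; exact hidx)
    have h2 : 3 ^ 2 ≤ 3 ^ n := Nat.pow_le_pow_right (by norm_num) (by omega)
    omega
  haveI : IsCyclic ↥(C.Q.map π) := by
    rcases Nat.le_one_iff_eq_zero_or_eq_one.1 hn1 with e | e
    · haveI : Subsingleton ↥(C.Q.map π) := (Nat.card_eq_one_iff_unique.1 (by rw [hn, e, pow_zero])).1
      exact isCyclic_of_subsingleton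
    · exact isCyclic_of_prime_card (p := 3) (by rw [hn, e, pow_one])
  obtain ⟨p, hp⟩ := IsCyclic.exists_generator (α := ↥(C.Q.map π))
  have hgen : ∀ x ∈ C.Q.map π, ∃ i : ℤ, x = (p : G ⧸ N) ^ i := fun x hx => by
    obtain ⟨i, hi⟩ := Subgroup.mem_zpowers_iff.1 (hp ⟨x, hx⟩)
    exact ⟨i, by simpa using (congrArg Subtype.val hi).symm⟩
  have hconj : ∀ h, Commute h C.z → ∃ i : ℤ, π h * (p : G ⧸ N) * (π h)⁻¹ = (p : G ⧸ N) ^ i := fun h hh => by
    obtain ⟨q, hq, e⟩ := p.2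
    exact hgen _ ⟨h * q * h⁻¹, C.conj_mem h hh q hq, by rw [← e, map_mul, map_mul, map_inv]⟩
  have hswap : ∀ h k, Commute h C.z → Commute k C.z →
      π h * π k * (p : G ⧸ N) * (π h * π k)⁻¹ = π k * π h * (p : G ⧸ N) * (π k * π h)⁻¹ := by
    intro h k hh hk
    obtain ⟨i, hi⟩ := hconj h hh
    obtain ⟨j, hj⟩ := hconj k hk
    calc π h * π k * (p : G ⧸ N) * (π h * π k)⁻¹ = π h * (π k * p * (π k)⁻¹) * (π h)⁻¹ := by group
      _ = ((p : G ⧸ N) ^ i) ^ j := by rw [hj, ← conj_zpow, hi]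
      _ = ((p : G ⧸ N) ^ j) ^ i := by rw [← zpow_mul, ← zpow_mul, mul_comm]
      _ = π k * (π h * p * (π h)⁻¹) * (π k)⁻¹ := by rw [hi, ← conj_zpow, hj]
      _ = _ := by group
  obtain ⟨h, k, hh, hk, ht⟩ := C.exists_negs
  set t := h * k * h⁻¹ * k⁻¹ with htdef
  have htz : Commute t C.z := ((hh.mul_left hk).mul_left hh.inv_left).mul_left hk.inv_left
  have hfix : ∀ x ∈ C.Q.map π, π t * x * (π t)⁻¹ = x := by
    have hp' : π t * (p : G ⧸ N) * (π t)⁻¹ = p := by
      have e := hswap h⁻¹ k⁻¹ hh.inv_left hk.inv_left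
      calc π t * (p : G ⧸ N) * (π t)⁻¹
          = π h * π k * (π h⁻¹ * π k⁻¹ * p * (π h⁻¹ * π k⁻¹)⁻¹) * (π h * π k)⁻¹ := by
            simp only [htdef, map_mul, map_inv]; group
        _ = π h * π k * (π k⁻¹ * π h⁻¹ * p * (π k⁻¹ * π h⁻¹)⁻¹) * (π h * π k)⁻¹ := by rw [e]
        _ = p := by simp only [map_inv]; group
    intro x hx
    obtain ⟨i, rfl⟩ := hgen x hx
    rw [← conj_zpow, hp']
  have hz : π C.z = 1 := by
    obtain ⟨i, hi, j, hj, e⟩ := C.exists_comm_z
    obtain ⟨a, ha⟩ := hgen (π i) ⟨i, hi, rfl⟩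
    obtain ⟨b, hb⟩ := hgen (π j) ⟨j, hj, rfl⟩
    rw [← e, map_mul, map_mul, map_mul, map_inv, map_inv, ha, hb, ← zpow_neg, ← zpow_neg, ← zpow_add, ← zpow_add,
      ← zpow_add, show a + b + -a + -b = 0 by ring, zpow_zero]
  intro q hq
  set r := t * q * t⁻¹ * q⁻¹ with hr
  have hrQ : r ∈ C.Q := mul_mem (C.conj_mem t htz q hq) (inv_mem hq)
  have hvec : C.vec (r * q⁻¹) = 0 := by
    rw [hr, C.vec_mul _ hrQ _ (inv_mem hq), C.vec_mul _ (C.conj_mem t htz q hq) _ (inv_mem hq), C.vec_inv hq,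
      C.vec_conj t htz q hq, ht]
    refine Prod.ext ?_ ?_ <;>
      simp only [Mon.act, act2_negOne, cond_false, Prod.fst_add, Prod.snd_add, Prod.fst_neg, Prod.snd_neg,
        neg_sub_self, add_neg_cancel, Prod.fst_zero, Prod.snd_zero]
  obtain ⟨i, hi⟩ := Subgroup.mem_zpowers_iff.1 ((C.vec_ker _ (mul_mem hrQ (inv_mem hq))).1 hvec)
  have h1 : π r = 1 := by
    rw [hr, map_mul, map_mul, map_mul, map_inv, map_inv, hfix _ ⟨q, hq, rfl⟩, mul_inv_cancel]
  have h2 : π (r * q⁻¹) = 1 := by rw [← hi, map_zpow, hz, one_zpow]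
  rw [map_mul, h1, one_mul, map_inv, inv_eq_one] at h2
  exact (QuotientGroup.eq_one_iff q).1 h2

end Cfg

universe u

/-- The conclusion passes up from a normal subgroup of index at most six. -/
theorem conclude_of_normal {G : Type u} [Group G] [Finite G] (C : Cfg G) (N : Subgroup G) [N.Normal]
    (hidx : N.index ≤ 6)
    (h : (∃ (F : Type) (_ : Field F) (_ : Fintype F), Fintype.card F = 4 ∧
        Nonempty (↥(Cfsg.generalizedFittingSubgroup ↥N) ≃* Cfsg.PSU 6 F 2)) ∧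
      Subgroup.centralizer ((Cfsg.generalizedFittingSubgroup ↥N : Subgroup ↥N) : Set ↥N) = ⊥) :
    (∃ (F : Type) (_ : Field F) (_ : Fintype F), Fintype.card F = 4 ∧
        Nonempty (↥(Cfsg.generalizedFittingSubgroup G) ≃* Cfsg.PSU 6 F 2)) ∧
      Subgroup.centralizer ((Cfsg.generalizedFittingSubgroup G : Subgroup G) : Set G) = ⊥ := by
  obtain ⟨⟨F, instF, instFF, hF, ⟨e⟩⟩, hc⟩ := h
  set L : Subgroup G := (Cfsg.generalizedFittingSubgroup ↥N).map N.subtype with hL
  let eL : ↥L ≃* Cfsg.PSU 6 F 2 :=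
    ((Cfsg.generalizedFittingSubgroup ↥N).equivMapOfInjective N.subtype N.subtype_injective).symm.trans e
  have hcentN : Subgroup.centralizer (N : Set G) = ⊥ := by
    refine (Subgroup.eq_bot_iff_forall _).2 fun c hc' => ?_
    have hQN := C.Q_le_of_small N hidx
    have hcN : c ∈ N := hQN (C.mem_Q_of_cent fun q hq =>
      (Subgroup.mem_centralizer_iff.1 hc' q (hQN hq)).symm)
    have h1 : (⟨c, hcN⟩ : ↥N) ∈
        Subgroup.centralizer ((Cfsg.generalizedFittingSubgroup ↥N : Subgroup ↥N) : Set ↥N) :=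
      Subgroup.mem_centralizer_iff.2 fun x _ => Subtype.ext (Subgroup.mem_centralizer_iff.1 hc' x x.2)
    rw [hc, Subgroup.mem_bot] at h1
    exact congrArg Subtype.val h1
  have hcentL : Subgroup.centralizer (L : Set G) = ⊥ := by
    have hinf : Subgroup.centralizer (L : Set G) ⊓ N = ⊥ := by
      refine (Subgroup.eq_bot_iff_forall _).2 fun c hc' => ?_
      have h1 : (⟨c, hc'.2⟩ : ↥N) ∈
          Subgroup.centralizer ((Cfsg.generalizedFittingSubgroup ↥N : Subgroup ↥N) : Set ↥N) :=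
        Subgroup.mem_centralizer_iff.2 fun x hx =>
          Subtype.ext (Subgroup.mem_centralizer_iff.1 hc'.1 x ⟨x, hx, rfl⟩)
      rw [hc, Subgroup.mem_bot] at h1
      exact congrArg Subtype.val h1
    rw [eq_bot_iff, ← hcentN]
    exact fun c hc' => Subgroup.mem_centralizer_iff.2 fun n hn =>
      (Subgroup.commute_of_normal_of_disjoint _ N inferInstance inferInstance
        (disjoint_iff.2 hinf) c n hc' hn).symm.eq
  haveI : IsSimpleGroup (Cfsg.PSU 6 F 2) :=
    Unitary.isSimpleGroup_PSU (q := 2) (by rw [hF]; norm_num) (Or.inl (by norm_num))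
  haveI : IsSimpleGroup ↥L := eL.isSimpleGroup
  have hna : ¬ IsMulCommutative ↥L := fun hcomm => by
    obtain ⟨x, hx⟩ := exists_ne (1 : ↥L)
    refine hx (Subtype.ext ?_)
    rw [Subgroup.coe_one, ← Subgroup.mem_bot, ← hcentL]
    exact Subgroup.mem_centralizer_iff.2 fun y hy => congrArg Subtype.val (hcomm.1.1 ⟨y, hy⟩ x)
  rw [ONanLines.genFitting_eq_of_simple L hna hcentL]
  exact ⟨⟨F, instF, instFF, hF, ⟨eL⟩⟩, hcentL⟩

/-- From the centraliser of the involution to the conclusion. -/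
theorem conclude {G : Type u} [Group G] [Finite G] (C : Cfg G) {t : G} (ht : orderOf t = 2)
    (htz : Commute t C.z) (hφ : C.φ t = ⟨negOne, 1, false⟩)
    (J : Subgroup (Subgroup.centralizer ({t} : Set G))) [J.Normal] (hJ : Cfsg.IsExtraspecial 2 ↥J)
    (hJc : Nat.card J = 2 ^ 9)
    (hCJ : Subgroup.centralizer (J : Set (Subgroup.centralizer ({t} : Set G))) ≤ J)
    (e : Nonempty ((Subgroup.centralizer ({t} : Set G)) ⧸ J ≃* Cfsg.PSp 2 (ZMod 3)) ∨
      Nonempty ((Subgroup.centralizer ({t} : Set G)) ⧸ J ≃* MulAut (Cfsg.PSp 2 (ZMod 3)))) :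
    (∃ (F : Type) (_ : Field F) (_ : Fintype F), Fintype.card F = 4 ∧
        Nonempty (↥(Cfsg.generalizedFittingSubgroup G) ≃* Cfsg.PSU 6 F 2)) ∧
      Subgroup.centralizer ((Cfsg.generalizedFittingSubgroup G : Subgroup G) : Set G) = ⊥ := by
  classical
  -- the isolated case
  have hiso : Subgroup.centralizer ({t} : Set G) ⊔ Cfsg.oddCore G ≠ ⊤ := by
    intro htop
    set O := Cfsg.oddCore G
    haveI hOn : O.Normal := Cores.pPrimeCore_normal 2 G
    have hcomm : ∀ g : G, g * t * g⁻¹ * t⁻¹ ∈ O := by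
      intro g
      obtain ⟨o, ho, c, hc, rfl⟩ := Subgroup.mem_sup_of_normal_left.1
        (show g ∈ O ⊔ Subgroup.centralizer ({t} : Set G) by rw [sup_comm, htop]; exact Subgroup.mem_top g)
      rw [show o * c * t * (o * c)⁻¹ * t⁻¹ = o * (c * t * c⁻¹) * o⁻¹ * t⁻¹ by group,
        Subgroup.mem_centralizer_singleton_iff.1 hc, mul_inv_cancel_right,
        show o * t * o⁻¹ * t⁻¹ = o * (t * o⁻¹ * t⁻¹) by group]
      exact mul_mem ho (hOn.conj_mem _ (inv_mem ho) t)
    have hfirst : ∀ v : V2, ∃ q ∈ C.Q ⊓ O, C.vec q = (v, 0) := fun v => by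
      obtain ⟨q, hq, hv⟩ := C.vec_surj (v, 0)
      refine ⟨t * q * t⁻¹ * q⁻¹, ⟨C.Q.mul_mem (C.conj_mem t htz q hq) (C.Q.inv_mem hq), ?_⟩, ?_⟩
      · rw [show t * q * t⁻¹ * q⁻¹ = (q * t * q⁻¹ * t⁻¹)⁻¹ by group]
        exact O.inv_mem (hcomm q)
      · rw [C.vec_mul _ (C.conj_mem t htz q hq) _ (inv_mem hq), C.vec_inv hq, C.vec_conj t htz q hq, hφ, hv]
        refine Prod.ext ?_ ?_
        · simp only [Mon.act, act2_negOne, cond_false, Prod.fst_add, Prod.fst_neg, neg_sub_self]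
        · simp [Mon.act, act2]
    have hzO : C.z ∈ O := by
      obtain ⟨i, ⟨hi, hiO⟩, ei⟩ := hfirst (1, 0)
      obtain ⟨j, ⟨hj, hjO⟩, ej⟩ := hfirst (0, 1)
      have h := C.comm i hi j hj
      rw [ei, ej, show (om ((1, 0), 0) ((0, 1), 0)).val = 1 by decide, pow_one] at h
      rw [← h]
      exact mul_mem (mul_mem (mul_mem hiO hjO) (inv_mem hiO)) (inv_mem hjO)
    obtain ⟨g, hg, hgQ⟩ := C.nwc
    set r := g * C.z * g⁻¹
    have hrO : r ∈ O := hOn.conj_mem _ hzO g
    -- the image commutes with the two quaternion groups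
    have hquat : ∀ a b : SL23, a ^ 4 = 1 → b ^ 4 = 1 →
        C.φ r * ⟨a, b, false⟩ = ⟨a, b, false⟩ * C.φ r := by
      intro a b ha hb
      obtain ⟨h, hh, hφh⟩ := C.quat a b ha hb
      set x := r * h * r⁻¹ * h⁻¹ with hx
      have hxO : x ∈ O := by
        rw [show x = r * (h * r⁻¹ * h⁻¹) by rw [hx]; group]
        exact mul_mem hrO (hOn.conj_mem _ (inv_mem hrO) h)
      have hxz : Commute x C.z := ((hg.mul_left hh).mul_left hg.inv_left).mul_left hh.inv_left
      obtain ⟨a', b', ha', hb', hφx⟩ : ∃ a' b' : SL23, a' ^ 4 = 1 ∧ b' ^ 4 = 1 ∧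
          C.φ r * ⟨a, b, false⟩ * (C.φ r)⁻¹ = ⟨a', b', false⟩ := by
        rcases C.φ r with ⟨p, q, s⟩
        cases s
        · exact ⟨_, _, quat_conj p a ha, quat_conj q b hb, rfl⟩
        · exact ⟨_, _, quat_conj p b hb, quat_conj q a ha, rfl⟩
      have hφx' : C.φ x = ⟨a' * a⁻¹, b' * b⁻¹, false⟩ := by
        rw [hx, C.φ_mul _ _ ((hg.mul_left hh).mul_left hg.inv_left) hh.inv_left,
          C.φ_mul _ _ (hg.mul_left hh) hg.inv_left, C.φ_mul _ _ hg hh, C.φ_inv hg, C.φ_inv hh, hφh, hφx]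
        rfl
      have hpow : C.φ x ^ 4 = 1 := by
        have key : ∀ a b : SL23, a ^ 4 = 1 → b ^ 4 = 1 → (a * b⁻¹) ^ 4 = 1 := by decide +kernel
        have e4 : ∀ u v : SL23, (⟨u, v, false⟩ : Mon) ^ 4 = ⟨u ^ 4, v ^ 4, false⟩ := fun u v => by
          simp [pow_succ, Mon.mul_def, mul_assoc]
        rw [hφx', e4, key _ _ ha' ha, key _ _ hb' hb]; rfl
      have hpowm : ∀ (y : G), Commute y C.z → ∀ n : ℕ, C.φ (y ^ n) = C.φ y ^ n := fun y hy n => by
        induction n with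
        | zero => rw [pow_zero, pow_zero, C.φ_one]
        | succ n ih => rw [pow_succ, pow_succ, C.φ_mul _ _ (hy.pow_left n) hy, ih]
      have hodd : Nat.Coprime (orderOf (C.φ x)) 4 := by
        have hd : orderOf (C.φ x) ∣ orderOf x := orderOf_dvd_of_pow_eq_one (by
          rw [← hpowm x hxz, pow_orderOf_eq_one, C.φ_one])
        have h2 : Nat.Coprime (orderOf x) 2 :=
          (Cores.coprime_card_pPrimeCore 2).of_dvd_left (Subgroup.orderOf_dvd_natCard O hxO)
        exact ((Nat.Coprime.pow_right 2 h2).of_dvd_left hd)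
      have h1 : C.φ x = 1 :=
        orderOf_eq_one_iff.1 (hodd.eq_one_of_dvd (orderOf_dvd_of_pow_eq_one hpow))
      rw [hx, C.φ_mul _ _ ((hg.mul_left hh).mul_left hg.inv_left) hh.inv_left,
        C.φ_mul _ _ (hg.mul_left hh) hg.inv_left, C.φ_mul _ _ hg hh, C.φ_inv hg, C.φ_inv hh, hφh,
        mul_inv_eq_one, mul_inv_eq_iff_eq_mul] at h1
      exact h1
    have hsq : C.φ r * C.φ r = 1 := by
      revert hquat
      generalize C.φ r = m
      intro hquat
      rcases m with ⟨p, q, s⟩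
      cases s with
      | true =>
        exfalso
        have h1 := congrArg Mon.a (hquat negOne 1 (by decide +kernel) (one_pow _))
        simp [Mon.mul_def] at h1
        exact absurd h1 (by decide +kernel)
      | false =>
        refine Mon.ext ?_ ?_ rfl
        · exact quat_cent p fun b hb => congrArg Mon.a (hquat b 1 hb (one_pow _))
        · exact quat_cent q fun b hb => congrArg Mon.b (hquat 1 b (one_pow _) hb)
    refine hgQ ((C.φ_ker r hg).1 ?_)
    have h3 : r ^ 3 = 1 := by rw [conj_pow, C.z_pow]; group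
    have : C.φ (r ^ 3) = C.φ r * C.φ r * C.φ r := by
      rw [pow_succ, pow_succ, pow_one, C.φ_mul _ _ (hg.mul_left hg) hg, C.φ_mul _ _ hg hg]
    rw [h3, C.φ_one, hsq, one_mul] at this
    exact this.symm
  -- the two outcomes
  have hF : Fintype.card U62Rec.K = 4 := U62Rec.cardK
  obtain ⟨f⟩ := U62Rec.exists_U4_equiv (ZMod 3) (ZMod.card 3)
  haveI : IsSimpleGroup (Cfsg.PSU 6 U62Rec.K 2) :=
    Unitary.isSimpleGroup_PSU (q := 2) (by rw [hF]; norm_num) (Or.inl (by norm_num))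
  have finish : ∀ M : Subgroup G, M.Normal → Nonempty (↥M ≃* Cfsg.PSU 6 U62Rec.K 2) →
      Subgroup.centralizer (M : Set G) = ⊥ →
      (∃ (F : Type) (_ : Field F) (_ : Fintype F), Fintype.card F = 4 ∧
        Nonempty (↥(Cfsg.generalizedFittingSubgroup G) ≃* Cfsg.PSU 6 F 2)) ∧
      Subgroup.centralizer ((Cfsg.generalizedFittingSubgroup G : Subgroup G) : Set G) = ⊥ := by
    rintro M hM ⟨eM⟩ hcM
    haveI : IsSimpleGroup ↥M := eM.isSimpleGroup
    have hna : ¬ IsMulCommutative ↥M := fun hcomm => by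
      obtain ⟨x, hx⟩ := exists_ne (1 : ↥M)
      refine hx (Subtype.ext ?_)
      rw [Subgroup.coe_one, ← Subgroup.mem_bot, ← hcM]
      exact Subgroup.mem_centralizer_iff.2 fun y hy => congrArg Subtype.val (hcomm.1.1 ⟨y, hy⟩ x)
    rw [ONanLines.genFitting_eq_of_simple M hna hcM]
    exact ⟨⟨U62Rec.K, inferInstance, inferInstance, hF, ⟨eM⟩⟩, hcM⟩
  rcases e with ⟨⟨e1⟩⟩ | ⟨⟨e2⟩⟩
  · rcases U62Rec.recognise ht J hJ hJc hCJ (e1.trans f) U62Rec.K hF with ⟨⟨eG⟩⟩ | h
    · refine finish ⊤ inferInstance ⟨Subgroup.topEquiv.trans eG⟩ ?_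
      haveI : IsSimpleGroup G := eG.isSimpleGroup
      rw [Subgroup.coe_top, Subgroup.centralizer_univ]
      refine ((Subgroup.Normal.eq_bot_or_eq_top inferInstance)).resolve_right fun htop => ?_
      exact hiso (eq_top_iff.2 (le_trans (fun g _ => Subgroup.mem_centralizer_singleton_iff.2
        ((Subgroup.mem_center_iff.1 (htop ▸ Subgroup.mem_top t)) g)) le_sup_left))
    · exact absurd h hiso
  · obtain ⟨E, hout⟩ := U62Rec.exists_ext ht J hJ hJc hCJ (e2.trans (MulAut.congr f))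
    rcases E.psu_or_isolated hout U62Rec.K hF with ⟨M, hM2, hM, hcM⟩ | h
    · exact finish M (Subgroup.normal_of_index_eq_two hM2) hM hcM
    · exact absurd h hiso

end Cfsg.Agent.U62ThreeCent
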