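/-
The configuration of a group with a 3-centraliser of the shape of PSU(6,2).

* `exists_cfg` : from the hypotheses of the recognition statement to `Cfg`.
-/
import Cfsg.Prelude.Def_Local
import Cfsg.Prelude.Def_Transfer
import Cfsg.Agent.Lib.U62ThreeCent.Coord
import Cfsg.Agent.Lib.Extraspecial.Basic
import Cfsg.Agent.Lib.Symplectic.GFit
import Cfsg.Agent.Lib.Symplectic.Basic

set_option autoImplicit false

namespace Cfsg.Agent.U62ThreeCent

open scoped commutatorElement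

theorem quat_pow_four : ∀ x : QuaternionGroup 2, x ^ 4 = 1 := by decide +kernel

theorem quat_facts : (QuaternionGroup.a 2 : QuaternionGroup 2) * QuaternionGroup.a 2 = 1 ∧
    (QuaternionGroup.a 2 : QuaternionGroup 2) ≠ 1 ∧
    ∀ x : QuaternionGroup 2, x * QuaternionGroup.a 2 = QuaternionGroup.a 2 * x := by decide +kernel

/-- The configuration from the hypotheses. -/
theorem exists_cfg {G : Type*} [Group G] [Finite G] (Z : Subgroup G) (hZ3 : Nat.card ↥Z = 3) (H : Subgroup G)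
    (hH : H = Subgroup.centralizer (Z : Set G))
    (hQ : Cfsg.IsExtraspecial 3 ↥(Cfsg.generalizedFittingSubgroup ↥H))
    (hQord : Nat.card ↥(Cfsg.generalizedFittingSubgroup ↥H) = 3 ^ 5)
    (hZ : Subgroup.center ↥(Cfsg.generalizedFittingSubgroup ↥H) =
      (Subgroup.center ↥H).subgroupOf (Cfsg.generalizedFittingSubgroup ↥H))
    (hN : ∃ _ : (Cfsg.generalizedFittingSubgroup ↥H).Normal,
      ∃ N : Subgroup (↥H ⧸ Cfsg.generalizedFittingSubgroup ↥H),
        N.Normal ∧ Nonempty (↥N ≃* QuaternionGroup 2 × QuaternionGroup 2))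
    (hwc : Cfsg.IsWeaklyClosed Z ((Cfsg.generalizedFittingSubgroup ↥H).map H.subtype))
    (hnwc : ¬ Cfsg.IsWeaklyClosed Z H) :
    ∃ C : Cfg G, Z = Subgroup.zpowers C.z ∧ C.Q = (Cfsg.generalizedFittingSubgroup ↥H).map H.subtype := by
  classical
  have : Fact (Nat.Prime 3) := ⟨Nat.prime_three⟩
  have : Fact (Nat.Prime 2) := ⟨Nat.prime_two⟩
  obtain ⟨hn, N, hNn, ⟨e⟩⟩ := hN
  have hcQ : Subgroup.centralizer (Cfsg.generalizedFittingSubgroup ↥H : Set ↥H) ≤
      Cfsg.generalizedFittingSubgroup ↥H := Cfsg.Agent.Symplectic.centralizer_generalizedFitting_le ↥H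
  have hcenle : Subgroup.center ↥H ≤ Cfsg.generalizedFittingSubgroup ↥H :=
    Cfsg.Agent.Symplectic.center_le_generalizedFitting ↥H
  set Q₀ := Cfsg.generalizedFittingSubgroup ↥H with hQ₀
  -- the generator
  obtain ⟨z, hzZ, hzo⟩ : ∃ z, z ∈ Z ∧ orderOf z = 3 := by
    obtain ⟨x, hx⟩ := exists_prime_orderOf_dvd_card' (G := ↥Z) 3 (by rw [hZ3])
    exact ⟨x, x.2, by rw [← hx, Subgroup.orderOf_coe]⟩
  have hZz : Z = Subgroup.zpowers z :=
    (Subgroup.eq_of_le_of_card_ge (Subgroup.zpowers_le.2 hzZ) (by rw [Nat.card_zpowers, hzo, hZ3])).symm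
  have memH : ∀ g : G, g ∈ H ↔ Commute g z := fun g => by
    rw [hH, Subgroup.mem_centralizer_iff]
    constructor
    · exact fun h => (h z hzZ).symm
    · intro h x hx
      rw [hZz] at hx
      obtain ⟨k, rfl⟩ := hx
      exact (h.zpow_right k).eq.symm
  have hzH : z ∈ H := (memH z).2 (Commute.refl z)
  have hzc : (⟨z, hzH⟩ : ↥H) ∈ Subgroup.center ↥H :=
    Subgroup.mem_center_iff.2 fun g => Subtype.ext ((memH g.1).1 g.2).eq
  have hzQ : (⟨z, hzH⟩ : ↥H) ∈ Q₀ := hcenle hzc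
  -- the centre
  have hcen : ∀ x : ↥Q₀, x ∈ Subgroup.center ↥Q₀ → ((x : ↥H) : G) ∈ Subgroup.zpowers z := by
    have hm : (⟨⟨z, hzH⟩, hzQ⟩ : ↥Q₀) ∈ Subgroup.center ↥Q₀ := by rw [hZ]; exact hzc
    have ho : orderOf (⟨⟨z, hzH⟩, hzQ⟩ : ↥Q₀) = 3 := by
      rw [← Subgroup.orderOf_coe, ← Subgroup.orderOf_coe]; exact hzo
    have heq : Subgroup.zpowers (⟨⟨z, hzH⟩, hzQ⟩ : ↥Q₀) = Subgroup.center ↥Q₀ :=
      Subgroup.eq_of_le_of_card_ge (Subgroup.zpowers_le.2 hm) (by rw [hQ.2, Nat.card_zpowers, ho])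
    intro x hx
    rw [← heq] at hx
    obtain ⟨k, rfl⟩ := hx
    exact ⟨k, by simp⟩
  set Qg : Subgroup G := Q₀.map H.subtype with hQg
  have memQ : ∀ {g : G}, g ∈ Qg → ∃ h : g ∈ H, (⟨g, h⟩ : ↥H) ∈ Q₀ := by
    rintro _ ⟨x, hx, rfl⟩
    exact ⟨x.2, hx⟩
  have toQ : ∀ {g : G} (h : g ∈ H), (⟨g, h⟩ : ↥H) ∈ Q₀ → g ∈ Qg := fun h hm => ⟨_, hm, rfl⟩
  -- a Sylow 2-subgroup of the preimage of `N`
  set P₀ : Subgroup ↥H := N.comap (QuotientGroup.mk' Q₀) with hP₀
  have hP₀n : P₀.Normal := hNn.comap _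
  have hNcard : Nat.card ↥N = 64 := by
    rw [Nat.card_congr e.toEquiv, Nat.card_prod, Nat.card_eq_fintype_card, QuaternionGroup.card]
  obtain ⟨S⟩ : Nonempty (Sylow 2 ↥P₀) := inferInstance
  set f : ↥P₀ →* ↥N := (QuotientGroup.mk' Q₀).subgroupComap N with hf
  have hfs : Function.Surjective f := by
    rintro ⟨q, hq⟩
    obtain ⟨x, rfl⟩ := QuotientGroup.mk'_surjective Q₀ q
    exact ⟨⟨x, hq⟩, rfl⟩
  have hfk : ∀ x : ↥P₀, f x = 1 ↔ (x : ↥H) ∈ Q₀ := fun x => by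
    rw [Subtype.ext_iff]; exact QuotientGroup.eq_one_iff _
  have hQP : Q₀ ≤ P₀ := fun x hx => by
    show (x : ↥H ⧸ Q₀) ∈ N
    rw [(QuotientGroup.eq_one_iff x).2 hx]; exact one_mem _
  have hkcard : Nat.card ↥f.ker = 243 := by
    have : f.ker = Q₀.subgroupOf P₀ := by ext x; exact hfk x
    rw [this, Nat.card_congr (Subgroup.subgroupOfEquivOfLe hQP).toEquiv, hQord]; norm_num
  have hPcard : Nat.card ↥P₀ = 243 * 64 := by
    rw [← Subgroup.card_mul_index f.ker, hkcard, Subgroup.index_ker, MonoidHom.range_eq_top.2 hfs,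
      Subgroup.card_top, hNcard]
  have hScard : Nat.card ↥(S : Subgroup ↥P₀) = 64 := by
    rw [Sylow.card_eq_multiplicity, hPcard, show (243 * 64 : ℕ) = 2 ^ 6 * 243 by norm_num,
      Nat.factorization_mul (by norm_num) (by norm_num), Finsupp.add_apply,
      Nat.factorization_eq_zero_of_not_dvd (n := 243) (by norm_num), add_zero,
      Nat.Prime.factorization_pow Nat.prime_two, Finsupp.single_eq_same]
    norm_num
  set f₁ : ↥(S : Subgroup ↥P₀) →* ↥N := f.comp (S : Subgroup ↥P₀).subtype with hf₁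
  have hf₁i : Function.Injective f₁ := by
    rw [injective_iff_map_eq_one]
    intro x hx
    have h1 : orderOf (x : ↥P₀) ∣ 243 := hkcard ▸ Subgroup.orderOf_dvd_natCard f.ker hx
    have h2 : orderOf (x : ↥P₀) ∣ 64 := hScard ▸ Subgroup.orderOf_dvd_natCard _ x.2
    have h3 : orderOf (x : ↥P₀) = 1 := Nat.dvd_one.1 ((Nat.dvd_gcd h1 h2).trans (by norm_num))
    exact Subtype.ext (orderOf_eq_one_iff.1 h3)
  have hf₁b : Function.Bijective f₁ :=
    (Nat.bijective_iff_injective_and_card f₁).2 ⟨hf₁i, by rw [hScard, hNcard]⟩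
  let ψ : ↥(S : Subgroup ↥P₀) ≃* QuaternionGroup 2 × QuaternionGroup 2 :=
    (MulEquiv.ofBijective f₁ hf₁b).trans e
  set ι : ↥(S : Subgroup ↥P₀) →* G := (H.subtype.comp P₀.subtype).comp (S : Subgroup ↥P₀).subtype with hι
  have hιi : Function.Injective ι :=
    (Subtype.val_injective.comp Subtype.val_injective).comp Subtype.val_injective
  obtain ⟨qa, qne, qc⟩ := quat_facts
  have hP : Nonempty {P : Pre G // P.z = z ∧ P.Q = Qg} := by
    refine ⟨⟨{
      z := z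
      Q := Qg
      S := ι.range
      c₁ := ι (ψ.symm (QuaternionGroup.a 2, 1))
      c₂ := ι (ψ.symm (1, QuaternionGroup.a 2))
      z_ord := hzo
      z_mem := toQ hzH hzQ
      Q_le := ?_
      conj_mem := ?_
      card_Q := ?_
      comm_mem := ?_
      center := ?_
      cube_mem := ?_
      self_cent := ?_
      S_le := ?_
      S_card := ?_
      S_exp := ?_
      S_norm := ?_
      c₁_mem := ⟨_, rfl⟩
      c₂_mem := ⟨_, rfl⟩
      c₁_sq := ?_
      c₂_sq := ?_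
      c₁_ne := ?_
      c₂_ne := ?_
      c₁₂ := ?_
      c₁_central := ?_
      c₂_central := ?_ }, rfl, rfl⟩⟩
    · intro q hq
      exact (memH q).1 (memQ hq).1
    · intro h hh q hq
      obtain ⟨hqH, hq'⟩ := memQ hq
      have := hn.conj_mem ⟨q, hqH⟩ hq' ⟨h, (memH h).2 hh⟩
      exact ⟨_, this, rfl⟩
    · rw [hQg, Subgroup.card_map_of_injective Subtype.val_injective, hQord]; norm_num
    · intro i hi j hj
      obtain ⟨hiH, hi'⟩ := memQ hi
      obtain ⟨hjH, hj'⟩ := memQ hj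
      exact hcen _ (Extraspecial.commutatorElement_mem_center hQ (⟨⟨i, hiH⟩, hi'⟩ : ↥Q₀) ⟨⟨j, hjH⟩, hj'⟩)
    · intro q hq hall
      obtain ⟨hqH, hq'⟩ := memQ hq
      refine hcen ⟨⟨q, hqH⟩, hq'⟩ (Subgroup.mem_center_iff.2 fun r => ?_)
      exact Subtype.ext (Subtype.ext (hall _ ⟨r.1, r.2, rfl⟩))
    · intro q hq
      obtain ⟨hqH, hq'⟩ := memQ hq
      simpa using hcen _ (Extraspecial.pow_mem_center hQ (⟨⟨q, hqH⟩, hq'⟩ : ↥Q₀))
    · intro h hh hall
      refine toQ ((memH h).2 hh) (hcQ (Subgroup.mem_centralizer_iff.2 fun q hq => ?_))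
      exact Subtype.ext (hall _ ⟨q, hq, rfl⟩).symm
    · rintro _ ⟨s, rfl⟩
      exact (memH _).1 ((s : ↥P₀) : ↥H).2
    · rw [Nat.card_congr (MonoidHom.ofInjective hιi).symm.toEquiv, hScard]
    · rintro _ ⟨s, rfl⟩
      rw [← map_pow]
      have : ψ (s ^ 4) = 1 := by rw [map_pow]; ext <;> simp [quat_pow_four]
      rw [(MulEquiv.map_eq_one_iff ψ).1 this, map_one]
    · rintro h hh _ ⟨s, rfl⟩
      have hm : (⟨h, (memH h).2 hh⟩ : ↥H) * ((s : ↥P₀) : ↥H) * (⟨h, (memH h).2 hh⟩ : ↥H)⁻¹ ∈ P₀ :=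
        hP₀n.conj_mem _ (s : ↥P₀).2 _
      obtain ⟨s', hs'⟩ := hf₁b.2 (f ⟨_, hm⟩)
      refine ⟨ι s', ⟨s', rfl⟩, ?_⟩
      have h1 : f (⟨_, hm⟩ * (s' : ↥P₀)⁻¹) = 1 := by
        rw [map_mul, map_inv, show f (s' : ↥P₀) = f ⟨_, hm⟩ from hs', mul_inv_cancel]
      exact ⟨_, (hfk _).1 h1, by simp [hι]⟩
    · rw [← map_mul, ← map_mul, Prod.mk_mul_mk, qa, one_mul, ← Prod.one_eq_mk, map_one, map_one]
    · rw [← map_mul, ← map_mul, Prod.mk_mul_mk, qa, one_mul, ← Prod.one_eq_mk, map_one, map_one]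
    · intro h
      have h' := ψ.symm.injective ((hιi (h.trans (map_one ι).symm)).trans (map_one ψ.symm).symm)
      exact qne (congrArg Prod.fst h')
    · intro h
      have h' := ψ.symm.injective ((hιi (h.trans (map_one ι).symm)).trans (map_one ψ.symm).symm)
      exact qne (congrArg Prod.snd h')
    · intro h
      exact qne (congrArg Prod.fst (ψ.symm.injective (hιi h)))
    · rintro _ ⟨s, rfl⟩
      rw [← map_mul, ← map_mul]
      congr 1
      apply ψ.injective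
      rw [map_mul, map_mul, MulEquiv.apply_symm_apply]
      exact Prod.ext (qc _) ((mul_one _).trans (one_mul _).symm)
    · rintro _ ⟨s, rfl⟩
      rw [← map_mul, ← map_mul]
      congr 1
      apply ψ.injective
      rw [map_mul, map_mul, MulEquiv.apply_symm_apply]
      exact Prod.ext ((mul_one _).trans (one_mul _).symm) (qc _)
  obtain ⟨P, hPz, hPQ⟩ := hP
  have hmap : ∀ g : G, Z.map (MulAut.conj g).toMonoidHom = Subgroup.zpowers (g * z * g⁻¹) := fun g => by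
    rw [hZz, MonoidHom.map_zpowers]; rfl
  have hwc' : ∀ g : G, g * z * g⁻¹ ∈ Qg → g * z * g⁻¹ ∈ Subgroup.zpowers z := fun g hg => by
    have h := hwc.2 g (by rw [hmap]; exact Subgroup.zpowers_le.2 hg)
    rw [hmap, hZz] at h
    exact h ▸ Subgroup.mem_zpowers _
  have hZH : Z ≤ H := by rw [hZz]; exact Subgroup.zpowers_le.2 hzH
  have hnwc' : ∃ g : G, Commute (g * z * g⁻¹) z ∧ g * z * g⁻¹ ∉ Qg := by
    by_contra hne
    push Not at hne
    refine hnwc ⟨hZH, fun g hg => ?_⟩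
    rw [hmap] at hg ⊢
    have h := hwc' g (hne g ((memH _).1 (hg (Subgroup.mem_zpowers _))))
    rw [hZz]
    exact Subgroup.eq_of_le_of_card_ge (Subgroup.zpowers_le.2 h)
      (by rw [Nat.card_zpowers, Nat.card_zpowers]; exact (orderOf_injective (MulAut.conj g).toMonoidHom (MulAut.conj g).injective z).symm.le)
  obtain ⟨C, hCz, hCQ⟩ := exists_coords P (by rw [hPz, hPQ]; exact hwc') (by rw [hPz, hPQ]; exact hnwc')
  exact ⟨C, by rw [hCz, hPz, hZz], by rw [hCQ, hPQ]⟩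

end Cfsg.Agent.U62ThreeCent
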