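/-
The reduction to index three when the centraliser of `z` is too large (step 7, no exchange).

* `transfer_eq_of_fixed` : the transfer into a group of exponent three, evaluated at an element of a
  three-group, sees only the cosets fixed by that group;
* `Cfg.sgn` : the difference of the signs of the two components;
* `Cfg.exists_index_three` : a normal subgroup of index three avoiding a half element;
* `Cfg.restrict` : the configuration of that subgroup.
-/
import Cfsg.Agent.Lib.U62ThreeCent.Linear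
import Mathlib.GroupTheory.Transfer
import Mathlib.GroupTheory.PGroup
import Mathlib.GroupTheory.Sylow

set_option autoImplicit false
set_option maxRecDepth 100000
set_option synthInstance.maxSize 2000

namespace Cfsg.Agent.U62ThreeCent

open Cfsg.Agent.PSpThree

section Orbits

variable {G : Type*} [Group G] {M : Type*} [CommGroup M]

/-- A product of an invariant function over a set acted on by a three-group. -/
theorem prod_eq_prod_fixed (A : Subgroup G) (hA : IsPGroup 3 A) {α : Type*} [Fintype α] [DecidableEq α]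
    [MulAction G α] (f : α → M) (hM : ∀ m : M, m ^ 3 = 1) (hf : ∀ a ∈ A, ∀ c : α, f (a • c) = f c)
    [DecidablePred fun c : α => ∀ a ∈ A, a • c = c] :
    ∏ c, f c = ∏ c ∈ Finset.univ.filter (fun c : α => ∀ a ∈ A, a • c = c), f c := by
  classical
  have h1 : ∏ c ∈ Finset.univ.filter (fun c : α => ¬ ∀ a ∈ A, a • c = c), f c = 1 := by
    rw [← Finset.prod_fiberwise_of_maps_to
      (g := fun c : α => Quotient.mk (MulAction.orbitRel A α) c)
      (t := (Finset.univ : Finset α).image fun c => Quotient.mk (MulAction.orbitRel A α) c)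
      (fun c _ => Finset.mem_image_of_mem _ (Finset.mem_univ c))]
    refine Finset.prod_eq_one fun q _ => ?_
    induction q using Quotient.inductionOn with
    | h d => ?_
    by_cases hd : ∀ a ∈ A, a • d = d
    · refine Finset.prod_eq_one fun c hc => ?_
      obtain ⟨hc1, hc2⟩ := Finset.mem_filter.1 hc
      obtain ⟨a, rfl⟩ : c ∈ MulAction.orbit A d := Quotient.exact hc2
      refine absurd (fun b hb => ?_) (Finset.mem_filter.1 hc1).2
      show b • ((a : G) • d) = (a : G) • d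
      rw [hd _ a.2, hd b hb]
    · rw [Finset.prod_eq_pow_card (b := f d) fun c hc => ?_]
      · obtain ⟨n, hn⟩ := hA.card_orbit d
        have hn0 : n ≠ 0 := fun h0 => hd fun a ha => by
          rw [h0, pow_zero, Nat.card_eq_one_iff_unique] at hn
          have := hn.1.elim ⟨(⟨a, ha⟩ : A) • d, MulAction.mem_orbit _ _⟩
            ⟨d, MulAction.mem_orbit_self d⟩
          exact congrArg Subtype.val this
        have hset : ((Finset.univ.filter fun c : α => ¬ ∀ a ∈ A, a • c = c).filter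
            fun c => Quotient.mk (MulAction.orbitRel A α) c = Quotient.mk (MulAction.orbitRel A α) d) =
            (MulAction.orbit A d).toFinset := by
          ext c
          simp only [Finset.mem_filter, Finset.mem_univ, true_and, Set.mem_toFinset]
          refine ⟨fun h => Quotient.exact h.2, fun h => ⟨fun hc => ?_, Quotient.sound h⟩⟩
          obtain ⟨a, rfl⟩ := h
          apply hd
          intro b hb
          have e1 := hc (a : G) a.2
          have e2 : (a : G) • d = d := by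
            exact smul_left_cancel _ e1
          have e3 := hc b hb
          change b • ((a : G) • d) = (a : G) • d at e3
          rwa [e2] at e3
        rw [hset, Set.toFinset_card, ← Nat.card_eq_fintype_card, hn,
          show n = n - 1 + 1 from by omega, pow_succ', pow_mul, hM, one_pow]
      · obtain ⟨a, rfl⟩ : c ∈ MulAction.orbit A d := Quotient.exact (Finset.mem_filter.1 hc).2
        exact hf _ a.2 d
  rw [← Finset.prod_filter_mul_prod_filter_not Finset.univ (fun c : α => ∀ a ∈ A, a • c = c) f, h1,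
    mul_one]

variable [Finite G] {H : Subgroup G} (ψ : H →* M)

/-- Only the cosets fixed by a three-group containing `x` and commuting with it contribute. -/
theorem transfer_eq_of_fixed (hM : ∀ m : M, m ^ 3 = 1) (A : Subgroup G) (hA : IsPGroup 3 A) {x : G}
    (hxA : x ∈ A) (hx : x ^ 3 = 1) (hcomm : ∀ a ∈ A, Commute a x) (w : M)
    (hfix : ∀ g : G, (∀ a ∈ A, g⁻¹ * a * g ∈ H) → ∀ h : g⁻¹ * x * g ∈ H, ψ ⟨_, h⟩ = w) :
    MonoidHom.transfer ψ x = w ^ H.index := by
  classical
  let := H.fintypeQuotientOfFiniteIndex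
  let f : G ⧸ H → M := fun c =>
    if h : c.out⁻¹ * x * c.out ∈ H then ψ ⟨_, h⟩ else 1
  have hmk : ∀ g : G, ∀ h : g⁻¹ * x * g ∈ H, f (g : G ⧸ H) = ψ ⟨_, h⟩ := by
    intro g h
    obtain ⟨k, hk⟩ := QuotientGroup.mk_out_eq_mul H g
    have e : ((g : G ⧸ H).out)⁻¹ * x * (g : G ⧸ H).out = (k : G)⁻¹ * (g⁻¹ * x * g) * k := by
      rw [hk]; group
    have hm : ((g : G ⧸ H).out)⁻¹ * x * (g : G ⧸ H).out ∈ H :=
      e ▸ mul_mem (mul_mem (inv_mem k.2) h) k.2
    simp only [f, dif_pos hm]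
    rw [show (⟨_, hm⟩ : H) = k⁻¹ * ⟨_, h⟩ * k from Subtype.ext e, map_mul, map_mul, map_inv,
      inv_mul_cancel_comm]
  have hfixed : ∀ (g : G) (a : G), a • (g : G ⧸ H) = (g : G ⧸ H) ↔ g⁻¹ * a * g ∈ H := by
    intro g a
    rw [MulAction.Quotient.smul_mk, QuotientGroup.eq, smul_eq_mul]
    constructor <;> intro h
    · simpa [mul_assoc] using inv_mem h
    · simpa [mul_assoc] using inv_mem h
  have hone : ∀ c : G ⧸ H, x • c ≠ c → f c = 1 := by
    intro c hc
    simp only [f]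
    rw [dif_neg]
    intro h
    exact hc (by rw [← QuotientGroup.out_eq' c]; exact (hfixed _ x).2 h)
  have hprod : MonoidHom.transfer ψ x = ∏ c, f c := by
    rw [MonoidHom.transfer_eq_prod_quotient_orbitRel_zpowers_quot ψ x,
      ← Finset.prod_fiberwise (s := (Finset.univ : Finset (G ⧸ H)))
        (g := fun c => Quotient.mk (MulAction.orbitRel (Subgroup.zpowers x) (G ⧸ H)) c)]
    refine Fintype.prod_congr _ _ fun q => ?_
    have hq : Quotient.mk (MulAction.orbitRel (Subgroup.zpowers x) (G ⧸ H)) q.out = q := q.out_eq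
    by_cases hc : x • q.out = q.out
    · have h1 : Function.minimalPeriod (x • ·) q.out = 1 :=
        Function.minimalPeriod_eq_one_iff_isFixedPt.2 hc
      rw [Finset.prod_eq_single q.out]
      · have hm : q.out.out⁻¹ * x * q.out.out ∈ H :=
          (hfixed _ x).1 (by rw [QuotientGroup.out_eq']; exact hc)
        simp only [f, dif_pos hm]
        congr 1
        exact Subtype.ext (by simp only [h1, pow_one])
      · intro c hc' hne
        exfalso
        obtain ⟨⟨a, k, rfl⟩, ha⟩ :=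
          (Quotient.exact ((Finset.mem_filter.1 hc').2.trans hq.symm) : c ∈ MulAction.orbit _ q.out)
        apply hne
        rw [← ha]
        exact MulAction.mem_stabilizer_iff.1
          (Subgroup.zpow_mem (MulAction.stabilizer G q.out) (MulAction.mem_stabilizer_iff.2 hc) k)
      · intro h; exact absurd (by simpa using hq) h
    · have h3 : Function.minimalPeriod (x • ·) q.out = 3 := by
        have hp : Function.IsPeriodicPt (x • ·) 3 q.out := by
          show (x • ·)^[3] q.out = q.out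
          rw [smul_iterate]
          show (x ^ 3) • q.out = q.out
          rw [hx, one_smul]
        rcases (Nat.dvd_prime Nat.prime_three).1 hp.minimalPeriod_dvd with h | h
        · exact absurd (Function.minimalPeriod_eq_one_iff_isFixedPt.1 h) hc
        · exact h
      have e1 : ∀ h, ψ ⟨q.out.out⁻¹ * x ^ Function.minimalPeriod (x • ·) q.out * q.out.out, h⟩ = 1 := by
        intro h
        rw [show (⟨_, h⟩ : H) = 1 from Subtype.ext (by simp [h3, hx])]
        exact map_one ψ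
      rw [e1, eq_comm]
      refine Finset.prod_eq_one fun c hc' => hone c fun e => hc ?_
      obtain ⟨⟨a, k, rfl⟩, ha⟩ :=
        (Quotient.exact ((Finset.mem_filter.1 hc').2.trans hq.symm) : c ∈ MulAction.orbit _ q.out)
      rw [← ha] at e
      change x • (x ^ k • q.out) = x ^ k • q.out at e
      rw [smul_smul, (Commute.refl x).zpow_right k |>.eq, ← smul_smul] at e
      exact smul_left_cancel _ e
  have hinv : ∀ a ∈ A, ∀ c : G ⧸ H, f (a • c) = f c := by
    intro a ha c
    induction c using QuotientGroup.induction_on with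
    | _ g => ?_
    have e : (a * g)⁻¹ * x * (a * g) = g⁻¹ * x * g := by
      rw [show (a * g)⁻¹ * x * (a * g) = g⁻¹ * (a⁻¹ * x * a) * g by group,
        show a⁻¹ * x * a = x by rw [mul_assoc, ← (hcomm a ha).eq, inv_mul_cancel_left]]
    by_cases h : g⁻¹ * x * g ∈ H
    · rw [MulAction.Quotient.smul_mk, smul_eq_mul, hmk g h, hmk (a * g) (e ▸ h)]
      congr 1
      exact Subtype.ext e
    · rw [hone _ fun hc => h ((hfixed g x).1 hc), hone]
      intro hc
      rw [MulAction.Quotient.smul_mk, smul_eq_mul] at hc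
      exact h (e ▸ (hfixed (a * g) x).1 hc)
  rw [hprod, prod_eq_prod_fixed A hA f hM hinv, Finset.prod_eq_pow_card (b := w)]
  · have h2 := hA.card_modEq_card_fixedPoints (G ⧸ H)
    have h3 : Nat.card (MulAction.fixedPoints A (G ⧸ H)) =
        (Finset.univ.filter fun c : G ⧸ H => ∀ a ∈ A, a • c = c).card := by
      rw [Nat.card_eq_fintype_card, ← Set.toFinset_card]
      congr 1
      ext c
      simp only [MulAction.mem_fixedPoints, Set.mem_toFinset, Finset.mem_filter, Finset.mem_univ,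
        true_and]
      exact ⟨fun h a ha => h ⟨a, ha⟩, fun h a => h a a.2⟩
    rw [← h3, pow_eq_pow_mod _ (hM w), ← h2, ← pow_eq_pow_mod _ (hM w)]
    rfl
  · intro c hc
    have hc' := (Finset.mem_filter.1 hc).2
    induction c using QuotientGroup.induction_on with
    | _ g => ?_
    have hg : ∀ a ∈ A, g⁻¹ * a * g ∈ H := fun a ha => (hfixed g a).1 (hc' a ha)
    rw [hmk g (hg x hxA)]
    exact hfix g hg _

end Orbits

/-- The sign of a component: the image in the quotient of order three. -/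
def sgnSL (A : SL23) : K :=
  if A ^ 4 = 1 then 0 else if (A * upperU) ^ 4 = 1 then 2 else 1

theorem sgnSL_mul : ∀ A B : SL23, sgnSL (A * B) = sgnSL A + sgnSL B := by decide +kernel

theorem eq_one_of_act2 : ∀ A : SL23, act2 A (1, 0) = (1, 0) → act2 A (0, 1) = (0, 1) → A = 1 := by
  decide +kernel

theorem exists_act2_sub : ∀ v : V2, ∃ u : V2, act2 negOne u - u = v := by decide +kernel

theorem om_nondeg : ∀ v : V, (∀ u : V, om v u = 0) → v = 0 := by decide +kernel

theorem negOne_four : negOne ^ 4 = 1 := by decide +kernel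

namespace Cfg

variable {G : Type*} [Group G] (C : Cfg G)

/-- The difference of the signs of the two components. -/
@[irreducible] def sgn (h : G) : K := sgnSL (C.φ h).a - sgnSL (C.φ h).b

variable {C}

theorem sgn_mul (hs : ∀ h, Commute h C.z → (C.φ h).s = false) {g h : G} (hg : Commute g C.z)
    (hh : Commute h C.z) : C.sgn (g * h) = C.sgn g + C.sgn h := by
  have e := C.φ_mul g h hg hh
  rw [sgn, sgn, sgn, e]
  simp only [Mon.mul_def, hs g hg, cond_false, sgnSL_mul]
  ring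

theorem sgn_of_mem {q : G} (hq : q ∈ C.Q) : C.sgn q = 0 := by
  rw [sgn]
  simp only [C.φ_of_mem hq, Mon.one_def, sub_self]

theorem sgn_one : C.sgn 1 = 0 := sgn_of_mem (one_mem _)

/-- The homomorphism given by the signs. -/
def sgnHom (hs : ∀ h, Commute h C.z → (C.φ h).s = false) :
    Subgroup.centralizer ({C.z} : Set G) →* Multiplicative K where
  toFun h := Multiplicative.ofAdd (C.sgn h)
  map_one' := by simp [sgn_one]
  map_mul' g h := by
    rw [← ofAdd_add, Subgroup.coe_mul, sgn_mul hs (Subgroup.mem_centralizer_singleton_iff.1 g.2)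
      (Subgroup.mem_centralizer_singleton_iff.1 h.2)]

theorem sgnHom_apply (hs : ∀ h, Commute h C.z → (C.φ h).s = false)
    (h : Subgroup.centralizer ({C.z} : Set G)) : sgnHom hs h = Multiplicative.ofAdd (C.sgn h) := rfl

theorem mult_cube : ∀ m : Multiplicative K, m ^ 3 = 1 := by decide +kernel

/-- An element commuting with `Q` lies in `⟨z⟩`. -/
theorem mem_zpowers_of_commute_Q {u : G} (hu : ∀ q ∈ C.Q, Commute u q) : u ∈ Subgroup.zpowers C.z := by
  have huz : Commute u C.z := hu _ C.z_mem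
  have hfix : ∀ v : V, Mon.act (C.φ u) v = v := by
    intro v
    obtain ⟨q, hq, rfl⟩ := C.vec_surj v
    have e := C.vec_conj u huz q hq
    rw [(hu q hq).eq, mul_inv_cancel_right] at e
    exact e.symm
  have hs : (C.φ u).s = false := by
    rcases h : (C.φ u).s
    · rfl
    · have := congrArg Prod.fst (hfix ((1, 0), 0))
      simp [Mon.act, h, act2] at this
  have h0 : C.φ u = 1 := by
    refine Mon.ext (eq_one_of_act2 _ ?_ ?_) (eq_one_of_act2 _ ?_ ?_) hs
    · have := congrArg Prod.fst (hfix ((1, 0), 0)); rwa [Mon.act_false hs] at this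
    · have := congrArg Prod.fst (hfix ((0, 1), 0)); rwa [Mon.act_false hs] at this
    · have := congrArg Prod.snd (hfix (0, (1, 0))); rwa [Mon.act_false hs] at this
    · have := congrArg Prod.snd (hfix (0, (0, 1))); rwa [Mon.act_false hs] at this
  have huQ := (C.φ_ker u huz).1 h0
  refine (C.vec_ker u huQ).1 (om_nondeg _ fun v => ?_)
  obtain ⟨q, hq, rfl⟩ := C.vec_surj v
  have e := C.comm u huQ q hq
  rw [(hu q hq).eq, mul_inv_cancel_right, mul_inv_cancel] at e
  have h2 : orderOf C.z ∣ (om (C.vec u) (C.vec q)).val := orderOf_dvd_of_pow_eq_one e.symm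
  rw [C.z_ord] at h2
  exact (ZMod.val_eq_zero _).1 (Nat.eq_zero_of_dvd_of_lt h2 (ZMod.val_lt _))

theorem isPGroup_Q : IsPGroup 3 C.Q := fun q => ⟨1, Subtype.ext (by simpa using C.cube q q.2)⟩

/-- The index of the centraliser of `z` is prime to three. -/
theorem index_centralizer_not_dvd [Finite G] :
    ¬ 3 ∣ (Subgroup.centralizer ({C.z} : Set G)).index := by
  haveI : Fact (Nat.Prime 3) := ⟨Nat.prime_three⟩
  obtain ⟨P, hP⟩ := (isPGroup_Q (C := C)).exists_le_sylow
  haveI : Nontrivial (P : Subgroup G) :=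
    ⟨⟨⟨C.z, hP C.z_mem⟩, 1, fun e => C.z_ne (congrArg Subtype.val e)⟩⟩
  haveI := P.isPGroup'.center_nontrivial
  obtain ⟨⟨u, hu⟩, hune⟩ := exists_ne (1 : Subgroup.center (P : Subgroup G))
  have hcom : ∀ q ∈ (P : Subgroup G), Commute (u : G) q := fun q hq =>
    congrArg Subtype.val (Subgroup.mem_center_iff.1 hu ⟨q, hq⟩).symm
  have hmem := mem_zpowers_of_commute_Q (C := C) fun q hq => hcom q (hP hq)
  have hne : (u : G) ≠ 1 := fun e => hune (Subtype.ext (Subtype.ext e))
  have hz : C.z ∈ Subgroup.zpowers (u : G) := by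
    have ho : orderOf (u : G) = 3 := by
      have := orderOf_dvd_of_mem_zpowers hmem
      rw [C.z_ord] at this
      rcases (Nat.dvd_prime Nat.prime_three).1 this with h | h
      · exact absurd (orderOf_eq_one_iff.1 h) hne
      · exact h
    have heq : Subgroup.zpowers (u : G) = Subgroup.zpowers C.z :=
      Subgroup.eq_of_le_of_card_ge (Subgroup.zpowers_le.2 hmem)
        (by rw [Nat.card_zpowers, Nat.card_zpowers, ho, C.z_ord])
    rw [heq]; exact Subgroup.mem_zpowers _
  have hle : (P : Subgroup G) ≤ Subgroup.centralizer ({C.z} : Set G) := fun q hq => by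
    rw [Subgroup.mem_centralizer_singleton_iff]
    obtain ⟨k, hk⟩ := hz
    rw [← hk]
    exact ((hcom q hq).zpow_left k).symm.eq
  exact fun h => P.not_dvd_index (h.trans (Subgroup.index_dvd_of_le hle))

variable [Finite G] {J : Subgroup G} {x : G}

theorem commute_of_cent (hzJ : C.z ∈ J) {a : G} (ha : a ∈ Subgroup.centralizer (J : Set G)) :
    Commute a C.z :=
  (Subgroup.mem_centralizer_iff.1 ha C.z hzJ).symm

theorem conj_cent {c : G} (hc : c ∈ Subgroup.normalizer (J : Set G)) {a : G}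
    (ha : a ∈ Subgroup.centralizer (J : Set G)) : c * a * c⁻¹ ∈ Subgroup.centralizer (J : Set G) := by
  rw [Subgroup.mem_centralizer_iff] at ha ⊢
  intro j hj
  have hj' : c⁻¹ * j * c ∈ J := by
    simpa using (Subgroup.mem_normalizer_iff''.1 hc j).1 hj
  have e := ha _ hj'
  calc j * (c * a * c⁻¹) = c * ((c⁻¹ * j * c) * a) * c⁻¹ := by group
    _ = c * (a * (c⁻¹ * j * c)) * c⁻¹ := by rw [e]
    _ = c * a * c⁻¹ * j := by group

theorem sgn_pow (hs : ∀ h, Commute h C.z → (C.φ h).s = false) {a : G} (ha : Commute a C.z) (k : ℕ) :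
    C.sgn (a ^ k) = (k : K) * C.sgn a := by
  induction k with
  | zero => simp [sgn_one]
  | succ k ih =>
    rw [pow_succ, sgn_mul hs (ha.pow_left k) ha, ih]; push_cast; ring

section Shear

variable (hs : ∀ h, Commute h C.z → (C.φ h).s = false) (hzJ : C.z ∈ J)
  (hJab : J ≤ Subgroup.centralizer (J : Set G)) (hJ0 : ∀ j ∈ J, C.sgn j = 0)
  (hker : ∀ a ∈ Subgroup.centralizer (J : Set G), C.sgn a = 0 → a ∈ J)
  (hxA : x ∈ Subgroup.centralizer (J : Set G)) (hx : C.sgn x ≠ 0)
include hs hzJ hJab hJ0 hker hxA hx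

omit hJ0 in
theorem exists_pow_mul {a : G} (ha : a ∈ Subgroup.centralizer (J : Set G)) :
    ∃ k : ℕ, ∃ j ∈ J, a = x ^ k * j := by
  refine ⟨(C.sgn a * C.sgn x).val, (x ^ (C.sgn a * C.sgn x).val)⁻¹ * a, ?_, by group⟩
  have hm : (x ^ (C.sgn a * C.sgn x).val)⁻¹ * a ∈ Subgroup.centralizer (J : Set G) :=
    mul_mem (inv_mem (pow_mem hxA _)) ha
  refine hker _ hm ?_
  have h1 := sgn_mul hs ((commute_of_cent hzJ hxA).pow_left (C.sgn a * C.sgn x).val)
    (commute_of_cent hzJ hm)
  rw [mul_inv_cancel_left, sgn_pow hs (commute_of_cent hzJ hxA), ZMod.natCast_zmod_val] at h1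
  have h2 : ∀ s t r : K, t ≠ 0 → s = s * t * t + r → r = 0 := by decide
  exact h2 _ _ _ hx h1

/-- Elements of three-power order act trivially on `A/J`. -/
theorem closure_sgn {c : G} (hc : c ∈ Subgroup.closure
    {c : G | c ∈ Subgroup.normalizer (J : Set G) ∧ ∃ k : ℕ, c ^ 3 ^ k = 1}) :
    c ∈ Subgroup.normalizer (J : Set G) ∧ C.sgn (c * x * c⁻¹) = C.sgn x := by
  have hdec := fun (a : G) (ha : a ∈ Subgroup.centralizer (J : Set G)) =>
    exists_pow_mul hs hzJ hJab hker hxA hx ha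
  have hAz : ∀ a ∈ Subgroup.centralizer (J : Set G), Commute a C.z := fun a ha => commute_of_cent hzJ ha
  have hAn : ∀ c ∈ Subgroup.normalizer (J : Set G), ∀ a ∈ Subgroup.centralizer (J : Set G),
      c * a * c⁻¹ ∈ Subgroup.centralizer (J : Set G) := fun c hc a ha => conj_cent hc ha
  have hsgn : ∀ k : ℕ, ∀ a ∈ Subgroup.centralizer (J : Set G), C.sgn (a ^ k) = (k : K) * C.sgn a :=
    fun k a ha => sgn_pow hs (hAz a ha) k
  induction hc using Subgroup.closure_induction with
  | mem c hc =>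
    obtain ⟨hcn, k, hk⟩ := hc
    refine ⟨hcn, ?_⟩
    set t := C.sgn (c * x * c⁻¹) with ht
    have hlin : ∀ a ∈ Subgroup.centralizer (J : Set G), C.sgn (c * a * c⁻¹) = C.sgn a * C.sgn x * t := by
      intro a ha
      obtain ⟨m, j, hj, rfl⟩ := hdec a ha
      have hj' : c * j * c⁻¹ ∈ J := (Subgroup.mem_normalizer_iff.1 hcn j).1 hj
      rw [show c * (x ^ m * j) * c⁻¹ = (c * x * c⁻¹) ^ m * (c * j * c⁻¹) by
          rw [conj_pow]; group,
        sgn_mul hs ((hAz _ (hAn c hcn x hxA)).pow_left m) (hAz _ (hJab hj')),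
        hsgn m _ (hAn c hcn x hxA), hJ0 _ hj', sgn_mul hs ((hAz x hxA).pow_left m) (hAz _ (hJab hj)),
        hsgn m x hxA, hJ0 _ hj, ← ht]
      have h2 : ∀ s r u : K, u ≠ 0 → s * r + 0 = (s * u + 0) * u * r := by decide
      exact h2 _ _ _ hx
    have hiter : ∀ n : ℕ, C.sgn (c ^ n * x * (c ^ n)⁻¹) = C.sgn x * (C.sgn x * t) ^ n ∧
        c ^ n * x * (c ^ n)⁻¹ ∈ Subgroup.centralizer (J : Set G) := by
      intro n
      induction n with
      | zero => simp [hxA]
      | succ n ih =>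
        have e : c ^ (n + 1) * x * (c ^ (n + 1))⁻¹ = c * (c ^ n * x * (c ^ n)⁻¹) * c⁻¹ := by
          rw [pow_succ']; group
        rw [e]
        refine ⟨?_, hAn c hcn _ ih.2⟩
        rw [hlin _ ih.2, ih.1]; ring
    have h1 := (hiter (3 ^ k)).1
    rw [hk, one_mul, inv_one, mul_one] at h1
    have hodd : Odd (3 ^ k) := (by decide : Odd 3).pow
    obtain ⟨m, hm⟩ := hodd
    rw [hm, pow_succ, pow_mul] at h1
    have h2 : ∀ s u : K, s ≠ 0 → s = s * ((s * u) ^ 2) * (s * u) → u = s := by decide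
    refine h2 _ _ hx ?_
    by_cases hu : C.sgn x * t = 0
    · rw [hu] at h1; exfalso; exact hx (by simpa using h1)
    · have h3 : ∀ u : K, u ≠ 0 → u ^ 2 = 1 := by decide
      rw [h3 _ hu, one_pow] at h1
      rw [h3 _ hu]
      calc C.sgn x = C.sgn x * (1 * (C.sgn x * t)) := h1
        _ = _ := by ring
  | one => simp
  | mul c d _ _ hc hd =>
    refine ⟨mul_mem hc.1 hd.1, ?_⟩
    have hdx := hAn d hd.1 x hxA
    obtain ⟨m, j, hj, hmj⟩ := hdec _ hdx
    have hj' : c * j * c⁻¹ ∈ J := (Subgroup.mem_normalizer_iff.1 hc.1 j).1 hj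
    have e0 := hd.2
    rw [hmj, sgn_mul hs ((hAz x hxA).pow_left m) (hAz _ (hJab hj)), hsgn m x hxA, hJ0 _ hj,
      add_zero] at e0
    rw [show c * d * x * (c * d)⁻¹ = c * (d * x * d⁻¹) * c⁻¹ by group, hmj,
      show c * (x ^ m * j) * c⁻¹ = (c * x * c⁻¹) ^ m * (c * j * c⁻¹) by rw [conj_pow]; group,
      sgn_mul hs ((hAz _ (hAn c hc.1 x hxA)).pow_left m) (hAz _ (hJab hj')),
      hsgn m _ (hAn c hc.1 x hxA), hc.2, hJ0 _ hj', add_zero, e0]
  | inv c _ hc =>
    refine ⟨inv_mem hc.1, ?_⟩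
    have hcx := hAn c⁻¹ (inv_mem hc.1) x hxA
    obtain ⟨m, j, hj, hmj⟩ := hdec _ hcx
    rw [inv_inv] at hcx hmj ⊢
    have hj' : c * j * c⁻¹ ∈ J := (Subgroup.mem_normalizer_iff.1 hc.1 j).1 hj
    have e0 : x = (c * x * c⁻¹) ^ m * (c * j * c⁻¹) := by
      calc x = c * (c⁻¹ * x * c) * c⁻¹ := by group
        _ = c * (x ^ m * j) * c⁻¹ := by rw [hmj]
        _ = _ := by rw [conj_pow]; group
    have e1 := congrArg C.sgn e0
    rw [sgn_mul hs ((hAz _ (hAn c hc.1 x hxA)).pow_left m) (hAz _ (hJab hj')),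
      hsgn m _ (hAn c hc.1 x hxA), hc.2, hJ0 _ hj', add_zero] at e1
    rw [hmj, sgn_mul hs ((hAz x hxA).pow_left m) (hAz _ (hJab hj)), hsgn m x hxA, hJ0 _ hj,
      add_zero]
    exact e1.symm

/-- The cube of `x` is trivial. -/
theorem cube_eq_one (hJ3 : ∀ j ∈ J, j ^ 3 = 1)
    (hQJ : ∀ q ∈ C.Q, q ∈ Subgroup.normalizer (J : Set G))
    (htr : ∀ g : G, g * C.z * g⁻¹ ∈ J → ∃ c ∈ Subgroup.closure
      {c : G | c ∈ Subgroup.normalizer (J : Set G) ∧ ∃ k : ℕ, c ^ 3 ^ k = 1},
        c * C.z * c⁻¹ = g * C.z * g⁻¹)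
    (hmove : ∃ g : G, g * C.z * g⁻¹ ∈ J ∧ g * C.z * g⁻¹ ≠ C.z) : x ^ 3 = 1 := by
  have hdec := fun (a : G) (ha : a ∈ Subgroup.centralizer (J : Set G)) =>
    exists_pow_mul hs hzJ hJab hker hxA hx ha
  have hAz : ∀ a ∈ Subgroup.centralizer (J : Set G), Commute a C.z := fun a ha => commute_of_cent hzJ ha
  have hAn : ∀ c ∈ Subgroup.normalizer (J : Set G), ∀ a ∈ Subgroup.centralizer (J : Set G),
      c * a * c⁻¹ ∈ Subgroup.centralizer (J : Set G) := fun c hc a ha => conj_cent hc ha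
  have hsgn : ∀ k : ℕ, ∀ a ∈ Subgroup.centralizer (J : Set G), C.sgn (a ^ k) = (k : K) * C.sgn a :=
    fun k a ha => sgn_pow hs (hAz a ha) k
  let W := Subgroup.closure {c : G | c ∈ Subgroup.normalizer (J : Set G) ∧ ∃ k : ℕ, c ^ 3 ^ k = 1}
  have hW : ∀ c ∈ W, c ∈ Subgroup.normalizer (J : Set G) ∧ C.sgn (c * x * c⁻¹) = C.sgn x :=
    fun c hc => closure_sgn hs hzJ hJab hJ0 hker hxA hx hc
  have hcube : ∀ c ∈ W, c * x ^ 3 * c⁻¹ = x ^ 3 := by
    intro c hc
    obtain ⟨hcn, hcs⟩ := hW c hc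
    obtain ⟨m, j, hj, hmj⟩ := hdec _ (hAn c hcn x hxA)
    have e := hcs
    rw [hmj, sgn_mul hs ((hAz x hxA).pow_left m) (hAz _ (hJab hj)), hsgn m x hxA, hJ0 _ hj,
      add_zero] at e
    have hm1 : (m : K) = 1 := by
      have h2 : ∀ s r : K, r ≠ 0 → s * r = r → s = 1 := by decide
      exact h2 _ _ hx e
    have h9 : (x ^ 3) ^ 3 = 1 := by
      refine hJ3 _ (hker _ (pow_mem hxA 3) ?_)
      rw [hsgn 3 x hxA, show ((3 : ℕ) : K) = 0 from by decide, zero_mul]
    have hcj : Commute (x ^ m) j :=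
      (Subgroup.mem_centralizer_iff.1 (pow_mem hxA m) j hj).symm
    rw [← conj_pow, hmj, hcj.mul_pow, hJ3 j hj, mul_one, ← pow_mul, mul_comm m 3, pow_mul,
      pow_eq_pow_mod m h9]
    rw [show m % 3 = 1 from by
      have := congrArg ZMod.val hm1
      rw [ZMod.val_natCast] at this
      exact this, pow_one]
  have hmem : x ^ 3 ∈ Subgroup.zpowers C.z := by
    refine mem_zpowers_of_commute_Q fun q hq => ?_
    have hqW : q ∈ W := Subgroup.subset_closure ⟨hQJ q hq, 1, by simpa using C.cube q hq⟩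
    exact (mul_inv_eq_iff_eq_mul.1 (hcube q hqW)).symm
  obtain ⟨g, hgJ, hg⟩ := hmove
  obtain ⟨c, hc, hcz⟩ := htr g hgJ
  obtain ⟨k, hk⟩ := hmem
  change C.z ^ k = x ^ 3 at hk
  by_contra hne
  have hfix := hcube c hc
  rw [← hk, ← conj_zpow, hcz] at hfix
  have hk3 : ¬ (3 : ℤ) ∣ k := by
    rintro ⟨l, rfl⟩
    rw [zpow_mul, show (3 : ℤ) = ((3 : ℕ) : ℤ) from rfl, zpow_natCast, C.z_pow, one_zpow] at hk
    exact hne hk.symm
  obtain ⟨u, hu⟩ : ∃ u : ℤ, (3 : ℤ) ∣ k * u - 1 := by
    refine ⟨k, ?_⟩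
    have : k % 3 = 1 ∨ k % 3 = 2 := by omega
    rcases this with e | e <;> exact Int.dvd_of_emod_eq_zero (by rw [Int.sub_emod, Int.mul_emod, e]; rfl)
  have hpow : ∀ w : G, w ^ 3 = 1 → (w ^ k) ^ u = w := by
    intro w hw
    obtain ⟨l, hl⟩ := hu
    rw [← zpow_mul, show k * u = 3 * l + 1 by omega, zpow_add, zpow_mul, zpow_one,
      show (3 : ℤ) = ((3 : ℕ) : ℤ) from rfl, zpow_natCast, hw, one_zpow, one_mul]
  apply hg
  rw [← hpow (g * C.z * g⁻¹) (hJ3 _ hgJ), hfix, hpow C.z C.z_pow]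

end Shear

/-- A normal subgroup of index three avoiding a half element of `C(J)`. -/
theorem exists_index_three (hs : ∀ h, Commute h C.z → (C.φ h).s = false)
    (hpt : ∀ g : G, Commute (g * C.z * g⁻¹) C.z → C.sgn (g * C.z * g⁻¹) = 0)
    (hzJ : C.z ∈ J) (hJab : J ≤ Subgroup.centralizer (J : Set G))
    (hJ3 : ∀ j ∈ J, j ^ 3 = 1) (hA : IsPGroup 3 (Subgroup.centralizer (J : Set G)))
    (hJ0 : ∀ j ∈ J, C.sgn j = 0)
    (hker : ∀ a ∈ Subgroup.centralizer (J : Set G), C.sgn a = 0 → a ∈ J)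
    (hQJ : ∀ q ∈ C.Q, q ∈ Subgroup.normalizer (J : Set G))
    (htr : ∀ g : G, g * C.z * g⁻¹ ∈ J → ∃ c ∈ Subgroup.closure
      {c : G | c ∈ Subgroup.normalizer (J : Set G) ∧ ∃ k : ℕ, c ^ 3 ^ k = 1},
        c * C.z * c⁻¹ = g * C.z * g⁻¹)
    (hmove : ∃ g : G, g * C.z * g⁻¹ ∈ J ∧ g * C.z * g⁻¹ ≠ C.z)
    (hxA : x ∈ Subgroup.centralizer (J : Set G)) (hx : C.sgn x ≠ 0) :
    ∃ N : Subgroup G, N.Normal ∧ N.index = 3 ∧ x ∉ N ∧
      (∀ g, g * C.z * g⁻¹ ∈ N) ∧ C.Q ≤ N ∧
      (∀ h, Commute h C.z → C.φ h ^ 4 = 1 → h ∈ N) := by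
  classical
  set A := Subgroup.centralizer (J : Set G) with hAdef
  have hAz : ∀ a ∈ A, Commute a C.z := fun a ha => commute_of_cent hzJ ha
  have hAn : ∀ c ∈ Subgroup.normalizer (J : Set G), ∀ a ∈ A, c * a * c⁻¹ ∈ A :=
    fun c hc a ha => conj_cent hc ha
  have hdec := fun (a : G) (ha : a ∈ A) => exists_pow_mul hs hzJ hJab hker hxA hx ha
  have hW := fun (c : G) (hc : c ∈ Subgroup.closure
      {c : G | c ∈ Subgroup.normalizer (J : Set G) ∧ ∃ k : ℕ, c ^ 3 ^ k = 1}) =>
    closure_sgn hs hzJ hJab hJ0 hker hxA hx hc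
  have hx3 : x ^ 3 = 1 := cube_eq_one hs hzJ hJab hJ0 hker hxA hx hJ3 hQJ htr hmove
  -- the transfer
  set H := Subgroup.centralizer ({C.z} : Set G) with hH
  let ψ := sgnHom hs
  have hval : MonoidHom.transfer ψ x = (Multiplicative.ofAdd (C.sgn x)) ^ H.index := by
    refine transfer_eq_of_fixed ψ mult_cube A hA hxA hx3 (fun a ha => ?_) _ ?_
    · obtain ⟨k, j, hj, rfl⟩ := hdec a ha
      exact ((Commute.refl x).pow_left k).mul_left (Subgroup.mem_centralizer_iff.1 hxA j hj)
    · intro g hg hgx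
      have hcz : ∀ a ∈ A, Commute (g * C.z * g⁻¹) a := by
        intro a ha
        have e := Subgroup.mem_centralizer_singleton_iff.1 (hg a ha)
        show g * C.z * g⁻¹ * a = a * (g * C.z * g⁻¹)
        calc g * C.z * g⁻¹ * a = g * (C.z * (g⁻¹ * a * g)) * g⁻¹ := by group
          _ = g * ((g⁻¹ * a * g) * C.z) * g⁻¹ := by rw [e]
          _ = a * (g * C.z * g⁻¹) := by group
      have hpA : g * C.z * g⁻¹ ∈ A := Subgroup.mem_centralizer_iff.2 fun j hj =>
        (hcz j (hJab hj)).symm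
      have hpJ : g * C.z * g⁻¹ ∈ J := hker _ hpA (hpt g (hAz _ hpA))
      obtain ⟨c, hc, hcz'⟩ := htr g hpJ
      have hh : Commute (c⁻¹ * g) C.z := by
        show c⁻¹ * g * C.z = C.z * (c⁻¹ * g)
        calc c⁻¹ * g * C.z = c⁻¹ * (g * C.z * g⁻¹) * g := by group
          _ = c⁻¹ * (c * C.z * c⁻¹) * g := by rw [hcz']
          _ = C.z * (c⁻¹ * g) := by group
      obtain ⟨hcn, hcs⟩ := hW c⁻¹ (inv_mem hc)
      rw [inv_inv] at hcs
      have hcxA : c⁻¹ * x * c ∈ A := by simpa using hAn c⁻¹ hcn x hxA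
      rw [sgnHom_apply]
      refine congrArg Multiplicative.ofAdd ?_
      show C.sgn (g⁻¹ * x * g) = C.sgn x
      rw [show g⁻¹ * x * g = (c⁻¹ * g)⁻¹ * (c⁻¹ * x * c) * (c⁻¹ * g) by group,
        sgn_mul hs (hh.inv_left.mul_left (hAz _ hcxA)) hh, sgn_mul hs hh.inv_left (hAz _ hcxA), hcs]
      have h0 := sgn_mul hs hh.inv_left hh
      rw [inv_mul_cancel, sgn_one] at h0
      calc _ = C.sgn (c⁻¹ * g)⁻¹ + C.sgn (c⁻¹ * g) + C.sgn x := by ring
        _ = C.sgn x := by rw [← h0, zero_add]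
  have hne : MonoidHom.transfer ψ x ≠ 1 := by
    rw [hval]
    intro e
    have h1 : orderOf (Multiplicative.ofAdd (C.sgn x)) = 3 :=
      orderOf_eq_prime (mult_cube _) (fun e' => hx (by simpa using e'))
    exact index_centralizer_not_dvd (C := C) (h1 ▸ orderOf_dvd_of_pow_eq_one e)
  set τ := MonoidHom.transfer ψ with hτ
  have hidx : τ.ker.index = 3 := by
    rw [Subgroup.index_ker]
    have hd : Nat.card τ.range ∣ 3 := by
      have h := Subgroup.card_subgroup_dvd_card τ.range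
      rwa [show Nat.card (Multiplicative K) = 3 from by
        rw [Nat.card_eq_fintype_card]; decide] at h
    rcases (Nat.dvd_prime Nat.prime_three).1 hd with h | h
    · exfalso
      rw [Subgroup.card_eq_one] at h
      exact hne (by simpa [h] using (show τ x ∈ τ.range from ⟨x, rfl⟩))
    · exact h
  have hzN : C.z ∈ τ.ker := by
    obtain ⟨i, hi, hiv⟩ := C.vec_surj (((1, 0), 0) : V)
    obtain ⟨j, hj, hjv⟩ := C.vec_surj (((0, 1), 0) : V)
    have e := C.comm i hi j hj
    rw [hiv, hjv, show (om (((1, 0), 0) : V) (((0, 1), 0) : V)).val = 1 from by decide, pow_one] at e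
    rw [MonoidHom.mem_ker, ← e]
    simp [mul_comm]
  have hQN : C.Q ≤ τ.ker := by
    intro q hq
    obtain ⟨h, hh, hφ⟩ := C.quat negOne negOne negOne_four negOne_four
    obtain ⟨u₁, hu₁⟩ := exists_act2_sub (C.vec q).1
    obtain ⟨u₂, hu₂⟩ := exists_act2_sub (C.vec q).2
    obtain ⟨r, hr, hrv⟩ := C.vec_surj (u₁, u₂)
    have hr' := C.conj_mem h hh r hr
    have hm : q⁻¹ * (h * r * h⁻¹ * r⁻¹) ∈ C.Q := mul_mem (inv_mem hq) (mul_mem hr' (inv_mem hr))
    have hv : C.vec (q⁻¹ * (h * r * h⁻¹ * r⁻¹)) = 0 := by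
      rw [C.vec_mul _ (inv_mem hq) _ (mul_mem hr' (inv_mem hr)), C.vec_mul _ hr' _ (inv_mem hr),
        C.vec_inv hq, C.vec_inv hr, C.vec_conj h hh r hr, hφ, hrv, Mon.act_false rfl]
      ext <;> simp [← hu₁, ← hu₂] <;> ring
    obtain ⟨k, hk⟩ := (C.vec_ker _ hm).1 hv
    have hk' : q⁻¹ * (h * r * h⁻¹ * r⁻¹) ∈ τ.ker := by
      change C.z ^ k = _ at hk; rw [← hk]; exact zpow_mem hzN k
    rw [MonoidHom.mem_ker] at hk' ⊢
    simpa using hk'
  refine ⟨τ.ker, inferInstance, hidx, fun h => hne (MonoidHom.mem_ker.1 h),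
    fun g => Subgroup.Normal.conj_mem inferInstance _ hzN g, hQN, fun h hh h4 => ?_⟩
  have h4' : h ^ 4 ∈ C.Q := by
    refine (C.φ_ker _ (hh.pow_left 4)).1 ?_
    have e : ∀ n : ℕ, C.φ (h ^ n) = C.φ h ^ n := fun n => by
      induction n with
      | zero => simp [C.φ_one]
      | succ n ih => rw [pow_succ, C.φ_mul _ _ (hh.pow_left n) hh, ih, pow_succ]
    rw [e, h4]
  have h5 := MonoidHom.mem_ker.1 (hQN h4')
  rw [map_pow, pow_eq_pow_mod 4 (mult_cube _)] at h5
  exact MonoidHom.mem_ker.2 (by simpa using h5)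

/-- The configuration of a normal subgroup of index three. -/
theorem exists_restrict (N : Subgroup G) [N.Normal] (hNi : N.index = 3) {x : G} (hxN : x ∉ N)
    (hxz : Commute x C.z) (hQ : C.Q ≤ N) (hpt : ∀ g, g * C.z * g⁻¹ ∈ N)
    (hq : ∀ h, Commute h C.z → C.φ h ^ 4 = 1 → h ∈ N) :
    ∃ D : Cfg N, (D.z : G) = C.z ∧ D.Q = C.Q.subgroupOf N ∧ ∀ h : N, D.φ h = C.φ h := by
  have hz : C.z ∈ N := hQ C.z_mem
  have hzpow : ∀ w : N, w ∈ Subgroup.zpowers (⟨C.z, hz⟩ : N) ↔ (w : G) ∈ Subgroup.zpowers C.z := by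
    intro w
    constructor
    · rintro ⟨k, rfl⟩; exact ⟨k, by simp⟩
    · rintro ⟨k, hk⟩; exact ⟨k, Subtype.ext (by simpa using hk)⟩
  have hcom : ∀ h : N, Commute h ⟨C.z, hz⟩ → Commute (h : G) C.z := fun h e =>
    congrArg Subtype.val e.eq
  have hcoset : ∀ g : G, ∃ i : ℕ, ∃ n ∈ N, g = n * x ^ i := by
    intro g
    haveI : Fact (Nat.Prime 3) := ⟨Nat.prime_three⟩
    have htop : Subgroup.zpowers (QuotientGroup.mk' N x) = ⊤ :=
      zpowers_eq_top_of_prime_card (p := 3) (by rw [← Subgroup.index_eq_card, hNi])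
        (fun e => hxN ((QuotientGroup.eq_one_iff x).1 e))
    have hg : QuotientGroup.mk' N g ∈ Subgroup.zpowers (QuotientGroup.mk' N x) :=
      htop ▸ Subgroup.mem_top _
    haveI : Finite (G ⧸ N) := Nat.finite_of_card_ne_zero (by rw [← Subgroup.index_eq_card, hNi]; decide)
    obtain ⟨i, hi⟩ := (mem_powers_iff_mem_zpowers (x := QuotientGroup.mk' N x)).2 hg
    refine ⟨i, g * (x ^ i)⁻¹, ?_, by group⟩
    rw [← QuotientGroup.eq_one_iff]
    change (QuotientGroup.mk' N) (g * (x ^ i)⁻¹) = 1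
    simp only [map_mul, map_inv, map_pow]
    change (fun n => (QuotientGroup.mk' N x) ^ n) i = _ at hi
    simp only at hi
    rw [hi, mul_inv_cancel]
  refine ⟨{
    z := ⟨C.z, hz⟩
    Q := C.Q.subgroupOf N
    φ := fun h => C.φ h
    vec := fun h => C.vec h
    z_ord := by rw [← Subgroup.orderOf_coe]; exact C.z_ord
    z_mem := C.z_mem
    Q_le := fun q h => Subtype.ext (C.Q_le _ h).eq
    cube := fun q h => Subtype.ext (by simpa using C.cube _ h)
    vec_mul := fun i hi j hj => C.vec_mul _ hi _ hj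
    vec_surj := fun v => by
      obtain ⟨q, hq', rfl⟩ := C.vec_surj v
      exact ⟨⟨q, hQ hq'⟩, hq', rfl⟩
    vec_ker := fun q h => (C.vec_ker _ h).trans (hzpow q).symm
    comm := fun i hi j hj => Subtype.ext (by simpa using C.comm _ hi _ hj)
    φ_mul := fun g h hg hh => C.φ_mul _ _ (hcom g hg) (hcom h hh)
    φ_ker := fun h hh => C.φ_ker _ (hcom h hh)
    conj_mem := fun h hh q hq' => C.conj_mem _ (hcom h hh) _ hq'
    vec_conj := fun h hh q hq' => C.vec_conj _ (hcom h hh) _ hq'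
    quat := fun a b ha hb => by
      obtain ⟨h, hh, hφ⟩ := C.quat a b ha hb
      refine ⟨⟨h, hq h hh ?_⟩, Subtype.ext hh.eq, hφ⟩
      rw [hφ, Mon.pow_false rfl, ha, hb]; rfl
    wc := fun g hg => (hzpow _).2 (C.wc g hg)
    nwc := by
      obtain ⟨g, hg, hgQ⟩ := C.nwc
      obtain ⟨i, n, hn, rfl⟩ := hcoset g
      have e : n * x ^ i * C.z * (n * x ^ i)⁻¹ = n * C.z * n⁻¹ := by
        rw [show n * x ^ i * C.z * (n * x ^ i)⁻¹ = n * (x ^ i * C.z) * (x ^ i)⁻¹ * n⁻¹ by group,
          (hxz.pow_left i).eq]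
        group
      rw [e] at hg hgQ
      exact ⟨⟨n, hn⟩, Subtype.ext hg.eq, hgQ⟩ }, rfl, rfl, fun h => rfl⟩

end Cfg

end Cfsg.Agent.U62ThreeCent
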