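/-
A normal subgroup of index three when the Sylow three-subgroup is too large and nothing exchanges the planes.

* `Cfg.sgn_of_pt` : points of `C(z)` have equal signs;
* `Std.mem_centJ` : the centraliser of `J`;
* `Std.exists_mov` : the unipotent elements at `y` and the orbit of `z` in `J`;
* `Cfg.exists_index_three` : the subgroup of index three.
-/
import Cfsg.Agent.Lib.U62ThreeCent.Cases
import Cfsg.Agent.Lib.U62ThreeCent.Fusion
import Cfsg.Agent.Lib.U62ThreeCent.Planes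
import Cfsg.Agent.Lib.U62ThreeCent.Transfer

set_option autoImplicit false
set_option maxRecDepth 100000
set_option synthInstance.maxSize 2000

namespace Cfsg.Agent.U62ThreeCent

open Cfsg.Agent.PSpThree

theorem sgnSL_conj_upper : ∀ B A : SL23, ∀ c : K, B * A * B⁻¹ = upperU ^ c.val → sgnSL A = c := by
  decide +kernel

theorem sgnSL_upperU : ∀ k : K, sgnSL (upperU ^ k.val) = k := by decide +kernel

theorem sl_factor : ∀ A : SL23, ∃ q : SL23, q ^ 4 = 1 ∧ A = q * upperU ^ (sgnSL A).val := by decide +kernel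

theorem half_class : ∀ A : SL23, A ^ 3 = 1 → A ≠ 1 →
    ∃ B : SL23, B ^ 4 = 1 ∧ ∃ c : K, c ≠ 0 ∧ B * A * B⁻¹ = upperU ^ c.val := by decide +kernel

theorem uni_neg : ∀ b : K, b ≠ 0 → b = 1 ∨ b = -1 := by decide

theorem upper_nine (k l : K) : (⟨upperU ^ k.val, upperU ^ l.val, false⟩ : Mon) ^ 3 = 1 := by
  have h : ∀ k : K, (upperU ^ k.val) ^ 3 = 1 := by decide +kernel
  rw [Mon.pow_false rfl, h, h]; rfl

theorem upperU_pow_three : upperU ^ 3 = 1 := by decide +kernel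

theorem half_sgn : ∀ A : SL23, A ^ 3 = 1 → A ≠ 1 → sgnSL A ≠ 0 := by decide +kernel

theorem sgnSL_one : sgnSL 1 = 0 := by decide +kernel

namespace Cfg

variable {G : Type*} [Group G] {C : Cfg G}

/-- The two signs of a point of `C(z)` are equal. -/
theorem sgn_of_pt {p : G} (hp : C.IsPt p) (hz : Commute p C.z) : C.sgn p = 0 := by
  by_cases hQ : p ∈ C.Q
  · exact sgn_of_mem hQ
  have hy : C.Outer p := ⟨hp, hz, hQ⟩
  obtain ⟨hs, ha, hb, ha1, hb1⟩ := hy.φ_cases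
  obtain ⟨B₀, c, hc, hB₀⟩ := upperU_class _ ha ha1
  obtain ⟨B₁, d, hd, hB₁⟩ := upperU_class _ hb hb1
  have hsa := sgnSL_conj_upper _ _ _ hB₀
  have hsb := sgnSL_conj_upper _ _ _ hB₁
  set C' := C.recoord ⟨B₀, B₁, false⟩ rfl with hC'
  have hy' : C'.Outer p := hy
  have hφ : C'.φ p = ⟨upperU ^ c.val, upperU ^ d.val, false⟩ := by
    show (⟨B₀, B₁, false⟩ : Mon) * C.φ p * (⟨B₀, B₁, false⟩ : Mon)⁻¹ = _
    rw [Mon.inv_def, Mon.mul_def, Mon.mul_def]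
    simp [hs, hB₀, hB₁]
  have hcd : c = d := by
    rcases uni_neg c hc with rfl | rfl
    · rw [ZMod.val_one, pow_one] at hφ
      exact (hy'.normal_form hd hφ).1.symm
    · have h2 : C'.φ p⁻¹ = ⟨upperU, upperU ^ (-d).val, false⟩ := by
        rw [C'.φ_inv hy'.2.1, hφ, Mon.inv_def]
        refine Mon.ext ?_ (upperU_inv d) rfl
        show (upperU ^ (-1 : K).val)⁻¹ = upperU
        decide +kernel
      rw [← (hy'.inv.normal_form (neg_ne_zero.2 hd) h2).1, neg_neg]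
  rw [sgn, hsa, hsb, hcd, sub_self]

end Cfg

namespace Std

variable {G : Type*} [Group G] (S : Std G)

theorem sgn_jj (v : J4) : S.sgn (S.jj v) = 0 := by
  rw [Cfg.sgn, S.φ_jj, S.φ_y, Mon.pow_false rfl, sub_self]

theorem mem_centJ_comm {a : G} (ha : a ∈ Subgroup.centralizer (S.J : Set G)) (v : J4) :
    Commute a (S.jj v) :=
  (Subgroup.mem_centralizer_iff.1 ha _ (S.jj_mem v)).symm

theorem centJ_z {a : G} (ha : a ∈ Subgroup.centralizer (S.J : Set G)) : Commute a S.z :=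
  S.jj_z ▸ S.mem_centJ_comm ha _

theorem J_le_centJ : S.J ≤ Subgroup.centralizer (S.J : Set G) := by
  intro j hj
  obtain ⟨v, rfl⟩ := S.mem_J.1 hj
  refine Subgroup.mem_centralizer_iff.2 fun k hk => ?_
  obtain ⟨w, rfl⟩ := S.mem_J.1 hk
  exact (S.commute_jj w v).eq

theorem cube_mem {j : G} (hj : j ∈ S.J) : j ^ 3 = 1 := by
  obtain ⟨v, rfl⟩ := S.mem_J.1 hj
  exact S.jj_cube v

/-- An element of `Q` commuting with `X` and `X'` lies in `J`. -/
theorem mem_J_of_mem_Q {q : G} (hq : q ∈ S.Q) (hX : Commute q S.X) (hX' : Commute q S.X') :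
    q ∈ S.J := by
  have h1 : om (S.vec q) ((1, 0), 0) = 0 := by
    rw [← S.vec_X]; exact (Cfg.commute_iff_om hq S.X_mem).1 hX
  have h2 : om (S.vec q) (0, (1, 0)) = 0 := by
    rw [← S.vec_X']; exact (Cfg.commute_iff_om hq S.X'_mem).1 hX'
  obtain ⟨a, ha⟩ := S.jj_of_Q hq (X_vecs.2 _ h1 h2)
  exact ha ▸ S.jj_mem _

theorem fix_X : ∀ A B : SL23, Mon.act ⟨A, B, false⟩ ((1, 0), 0) = ((1, 0), 0) →
    Mon.act ⟨A, B, false⟩ (0, (1, 0)) = (0, (1, 0)) → A * upperU = upperU * A →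
    B * upperU = upperU * B → A ^ 3 = 1 ∧ B ^ 3 = 1 := by decide +kernel

/-- The image of an element of the centraliser of `J`. -/
theorem φ_centJ (hs : ∀ h, Commute h S.z → (S.φ h).s = false) {a : G}
    (ha : a ∈ Subgroup.centralizer (S.J : Set G)) :
    ∃ k l : K, S.φ a = ⟨upperU ^ k.val, upperU ^ l.val, false⟩ := by
  have haz := S.centJ_z ha
  have hay : Commute a S.y := S.jj_y ▸ S.mem_centJ_comm ha _
  have hfix : ∀ x ∈ S.Q, Commute a x → Mon.act (S.φ a) (S.vec x) = S.vec x := fun x hx hc => by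
    rw [← S.vec_conj a haz x hx, hc.eq, mul_inv_cancel_right]
  have h1 := hfix _ S.X_mem (S.jj_X ▸ S.mem_centJ_comm ha _)
  have h2 := hfix _ S.X'_mem (S.jj_X' ▸ S.mem_centJ_comm ha _)
  have hc := (S.φ_mul _ _ haz S.y_comm).symm.trans ((congrArg S.φ hay.eq).trans (S.φ_mul _ _ S.y_comm haz))
  have hms := hs a haz
  rw [S.vec_X] at h1
  rw [S.vec_X'] at h2
  obtain ⟨A, B, s⟩ : ∃ A B, S.φ a = ⟨A, B, false⟩ := ⟨_, _, Mon.ext rfl rfl hms⟩
  rw [s] at h1 h2 hc ⊢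
  rw [S.φ_y, Mon.mul_def, Mon.mul_def] at hc
  simp only [cond_false, Mon.mk.injEq, and_true, Bool.xor_false] at hc
  obtain ⟨hA, hB⟩ := fix_X A B h1 h2 hc.1 hc.2
  obtain ⟨k, rfl⟩ := upperU_comm A hA hc.1
  obtain ⟨l, rfl⟩ := upperU_comm B hB hc.2
  exact ⟨k, l, rfl⟩

theorem isPGroup_centJ (hs : ∀ h, Commute h S.z → (S.φ h).s = false) :
    IsPGroup 3 (Subgroup.centralizer (S.J : Set G)) := by
  rintro ⟨a, ha⟩
  refine ⟨2, Subtype.ext ?_⟩
  obtain ⟨k, l, hφ⟩ := S.φ_centJ hs ha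
  have haz := S.centJ_z ha
  have h3 : a ^ 3 ∈ S.J := by
    refine S.mem_J_of_mem_Q ((S.φ_ker _ (haz.pow_left 3)).1 ?_) ?_ ?_
    · rw [pow_three, S.φ_mul _ _ haz (haz.mul_left haz), S.φ_mul _ _ haz haz, ← pow_three, hφ, upper_nine]
    · exact (S.jj_X ▸ S.mem_centJ_comm ha _).pow_left 3
    · exact (S.jj_X' ▸ S.mem_centJ_comm ha _).pow_left 3
  show a ^ 3 ^ 2 = 1
  rw [show 3 ^ 2 = 3 * 3 from rfl, pow_mul, S.cube_mem h3]

theorem centJ_ker (hs : ∀ h, Commute h S.z → (S.φ h).s = false) {a : G}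
    (ha : a ∈ Subgroup.centralizer (S.J : Set G)) (h0 : S.sgn a = 0) : a ∈ S.J := by
  obtain ⟨k, l, hφ⟩ := S.φ_centJ hs ha
  rw [Cfg.sgn, hφ, sgnSL_upperU, sgnSL_upperU, sub_eq_zero] at h0
  subst h0
  have haz := S.centJ_z ha
  have hyk : Commute (S.y ^ k.val)⁻¹ S.z := (S.y_comm.pow_left _).inv_left
  have hq : a * (S.y ^ k.val)⁻¹ ∈ S.Q := by
    refine (S.φ_ker _ (haz.mul_left hyk)).1 ?_
    rw [S.φ_mul _ _ haz hyk, S.φ_inv (S.y_comm.pow_left _), S.φ_pow_y, S.φ_y, hφ, Mon.pow_false rfl,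
      mul_inv_cancel]
  have hm := S.mem_J_of_mem_Q hq ((S.jj_X ▸ S.mem_centJ_comm ha _).mul_left (S.y_X.pow_left _).inv_left)
    ((S.jj_X' ▸ S.mem_centJ_comm ha _).mul_left (S.y_X'.pow_left _).inv_left)
  have hy : S.y ^ k.val ∈ S.J := pow_mem (S.jj_y ▸ S.jj_mem _) _
  simpa using mul_mem hm hy

theorem Q_normalizer {q : G} (hq : q ∈ S.Q) : q ∈ Subgroup.normalizer (S.J : Set G) := by
  have key : ∀ q ∈ S.Q, ∀ x ∈ S.J, q * x * q⁻¹ ∈ S.J := fun q hq x hx => by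
    obtain ⟨v, rfl⟩ := S.mem_J.1 hx
    rw [S.conj_Q hq]; exact S.jj_mem _
  refine Subgroup.mem_normalizer_iff.2 fun x => ⟨key q hq x, fun h => ?_⟩
  have := key q⁻¹ (inv_mem hq) _ h
  rwa [show q⁻¹ * (q * x * q⁻¹) * q⁻¹⁻¹ = x by group] at this

theorem X_mem_atPt {D : Cfg G} (hD : Cfg.AtPt S.toCfg S.y D) : S.X ∈ D.Q ∧ S.X' ∈ D.Q := by
  obtain ⟨-, X₀, X₁, h₀, h₁, hv₀, hv₁, -, -, horb, hDQ⟩ :=
    S.outer_y.normal_form (c := 1) one_ne_zero (by rw [S.φ_y, ZMod.val_one, pow_one])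
  obtain ⟨a, ha⟩ := S.jj_of_Q (c := -1) (d := 0) h₀ (by rw [hv₀]; rfl)
  obtain ⟨b, hb⟩ := S.jj_of_Q (c := 0) (d := -1) h₁ (by rw [hv₁]; rfl)
  have hget : ∀ s t : K, quad ((-(s * s + t * t), 0, 0, 0) + s • (a, 0, -1, 0) + t • (b, 0, 0, -1) +
      (0, 1, 0, 0)) = 0 := by
    intro s t
    obtain ⟨q, -, hq⟩ := horb s t
    refine S.quad_of_pt ?_
    have hp : ∀ (w : J4) (k : K), S.jj w ^ k.val = S.jj (k • w) := by
      intro w k
      rcases k_cases k with rfl | rfl | rfl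
      · simp [S.jj_zero]
      · simp [ZMod.val_one]
      · rw [show (2 : K).val = 2 from rfl, pow_two, ← S.jj_add, show (2 : K) = 1 + 1 from rfl, add_smul,
          one_smul]
    have hzpow : ∀ k : K, S.z ^ k.val = S.jj (k, 0, 0, 0) := fun k => by simp [jj]
    rw [S.jj_add, S.jj_add, S.jj_add, ← hp, ← hp, ← ha, ← hb, ← hzpow, S.jj_y, ← hq]
    exact S.isPt_y.conj q
  have key : ∀ a b : K, (∀ s t : K, quad ((-(s * s + t * t), 0, 0, 0) + s • ((a, 0, -1, 0) : J4) +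
      t • (b, 0, 0, -1) + (0, 1, 0, 0)) = 0) → a = 0 ∧ b = 0 := by decide +kernel
  obtain ⟨rfl, rfl⟩ := key a b hget
  have e₀ : X₀ = S.X⁻¹ := by rw [ha, ← S.jj_X, ← S.jj_neg]; simp
  have e₁ : X₁ = S.X'⁻¹ := by rw [hb, ← S.jj_X', ← S.jj_neg]; simp
  obtain ⟨m₀, m₁⟩ := hDQ D hD
  rw [e₀] at m₀
  rw [e₁] at m₁
  exact ⟨inv_mem_iff.1 m₀, inv_mem_iff.1 m₁⟩

theorem diag_image : ∀ A B : SL23, A ^ 3 = 1 → B ^ 3 = 1 → ∀ x : V,
    Mon.act ⟨A, B, false⟩ (x - Mon.act ⟨A, B, false⟩ x) = x - Mon.act ⟨A, B, false⟩ x := by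
  decide +kernel

variable [Finite G]

/-- The unipotent elements at `y` normalise `J`. -/
theorem atPt_normalizer {D : Cfg G} (hD : Cfg.AtPt S.toCfg S.y D) {r : G} (hr : r ∈ D.Q) :
    r ∈ Subgroup.normalizer (S.J : Set G) := by
  obtain ⟨hXD, hX'D⟩ := S.X_mem_atPt hD
  have key : ∀ r ∈ D.Q, ∀ v, r * S.jj v * r⁻¹ ∈ S.J := by
    intro r hr
    have hry : Commute r S.y := (hD.comm r).1 (D.Q_le r hr)
    have hX : ∀ x ∈ D.Q, x ∈ S.J → r * x * r⁻¹ ∈ S.J := by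
      intro x hx hxJ
      have e := D.comm r hr x hx
      rw [show r * x * r⁻¹ = r * x * r⁻¹ * x⁻¹ * x by group, e]
      refine mul_mem (pow_mem ?_ _) hxJ
      have hm : D.z ∈ Subgroup.zpowers S.y := hD.zp ▸ Subgroup.mem_zpowers _
      exact Subgroup.zpowers_le.2 (S.jj_y ▸ S.jj_mem _) hm
    have hz : r * S.z * r⁻¹ ∈ S.J := by
      have hout := hD.outer
      obtain ⟨hc, hv⟩ := hout.comm_mem hr
      obtain ⟨hs, ha, hb, -, -⟩ := hout.φ_cases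
      have hcz : Commute (r * S.z * r⁻¹ * S.z⁻¹) S.z := hout.commute_of_fixed hc (by
        rw [hv, show D.φ S.z = ⟨(D.φ S.z).a, (D.φ S.z).b, false⟩ from Mon.ext rfl rfl hs]
        exact diag_image _ _ ha hb _)
      refine S.mem_J_of_pt (S.isPt_z.conj r) ?_ ?_
      · have := hcz.mul_left (Commute.refl S.z)
        rwa [show r * S.z * r⁻¹ * S.z⁻¹ * S.z = r * S.z * r⁻¹ by group] at this
      · exact (hry.mul_left S.y_comm.symm).mul_left hry.inv_left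
    intro v
    have hy : r * S.y * r⁻¹ ∈ S.J := by
      rw [hry.eq, mul_inv_cancel_right]; exact S.jj_y ▸ S.jj_mem _
    rw [show r * S.jj v * r⁻¹ = (r * S.z * r⁻¹) ^ v.1.val * (r * S.y * r⁻¹) ^ v.2.1.val *
      (r * S.X * r⁻¹) ^ v.2.2.1.val * (r * S.X' * r⁻¹) ^ v.2.2.2.val by
        simp only [jj, conj_pow]; group]
    exact mul_mem (mul_mem (mul_mem (pow_mem hz _) (pow_mem hy _))
      (pow_mem (hX _ hXD (S.jj_X ▸ S.jj_mem _)) _)) (pow_mem (hX _ hX'D (S.jj_X' ▸ S.jj_mem _)) _)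
  refine Subgroup.mem_normalizer_iff.2 fun x => ⟨fun hx => ?_, fun h => ?_⟩
  · obtain ⟨v, rfl⟩ := S.mem_J.1 hx
    exact key r hr v
  · obtain ⟨v, hv⟩ := S.mem_J.1 h
    have h2 := key r⁻¹ (inv_mem hr) v
    rwa [hv, show r⁻¹ * (r * x * r⁻¹) * r⁻¹⁻¹ = x by group] at h2

/-- The unipotent elements at `y` move `z` to every point in the first affine chart. -/
theorem exists_mov {D : Cfg G} (hD : Cfg.AtPt S.toCfg S.y D) (e f : K) :
    ∃ r ∈ D.Q, r * S.z * r⁻¹ = S.jj (1, -(e * e + f * f), e, f) := by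
  obtain ⟨hXD, hX'D⟩ := S.X_mem_atPt hD
  have hout := hD.outer
  obtain ⟨hs, ha, hb, ha1, hb1⟩ := hout.φ_cases
  set w := S.jj (0, 0, e, f) with hw
  have hwD : w ∈ D.Q := by
    simp only [hw, jj, ZMod.val_zero, pow_zero, one_mul]
    exact mul_mem (pow_mem hXD _) (pow_mem hX'D _)
  obtain ⟨p, p', hp, hp', hind, himg, -⟩ := Mon.diag_fix hout.φ_cube ha1 hb1
  obtain ⟨u, hu⟩ := himg (D.vec w)
    (hout.fixed_of_commute hwD (by rw [hw, ← S.jj_z]; exact S.commute_jj _ _))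
  obtain ⟨r, hr, rfl⟩ := D.vec_surj u
  refine ⟨r, hr, ?_⟩
  obtain ⟨hc, hv⟩ := hout.comm_mem hr
  have hk := (D.vec_ker _ (mul_mem (inv_mem hwD) hc)).1
    (by rw [D.vec_mul _ (inv_mem hwD) _ hc, D.vec_inv hwD, hv, ← hu, neg_add_cancel])
  rw [hD.zp] at hk
  obtain ⟨i, hi⟩ := Subgroup.mem_zpowers_iff.1 hk
  have hy : S.y ^ i = S.jj (0, (i : K), 0, 0) := by
    simp only [jj, ZMod.val_zero, pow_zero, one_mul, mul_one]
    rw [← zpow_natCast, ZMod.val_intCast, ← S.outer_y.orderOf_eq, zpow_mod_orderOf]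
  have h1 : r * S.z * r⁻¹ = S.jj (1, (i : K), e, f) := by
    rw [show r * S.z * r⁻¹ = w * (w⁻¹ * (r * S.z * r⁻¹ * S.z⁻¹)) * S.z by group, ← hi, hy, hw]
    nth_rewrite 1 [← S.jj_z]
    rw [← S.jj_add, ← S.jj_add]
    simp
  have h2 := S.quad_of_pt (h1 ▸ S.isPt_z.conj r)
  have h3 : ∀ i e f : K, quad (1, i, e, f) = 0 → i = -(e * e + f * f) := by decide
  rw [h1, h3 _ _ _ h2]

/-- The elements of three-power order of `N(J)`. -/
def threeNorm : Subgroup G :=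
  Subgroup.closure {c : G | c ∈ Subgroup.normalizer (S.J : Set G) ∧ ∃ k : ℕ, c ^ 3 ^ k = 1}

theorem Q_threeNorm {q : G} (hq : q ∈ S.Q) : q ∈ S.threeNorm :=
  Subgroup.subset_closure ⟨S.Q_normalizer hq, 1, by simpa using S.cube q hq⟩

theorem atPt_threeNorm {D : Cfg G} (hD : Cfg.AtPt S.toCfg S.y D) {r : G} (hr : r ∈ D.Q) :
    r ∈ S.threeNorm :=
  Subgroup.subset_closure ⟨S.atPt_normalizer hD hr, 1, by simpa using D.cube r hr⟩

/-- The orbit of `z` contains every point of `J`. -/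
theorem exists_conj_pt {p : G} (hp : S.IsPt p) (hpJ : p ∈ S.J) : ∃ c ∈ S.threeNorm, c * S.z * c⁻¹ = p := by
  obtain ⟨D, hD⟩ := S.outer_y.atPt
  -- `z` to the powers of `y`
  have hzy : ∀ b : K, b ≠ 0 → ∃ c ∈ S.threeNorm, c * S.z * c⁻¹ = S.jj (0, b, 0, 0) := by
    intro b hb
    have he : ∀ b : K, b ≠ 0 → ∃ e f : K, -(e * e + f * f) = b ∧
        ((1, b, e, f) : J4) = b • uni (b * e, b * f) (0, 1, 0, 0) := by decide +kernel
    obtain ⟨e, f, hef, hu⟩ := he b hb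
    obtain ⟨r, hr, hrz⟩ := S.exists_mov hD e f
    obtain ⟨q, hq, hqc⟩ := S.exists_uni (b * e, b * f)
    refine ⟨q⁻¹ * r, mul_mem (inv_mem (S.Q_threeNorm hq)) (S.atPt_threeNorm hD hr), ?_⟩
    have e1 : uni (b * e, b * f) (0, b, 0, 0) = (1, b, e, f) := by
      rw [hu]
      have h1 : ∀ (b : K) (p : K × K), uni p (0, b, 0, 0) = b • uni p (0, 1, 0, 0) := by decide +kernel
      exact h1 _ _
    have h2 := hqc (0, b, 0, 0)
    rw [e1] at h2
    rw [show q⁻¹ * r * S.z * (q⁻¹ * r)⁻¹ = q⁻¹ * (r * S.z * r⁻¹) * q by group, hrz, hef, ← h2]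
    group
  -- `z` to its powers
  have hzz : ∀ a : K, a ≠ 0 → ∃ c ∈ S.threeNorm, c * S.z * c⁻¹ = S.jj (a, 0, 0, 0) := by
    intro a ha
    rcases uni_neg a ha with rfl | rfl
    · exact ⟨1, one_mem _, by rw [S.jj_z]; group⟩
    · obtain ⟨c, hc, hcz⟩ := hzy 1 one_ne_zero
      obtain ⟨d, hd, hdz⟩ := hzy (-1) (by decide)
      refine ⟨c⁻¹ * d, mul_mem (inv_mem hc) hd, ?_⟩
      have e0 : ((0, -1, 0, 0) : J4) = -(0, 1, 0, 0) := by decide
      rw [show c⁻¹ * d * S.z * (c⁻¹ * d)⁻¹ = c⁻¹ * (d * S.z * d⁻¹) * c by group, hdz, e0, S.jj_neg, ← hcz,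
        show ((-1 : K), (0 : K), (0 : K), (0 : K)) = -(1, 0, 0, 0) by decide, S.jj_neg, S.jj_z]
      group
  obtain ⟨⟨a, b, e, f⟩, rfl⟩ := S.mem_J.1 hpJ
  obtain ⟨hne, hq⟩ := (S.isPt_jj _).1 hp
  by_cases hb : b = 0
  · subst hb
    have h0 : ∀ a e f : K, quad (a, 0, e, f) = 0 → e = 0 ∧ f = 0 := by decide
    obtain ⟨rfl, rfl⟩ := h0 a e f hq
    exact hzz a fun h => hne (by rw [h]; rfl)
  · obtain ⟨c, hc, hcz⟩ := hzy b hb
    obtain ⟨q, hq', hqc⟩ := S.exists_uni (b * e, b * f)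
    refine ⟨q * c, mul_mem (S.Q_threeNorm hq') hc, ?_⟩
    rw [show q * c * S.z * (q * c)⁻¹ = q * (c * S.z * c⁻¹) * q⁻¹ by group, hcz, hqc]
    have h1 : ∀ (b : K) (p : K × K), uni p (0, b, 0, 0) = b • uni p (0, 1, 0, 0) := by decide +kernel
    rw [h1, ← uni_reach b e f hb a hq]

/-- A half element centralising `J`. -/
theorem exists_half_centJ (hb : S.toCfg.Big) (hs : ∀ h, Commute h S.z → (S.φ h).s = false) :
    ∃ x ∈ Subgroup.centralizer (S.J : Set G), S.sgn x ≠ 0 := by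
  obtain ⟨h₀, hh₀, h₀3, h₀half⟩ := hb
  obtain ⟨hs₀, ha3, hb3, -⟩ := Mon.cube_cases h₀3
  obtain ⟨h, hh, k, l, hkl, hφ⟩ : ∃ h, Commute h S.z ∧ ∃ k l : K, k ≠ l ∧
      S.φ h = ⟨upperU ^ k.val, upperU ^ l.val, false⟩ := by
    rcases h₀half with ⟨ha, hb'⟩ | ⟨ha', hb⟩
    · obtain ⟨B, hB, c, hc, he⟩ := half_class _ hb3 hb'
      obtain ⟨n, hn, hnφ⟩ := S.quat 1 B (one_pow 4) hB
      refine ⟨n * h₀ * n⁻¹, (hn.mul_left hh₀).mul_left hn.inv_left, 0, c, hc.symm, ?_⟩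
      rw [S.φ_mul _ _ (hn.mul_left hh₀) hn.inv_left, S.φ_mul _ _ hn hh₀, S.φ_inv hn, hnφ, Mon.inv_def,
        Mon.mul_def, Mon.mul_def]
      simp [hs₀, ha, he]
    · obtain ⟨B, hB, c, hc, he⟩ := half_class _ ha3 ha'
      obtain ⟨n, hn, hnφ⟩ := S.quat B 1 hB (one_pow 4)
      refine ⟨n * h₀ * n⁻¹, (hn.mul_left hh₀).mul_left hn.inv_left, c, 0, hc, ?_⟩
      rw [S.φ_mul _ _ (hn.mul_left hh₀) hn.inv_left, S.φ_mul _ _ hn hh₀, S.φ_inv hn, hnφ, Mon.inv_def,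
        Mon.mul_def, Mon.mul_def]
      simp [hs₀, hb, he]
  -- adjust by `Q` to centralise `y`
  have hyz' : Commute (h * S.y * h⁻¹) S.z := (hh.mul_left S.y_comm).mul_left hh.inv_left
  have hφy : S.φ (h * S.y * h⁻¹) = ⟨upperU, upperU, false⟩ := by
    rw [S.φ_mul _ _ (hh.mul_left S.y_comm) hh.inv_left, S.φ_mul _ _ hh S.y_comm, S.φ_inv hh, hφ, S.φ_y,
      Mon.inv_def, Mon.mul_def, Mon.mul_def]
    have h3 : ∀ k : K, upperU ^ k.val * upperU * (upperU ^ k.val)⁻¹ = upperU := by decide +kernel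
    simp [h3]
  obtain ⟨⟨a, b, e, f⟩, hv⟩ := S.mem_J.1 (S.mem_J_of_pt' (S.isPt_y.conj h) hyz'
    (by rw [hφy, S.φ_y]))
  have hb : b = 1 := by
    have e1 := hφy
    rw [← hv, S.φ_jj, S.φ_y, Mon.pow_false rfl] at e1
    exact upperU_val b 1 (by rw [ZMod.val_one, pow_one]; exact congrArg Mon.a e1)
  subst hb
  obtain ⟨q, hq, hqc⟩ := S.exists_uni (e, f)
  have hqy : q * S.y * q⁻¹ = h * S.y * h⁻¹ := by
    rw [← hv, ← S.jj_y, hqc]
    refine congrArg S.jj ?_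
    have hquad : quad (a, 1, e, f) = 0 := S.quad_of_pt (hv ▸ S.isPt_y.conj h)
    have h4 : ∀ a e f : K, quad (a, 1, e, f) = 0 → uni (e, f) (0, 1, 0, 0) = (a, 1, e, f) := by decide
    exact h4 a e f hquad
  set x := q⁻¹ * h with hx
  have hqz : Commute q⁻¹ S.z := (S.Q_le q hq).inv_left
  have hxz : Commute x S.z := hqz.mul_left hh
  have hφx : S.φ x = ⟨upperU ^ k.val, upperU ^ l.val, false⟩ := by
    rw [hx, S.φ_mul _ _ hqz hh, S.φ_of_mem (inv_mem hq), one_mul, hφ]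
  have hxy : x * S.y * x⁻¹ = S.y := by
    rw [hx, show q⁻¹ * h * S.y * (q⁻¹ * h)⁻¹ = q⁻¹ * (h * S.y * h⁻¹) * q by group, ← hqy]; group
  -- the images of `X` and `X'`
  have hXX : ∀ W : G, W ∈ S.Q → ∀ c d : K, S.vec W = ((c, 0), (d, 0)) → W = S.jj (0, 0, c, d) →
      S.IsPt (S.jj (-(c * c + d * d), 1, c, d)) → x * W * x⁻¹ = W := by
    intro W hW c d hWv hWj hpt
    have hv' : S.vec (x * W * x⁻¹) = ((c, 0), (d, 0)) := by
      rw [S.vec_conj x hxz W hW, hφx, hWv]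
      have h3 : ∀ k l c d : K, Mon.act ⟨upperU ^ k.val, upperU ^ l.val, false⟩ ((c, 0), (d, 0)) =
          ((c, 0), (d, 0)) := by decide +kernel
      exact h3 k l c d
    obtain ⟨i, hi⟩ := S.jj_of_Q (S.conj_mem x hxz W hW) hv'
    have hp := hpt.conj x
    have hxzz : x * S.z * x⁻¹ = S.z := by rw [hxz.eq, mul_inv_cancel_right]
    rw [show ((-(c * c + d * d), 1, c, d) : J4) = (-(c * c + d * d), 1, 0, 0) + (0, 0, c, d) by simp,
      S.jj_add, ← hWj, ← conj_mul, hi,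
      show x * S.jj (-(c * c + d * d), 1, 0, 0) * x⁻¹ = S.jj (-(c * c + d * d), 1, 0, 0) by
        simp only [jj, ZMod.val_zero, pow_zero, mul_one]
        rw [← conj_mul, ← conj_pow, ← conj_pow, hxzz, hxy],
      ← S.jj_add] at hp
    have h4 : ∀ i c d : K, quad ((-(c * c + d * d), 1, 0, 0) + ((i, 0, c, d) : J4)) = 0 → i = 0 := by
      decide +kernel
    rw [hi, h4 i c d (S.quad_of_pt hp), hWj]
  have hX := hXX S.X S.X_mem 1 0 (by rw [S.vec_X]; rfl) S.jj_X.symm ((S.isPt_jj _).2 (by decide))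
  have hX' := hXX S.X' S.X'_mem 0 1 (by rw [S.vec_X']; rfl) S.jj_X'.symm ((S.isPt_jj _).2 (by decide))
  refine ⟨x, Subgroup.mem_centralizer_iff.2 fun j hj => ?_, ?_⟩
  · obtain ⟨v, rfl⟩ := S.mem_J.1 hj
    have hc : ∀ u, x * u * x⁻¹ = u → Commute x u := fun u e => mul_inv_eq_iff_eq_mul.1 e
    exact ((((hxz.pow_right _).mul_right ((hc _ hxy).pow_right _)).mul_right
      ((hc _ hX).pow_right _)).mul_right ((hc _ hX').pow_right _)).symm.eq
  · rw [Cfg.sgn, hφx, sgnSL_upperU, sgnSL_upperU]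
    exact sub_ne_zero.2 hkl

/-- The subgroup of index three, from the standard position. -/
theorem exists_index_three (hb : S.toCfg.Big) (hs : ∀ h, Commute h S.z → (S.φ h).s = false) :
    ∃ (N : Subgroup G) (x : G), N.Normal ∧ N.index = 3 ∧ x ∉ N ∧ Commute x S.z ∧ S.sgn x ≠ 0 ∧
      (∀ g, g * S.z * g⁻¹ ∈ N) ∧ S.Q ≤ N ∧
      (∀ h, Commute h S.z → S.φ h ^ 4 = 1 → h ∈ N) := by
  obtain ⟨x, hxA, hx⟩ := S.exists_half_centJ hb hs
  have hmove : ∃ g : G, g * S.z * g⁻¹ ∈ S.J ∧ g * S.z * g⁻¹ ≠ S.z := by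
    obtain ⟨c, -, hc⟩ := S.exists_conj_pt S.isPt_y (S.jj_y ▸ S.jj_mem _)
    refine ⟨c, hc ▸ S.jj_y ▸ S.jj_mem _, fun e => ?_⟩
    rw [hc] at e
    exact S.outer_y.2.2 (e ▸ S.z_mem)
  obtain ⟨N, hN, hi, hxN, h1, h2, h3⟩ := Cfg.exists_index_three (C := S.toCfg) hs
    (fun g hg => Cfg.sgn_of_pt ⟨g, Or.inl rfl⟩ hg) (S.jj_z ▸ S.jj_mem _) S.J_le_centJ
    (fun j hj => S.cube_mem hj) (S.isPGroup_centJ hs)
    (fun j hj => by obtain ⟨v, rfl⟩ := S.mem_J.1 hj; exact S.sgn_jj v)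
    (fun a ha => S.centJ_ker hs ha) (fun q hq => S.Q_normalizer hq)
    (fun g hg => S.exists_conj_pt ⟨g, Or.inl rfl⟩ hg) hmove hxA hx
  exact ⟨N, x, hN, hi, hxN, S.centJ_z hxA, hx, h1, h2, h3⟩

end Std

namespace Cfg

variable {G : Type*} [Group G]

theorem big_recoord {C D : Cfg G} {m : Mon} (hφ : ∀ h, D.φ h = m * C.φ h * m⁻¹) (hz : D.z = C.z)
    (hm : m.s = false) (hb : C.Big) : D.Big := by
  obtain ⟨h, hh, h3, hhalf⟩ := hb
  obtain ⟨hs, -⟩ := Mon.cube_cases h3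
  refine ⟨h, hz ▸ hh, by rw [hφ, conj_pow, h3, mul_one, mul_inv_cancel], ?_⟩
  rw [hφ, Mon.mul_def, Mon.mul_def, Mon.inv_def, hm]
  simp only [hs, cond_false, Bool.xor_false, Mon.IsHalf]
  rcases hhalf with ⟨ha, hb'⟩ | ⟨ha', hb'⟩
  · exact Or.inl ⟨by rw [ha]; group, fun e => hb' (conj_eq_one_iff.1 e)⟩
  · exact Or.inr ⟨fun e => ha' (conj_eq_one_iff.1 e), by rw [hb']; group⟩

/-- If the Sylow three-subgroup is too large and nothing exchanges the planes, there is a normal subgroup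
of index three with the small configuration. -/
theorem exists_index_three_of_big [Finite G] (C : Cfg G) (hb : C.Big) (hs : ¬ C.Swap) :
    ∃ N : Subgroup G, N.Normal ∧ N.index = 3 ∧
      ∃ C' : Cfg N, ¬ C'.Big ∧ ¬ C'.Swap ∧ (C'.z : G) = C.z := by
  obtain ⟨S, m, hm, hS⟩ := C.exists_std'
  have hz : S.z = C.z := by rw [hS]; rfl
  have hφ : ∀ h, S.φ h = m * C.φ h * m⁻¹ := fun h => by rw [hS]; rfl
  have hs' : ∀ h, Commute h S.z → (S.φ h).s = false := by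
    intro h hh
    rw [Bool.eq_false_iff]
    intro e
    refine hs ⟨h, hz ▸ hh, ?_⟩
    rw [hφ, Mon.mul_def, Mon.mul_def, Mon.inv_def, hm] at e
    simpa using e
  obtain ⟨N, x, hN, hi, hxN, hxz, hx, h1, h2, h3⟩ :=
    S.exists_index_three (big_recoord hφ hz hm hb) hs'
  obtain ⟨C', hz', hQ', hφ'⟩ := exists_restrict (C := S.toCfg) N hi hxN hxz h2 h1 h3
  refine ⟨N, hN, hi, C', ?_, ?_, by rw [hz', hz]⟩
  · rintro ⟨⟨h, hhN⟩, hh, h3', hhalf⟩
    have hh' : Commute h S.z := by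
      have e := congrArg Subtype.val hh.eq
      rw [Subgroup.coe_mul, Subgroup.coe_mul, hz'] at e
      exact e
    rw [hφ'] at h3' hhalf
    obtain ⟨hms, ha3, hb3, -⟩ := Mon.cube_cases h3'
    have hsgn : S.sgn h ≠ 0 := by
      rw [Cfg.sgn]
      rcases hhalf with ⟨ha, hb'⟩ | ⟨ha', hb'⟩
      · rw [ha, sgnSL_one, zero_sub, neg_ne_zero]; exact half_sgn _ hb3 hb'
      · rw [hb', sgnSL_one, sub_zero]; exact half_sgn _ ha3 ha'
    -- an element of `C(z)` with equal signs lies in `N`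
    have hzero : ∀ g, Commute g S.z → S.sgn g = 0 → g ∈ N := by
      intro g hg h0
      rw [Cfg.sgn, sub_eq_zero] at h0
      obtain ⟨qa, hqa, ea⟩ := sl_factor (S.φ g).a
      obtain ⟨qb, hqb, eb⟩ := sl_factor (S.φ g).b
      rw [← h0] at eb
      obtain ⟨n, hn, hnφ⟩ := S.quat qa qb hqa hqb
      set k := sgnSL (S.φ g).a
      have hnN : n ∈ N := h3 n hn (by rw [hnφ, Mon.pow_false rfl, hqa, hqb]; rfl)
      have hyN : S.y ^ k.val ∈ N := by
        obtain ⟨c, hc | hc⟩ := S.isPt_y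
        · rw [hc]; exact pow_mem (h1 c) _
        · rw [hc]; exact pow_mem (inv_mem (h1 c)) _
      have hny : Commute (n * S.y ^ k.val) S.z := hn.mul_left (S.y_comm.pow_left _)
      have hq : (n * S.y ^ k.val)⁻¹ * g ∈ S.Q := by
        refine (S.φ_ker _ (hny.inv_left.mul_left hg)).1 ?_
        have e : S.φ g = S.φ (n * S.y ^ k.val) := by
          rw [S.φ_mul _ _ hn (S.y_comm.pow_left _), hnφ, S.φ_pow_y, S.φ_y, Mon.pow_false rfl, Mon.mul_def]
          exact Mon.ext ea eb (hs' g hg)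
        rw [S.φ_mul _ _ hny.inv_left hg, S.φ_inv hny, e, inv_mul_cancel]
      have h4 := mul_mem (mul_mem hnN hyN) (h2 hq)
      rwa [mul_inv_cancel_left] at h4
    set j := S.sgn h * S.sgn x with hj
    have hxj : Commute (x ^ j.val) S.z := hxz.pow_left _
    have hgN : h * (x ^ j.val)⁻¹ ∈ N := by
      refine hzero _ (hh'.mul_left hxj.inv_left) ?_
      have e1 := sgn_mul hs' (hh'.mul_left hxj.inv_left) hxj
      rw [inv_mul_cancel_right, sgn_pow hs' hxz, ZMod.natCast_zmod_val] at e1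
      have h5 : ∀ s r t : K, r ≠ 0 → s = t + s * r * r → t = 0 := by decide
      exact h5 _ _ _ hx e1
    have hxN' : x ^ j.val ∈ N := by
      have := mul_mem (inv_mem hgN) hhN
      rwa [show (h * (x ^ j.val)⁻¹)⁻¹ * h = x ^ j.val by group] at this
    have h6 : ∀ s r : K, s ≠ 0 → r ≠ 0 → (s * r).val = 1 ∨ (s * r).val = 2 := by decide
    rcases h6 _ _ hsgn hx with e | e <;> rw [hj, e] at hxN'
    · exact hxN (by simpa using hxN')
    · refine hxN ?_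
      have h7 : x ^ 3 ∈ N := by
        refine hzero _ (hxz.pow_left 3) ?_
        rw [sgn_pow hs' hxz, show ((3 : ℕ) : K) = 0 from by decide, zero_mul]
      have := mul_mem h7 (inv_mem hxN')
      rwa [show x ^ 3 * (x ^ 2)⁻¹ = x by group] at this
  · rintro ⟨h, hh, hsw⟩
    rw [hφ'] at hsw
    have e := congrArg Subtype.val hh.eq
    rw [Subgroup.coe_mul, Subgroup.coe_mul, hz'] at e
    rw [hs' _ e] at hsw
    exact Bool.false_ne_true hsw

end Cfg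

end Cfsg.Agent.U62ThreeCent
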