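/-
A copy of `3^{1+2} : SL(2,3)` inside `C(z) ∩ C(X')`, compatible with the coordinates of `J`.

* `Std.WModel`, `Std.exists_wModel` : the homomorphism from the model, covering `C(z) ∩ C(X')` modulo
  `⟨X'⟩` when the Sylow three-subgroup of `C(z)/Q` is small and nothing exchanges the planes;
* `Std.exists_swap_zy` : some element of `N(J)` sends `z` to `y`.
-/
import Cfsg.Agent.Lib.U62ThreeCent.TCent
import Cfsg.Agent.Lib.U62ThreeCent.IndexThree
import Cfsg.Agent.Lib.PSpThree.Amalgam.Model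

set_option autoImplicit false
set_option maxRecDepth 100000
set_option synthInstance.maxSize 2000

namespace Cfsg.Agent.U62ThreeCent

open Cfsg.Agent.PSpThree

theorem sl_quat_pow : ∀ a : SL23, a ^ 4 = 1 → ∀ k : Fin 3, a * upperU ^ (k : ℕ) = 1 → a = 1 ∧ k = 0 := by
  decide +kernel

theorem sl_fix_line' : ∀ B : SL23, act2 B (1, 0) = (1, 0) → ∃ k : K, B = upperU ^ k.val := by decide +kernel

theorem sl_upper_cube : ∀ k : K, (upperU ^ k.val) ^ 3 = 1 := by decide +kernel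

theorem act2_ne_zero : ∀ a : SL23, act2 a (1, 0) ≠ 0 := by decide +kernel

theorem act2_act : ∀ (A : SL23) (x : H3), act2 A (x.i, x.j) = ((H3.act A x).i, (H3.act A x).j) := by
  decide +kernel

theorem act_neg_comm : ∀ (A : SL23) (x : H3), H3.neg (H3.act A x) = H3.act A (H3.neg x) := by decide +kernel

theorem neg_gens : H3.neg H3.gx = H3.gx⁻¹ ∧ H3.neg H3.gy = H3.gy⁻¹ := by decide +kernel

theorem U_eq : ∀ c : K, Loc.U c = upperU ^ c.val := fun _ => rfl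

theorem emb_eq_mul : ∀ v : Loc.V, Loc.emb v =
    (SemidirectProduct.inl ⟨v.1, v.2.1, 0⟩ : Loc.M) * SemidirectProduct.inr (upperU ^ v.2.2.val) := by
  decide +kernel

/-- Two homomorphisms from `H3` agreeing on the generators are equal. -/
theorem h3_hom_ext {R : Type*} [Group R] {f g : H3 →* R} (hx : f H3.gx = g H3.gx) (hy : f H3.gy = g H3.gy)
    (x : H3) : f x = g x := by
  have hz : f H3.cz = g H3.cz := by
    rw [← H3.commutator_gen]
    simp only [map_mul, map_inv, hx, hy]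
  rw [H3.eq_word x]
  simp only [map_mul, map_pow, hx, hy, hz]

namespace Std

variable {G : Type*} [Group G] (S : Std G)

/-- The local copy of the model. -/
structure WModel [Finite G] {t : G} (T : S.TInv t) where
  /-- the homomorphism -/
  ψ : Loc.M →* G
  comm_z : ∀ m, Commute (ψ m) S.z
  comm_X' : ∀ m, Commute (ψ m) S.X'
  emb_eq : ∀ v : Loc.V, ψ (Loc.emb v) = S.jj (-v.1, v.2.2, v.2.1, 0)
  ker : ∀ m, ψ m ∈ Subgroup.zpowers S.X' → m = 1
  tM_eq : ψ Loc.tM = t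
  inr_form : ∀ A : SL23, ∃ d ∈ T.D, ∃ k : ℕ, ψ (SemidirectProduct.inr A) = d * S.y ^ k
  d_lift : ∀ d ∈ T.D, ∃ A : SL23, ψ (SemidirectProduct.inr A) = d
  onto : ¬ S.toCfg.Big → ∀ g, Commute g S.z → Commute g S.X' → ∃ m, g * (ψ m)⁻¹ ∈ Subgroup.zpowers S.X'

theorem s_false_of_X' {g : G} (hz : Commute g S.z) (hX : Commute g S.X') :
    (S.φ g).s = false ∧ act2 (S.φ g).b (1, 0) = (1, 0) := by
  have e := S.vec_conj g hz _ S.X'_mem
  rw [hX.eq, mul_inv_cancel_right, S.vec_X'] at e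
  rcases hs : (S.φ g).s
  · refine ⟨rfl, ?_⟩
    rw [Mon.act_false hs] at e
    exact (congrArg Prod.snd e).symm
  · exfalso
    have e1 := congrArg Prod.fst e
    simp [Mon.act, hs] at e1
    exact act2_ne_zero _ e1.symm

/-- An element of `N(J)` sending `z` to `y`. -/
theorem exists_swap_zy [Finite G] :
    ∃ n : G, (∀ x ∈ S.J, n * x * n⁻¹ ∈ S.J) ∧ n * S.z * n⁻¹ ∈ Subgroup.zpowers S.y := by
  obtain ⟨c, hc, hcz⟩ := S.exists_conj_pt S.isPt_y (S.jj_y ▸ S.jj_mem _)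
  have hle : S.threeNorm ≤ Subgroup.normalizer (S.J : Set G) :=
    (Subgroup.closure_le _).2 fun x hx => hx.1
  exact ⟨c, fun x hx => (Subgroup.mem_normalizer_iff.1 (hle hc) x).1 hx, hcz ▸ Subgroup.mem_zpowers _⟩

variable [Finite G] {t : G} (T : S.TInv t)

/-- The complement: `D` extended by `y`. -/
def sigGroup : Subgroup G := T.D ⊔ Subgroup.zpowers S.y

theorem y_normalizes_D {d : G} (hd : d ∈ T.D) (n : ℕ) : S.y ^ n * d * (S.y ^ n)⁻¹ ∈ T.D :=
  T.D_normal (S.y_comm.pow_left n) (T.comm_y.symm.pow_left n) hd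

theorem mem_sigGroup {g : G} : g ∈ S.sigGroup T ↔ ∃ d ∈ T.D, ∃ k : ℕ, g = d * S.y ^ k := by
  constructor
  · intro hg
    have hle : Subgroup.zpowers S.y ≤ Subgroup.normalizer (T.D : Set G) := by
      refine Subgroup.zpowers_le.2 (Subgroup.mem_normalizer_fintype fun d hd => ?_)
      simpa using S.y_normalizes_D T hd 1
    have h : g ∈ ((T.D ⊔ Subgroup.zpowers S.y : Subgroup G) : Set G) := hg
    rw [Subgroup.coe_mul_of_right_le_normalizer_left _ _ hle] at h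
    obtain ⟨d, hd, k, hk, rfl⟩ := h
    obtain ⟨n, rfl⟩ := mem_powers_iff_mem_zpowers.2 hk
    exact ⟨d, hd, n, rfl⟩
  · rintro ⟨d, hd, k, rfl⟩
    exact mul_mem (Subgroup.mem_sup_left hd)
      (Subgroup.mem_sup_right (Subgroup.npow_mem_zpowers S.y k))

theorem sigGroup_props {g : G} (hg : g ∈ S.sigGroup T) :
    Commute g S.z ∧ Commute g t ∧ Commute g S.X' ∧ (S.φ g).s = false := by
  obtain ⟨d, hd, k, rfl⟩ := (S.mem_sigGroup T).1 hg
  have hz : Commute (d * S.y ^ k) S.z := hd.1.1.mul_left (S.y_comm.pow_left k)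
  refine ⟨hz, hd.1.2.1.mul_left (T.comm_y.symm.pow_left k), (T.comm_X'_D hd).mul_left (S.y_X'.pow_left k), ?_⟩
  rw [S.φ_mul _ _ hd.1.1 (S.y_comm.pow_left k), S.φ_pow_y, S.φ_y, Mon.pow_false rfl, Mon.mul_def]
  simp [hd.1.2.2.1]

theorem sigGroup_a {d : G} (hd : d ∈ T.D) (k : ℕ) :
    (S.φ (d * S.y ^ k)).a = (S.φ d).a * upperU ^ k := by
  rw [S.φ_mul _ _ hd.1.1 (S.y_comm.pow_left k), S.φ_pow_y, S.φ_y, Mon.pow_false rfl, Mon.mul_def]
  simp [hd.1.2.2.1]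

/-- The complement is `SL(2,3)`. -/
theorem exists_sigma : ∃ σ : SL23 →* G, (∀ A, σ A ∈ S.sigGroup T ∧ (S.φ (σ A)).a = A) ∧
    ∀ g ∈ S.sigGroup T, σ (S.φ g).a = g := by
  let f : ↥(S.sigGroup T) →* SL23 := MonoidHom.mk' (fun g => (S.φ g).a) fun g h => by
    show (S.φ ((g : G) * h)).a = _
    rw [S.φ_mul _ _ (S.sigGroup_props T g.2).1 (S.sigGroup_props T h.2).1, Mon.mul_def]
    simp [(S.sigGroup_props T g.2).2.2.2]
  have hinj : Function.Injective f := (injective_iff_map_eq_one f).2 fun g hg => by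
    obtain ⟨d, hd, k, hk⟩ := (S.mem_sigGroup T).1 g.2
    have hk' : (S.φ d).a * upperU ^ (k % 3) = 1 := by
      rw [← pow_eq_pow_mod k (show upperU ^ 3 = 1 by decide +kernel), ← S.sigGroup_a T hd, ← hk]
      exact hg
    obtain ⟨ha, hk3⟩ := sl_quat_pow _ hd.1.2.2.2.2.1 ⟨k % 3, Nat.mod_lt _ (by norm_num)⟩ hk'
    have hk3' : k % 3 = 0 := congrArg Fin.val hk3
    refine Subtype.ext ?_
    rw [hk, T.eq_one_of_a hd ha, pow_eq_pow_mod k S.y_cube, hk3', pow_zero, one_mul]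
    rfl
  have hsurj : Function.Surjective f := fun A => by
    obtain ⟨q, k, hq, rfl⟩ := sl_quat_upper A
    obtain ⟨d, hd, hφ⟩ := T.exists_D hq
    refine ⟨⟨d * S.y ^ (k : ℕ), (S.mem_sigGroup T).2 ⟨d, hd, _, rfl⟩⟩, ?_⟩
    show (S.φ (d * S.y ^ (k : ℕ))).a = _
    rw [S.sigGroup_a T hd, hφ]
  let e := MulEquiv.ofBijective f ⟨hinj, hsurj⟩
  refine ⟨(S.sigGroup T).subtype.comp e.symm.toMonoidHom, fun A => ⟨(e.symm A).2, e.apply_symm_apply A⟩,
    fun g hg => ?_⟩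
  exact congrArg Subtype.val (e.symm_apply_apply ⟨g, hg⟩)

omit [Finite G] in
include T in
/-- The partner of `X`, inverted by `t`. -/
theorem exists_Y : ∃ Y ∈ S.Q, S.vec Y = ((0, 1), 0) ∧ t * Y * t⁻¹ = Y⁻¹ := by
  obtain ⟨Y, hY, hv⟩ := S.vec_surj ((0, 1), 0)
  have hm := S.conj_mem t T.comm_z Y hY
  have h0 : S.vec (t * Y * t⁻¹ * Y) = 0 := by
    rw [S.vec_mul _ hm _ hY, T.vec_conj_t hY, hv]
    decide
  obtain ⟨e, he⟩ := Cfg.exists_pow_val ((S.vec_ker _ (mul_mem hm hY)).1 h0)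
  have hz : S.z ^ e.val ∈ S.Q := pow_mem S.z_mem _
  refine ⟨S.z ^ e.val * Y, mul_mem hz hY, ?_, ?_⟩
  · rw [S.vec_mul _ hz _ hY, Cfg.vec_pow_val S.z_mem, S.vec_z, smul_zero, zero_add, hv]
  · refine eq_inv_of_mul_eq_one_left ?_
    calc t * (S.z ^ e.val * Y) * t⁻¹ * (S.z ^ e.val * Y)
        = (t * S.z ^ e.val * t⁻¹) * ((t * Y * t⁻¹) * S.z ^ e.val) * Y := by group
      _ = S.z ^ e.val * (S.z ^ e.val * (t * Y * t⁻¹)) * Y := by
        rw [(T.comm_z.pow_right _).eq, mul_inv_cancel_right, ((S.Q_le _ hm).pow_right _).eq]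
      _ = S.z ^ e.val * S.z ^ e.val * (t * Y * t⁻¹ * Y) := by group
      _ = 1 := by
        rw [he, Cfg.z_pow_add', Cfg.z_pow_add', (by decide : ∀ e : K, e + e + e = 0) e]
        simp

/-- The model. -/
theorem exists_wModel : Nonempty (S.WModel T) := by
  obtain ⟨σ, hσ, hσu⟩ := S.exists_sigma T
  obtain ⟨Y, hY, hvY, htY⟩ := S.exists_Y T
  let x : ↥S.Q := ⟨S.X, S.X_mem⟩
  let y : ↥S.Q := ⟨Y, hY⟩
  have hc : ((y * x * y⁻¹ * x⁻¹ : ↥S.Q) : G) = S.z⁻¹ := by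
    have h := S.comm _ hY _ S.X_mem
    rw [hvY, S.vec_X] at h
    refine Eq.trans ?_ (h.trans ?_)
    · rfl
    · rw [show (om ((0, 1), 0) (((1, 0), 0) : V)).val = 2 by decide]
      refine eq_inv_of_mul_eq_one_left ?_
      rw [← pow_succ]; exact S.z_pow
  have h3 : ∀ q : ↥S.Q, q ^ 3 = 1 := fun q => Subtype.ext (by simpa using S.cube q q.2)
  have hcent : ∀ r : ↥S.Q, Commute (y * x * y⁻¹ * x⁻¹) r := fun r => Subtype.ext (by
    show ((y * x * y⁻¹ * x⁻¹ : ↥S.Q) : G) * r = r * ((y * x * y⁻¹ * x⁻¹ : ↥S.Q) : G)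
    rw [hc]; exact (S.Q_le r r.2).symm.inv_left.eq)
  let θ : H3 →* G := S.Q.subtype.comp (H3.liftHom x y (h3 x) (h3 y) (h3 _) hcent)
  have hθ : ∀ h : H3, θ h = S.X ^ h.i.val * Y ^ h.j.val * (S.z⁻¹) ^ (h.a - h.i * h.j).val := fun h => by
    show ((H3.liftHom x y (h3 x) (h3 y) (h3 _) hcent h : ↥S.Q) : G) = _
    rw [H3.liftHom_apply]
    simp only [Subgroup.coe_mul, SubgroupClass.coe_pow, ← hc]
    rfl
  have hθQ : ∀ h, θ h ∈ S.Q := fun h => (H3.liftHom x y (h3 x) (h3 y) (h3 _) hcent h).2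
  have hvθ : ∀ h : H3, S.vec (θ h) = ((h.i, h.j), 0) := fun h => by
    rw [hθ, S.vec_mul _ (mul_mem (pow_mem S.X_mem _) (pow_mem hY _)) _ (pow_mem (inv_mem S.z_mem) _),
      S.vec_mul _ (pow_mem S.X_mem _) _ (pow_mem hY _), Cfg.vec_pow_val S.X_mem, Cfg.vec_pow_val hY,
      Cfg.vec_pow_val (inv_mem S.z_mem), S.vec_inv S.z_mem, S.vec_z, S.vec_X, hvY]
    simp
  have htθ : ∀ h, t * θ h * t⁻¹ = θ (H3.neg h) := by
    refine h3_hom_ext (f := (MulAut.conj t).toMonoidHom.comp θ) (g := θ.comp H3.neg.toMonoidHom) ?_ ?_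
    · show t * θ H3.gx * t⁻¹ = θ (H3.neg H3.gx)
      rw [neg_gens.1, map_inv, hθ]
      simp [H3.gx, ZMod.val_one, T.conj_X]
    · show t * θ H3.gy * t⁻¹ = θ (H3.neg H3.gy)
      rw [neg_gens.2, map_inv, hθ]
      simp [H3.gy, ZMod.val_one, htY]
  have hact : ∀ (A : SL23) (h : H3), σ A * θ h * (σ A)⁻¹ = θ (H3.act A h) := by
    intro A
    obtain ⟨hz, ht, -, hs⟩ := S.sigGroup_props T (hσ A).1
    have key : ∀ h : H3, H3.neg h = h⁻¹ → σ A * θ h * (σ A)⁻¹ = θ (H3.act A h) := by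
      intro h hn
      set w := σ A * θ h * (σ A)⁻¹ with hw
      set v := θ (H3.act A h) with hv
      have hwQ : w ∈ S.Q := S.conj_mem _ hz _ (hθQ _)
      obtain ⟨k, hk⟩ := Cfg.exists_pow_val ((S.vec_ker _ (mul_mem hwQ (inv_mem (hθQ _)))).1 (by
        rw [S.vec_mul _ hwQ _ (inv_mem (hθQ _)), S.vec_inv (hθQ _), S.vec_conj _ hz _ (hθQ _), hvθ, hvθ,
          Mon.act_false hs, (hσ A).2, act2_act]
        have : act2 (S.φ (σ A)).b 0 = 0 := by simp [act2]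
        rw [this, add_neg_cancel]) : w * v⁻¹ ∈ Subgroup.zpowers S.z)
      have htw : t * w * t⁻¹ = w⁻¹ := by
        rw [hw, show t * (σ A * θ h * (σ A)⁻¹) * t⁻¹ = (t * σ A) * θ h * (t * σ A)⁻¹ by group, ← ht.eq,
          show σ A * t * θ h * (σ A * t)⁻¹ = σ A * (t * θ h * t⁻¹) * (σ A)⁻¹ by group, htθ, hn, map_inv]
        group
      have htv : t * v * t⁻¹ = v⁻¹ := by rw [hv, htθ, act_neg_comm, hn, map_inv, map_inv]
      have hzk : Commute (S.z ^ k.val) v := ((S.Q_le _ (hθQ _)).pow_right _).symm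
      rw [mul_inv_eq_iff_eq_mul] at hk
      have e : t * w * t⁻¹ = S.z ^ k.val * v⁻¹ := by
        rw [hk, show t * (S.z ^ k.val * v) * t⁻¹ = (t * S.z ^ k.val * t⁻¹) * (t * v * t⁻¹) by group, htv,
          (T.comm_z.pow_right _).eq, mul_inv_cancel_right]
      rw [htw, hk, mul_inv_rev] at e
      have h2 : S.z ^ k.val * S.z ^ k.val = 1 := by
        calc S.z ^ k.val * S.z ^ k.val = S.z ^ k.val * (S.z ^ k.val * v⁻¹) * v := by group
          _ = S.z ^ k.val * (v⁻¹ * S.z ^ k.val) * v := by rw [hzk.inv_right.eq]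
          _ = S.z ^ k.val * v⁻¹ * (S.z ^ k.val * v) := by group
          _ = 1 := by rw [← e, mul_assoc, inv_mul_cancel_left, inv_mul_cancel]
      rw [Cfg.z_pow_add'] at h2
      have hk0 : k + k = 0 := Cfg.z_pow_inj (C := S.toCfg) (by rw [h2]; simp)
      have hk1 : k = 0 := (by decide : ∀ k : K, k + k = 0 → k = 0) k hk0
      rw [hk, hk1]; simp [hv]
    exact h3_hom_ext (f := (MulAut.conj (σ A)).toMonoidHom.comp θ) (g := θ.comp (H3.act A).toMonoidHom)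
      (key _ neg_gens.1) (key _ neg_gens.2)
  let ψ : Loc.M →* G := SemidirectProduct.lift θ σ fun A => by
    ext h
    exact (hact A h).symm
  have hψ : ∀ m : Loc.M, ψ m = θ m.left * σ m.right := fun m => rfl
  have hz : ∀ m, Commute (ψ m) S.z := fun m =>
    (S.Q_le _ (hθQ _)).mul_left (S.sigGroup_props T (hσ _).1).1
  have hXQ : ∀ h, Commute (θ h) S.X' := fun h => by
    refine (Cfg.commute_iff_om (hθQ h) S.X'_mem).2 ?_
    rw [hvθ, S.vec_X']
    simp [om, det2]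
  have hX : ∀ m, Commute (ψ m) S.X' := fun m =>
    (hXQ _).mul_left (S.sigGroup_props T (hσ _).1).2.2.1
  have hφa : ∀ m, (S.φ (ψ m)).a = m.right := fun m => by
    rw [hψ, Cfg.φ_eq_of_mul S.toCfg (S.sigGroup_props T (hσ _).1).1 (hθQ _), (hσ _).2]
  have hjz : ∀ k : K, S.z ^ k.val = S.jj (k, 0, 0, 0) := fun k => by simp [jj]
  have hjX' : ∀ k : K, S.X' ^ k.val = S.jj (0, 0, 0, k) := fun k => by simp [jj]
  refine ⟨⟨ψ, hz, hX, fun v => ?_, fun m hm => ?_, ?_, fun A => ?_, fun d hd => ⟨(S.φ d).a, ?_⟩,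
    fun hb g hgz hgX => ?_⟩⟩
  · obtain ⟨a, b, c⟩ := v
    rw [emb_eq_mul, map_mul, SemidirectProduct.lift_inl, SemidirectProduct.lift_inr, hθ]
    have e : σ (upperU ^ c.val) = S.y ^ c.val := by
      have hy : S.y ^ c.val ∈ S.sigGroup T := Subgroup.mem_sup_right (Subgroup.npow_mem_zpowers S.y _)
      conv_rhs => rw [← hσu _ hy]
      rw [S.φ_pow_y, S.φ_y, Mon.pow_false rfl]
    rw [e]
    have ez : (S.z⁻¹) ^ a.val = S.jj (-a, 0, 0, 0) := by
      rw [inv_pow, hjz, ← S.jj_neg]; simp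
    have ex : S.X ^ b.val = S.jj (0, 0, b, 0) := by simp [jj]
    have ey : S.y ^ c.val = S.jj (0, c, 0, 0) := by simp [jj]
    simp only [ZMod.val_zero, pow_zero, mul_one, mul_zero, sub_zero]
    rw [ez, ex, ey, ← S.jj_add, ← S.jj_add]
    simp
  · obtain ⟨n, hn⟩ := mem_powers_iff_mem_zpowers.2 hm
    have hn' : S.X' ^ n = S.X' ^ (n : K).val := by
      rw [ZMod.val_natCast, ← pow_eq_pow_mod n (S.cube _ S.X'_mem)]
    have hn1 : ψ m = S.X' ^ (n : K).val := hn'.symm ▸ hn.symm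
    have hr : m.right = 1 := by
      rw [← hφa, hn1, S.φ_of_mem (pow_mem S.X'_mem _)]; rfl
    have hl : ψ m = θ m.left := by rw [hψ, hr, map_one, mul_one]
    have hv := congrArg S.vec (hl.symm.trans hn1)
    rw [hvθ, Cfg.vec_pow_val S.X'_mem, S.vec_X'] at hv
    simp [Prod.ext_iff] at hv
    obtain ⟨⟨hi, hj⟩, hk⟩ := hv
    rw [← hk, ZMod.val_zero, pow_zero, hl, hθ, hi, hj] at hn1
    simp only [ZMod.val_zero, pow_zero, one_mul, mul_zero, sub_zero] at hn1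
    rw [inv_pow, inv_eq_one] at hn1
    have ha : m.left.a = 0 := Cfg.z_pow_inj (C := S.toCfg) (by rw [hn1]; simp)
    exact SemidirectProduct.ext (H3.ext ha hi hj) hr
  · show ψ (SemidirectProduct.inr negOne) = t
    rw [SemidirectProduct.lift_inr]
    have := hσu t (Subgroup.mem_sup_left T.t_mem)
    rwa [T.φ_t] at this
  · rw [SemidirectProduct.lift_inr]
    exact (S.mem_sigGroup T).1 (hσ A).1
  · rw [SemidirectProduct.lift_inr]
    exact hσu d (Subgroup.mem_sup_left hd)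
  · obtain ⟨hs, hbl⟩ := S.s_false_of_X' hgz hgX
    set u := σ (S.φ g).a with hu
    obtain ⟨huz, -, huX, hus⟩ := S.sigGroup_props T (hσ (S.φ g).a).1
    set g' := u⁻¹ * g with hg'
    have hg'z : Commute g' S.z := huz.inv_left.mul_left hgz
    have hg'X : Commute g' S.X' := huX.inv_left.mul_left hgX
    have hg'φ : (S.φ g').a = 1 := by
      rw [hg', S.φ_mul _ _ huz.inv_left hgz, S.φ_inv huz, Mon.mul_def, Mon.inv_def]
      simp [hus, (hσ (S.φ g).a).2]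
    obtain ⟨hs', hbl'⟩ := S.s_false_of_X' hg'z hg'X
    obtain ⟨k, hk⟩ := sl_fix_line' _ hbl'
    have hQ : g' ∈ S.Q := by
      refine (S.φ_ker _ hg'z).1 ?_
      by_contra hne
      have hform : S.φ g' = ⟨1, upperU ^ k.val, false⟩ := Mon.ext hg'φ hk hs'
      refine hb ⟨g', hg'z, ?_, Or.inl ⟨hg'φ, fun h1 => hne ?_⟩⟩
      · rw [hform, Mon.pow_false rfl, one_pow, sl_upper_cube]; rfl
      · exact Mon.ext hg'φ h1 hs'
    have hom := (Cfg.commute_iff_om hQ S.X'_mem).1 hg'X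
    rw [S.vec_X'] at hom
    set v := S.vec g' with hv
    have hv2 : v.2.2 = 0 := by simpa [om, det2] using hom
    have hθ0Q : θ ⟨0, v.1.1, v.1.2⟩ ∈ S.Q := hθQ _
    have hXe : S.X' ^ v.2.1.val ∈ S.Q := pow_mem S.X'_mem _
    obtain ⟨i, hi⟩ := Cfg.exists_pow_val ((S.vec_ker _
      (mul_mem hQ (inv_mem (mul_mem hθ0Q hXe)))).1 (by
        rw [S.vec_mul _ hQ _ (inv_mem (mul_mem hθ0Q hXe)), S.vec_inv (mul_mem hθ0Q hXe),
          S.vec_mul _ hθ0Q _ hXe, hvθ, Cfg.vec_pow_val S.X'_mem, S.vec_X', ← hv]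
        rw [add_neg_eq_zero]
        refine Prod.ext (by simp) (Prod.ext (by simp) (by simp [hv2]))))
    refine ⟨SemidirectProduct.inr (S.φ g).a * SemidirectProduct.inl (⟨-i, 0, 0⟩ * ⟨0, v.1.1, v.1.2⟩), ?_⟩
    rw [map_mul, SemidirectProduct.lift_inl, SemidirectProduct.lift_inr, map_mul, ← hu]
    have hzi : θ (⟨-i, 0, 0⟩ : H3) = S.z ^ i.val := by
      rw [hθ]
      simp only [ZMod.val_zero, pow_zero, one_mul, mul_zero, sub_zero]
      rw [inv_pow, hjz, hjz, ← S.jj_neg]; simp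
    rw [hzi]
    rw [mul_inv_eq_iff_eq_mul] at hi
    have hg : g = u * (S.z ^ i.val * (θ ⟨0, v.1.1, v.1.2⟩ * S.X' ^ v.2.1.val)) := by
      rw [← hi, hg', mul_inv_cancel_left]
    have hXc : Commute (S.X' ^ v.2.1.val) (u * (S.z ^ i.val * θ ⟨0, v.1.1, v.1.2⟩)) :=
      Commute.pow_left (huX.mul_left ((S.z_X'.pow_left _).mul_left (hXQ _))).symm _
    rw [hg, show u * (S.z ^ i.val * (θ ⟨0, v.1.1, v.1.2⟩ * S.X' ^ v.2.1.val)) =
      u * (S.z ^ i.val * θ ⟨0, v.1.1, v.1.2⟩) * S.X' ^ v.2.1.val by group, ← hXc.eq, mul_inv_cancel_right]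
    exact Subgroup.npow_mem_zpowers _ _

end Std

end Cfsg.Agent.U62ThreeCent
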