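/-
The local analysis at `X'` when the Sylow three-subgroup of `C(z)/Q` is small and nothing exchanges
the planes: `C(X')/⟨X'⟩` carries the configuration of `PSp(4,3)`, which gives `Std.Core`.

* `Std.exists_local` : the configuration, with its orbit in standard position;
* `Std.exists_core` : the outcome used for the centraliser of the involution.
-/
import Cfsg.Agent.Lib.U62ThreeCent.ModelW
import Cfsg.Agent.Lib.U62ThreeCent.Core
import Cfsg.Agent.Lib.U62ThreeCent.Cases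
import Cfsg.Agent.Lib.U62ThreeCent.JStruct
import Cfsg.Agent.Lib.PSpThree.Amalgam.InvQuot

set_option autoImplicit false
set_option maxRecDepth 100000
set_option linter.unusedSectionVars false
set_option synthInstance.maxSize 2000

namespace Cfsg.Agent.U62ThreeCent

open Cfsg.Agent.PSpThree

theorem quad_shift : ∀ (w : J4) (i : K), quad w = 0 → w.2.2.2 = 0 →
    quad (w + (0, 0, 0, i)) = 0 → i = 0 := by decide +kernel

theorem rep_point : ∀ i : Fin 6, (Loc.rep i).2.2 = 1 → Loc.InQuad (Loc.rep i) (0, 0, 1) →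
    (Loc.rep i).1 = 0 := by decide +kernel

theorem move_fix : ∀ i : K, quad ((0, 1, 0, 0) + (-((1 : K), (-1 : K), (1 : K), (0 : K)) +
    (0, i, 0, 1))) = 0 → i = 0 := by decide +kernel

theorem move_facts : uni (1, 0) (1, -1, 1, 0) = ((0 : K), (-1 : K), (0 : K), (0 : K)) ∧
    uni (1, 0) (0, 0, 0, 1) = ((0 : K), (0 : K), (0 : K), (1 : K)) ∧
    quad (0, 1, 0, 0) = 0 ∧ quad (-1, 0, 0, 0) = 0 ∧ quad (1, 0, 0, 0) = 0 ∧
    quad (-1, 1, 0, 1) = 0 := by decide +kernel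

namespace Std

variable {G : Type*} [Group G] [Finite G] (S : Std G)

/-- The centraliser of `X'`. -/
abbrev Wc : Subgroup G := Subgroup.centralizer ({S.X'} : Set G)

/-- The subgroup generated by `X'` inside it. -/
abbrev Nz : Subgroup S.Wc := (Subgroup.zpowers S.X').subgroupOf S.Wc

instance instNormalNz : S.Nz.Normal := by
  refine ⟨fun n hn g => ?_⟩
  rw [Subgroup.mem_subgroupOf] at hn ⊢
  obtain ⟨k, hk⟩ := hn
  have hg : Commute (g : G) S.X' := Subgroup.mem_centralizer_singleton_iff.1 g.2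
  refine ⟨k, ?_⟩
  show S.X' ^ k = (g : G) * n * (g : G)⁻¹
  rw [← hk]
  show S.X' ^ k = (g : G) * S.X' ^ k * (g : G)⁻¹
  rw [(hg.zpow_right k).eq, mul_inv_cancel_right]

/-- The centraliser of `X'` modulo `⟨X'⟩`. -/
abbrev Xb := S.Wc ⧸ S.Nz

/-- The projection. -/
def pw : S.Wc →* S.Xb := QuotientGroup.mk' S.Nz

theorem pw_surjective : Function.Surjective S.pw := QuotientGroup.mk'_surjective _

theorem mem_Wc {g : G} : g ∈ S.Wc ↔ Commute g S.X' := Subgroup.mem_centralizer_singleton_iff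

theorem commute_Wc (g : S.Wc) : Commute (g : G) S.X' := S.mem_Wc.1 g.2

theorem pw_eq {a b : S.Wc} (h : S.pw a = S.pw b) : ∃ i : K, (b : G) = a * S.X' ^ i.val := by
  have h1 : a⁻¹ * b ∈ S.Nz := QuotientGroup.eq.1 h
  rw [Subgroup.mem_subgroupOf] at h1
  obtain ⟨n, hn⟩ := mem_powers_iff_mem_zpowers.2 h1
  refine ⟨(n : K), ?_⟩
  rw [ZMod.val_natCast, ← pow_eq_pow_mod n (S.cube _ S.X'_mem)]
  show (b : G) = a * S.X' ^ n
  rw [show S.X' ^ n = ((a⁻¹ * b : S.Wc) : G) from hn]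
  simp

theorem pw_pow_X' {a b : S.Wc} (i : ℕ) (h : (b : G) = a * S.X' ^ i) : S.pw a = S.pw b := by
  refine QuotientGroup.eq.2 (Subgroup.mem_subgroupOf.2 ?_)
  simp only [Subgroup.coe_mul, Subgroup.coe_inv, h, inv_mul_cancel_left]
  exact Subgroup.npow_mem_zpowers _ _

theorem jj_mem_Wc (v : J4) : S.jj v ∈ S.Wc := S.mem_Wc.2 (S.jj_X' ▸ S.commute_jj v _)

/-- The elements of `J` in the centraliser of `X'`. -/
def jW (v : J4) : S.Wc := ⟨S.jj v, S.jj_mem_Wc v⟩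

theorem jj_shift (v : J4) (i : K) : S.jj v * S.X' ^ i.val = S.jj (v + (0, 0, 0, i)) := by
  rw [S.jj_add]; simp [jj]

/-- A point congruent to a point of `J` orthogonal to `X'` equals it. -/
theorem pt_lift {x : S.Wc} (hx : S.IsPt (x : G)) {w : J4} (hw : quad w = 0) (hd : w.2.2.2 = 0)
    (h : S.pw (S.jW w) = S.pw x) : (x : G) = S.jj w := by
  obtain ⟨i, hi⟩ := S.pw_eq h
  rw [show ((S.jW w : S.Wc) : G) = S.jj w from rfl, S.jj_shift] at hi
  rw [hi] at hx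
  have h0 := quad_shift w i hw hd (S.quad_of_pt hx)
  rw [hi, h0]
  congr 1
  ext <;> simp

/-- An element of `N(J)` centralising `X'` which sends `z` to `y⁻¹`. -/
theorem exists_move : ∃ h : G, h ∈ Subgroup.normalizer (S.J : Set G) ∧ Commute h S.X' ∧
    h * S.z * h⁻¹ = S.jj (0, -1, 0, 0) := by
  obtain ⟨D, hD⟩ := S.outer_y.atPt
  obtain ⟨r, hr, hrz⟩ := S.exists_mov hD 1 0
  have hrz' : r * S.z * r⁻¹ = S.jj (1, -1, 1, 0) := by
    rw [hrz]; congr 1
  have hry : Commute r S.y := (hD.comm r).1 (D.Q_le r hr)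
  obtain ⟨-, hX'D⟩ := S.X_mem_atPt hD
  have e := D.comm r hr _ hX'D
  have hm : D.z ∈ Subgroup.zpowers S.y := hD.zp ▸ Subgroup.mem_zpowers _
  obtain ⟨n, hn⟩ := mem_powers_iff_mem_zpowers.2 (pow_mem hm (om (D.vec r) (D.vec S.X')).val)
  have hrX : r * S.X' * r⁻¹ = S.jj (0, (n : K), 0, 1) := by
    rw [show r * S.X' * r⁻¹ = r * S.X' * r⁻¹ * S.X'⁻¹ * S.X' by group, e]
    have hn' : S.y ^ n = D.z ^ (om (D.vec r) (D.vec S.X')).val := hn
    rw [← hn', pow_eq_pow_mod n S.y_cube, ← ZMod.val_natCast]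
    simp [jj, ZMod.val_one]
  have hp : S.IsPt (r * S.jj (-1, 1, 0, 1) * r⁻¹) :=
    Cfg.IsPt.conj ((S.isPt_jj _).2 ⟨by decide, move_facts.2.2.2.2.2⟩) r
  have hsplit : r * S.jj (-1, 1, 0, 1) * r⁻¹ =
      S.jj ((0, 1, 0, 0) + (-((1 : K), (-1 : K), (1 : K), (0 : K)) + (0, (n : K), 0, 1))) := by
    have e1 : S.jj (-1, 1, 0, 1) = S.y * (S.z⁻¹ * S.X') := by
      rw [← S.jj_y, ← S.jj_z, ← S.jj_X', ← S.jj_neg, ← S.jj_add, ← S.jj_add]
      congr 1
    rw [e1, show r * (S.y * (S.z⁻¹ * S.X')) * r⁻¹ =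
      r * S.y * r⁻¹ * ((r * S.z * r⁻¹)⁻¹ * (r * S.X' * r⁻¹)) by group, hrz', hrX, hry.eq,
      mul_inv_cancel_right, S.jj_add, S.jj_add, S.jj_neg, S.jj_y]
  rw [hsplit] at hp
  have h0 : (n : K) = 0 := move_fix _ (S.quad_of_pt hp)
  rw [h0] at hrX
  obtain ⟨q, hq, hqc⟩ := S.exists_uni (1, 0)
  refine ⟨q * r, mul_mem (S.Q_normalizer hq) (S.atPt_normalizer hD hr), ?_, ?_⟩
  · show q * r * S.X' = S.X' * (q * r)
    refine mul_inv_eq_iff_eq_mul.1 ?_
    rw [show q * r * S.X' * (q * r)⁻¹ = q * (r * S.X' * r⁻¹) * q⁻¹ by group, hrX, hqc,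
      move_facts.2.1, S.jj_X']
  · rw [show q * r * S.z * (q * r)⁻¹ = q * (r * S.z * r⁻¹) * q⁻¹ by group, hrz', hqc, move_facts.1]

variable {t : G} {T : S.TInv t}

/-- The model in `C(X')/⟨X'⟩`. -/
def thetaW (M : S.WModel T) : Loc.M →* S.Xb :=
  S.pw.comp (M.ψ.codRestrict S.Wc fun m => S.mem_Wc.2 (M.comm_X' m))

theorem thetaW_apply (M : S.WModel T) (m : Loc.M) :
    S.thetaW M m = S.pw ⟨M.ψ m, S.mem_Wc.2 (M.comm_X' m)⟩ := rfl

theorem thetaW_emb (M : S.WModel T) (v : Loc.V) :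
    S.thetaW M (Loc.emb v) = S.pw (S.jW (-v.1, v.2.2, v.2.1, 0)) :=
  congrArg S.pw (Subtype.ext (M.emb_eq v))

theorem z_inv_jj : S.jj (-1, 0, 0, 0) = S.z⁻¹ := by
  rw [← S.jj_z, ← S.jj_neg]; simp

/-- An element whose image fixes or inverts the image of `z` does so to `z`. -/
theorem conj_z_of_pw (M : S.WModel T) {g : S.Wc} {w : J4} (hw : quad w = 0) (hd : w.2.2.2 = 0)
    (h : S.pw g * S.thetaW M (Loc.emb (1, 0, 0)) * (S.pw g)⁻¹ = S.pw (S.jW w)) :
    (g : G) * S.z⁻¹ * (g : G)⁻¹ = S.jj w := by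
  rw [S.thetaW_emb, ← map_inv, ← map_mul, ← map_mul] at h
  have hp : S.IsPt ((g * S.jW (-1, 0, 0, 0) * g⁻¹ : S.Wc) : G) := by
    show S.IsPt ((g : G) * S.jj (-1, 0, 0, 0) * (g : G)⁻¹)
    exact Cfg.IsPt.conj ((S.isPt_jj _).2 ⟨by decide, move_facts.2.2.2.1⟩) _
  have := S.pt_lift hp hw hd h.symm
  rw [← S.z_inv_jj]
  exact this

theorem thetaW_emb_range (M : S.WModel T) {x : G} (hx : x ∈ S.J) (hW : x ∈ S.Wc) :
    S.pw ⟨x, hW⟩ ∈ ((S.thetaW M).comp Loc.embHom).range := by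
  obtain ⟨⟨a, b, e, f⟩, rfl⟩ := S.mem_J.1 hx
  refine ⟨Multiplicative.ofAdd (-a, e, b), ?_⟩
  show S.thetaW M (Loc.emb (-a, e, b)) = _
  rw [S.thetaW_emb]
  refine S.pw_pow_X' f.val ?_
  show S.jj (a, b, e, f) = S.jj (- -a, b, e, 0) * S.X' ^ f.val
  rw [S.jj_shift]
  congr 1
  simp

theorem sigW (M : S.WModel T) (N : Subgroup S.Xb) (hN3 : (Nat.card N).Coprime 3)
    (hN : ((S.thetaW M).comp Loc.embHom).range ≤ Subgroup.normalizer (N : Set S.Xb)) : N = ⊥ := by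
  set H : Subgroup S.Wc := S.J.subgroupOf S.Wc ⊔ N.comap S.pw with hH
  have hX'W : S.X' ∈ S.Wc := S.mem_Wc.2 (Commute.refl _)
  have hX'J : S.X' ∈ S.J := S.jj_X' ▸ S.jj_mem _
  have hkH : S.Nz ≤ H := fun n hn => by
    refine Subgroup.mem_sup_left (Subgroup.mem_subgroupOf.2 ?_)
    exact (Subgroup.zpowers_le.2 hX'J) (Subgroup.mem_subgroupOf.1 hn)
  let zH : H := ⟨⟨S.X', hX'W⟩, Subgroup.mem_sup_left (Subgroup.mem_subgroupOf.2 hX'J)⟩
  let pH : H →* H.map S.pw := (S.pw.comp H.subtype).codRestrict (H.map S.pw) fun x => ⟨x, x.2, rfl⟩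
  have hzo : orderOf zH = 3 := by
    rw [← Subgroup.orderOf_coe, ← Subgroup.orderOf_coe]
    exact orderOf_eq_prime (S.cube _ S.X'_mem) fun h => by
      have := S.jj_eq_one.1 (S.jj_X'.trans h)
      simp [Prod.ext_iff] at this
  have hzc : zH ∈ Subgroup.center H := Subgroup.mem_center_iff.2 fun g =>
    Subtype.ext (Subtype.ext (S.commute_Wc g).eq)
  have hker : pH.ker = Subgroup.zpowers zH := by
    ext x
    rw [MonoidHom.mem_ker]
    constructor
    · intro hx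
      have h1 : S.pw (x : S.Wc) = 1 := congrArg Subtype.val hx
      obtain ⟨k, hk⟩ : ((x : S.Wc) : G) ∈ Subgroup.zpowers S.X' :=
        Subgroup.mem_subgroupOf.1 ((QuotientGroup.eq_one_iff (N := S.Nz) _).1 h1)
      exact ⟨k, Subtype.ext (Subtype.ext (by simpa [zH] using hk))⟩
    · rintro ⟨k, rfl⟩
      refine Subtype.ext ?_
      show S.pw ((zH ^ k : H) : S.Wc) = 1
      exact (QuotientGroup.eq_one_iff _).2 (Subgroup.mem_subgroupOf.2 ⟨k, by simp [zH]⟩)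
  have hsurj : Function.Surjective pH := fun y => by
    obtain ⟨x, hx, hxy⟩ := y.2
    exact ⟨⟨x, hx⟩, Subtype.ext hxy⟩
  have hnorm : H.map S.pw ≤ Subgroup.normalizer (N : Set S.Xb) := by
    rw [hH, Subgroup.map_sup]
    refine sup_le ?_ ((Subgroup.map_comap_le _ _).trans Subgroup.le_normalizer)
    rintro _ ⟨x, hx, rfl⟩
    exact hN (S.thetaW_emb_range M (Subgroup.mem_subgroupOf.1 hx) x.2)
  have hNle : N ≤ H.map S.pw := fun y hy => by
    obtain ⟨x, rfl⟩ := S.pw_surjective y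
    exact ⟨x, Subgroup.mem_sup_right (Subgroup.mem_comap.2 hy), rfl⟩
  have : (N.subgroupOf (H.map S.pw)).Normal := Subgroup.normal_subgroupOf_of_le_normalizer hnorm
  have hcore : ∀ K' : Subgroup H, K'.Normal → (Nat.card K').Coprime 3 → K' = ⊥ := by
    intro K' hK' h3
    have hinj : Function.Injective (S.Wc.subtype.comp H.subtype) :=
      S.Wc.subtype_injective.comp H.subtype_injective
    rw [← Subgroup.map_eq_bot_iff_of_injective K' hinj]
    refine S.eq_bot_of_normalized ((Nat.prime_three.coprime_iff_not_dvd).1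
      (by rw [Subgroup.card_map_of_injective hinj]; exact h3.symm)) fun j hj => ?_
    obtain ⟨v, rfl⟩ := S.mem_J.1 hj
    refine Subgroup.mem_normalizer_fintype ?_
    rintro _ ⟨k, hk, rfl⟩
    exact ⟨⟨S.jW v, Subgroup.mem_sup_left (Subgroup.mem_subgroupOf.2 (S.jj_mem v))⟩ * k *
      (⟨S.jW v, Subgroup.mem_sup_left (Subgroup.mem_subgroupOf.2 (S.jj_mem v))⟩)⁻¹,
      hK'.conj_mem k hk _, rfl⟩
  have h := Loc.eq_bot_of_central_three pH hsurj hzc hzo hker hcore (N.subgroupOf (H.map S.pw))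
    (by rwa [Nat.card_congr (Subgroup.subgroupOfEquivOfLe hNle).toEquiv])
  rw [Subgroup.subgroupOf_eq_bot] at h
  exact disjoint_self.1 (h.mono_right hNle)

variable (hb : ¬ S.toCfg.Big) (hs : ¬ S.toCfg.Swap)

include hb hs in
/-- The configuration of `PSp(4,3)` in `C(X')/⟨X'⟩`, with orbit in standard position. -/
theorem exists_local (M : S.WModel T) : ∃ F : Loc.Frame S.Xb, F.θ = S.thetaW M := by
  obtain ⟨h, hhN, hhX, hhz⟩ := S.exists_move
  have hsw := S.exists_swap_zy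
  let hW : S.Wc := ⟨h, S.mem_Wc.2 hhX⟩
  have hhz' : h * S.z⁻¹ * h⁻¹ = S.jj (0, 1, 0, 0) := by
    rw [← conj_inv, hhz, ← S.jj_neg]; simp
  have hact : S.pw hW * S.thetaW M (Loc.emb (1, 0, 0)) * (S.pw hW)⁻¹ =
      S.thetaW M (Loc.emb (0, 0, 1)) := by
    rw [S.thetaW_emb, S.thetaW_emb, ← map_inv, ← map_mul, ← map_mul]
    refine congrArg S.pw (Subtype.ext ?_)
    show h * S.jj (-1, 0, 0, 0) * h⁻¹ = S.jj (-0, 1, 0, 0)
    rw [S.z_inv_jj, hhz']; simp
  let L : Loc.Local S.Xb :=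
    { θ := S.thetaW M
      inj := (injective_iff_map_eq_one _).2 fun m hm =>
        M.ker m (Subgroup.mem_subgroupOf.1 ((QuotientGroup.eq_one_iff _).1 hm))
      range := fun g hg => by
        obtain ⟨g, rfl⟩ := S.pw_surjective g
        have h1 := S.conj_z_of_pw M (g := g) (w := (-1, 0, 0, 0)) move_facts.2.2.2.1 rfl (by
          rw [hg.eq, mul_inv_cancel_right, S.thetaW_emb])
        rw [S.z_inv_jj] at h1
        have hgz : Commute (g : G) S.z := Commute.inv_right_iff.1 (mul_inv_eq_iff_eq_mul.1 h1)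
        obtain ⟨m, hm⟩ := M.onto hb _ hgz (S.commute_Wc g)
        obtain ⟨i, hi⟩ := mem_powers_iff_mem_zpowers.2 hm
        refine ⟨m, S.pw_pow_X' i ?_⟩
        show (g : G) = M.ψ m * S.X' ^ i
        rw [((M.comm_X' m).pow_right i).eq]
        exact mul_inv_eq_iff_eq_mul.1 hi.symm
      real := fun g hg => by
        obtain ⟨g, rfl⟩ := S.pw_surjective g
        have h1 := S.conj_z_of_pw M (g := g) (w := (1, 0, 0, 0)) move_facts.2.2.2.2.1 rfl (by
          rw [hg, S.thetaW_emb, ← map_inv]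
          refine congrArg S.pw (Subtype.ext ?_)
          show (S.jj (-1, 0, 0, 0))⁻¹ = S.jj (1, 0, 0, 0)
          rw [S.z_inv_jj, inv_inv, S.jj_z])
        refine S.no_inv_commute_X' hsw hs (S.commute_Wc g) ?_
        rw [S.jj_z] at h1
        rw [← inv_inj, inv_inv, conj_inv]
        exact h1
      sig := fun N h3 hN => S.sigW M N h3 hN
      fus := by
        refine ⟨S.pw hW, Subgroup.mem_normalizer_fintype ?_, fun hc => ?_⟩
        · rintro _ ⟨v, rfl⟩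
          show S.pw hW * S.thetaW M (Loc.emb v.toAdd) * (S.pw hW)⁻¹ ∈ _
          rw [S.thetaW_emb, ← map_inv, ← map_mul, ← map_mul]
          exact S.thetaW_emb_range M ((Subgroup.mem_normalizer_iff.1 hhN _).1 (S.jj_mem _)) _
        · have h1 := S.conj_z_of_pw M (g := hW) (w := (-1, 0, 0, 0)) move_facts.2.2.2.1 rfl (by
            rw [hc.eq, mul_inv_cancel_right, S.thetaW_emb])
          rw [show (hW : G) = h from rfl, hhz'] at h1
          have := S.jj_inj h1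
          simp [Prod.ext_iff] at this }
  obtain ⟨i, hz1, hO⟩ := L.exists_quad
  have hmem : ((0 : K), (0 : K), (1 : K)) ∈ L.O := by
    refine L.mem_O.2 ⟨S.pw hW, Subgroup.mem_normalizer_fintype ?_, hact⟩
    rintro _ ⟨v, rfl⟩
    show S.pw hW * S.thetaW M (Loc.emb v.toAdd) * (S.pw hW)⁻¹ ∈ _
    rw [S.thetaW_emb, ← map_inv, ← map_mul, ← map_mul]
    exact S.thetaW_emb_range M ((Subgroup.mem_normalizer_iff.1 hhN _).1 (S.jj_mem _)) _
  have hc := rep_point i hz1 ((hO _).1 hmem)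
  have hq : ∀ v, v ∈ L.O ↔ ∃ k, v = Loc.q k := fun v => by
    rw [hO, Loc.quad_rep i hz1, hc]
    simp
  refine ⟨⟨L, fun g hg => ?_, fun k => ?_⟩, rfl⟩
  · obtain ⟨v, hv⟩ := L.mem_J.1 (L.conj_mem hg (1, 0, 0))
    obtain ⟨k, rfl⟩ := (hq v).1 (L.mem_O.2 ⟨g, hg, hv.symm⟩)
    exact ⟨k, hv.symm⟩
  · exact L.mem_O.1 ((hq _).2 ⟨k, rfl⟩)

include hb hs in
/-- The outcome of the local analysis at `X'`. -/
theorem exists_core : ∃ t, S.Core t := by
  obtain ⟨t, T⟩ := S.exists_tInv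
  obtain ⟨M⟩ := S.exists_wModel T
  obtain ⟨F, hF⟩ := S.exists_local hb hs M
  have hsw := S.exists_swap_zy
  let tW : S.Wc := ⟨t, S.mem_Wc.2 T.comm_X'⟩
  have hFt : F.t = S.pw tW := by
    show F.θ Loc.tM = _
    rw [hF]
    exact congrArg S.pw (Subtype.ext M.tM_eq)
  have hFj : ∀ v : Loc.V, F.j v = S.pw (S.jW (-v.1, v.2.2, v.2.1, 0)) := fun v => by
    show F.θ (Loc.emb v) = _
    rw [hF, S.thetaW_emb]
  -- lifts of elements commuting with `t`
  have hlift : ∀ g : S.Wc, Commute (S.pw g) F.t → Commute (g : G) t := by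
    intro g hg
    rw [hFt] at hg
    obtain ⟨i, hi⟩ := S.pw_eq (a := tW) (b := g * tW * g⁻¹) (by
      rw [map_mul, map_mul, map_inv, hg.eq, mul_inv_cancel_right])
    have hi' : (g : G) * t * (g : G)⁻¹ = t * S.X' ^ i.val := hi
    have h2 : (S.X' ^ i.val) * (S.X' ^ i.val) = 1 := by
      have h := congrArg (fun x => x * x) hi'
      rw [show (g : G) * t * (g : G)⁻¹ * ((g : G) * t * (g : G)⁻¹) = (g : G) * (t * t) * (g : G)⁻¹ by group,
        T.sq, mul_one, mul_inv_cancel,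
        (T.comm_X'.pow_right i.val).symm.mul_mul_mul_comm, T.sq, one_mul] at h
      exact h.symm
    rw [← pow_val_add (S.cube _ S.X'_mem)] at h2
    have h0 : i = 0 := by
      have := S.jj_eq_one.1 (show S.jj (0, 0, 0, i + i) = 1 by simpa [jj] using h2)
      simp [Prod.ext_iff] at this
      exact (by decide : ∀ i : K, i + i = 0 → i = 0) i this
    rw [h0, ZMod.val_zero, pow_zero, mul_one] at hi'
    exact mul_inv_eq_iff_eq_mul.1 hi'
  obtain ⟨n0, hn0⟩ := S.pw_surjective F.s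
  set n : G := (n0 : G) with hn
  have hnt : Commute n t := hlift n0 (hn0 ▸ F.mem_X.1 F.s_mem_X)
  have hnX : Commute n S.X' := S.commute_Wc n0
  have hnz : n * S.z⁻¹ * n⁻¹ = S.jj (0, 1, 0, 0) := S.conj_z_of_pw M move_facts.2.2.1 rfl (by
    rw [hn0]
    have h := F.s_conj_a
    rw [show F.a = F.j (1, 0, 0) from rfl, hFj, hFj] at h
    rw [S.thetaW_emb, F.s_inv]
    simpa using h)
  have hny : n * S.y * n⁻¹ = S.jj (-1, 0, 0, 0) := by
    have hp : S.IsPt ((n0 * S.jW (0, 1, 0, 0) * n0⁻¹ : S.Wc) : G) := by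
      show S.IsPt (n * S.jj (0, 1, 0, 0) * n⁻¹)
      rw [S.jj_y]; exact Cfg.IsPt.conj S.isPt_y _
    have h := S.pt_lift hp move_facts.2.2.2.1 rfl (by
      rw [map_mul, map_mul, map_inv, hn0, F.s_inv]
      have h := F.s_conj_p
      rw [show F.a = F.j (1, 0, 0) from rfl, hFj, hFj] at h
      simpa using h.symm)
    rw [← S.jj_y]
    exact h
  have hexch : S.Exch t n := ⟨hnt, hnX, Or.inr (by
    rw [← inv_inj, inv_inv, conj_inv, hnz, S.jj_y])⟩
  have hn2z : Commute (n * n) S.z := by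
    refine mul_inv_eq_iff_eq_mul.1 ?_
    have h1 : n * S.z * n⁻¹ = S.y⁻¹ := by
      rw [← inv_inj, inv_inv, conj_inv, hnz, S.jj_y]
    rw [show n * n * S.z * (n * n)⁻¹ = n * (n * S.z * n⁻¹) * n⁻¹ by group, h1, ← conj_inv, hny, S.z_inv_jj,
      inv_inv]
  let D' : Subgroup G := T.D.map (MulAut.conj n).toMonoidHom
  have hσ : ∀ A : SL23, F.σ₁ A = S.pw ⟨M.ψ (SemidirectProduct.inr A), S.mem_Wc.2 (M.comm_X' _)⟩ := fun A => by
    show F.θ (SemidirectProduct.inr A) = _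
    rw [hF]; rfl
  have hcomm : ∀ d ∈ T.D, ∀ e ∈ T.D, Commute d (n * e * n⁻¹) := by
    intro d hd e he
    obtain ⟨A, hA⟩ := M.d_lift d hd
    obtain ⟨B, hB⟩ := M.d_lift e he
    let dW : S.Wc := ⟨d, S.mem_Wc.2 (T.comm_X'_D hd)⟩
    let eW : S.Wc := ⟨e, S.mem_Wc.2 (T.comm_X'_D he)⟩
    have hdA : F.σ₁ A = S.pw dW := by rw [hσ]; exact congrArg S.pw (Subtype.ext hA)
    have heB : F.σ₂ B = S.pw (n0 * eW * n0⁻¹) := by
      rw [F.σ₂_apply, map_mul, map_mul, map_inv, hn0, F.s_inv, hσ]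
      congr 2
      exact congrArg S.pw (Subtype.ext hB)
    have hc := F.sigma_commute A B
    rw [hdA, heB] at hc
    obtain ⟨i, hi⟩ := S.pw_eq (a := dW) (b := (n0 * eW * n0⁻¹) * dW * (n0 * eW * n0⁻¹)⁻¹) (by
      rw [map_mul, map_mul _ _ dW, map_inv, ← hc.eq, mul_inv_cancel_right])
    have hi' : n * e * n⁻¹ * d * (n * e * n⁻¹)⁻¹ = d * S.X' ^ i.val := hi
    have h4 := congrArg (fun x => x ^ 4) hi'
    rw [conj_pow, hd.2, mul_one, mul_inv_cancel,
      ((T.comm_X'_D hd).pow_right i.val).mul_pow, hd.2, one_mul, ← pow_mul] at h4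
    rw [← pow_one (S.X' ^ i.val)] at hi'
    have hi0 : S.X' ^ i.val = 1 := by
      rw [pow_eq_pow_mod _ (S.cube _ S.X'_mem)] at h4
      rw [pow_eq_pow_mod i.val (S.cube _ S.X'_mem)]
      rwa [show i.val * 4 % 3 = i.val % 3 by omega, eq_comm] at h4
    rw [hi0, one_pow, mul_one] at hi'
    exact (mul_inv_eq_iff_eq_mul.1 hi').symm
  refine ⟨t, T, ⟨n, hexch⟩, ?_, ?_⟩
  · intro n' hn' d hd e he
    set h := n⁻¹ * n' with hh
    have hht : Commute h t := hexch.1.inv_left.mul_left hn'.1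
    have hhz : Commute h S.z := by
      rcases hn'.2.2 with h1 | h1
      · exfalso
        refine S.no_inv_commute_X' hsw hs (g := h) (hexch.2.1.inv_left.mul_left hn'.2.1) ?_
        rw [hh, show n⁻¹ * n' * S.z * (n⁻¹ * n')⁻¹ = n⁻¹ * (n' * S.z * n'⁻¹) * n by group, h1, ← S.jj_y,
          ← hnz]
        group
      · refine mul_inv_eq_iff_eq_mul.1 ?_
        rw [hh, show n⁻¹ * n' * S.z * (n⁻¹ * n')⁻¹ = n⁻¹ * (n' * S.z * n'⁻¹) * n by group, h1, ← S.jj_y,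
          ← hnz]
        group
    have := hcomm d hd _ (T.D_normal hhz hht he)
    rwa [show n * (h * e * h⁻¹) * n⁻¹ = n' * e * n'⁻¹ by rw [hh]; group] at this
  · intro g hgt hgX
    let DD : Subgroup G := T.D ⊔ D'
    let Kx : Subgroup G := Subgroup.centralizer ({t} : Set G) ⊓ S.Wc ⊓
      Subgroup.normalizer (S.TJ t : Set G) ⊓ Subgroup.normalizer (DD : Set G)
    have hKx : ∀ {x : G}, Commute x t → Commute x S.X' →
        (∀ a ∈ S.TJ t, x * a * x⁻¹ ∈ S.TJ t) → (∀ d ∈ T.D, x * d * x⁻¹ ∈ DD) →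
        (∀ d ∈ T.D, x * (n * d * n⁻¹) * x⁻¹ ∈ DD) → x ∈ Kx := by
      intro x h1 h2 h3 h4 h5
      refine ⟨⟨⟨Subgroup.mem_centralizer_singleton_iff.2 h1, S.mem_Wc.2 h2⟩,
        Subgroup.mem_normalizer_fintype h3⟩, Subgroup.mem_normalizer_fintype fun a ha => ?_⟩
      have hle : DD ≤ DD.comap (MulAut.conj x).toMonoidHom := by
        refine sup_le (fun d hd => h4 d hd) ?_
        rintro _ ⟨d, hd, rfl⟩
        exact h5 d hd
      exact hle ha
    have hTJ : ∀ v : J4, v.2.2.1 = 0 → S.jj v ∈ S.TJ t := fun v hv =>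
      ⟨S.jj_mem v, Subgroup.mem_centralizer_singleton_iff.2 ((T.jj_comm v).2 hv)⟩
    have hTJ' : ∀ a ∈ S.TJ t, ∃ i j k : ℕ, a = S.z ^ i * S.y ^ j * S.X' ^ k := by
      rintro a ⟨haJ, hat⟩
      obtain ⟨v, rfl⟩ := S.mem_J.1 haJ
      refine ⟨v.1.val, v.2.1.val, v.2.2.2.val, ?_⟩
      rw [jj, (T.jj_comm v).1 (Subgroup.mem_centralizer_singleton_iff.1 hat), ZMod.val_zero, pow_zero,
        mul_one]
    have hzT : S.z ∈ S.TJ t := S.jj_z ▸ hTJ _ rfl
    have hyT : S.y ∈ S.TJ t := S.jj_y ▸ hTJ _ rfl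
    have hXT : S.X' ∈ S.TJ t := S.jj_X' ▸ hTJ _ rfl
    have hmapT : ∀ x : G, Commute x S.X' → x * S.z * x⁻¹ ∈ S.TJ t → x * S.y * x⁻¹ ∈ S.TJ t →
        ∀ a ∈ S.TJ t, x * a * x⁻¹ ∈ S.TJ t := by
      intro x hx hxz hxy a ha
      obtain ⟨i, j, k, rfl⟩ := hTJ' a ha
      rw [show x * (S.z ^ i * S.y ^ j * S.X' ^ k) * x⁻¹ =
        (x * S.z * x⁻¹) ^ i * (x * S.y * x⁻¹) ^ j * (x * S.X' * x⁻¹) ^ k by simp only [conj_pow]; group,
        hx.eq, mul_inv_cancel_right]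
      exact mul_mem (mul_mem (pow_mem hxz _) (pow_mem hxy _)) (pow_mem hXT _)
    have hD' : ∀ d ∈ T.D, n * d * n⁻¹ ∈ DD := fun d hd => Subgroup.mem_sup_right ⟨d, hd, rfl⟩
    have hnK : n ∈ Kx := by
      refine hKx hnt hnX (hmapT n hnX ?_ ?_) hD' fun d hd => ?_
      · rw [← inv_mem_iff, conj_inv, hnz]; exact hTJ _ rfl
      · rw [hny]; exact hTJ _ rfl
      · refine Subgroup.mem_sup_left ?_
        rw [show n * (n * d * n⁻¹) * n⁻¹ = (n * n) * d * (n * n)⁻¹ by group]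
        exact T.D_normal hn2z (hnt.mul_left hnt) hd
    have hyK : S.y ∈ Kx := by
      refine hKx T.comm_y.symm S.y_X' (hmapT _ S.y_X' ?_ ?_) (fun d hd => ?_) fun d hd => ?_
      · rw [S.y_comm.eq, mul_inv_cancel_right]; exact hzT
      · rw [mul_inv_cancel_right]; exact hyT
      · exact Subgroup.mem_sup_left (by simpa using S.y_normalizes_D T hd 1)
      · have e : S.y = n * S.z⁻¹ * n⁻¹ := by rw [hnz, S.jj_y]
        rw [show S.y * (n * d * n⁻¹) * S.y⁻¹ = n * (S.z⁻¹ * d * S.z⁻¹⁻¹) * n⁻¹ by rw [e]; group]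
        exact hD' _ (T.D_normal (Commute.refl S.z).inv_left T.comm_z.symm.inv_left hd)
    have hXK : S.X' ∈ Kx := by
      refine hKx T.comm_X'.symm (Commute.refl _) (hmapT _ (Commute.refl _) ?_ ?_) (fun d hd => ?_) fun d hd => ?_
      · rw [S.z_X'.symm.eq, mul_inv_cancel_right]; exact hzT
      · rw [S.y_X'.symm.eq, mul_inv_cancel_right]; exact hyT
      · rw [(T.comm_X'_D hd).symm.eq, mul_inv_cancel_right]; exact Subgroup.mem_sup_left hd
      · have hc : Commute S.X' (n * d * n⁻¹) :=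
          ((hnX.mul_left (T.comm_X'_D hd)).mul_left hnX.inv_left).symm
        rw [hc.eq, mul_inv_cancel_right]; exact hD' d hd
    let H : Subgroup G := DD ⊔ Kx
    have hle : F.X ≤ (H.subgroupOf S.Wc).map S.pw := by
      refine F.X_le ⟨n0, Subgroup.mem_subgroupOf.2 (Subgroup.mem_sup_right hnK), hn0⟩ fun A => ?_
      obtain ⟨d, hd, k, hk⟩ := M.inr_form A
      refine ⟨⟨M.ψ (SemidirectProduct.inr A), S.mem_Wc.2 (M.comm_X' _)⟩, Subgroup.mem_subgroupOf.2 ?_,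
        (hσ A).symm⟩
      show M.ψ (SemidirectProduct.inr A) ∈ H
      rw [hk]
      exact mul_mem (Subgroup.mem_sup_left (Subgroup.mem_sup_left hd))
        (pow_mem (Subgroup.mem_sup_right hyK) k)
    let gW : S.Wc := ⟨g, S.mem_Wc.2 hgX⟩
    obtain ⟨h, hh, hhg⟩ := hle (F.mem_X.2 (show Commute (S.pw gW) F.t by
      rw [hFt]
      exact (show Commute gW tW from Subtype.ext hgt.eq).map S.pw))
    obtain ⟨i, hi⟩ := S.pw_eq hhg
    have hgH : g ∈ ((DD ⊔ Kx : Subgroup G) : Set G) := by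
      show g ∈ H
      rw [show g = (h : G) * S.X' ^ i.val from hi]
      exact mul_mem (Subgroup.mem_subgroupOf.1 hh) (pow_mem (Subgroup.mem_sup_right hXK) _)
    rw [Subgroup.coe_mul_of_right_le_normalizer_left DD Kx inf_le_right] at hgH
    obtain ⟨u, hu, x, ⟨⟨⟨hxt, -⟩, hxT⟩, -⟩, rfl⟩ := hgH
    have hu' : u ∈ ((T.D ⊔ D' : Subgroup G) : Set G) := hu
    rw [Subgroup.coe_mul_of_right_le_normalizer_left T.D D' ?_] at hu'
    · obtain ⟨d, hd, _, ⟨e, he, rfl⟩, rfl⟩ := hu'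
      exact ⟨d, hd, e, he, n, x, hexch, Subgroup.mem_centralizer_singleton_iff.1 hxt, hxT, rfl⟩
    · rintro _ ⟨e, he, rfl⟩
      refine Subgroup.mem_normalizer_fintype fun d hd => ?_
      show n * e * n⁻¹ * d * (n * e * n⁻¹)⁻¹ ∈ T.D
      rw [← (hcomm d hd e he).eq, mul_inv_cancel_right]
      exact hd

end Std

end Cfsg.Agent.U62ThreeCent
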