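/-
The normaliser of the extraspecial group in `C(t)` modulo it, when the Sylow three-subgroup of `C(z)/Q` is
small and nothing exchanges the planes.

* `Std.swapStd` : the configuration with the two planes renamed;
* `Std.TInv.commute_swap` : the two involutions commute;
* `Std.SwapModel` : `C(z) ∩ C(t) = D · (3^{1+2} : SL(2,3))`;
* `Std.EData.quot_equiv` : `N(E) ∩ C(t)` modulo `E` is `PSp(4,3)`.
-/
import Cfsg.Agent.Lib.U62ThreeCent.Meet
import Cfsg.Agent.Lib.U62ThreeCent.ModelW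
import Cfsg.Agent.Lib.U62ThreeCent.JStruct
import Cfsg.Agent.Lib.PSpThree.Amalgam.Main

set_option autoImplicit false
set_option maxRecDepth 100000
set_option synthInstance.maxSize 2000
set_option linter.unusedSectionVars false

namespace Cfsg.Agent.U62ThreeCent

open Cfsg.Agent.PSpThree

/-- The planes renamed. -/
def Mon.ren (m : Mon) : Mon := ⟨m.b, m.a, m.s⟩

theorem Mon.ren_mul (x y : Mon) : (x * y).ren = x.ren * y.ren := by
  rcases x with ⟨xa, xb, xs⟩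
  cases xs <;> simp [Mon.ren, Mon.mul_def]

theorem Mon.ren_eq_one {m : Mon} : m.ren = 1 ↔ m = 1 := by
  rcases m with ⟨a, b, s⟩
  simp [Mon.ren, Mon.one_def]
  tauto

theorem Mon.act_ren (m : Mon) (v : V) : Mon.act m.ren (v.2, v.1) = ((Mon.act m v).2, (Mon.act m v).1) := by
  rcases m with ⟨a, b, s⟩
  cases s <;> simp [Mon.ren, Mon.act]

theorem tm_facts : tm * tm.ren * (tm * tm.ren) = 1 ∧
    (∀ a : SL23, tm * ⟨1, a, false⟩ * tm⁻¹ = (⟨1, a, false⟩ : Mon)) := by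
  refine ⟨?_, fun a => ?_⟩
  · have h : negOne * negOne = 1 := by decide +kernel
    simp [tm, Mon.ren, Mon.mul_def, Mon.one_def, h]
  · simp [tm, Mon.mul_def, Mon.inv_def]

theorem gy_word : ∃ A : SL23, (SemidirectProduct.inl H3.gy : Loc.M) =
    SemidirectProduct.inr A * Loc.emb (0, 1, 0) * (SemidirectProduct.inr A)⁻¹ := by decide +kernel

theorem inl_gens : (SemidirectProduct.inl H3.gx : Loc.M) = Loc.emb (0, 1, 0) ∧
    (SemidirectProduct.inl H3.cz : Loc.M) = Loc.emb (1, 0, 0) := by decide +kernel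

theorem gx_comm_nine : ∀ m : Loc.M, m * Loc.emb (0, 1, 0) = Loc.emb (0, 1, 0) * m → m ^ 9 = 1 := by
  decide +kernel

theorem gx_commutator : ∀ m : Loc.M,
    (m * Loc.emb (0, 1, 0) * m⁻¹ * (Loc.emb (0, 1, 0))⁻¹) ^ 3 = 1 := by decide +kernel

theorem uni_X' : ∀ i j : K, j ≠ 0 → ∃ d : K, uni (0, d) ((0, 0, 0, j) : J4) = (i, 0, 0, j) := by decide +kernel

theorem upper_fix_e1 : ∀ k : Fin 3, act2 (upperU ^ (k : ℕ)) (1, 0) = (1, 0) := by decide +kernel

/-- Two elements of order three congruent modulo a 2-group are conjugate under it. -/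
theorem exists_conj_of_mod {G : Type*} [Group G] [Finite G] {E : Subgroup G} (hE : Nat.card E = 2 ^ 9)
    {u v : G} (hu : u ^ 3 = 1) (hv : v ^ 3 = 1) (hn : ∀ e ∈ E, v * e * v⁻¹ ∈ E) (huv : u * v⁻¹ ∈ E) :
    ∃ e ∈ E, e⁻¹ * u * e = v := by
  classical
  have : Fact (Nat.Prime 3) := ⟨Nat.prime_three⟩
  have := Fintype.ofFinite E
  have hmem : ∀ e ∈ E, u * e * v⁻¹ ∈ E := fun e he => by
    rw [show u * e * v⁻¹ = u * v⁻¹ * (v * e * v⁻¹) by group]
    exact mul_mem huv (hn e he)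
  let f : E → E := fun e => ⟨u * e * v⁻¹, hmem e e.2⟩
  have hf : Function.Bijective f := Finite.injective_iff_bijective.1 fun a b h => by
    refine Subtype.ext ?_
    have h' : u * (a : G) * v⁻¹ = u * (b : G) * v⁻¹ := congrArg Subtype.val h
    exact mul_left_cancel (mul_right_cancel h')
  let σ : Equiv.Perm E := Equiv.ofBijective f hf
  have hσ : σ ^ 3 ^ 1 = 1 := by
    refine Equiv.ext fun e => Subtype.ext ?_
    show ((f (f (f e)) : E) : G) = e
    show u * (u * (u * (e : G) * v⁻¹) * v⁻¹) * v⁻¹ = e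
    rw [pow_three] at hu hv
    calc u * (u * (u * (e : G) * v⁻¹) * v⁻¹) * v⁻¹ = u * (u * u) * e * (v * (v * v))⁻¹ := by group
      _ = e := by rw [hu, hv]; group
  obtain ⟨a, ha⟩ := Equiv.Perm.exists_fixed_point_of_prime (p := 3) (n := 1)
    (by rw [← Nat.card_eq_fintype_card, hE]; norm_num) hσ
  refine ⟨a, a.2, ?_⟩
  have h : u * (a : G) * v⁻¹ = a := congrArg Subtype.val ha
  rw [mul_inv_eq_iff_eq_mul] at h
  rw [mul_assoc, h, inv_mul_cancel_left]

namespace Cfg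

variable {G : Type*} [Group G]

/-- The configuration with the planes renamed. -/
def swapC (C : Cfg G) : Cfg G where
  z := C.z
  Q := C.Q
  φ h := (C.φ h).ren
  vec x := ((C.vec x).2, (C.vec x).1)
  z_ord := C.z_ord
  z_mem := C.z_mem
  Q_le := C.Q_le
  cube := C.cube
  vec_mul i hi j hj := by rw [C.vec_mul i hi j hj]; rfl
  vec_surj v := by
    obtain ⟨q, hq, h⟩ := C.vec_surj (v.2, v.1)
    exact ⟨q, hq, by rw [h]⟩
  vec_ker q hq := by
    refine Iff.trans ⟨fun h => ?_, fun h => ?_⟩ (C.vec_ker q hq)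
    · exact Prod.ext (congrArg Prod.snd h) (congrArg Prod.fst h)
    · rw [h]; rfl
  comm i hi j hj := by
    rw [C.comm i hi j hj]
    congr 2
    simp [om]; ring
  φ_mul g h hg hh := by rw [C.φ_mul g h hg hh, Mon.ren_mul]
  φ_ker h hh := Mon.ren_eq_one.trans (C.φ_ker h hh)
  conj_mem := C.conj_mem
  vec_conj h hh q hq := by rw [C.vec_conj h hh q hq, Mon.act_ren]
  quat a b ha hb := by
    obtain ⟨h, hh, hφ⟩ := C.quat b a hb ha
    exact ⟨h, hh, by rw [hφ]; rfl⟩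
  wc := C.wc
  nwc := C.nwc

theorem not_big_swapC {C : Cfg G} (hb : ¬ C.Big) : ¬ C.swapC.Big := by
  rintro ⟨h, hh, h3, hhalf⟩
  refine hb ⟨h, hh, Mon.ren_eq_one.1 ?_, ?_⟩
  · change ((C.φ h).ren) ^ 3 = 1 at h3
    rw [pow_three, Mon.ren_mul, Mon.ren_mul, ← pow_three]
    exact h3
  · rcases hhalf with ⟨h1, h2⟩ | ⟨h1, h2⟩
    · exact Or.inr ⟨h2, h1⟩
    · exact Or.inl ⟨h2, h1⟩

end Cfg

namespace Std

variable {G : Type*} [Group G]

/-- The standard position with the planes renamed. -/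
def swapStd (S : Std G) : Std G where
  toCfg := S.toCfg.swapC
  y := S.y
  X := S.X'
  X' := S.X
  y_comm := S.y_comm
  y_cube := S.y_cube
  φ_y := by
    show (S.φ S.y).ren = _
    rw [S.φ_y]; rfl
  X_mem := S.X'_mem
  X'_mem := S.X_mem
  vec_X := by
    show ((S.vec S.X').2, (S.vec S.X').1) = _
    rw [S.vec_X']
  vec_X' := by
    show ((S.vec S.X).2, (S.vec S.X).1) = _
    rw [S.vec_X]
  y_X := S.y_X'
  y_X' := S.y_X
  pts v := by
    show S.toCfg.IsPt (S.z ^ v.1.val * S.y ^ v.2.1.val * S.X' ^ v.2.2.1.val * S.X ^ v.2.2.2.val) ↔ _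
    rw [mul_assoc _ (S.X' ^ _), (S.X_X'.symm.pow_pow _ _).eq, ← mul_assoc]
    refine (S.pts (v.1, v.2.1, v.2.2.2, v.2.2.1)).trans ?_
    constructor <;> rintro ⟨h1, h2⟩
    · refine ⟨fun e => h1 (by rw [e]; rfl), ?_⟩
      rw [← h2]; simp [quad]; ring
    · refine ⟨fun e => h1 ?_, ?_⟩
      · simp [Prod.ext_iff] at e ⊢
        tauto
      · rw [← h2]; simp [quad]; ring

theorem jj_swapStd (S : Std G) (v : J4) : S.swapStd.jj v = S.jj (v.1, v.2.1, v.2.2.2, v.2.2.1) := by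
  show S.z ^ v.1.val * S.y ^ v.2.1.val * S.X' ^ v.2.2.1.val * S.X ^ v.2.2.2.val = _
  rw [jj, mul_assoc _ (S.X' ^ _), (S.X_X'.symm.pow_pow _ _).eq, ← mul_assoc]

variable {S : Std G} {t u : G}

/-- The two involutions commute. -/
theorem TInv.commute_swap [Finite G] (T : S.TInv t) (U : S.swapStd.TInv u) : Commute t u := by
  have hu2 := U.sq
  have ht2 := T.sq
  have huz : Commute u S.z := U.comm_z
  have huX : Commute u S.X := U.comm_X'
  have huX' : u * S.X' * u⁻¹ = S.X'⁻¹ := U.conj_X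
  have hφu : S.φ u = tm.ren := by
    have h : (S.φ u).ren = tm := U.φ_t
    rcases hu : S.φ u with ⟨a, b, s⟩
    rw [hu] at h
    rw [← h]; rfl
  set w := t * u * (t * u) with hw
  have hwz : Commute w S.z := (T.comm_z.mul_left huz).mul_left (T.comm_z.mul_left huz)
  have hwQ : w ∈ S.Q := by
    refine (S.φ_ker w hwz).1 ?_
    rw [hw, S.φ_mul _ _ (T.comm_z.mul_left huz) (T.comm_z.mul_left huz), S.φ_mul _ _ T.comm_z huz, T.φ_t,
      hφu]
    exact tm_facts.1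
  have hwX : Commute w S.X := by
    refine mul_inv_eq_iff_eq_mul.1 ?_
    calc w * S.X * w⁻¹ = t * (u * (t * (u * S.X * u⁻¹) * t⁻¹) * u⁻¹) * t⁻¹ := by rw [hw]; group
      _ = t * (u * S.X⁻¹ * u⁻¹) * t⁻¹ := by rw [huX.eq, mul_inv_cancel_right, T.conj_X]
      _ = t * (u * S.X * u⁻¹)⁻¹ * t⁻¹ := by group
      _ = (t * S.X * t⁻¹)⁻¹ := by rw [huX.eq, mul_inv_cancel_right]; group
      _ = S.X := by rw [T.conj_X, inv_inv]
  have hwX' : Commute w S.X' := by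
    refine mul_inv_eq_iff_eq_mul.1 ?_
    calc w * S.X' * w⁻¹ = t * (u * (t * (u * S.X' * u⁻¹) * t⁻¹) * u⁻¹) * t⁻¹ := by rw [hw]; group
      _ = t * (u * (t * S.X' * t⁻¹)⁻¹ * u⁻¹) * t⁻¹ := by rw [huX']; group
      _ = t * (u * S.X' * u⁻¹)⁻¹ * t⁻¹ := by rw [T.comm_X'.eq, mul_inv_cancel_right]; group
      _ = t * S.X' * t⁻¹ := by rw [huX', inv_inv]
      _ = S.X' := by rw [T.comm_X'.eq, mul_inv_cancel_right]
  obtain ⟨⟨a, b, c, d⟩, hb, hv⟩ := S.mem_J_of_mem_Q_of_commute hwQ hwX hwX'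
  have hb' : b = 0 := hb
  subst hb'
  have e1 : t * w * t⁻¹ = w⁻¹ := by
    rw [hw, T.inv_eq, mul_inv_rev, mul_inv_rev, U.inv_eq, T.inv_eq]
    rw [show t * (t * u * (t * u)) * t = t * t * u * (t * u) * t by group, ht2]
    group
  have e2 : u * w * u⁻¹ = w⁻¹ := by
    rw [hw, mul_inv_rev, mul_inv_rev, U.inv_eq, T.inv_eq,
      show u * (t * u * (t * u)) * u = u * t * (u * t) * (u * u) by group, hu2, mul_one]
  rw [← hv, T.conj_jj, ← S.jj_neg] at e1
  have c1 := S.jj_inj e1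
  rw [← hv, show S.jj (a, 0, c, d) = S.swapStd.jj (a, 0, d, c) from (S.jj_swapStd (a, 0, d, c)).symm, U.conj_jj,
    ← Std.jj_neg] at e2
  have c2 := S.swapStd.jj_inj e2
  simp [Prod.ext_iff] at c1 c2
  have hK : ∀ k : K, k = -k → k = 0 := by decide
  obtain rfl : a = 0 := hK _ c1.1
  obtain rfl : d = 0 := hK _ c1.2
  obtain rfl : c = 0 := hK _ c2.2
  rw [show ((0, 0, 0, 0) : J4) = 0 from rfl, S.jj_zero] at hv
  show t * u = u * t
  have h1 : t * u * (t * u) = 1 := hw ▸ hv.symm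
  calc t * u = (t * u)⁻¹ := eq_inv_of_mul_eq_one_left h1
    _ = u * t := by rw [mul_inv_rev, U.inv_eq, T.inv_eq]

/-- The model of `C(z) ∩ C(t)` modulo `D`. -/
structure SwapModel [Finite G] (S : Std G) {t : G} (T : S.TInv t) where
  /-- the homomorphism -/
  ψ : Loc.M →* G
  comm_z : ∀ m, Commute (ψ m) S.z
  comm_t : ∀ m, Commute (ψ m) t
  comm_X : ∀ m, Commute (ψ m) S.X
  emb_eq : ∀ v : Loc.V, ψ (Loc.emb v) = S.jj (-v.1, v.2.2, 0, v.2.1)
  inj : ∀ m, ψ m = 1 → m = 1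
  onto : ∀ g, Commute g S.z → Commute g t → ∃ d ∈ T.D, ∃ m, g = d * ψ m

variable [Finite G]

theorem exists_swapModel (T : S.TInv t) (hb : ¬ S.toCfg.Big) : Nonempty (S.SwapModel T) := by
  obtain ⟨u, U⟩ := S.swapStd.exists_tInv
  obtain ⟨M⟩ := S.swapStd.exists_wModel U
  have htu : Commute t u := T.commute_swap U
  have hemb : ∀ v : Loc.V, M.ψ (Loc.emb v) = S.jj (-v.1, v.2.2, 0, v.2.1) := fun v => by
    rw [M.emb_eq, S.jj_swapStd]
  have hD : ∀ d ∈ U.D, Commute d t := by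
    intro d hd
    have hd' : t * d * t⁻¹ ∈ U.D := U.D_normal (h := t) T.comm_z htu hd
    have h1 := mul_mem hd' (inv_mem hd)
    have hdz : Commute d S.z := hd.1.1
    have hcz : Commute (t * d * t⁻¹) S.z := (T.comm_z.mul_left hdz).mul_left T.comm_z.inv_left
    have hs : (S.φ d).s = false := hd.1.2.2.1
    have ha : (S.φ d).a = 1 := hd.1.2.2.2.1
    have hform : S.φ d = ⟨1, (S.φ d).b, false⟩ := Mon.ext ha rfl hs
    have e : S.φ (t * d * t⁻¹ * d⁻¹) = 1 := by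
      rw [S.φ_mul _ _ hcz hdz.inv_left, Cfg.φ_conj' _ T.comm_z hdz, T.φ_t, hform, tm_facts.2,
        S.φ_inv hdz, ← hform, mul_inv_cancel]
    have h2 := U.eq_one_of_a h1 (by
      show ((S.φ (t * d * t⁻¹ * d⁻¹)).ren).a = 1
      rw [e]; rfl)
    exact (mul_inv_eq_iff_eq_mul.1 (mul_inv_eq_one.1 h2)).symm
  have hct : ∀ m, Commute (M.ψ m) t := by
    have hjt : ∀ v : Loc.V, Commute (M.ψ (Loc.emb v)) t := fun v => by
      rw [hemb]; exact (T.jj_comm _).2 rfl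
    have hr : ∀ A : SL23, Commute (M.ψ (SemidirectProduct.inr A)) t := fun A => by
      obtain ⟨d, hd, k, hk⟩ := M.inr_form A
      rw [hk]
      exact (hD d hd).mul_left (T.comm_y.symm.pow_left k)
    intro m
    rw [← SemidirectProduct.inl_left_mul_inr_right m, map_mul]
    refine Commute.mul_left ?_ (hr _)
    rw [H3.eq_word m.left]
    simp only [map_mul, map_pow]
    obtain ⟨A, hA⟩ := gy_word
    refine ((Commute.pow_left ?_ _).mul_left (Commute.pow_left ?_ _)).mul_left (Commute.pow_left ?_ _)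
    · rw [inl_gens.1]; exact hjt _
    · rw [hA, map_mul, map_mul, map_inv]
      exact ((hr A).mul_left (hjt _)).mul_left (hr A).inv_left
    · rw [inl_gens.2]; exact hjt _
  refine ⟨⟨M.ψ, M.comm_z, hct, M.comm_X', hemb,
    fun m hm => M.ker m (hm ▸ one_mem _), fun g hgz hgt => ?_⟩⟩
  obtain ⟨d, hd, g', rfl, hgz', hgt', hs, k, hka, -⟩ := T.exists_factor hgz hgt
  -- `g'` centralises `X`
  have hgX : Commute g' S.X := by
    have hQ := S.conj_mem g' hgz' _ S.X_mem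
    have hv : S.vec (g' * S.X * g'⁻¹) = S.vec S.X := by
      rw [S.vec_conj g' hgz' _ S.X_mem, S.vec_X, Mon.act_false hs, hka, upper_fix_e1]
      simp [act2]
    obtain ⟨i, hi⟩ := Cfg.exists_pow_val ((S.vec_ker _ (mul_mem hQ (inv_mem S.X_mem))).1 (by
      rw [S.vec_mul _ hQ _ (inv_mem S.X_mem), S.vec_inv S.X_mem, hv, add_neg_cancel]))
    have hX : g' * S.X * g'⁻¹ = S.jj (i, 0, 1, 0) := by
      rw [mul_inv_eq_iff_eq_mul.1 hi]; simp [jj, ZMod.val_one]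
    have h1 := T.conj_jj (i, 0, 1, 0)
    rw [← hX, show t * (g' * S.X * g'⁻¹) * t⁻¹ = (t * g') * S.X * (t * g')⁻¹ by group, ← hgt'.eq,
      show g' * t * S.X * (g' * t)⁻¹ = g' * (t * S.X * t⁻¹) * g'⁻¹ by group, T.conj_X, ← conj_inv, hX,
      ← S.jj_neg] at h1
    have h2 := congrArg Prod.fst (S.jj_inj h1)
    have hi0 : i = 0 := (by decide : ∀ i : K, -i = i → i = 0) i h2
    rw [hi0] at hX
    refine mul_inv_eq_iff_eq_mul.1 (hX.trans ?_)
    rw [← S.jj_X]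
  obtain ⟨m, hm⟩ := M.onto (Cfg.not_big_swapC hb) g' hgz' hgX
  have hm' : g' * (M.ψ m)⁻¹ ∈ Subgroup.zpowers S.X := hm
  obtain ⟨n, hn⟩ := mem_powers_iff_mem_zpowers.2 hm'
  have hn' : S.X ^ n = S.jj (0, 0, (n : K), 0) := by
    rw [pow_eq_pow_mod n (S.cube _ S.X_mem)]
    simp [jj]
  have hn0 : (n : K) = 0 := by
    have h : Commute (g' * (M.ψ m)⁻¹) t := hgt'.mul_left (hct m).inv_left
    rw [← show S.X ^ n = g' * (M.ψ m)⁻¹ from hn, hn'] at h
    exact (T.jj_comm _).1 h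
  refine ⟨d, hd, m, ?_⟩
  have e : g' * (M.ψ m)⁻¹ = 1 := by
    rw [← show S.X ^ n = g' * (M.ψ m)⁻¹ from hn, hn', hn0]
    exact S.jj_eq_one.2 rfl
  rw [← mul_inv_eq_one.1 e]

variable {E : Subgroup G}

theorem E_normal_N0 : (E.subgroupOf (N0 t E)).Normal :=
  ⟨fun _ he g => (Subgroup.mem_normalizer_iff.1 (mem_N0.1 g.2).1 _).1 he⟩

theorem EData.E_le_N0 (hE : S.EData t E) : E ≤ N0 t E := fun _ he =>
  mem_N0.2 ⟨Subgroup.le_normalizer he, Subgroup.mem_centralizer_singleton_iff.1 (hE.le he)⟩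

theorem cube_conj {x c : G} (hx : x ^ 3 = 1) : (c * x * c⁻¹) ^ 3 = 1 := by
  rw [conj_pow, hx, mul_one, mul_inv_cancel]

/-- No element of `C(t)` inverts `z` when nothing exchanges the planes. -/
theorem TInv.no_inv (T : S.TInv t) (hs : ¬ S.toCfg.Swap) {g : G} (hgt : Commute g t) :
    g * S.z * g⁻¹ ≠ S.z⁻¹ := by
  intro hg
  obtain ⟨g', hg', m', hm's, hm'⟩ := S.exists_exchange S.exists_swap_zy
  obtain ⟨m, hm, -⟩ := S.toCfg.inv_coord hg
  have h : m.s = m'.s := S.toCfg.inv_s_eq hs hg hg' hm hm'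
  have hv := hm _ S.X'_mem
  rw [S.vec_X'] at hv
  have hQ : g * S.X' * g⁻¹ ∈ S.Q := S.toCfg.inv_Q hg S.X'_mem
  have hfalse : m.s = false := by
    refine Cfg.inv_coord_s (u := (1, 0)) (by decide) ?_
    rw [← hv]
    exact (T.mem_QT hQ).1 ((hgt.mul_left T.comm_X'.symm).mul_left hgt.inv_left)
  rw [hfalse, hm's] at h
  exact Bool.false_ne_true h

/-- `N(E) ∩ C(t)` modulo `E` is `PSp(4,3)`. -/
theorem EData.quot_equiv (hE : S.EData t E) (hb : ¬ S.toCfg.Big) (hs : ¬ S.toCfg.Swap)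
    [(E.subgroupOf (N0 t E)).Normal] :
    Nonempty (↥(N0 t E) ⧸ E.subgroupOf (N0 t E) ≃* Cfsg.PSp 2 (ZMod 3)) := by
  have T := hE.core.tinv
  obtain ⟨P⟩ := exists_swapModel hE.core.tinv hb
  have hψN : ∀ m, P.ψ m ∈ N0 t E := fun m =>
    mem_N0.2 ⟨hE.norm_z _ (P.comm_t m) (P.comm_z m), P.comm_t m⟩
  set pr := QuotientGroup.mk' (E.subgroupOf (N0 t E)) with hpr
  have pr1 : ∀ {g : G} (hg : g ∈ N0 t E), g ∈ E → pr ⟨g, hg⟩ = 1 := fun hg h =>
    (QuotientGroup.eq_one_iff _).2 h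
  have prE : ∀ a b : N0 t E, pr a = pr b → (a : G) * (b : G)⁻¹ ∈ E := fun a b h => by
    have h1 : pr (a * b⁻¹) = 1 := by rw [map_mul, map_inv, h, mul_inv_cancel]
    exact Subgroup.mem_subgroupOf.1 ((QuotientGroup.eq_one_iff _).1 h1)
  let θ : Loc.M →* ↥(N0 t E) ⧸ E.subgroupOf (N0 t E) := pr.comp (P.ψ.codRestrict (N0 t E) hψN)
  have hθ : ∀ m, θ m = pr ⟨P.ψ m, hψN m⟩ := fun _ => rfl
  have hEn : ∀ {v : G}, v ∈ N0 t E → ∀ e ∈ E, v * e * v⁻¹ ∈ E := fun hv e he =>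
    (Subgroup.mem_normalizer_iff.1 (mem_N0.1 hv).1 e).1 he
  have hEt : ∀ e ∈ E, Commute e t := fun e he => (mem_N0.1 (hE.E_le_N0 he)).2
  have inj : Function.Injective θ := (injective_iff_map_eq_one θ).2 fun m hm => by
    have h1 : P.ψ m ∈ E := Subgroup.mem_subgroupOf.1 ((QuotientGroup.eq_one_iff _).1 hm)
    have h2 : P.ψ m ∈ hE.core.tinv.D := hE.cent_z _ h1 (P.comm_z m)
    refine P.inj m (T.eq_one_of_a h2 ?_)
    have e := S.vec_conj _ (P.comm_z m) _ S.X_mem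
    rw [(P.comm_X m).eq, mul_inv_cancel_right, S.vec_X, Mon.act_false h2.1.2.2.1] at e
    have key : ∀ a : SL23, a ^ 4 = 1 → act2 a (1, 0) = (1, 0) → a = 1 := by decide +kernel
    exact key _ h2.1.2.2.2.2.1 (congrArg Prod.fst e).symm
  have hza : P.ψ (Loc.emb (1, 0, 0)) = S.z⁻¹ := by
    rw [P.emb_eq, ← S.jj_z, ← S.jj_neg]; simp
  set A := (θ.comp Loc.embHom).range with hA
  -- members of `A`
  have hAmem : ∀ {g : G} (hg : g ∈ S.TJ t) (hgN : g ∈ N0 t E), pr ⟨g, hgN⟩ ∈ A := by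
    intro g hg hgN
    obtain ⟨⟨a, b, c, d⟩, hc, rfl⟩ := T.mem_TJ_iff.1 hg
    refine ⟨Multiplicative.ofAdd (-a, d, b), ?_⟩
    show θ (Loc.emb (-a, d, b)) = _
    rw [hθ]
    refine congrArg pr (Subtype.ext ?_)
    rw [show (⟨P.ψ (Loc.emb (-a, d, b)), hψN _⟩ : N0 t E).1 = P.ψ (Loc.emb (-a, d, b)) from rfl, P.emb_eq]
    have hc' : c = 0 := hc
    simp [hc']
  have hAget : ∀ x ∈ A, ∃ g, ∃ hg : g ∈ S.TJ t, x = pr ⟨g, hE.t_mem_N0_of_TJ hg⟩ := by
    rintro _ ⟨v, rfl⟩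
    refine ⟨P.ψ (Loc.emb v.toAdd), ?_, rfl⟩
    rw [P.emb_eq]; exact T.mem_TJ_iff.2 ⟨_, rfl, rfl⟩
  have hnormA : ∀ {x : G} (hx : x ∈ N0 t E), x ∈ Subgroup.normalizer (S.TJ t : Set G) →
      pr ⟨x, hx⟩ ∈ Subgroup.normalizer (A : Set _) := by
    intro x hx hxT
    refine Subgroup.mem_normalizer_fintype fun a ha => ?_
    obtain ⟨g, hg, rfl⟩ := hAget a ha
    have hm : x * g * x⁻¹ ∈ S.TJ t := (Subgroup.mem_normalizer_iff.1 hxT g).1 hg
    rw [← map_inv, ← map_mul, ← map_mul]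
    exact hAmem hm (hE.t_mem_N0_of_TJ hm)
  -- lifting centralisers
  have hlift : ∀ (g : N0 t E) {u v : G} (hu : u ∈ N0 t E) (hv : v ∈ N0 t E), u ^ 3 = 1 → v ^ 3 = 1 →
      pr g * pr ⟨u, hu⟩ * (pr g)⁻¹ = pr ⟨v, hv⟩ →
      ∃ g' : N0 t E, pr g' = pr g ∧ (g' : G) * u * (g' : G)⁻¹ = v := by
    intro g u v hu hv hu3 hv3 h
    rw [← map_inv, ← map_mul, ← map_mul] at h
    obtain ⟨e, he, hev⟩ := exists_conj_of_mod hE.card (cube_conj (c := (g : G)) hu3) hv3 (hEn hv)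
      (prE _ _ h)
    refine ⟨⟨e, hE.E_le_N0 he⟩⁻¹ * g, ?_, ?_⟩
    · rw [map_mul, map_inv, pr1 (hE.E_le_N0 he) he, inv_one, one_mul]
    · rw [← hev]; simp only [Subgroup.coe_mul, Subgroup.coe_inv]; group
  have hzN : S.z ∈ N0 t E := hE.t_mem_N0_of_TJ T.z_mem_TJ
  have hX'N : S.X' ∈ N0 t E := hE.t_mem_N0_of_TJ T.X'_mem_TJ
  have ha_eq : θ (Loc.emb (1, 0, 0)) = (pr ⟨S.z, hzN⟩)⁻¹ := by
    rw [hθ, ← map_inv]
    exact congrArg pr (Subtype.ext hza)
  have range : ∀ g, Commute g (θ (Loc.emb (1, 0, 0))) → ∃ m, θ m = g := by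
    intro g hg
    obtain ⟨g, rfl⟩ := QuotientGroup.mk'_surjective _ g
    rw [ha_eq] at hg
    have hg' : Commute (pr g) (pr ⟨S.z, hzN⟩) := Commute.inv_right_iff.1 hg
    obtain ⟨g', hg'e, hgz⟩ := hlift g hzN hzN S.z_pow S.z_pow (by rw [hg'.eq, mul_inv_cancel_right])
    obtain ⟨d, hd, m, hdm⟩ := P.onto (g' : G) (mul_inv_eq_iff_eq_mul.1 hgz) (mem_N0.1 g'.2).2
    refine ⟨m, ?_⟩
    rw [← hg'e, hθ]
    have hd' : d ∈ N0 t E := hE.E_le_N0 (hE.D_le hd)
    have e : g' = ⟨d, hd'⟩ * ⟨P.ψ m, hψN m⟩ := Subtype.ext hdm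
    rw [e, map_mul, pr1 hd' (hE.D_le hd), one_mul]
  have hcomm : ∀ a ∈ A, ∀ b ∈ A, Commute a b := by
    rintro _ ⟨v, rfl⟩ _ ⟨w, rfl⟩
    exact (Commute.all v w).map (θ.comp Loc.embHom)
  have hA3 : ∀ a ∈ A, a ^ 3 = 1 := fun a ha => by
    obtain ⟨g, hg, rfl⟩ := hAget a ha
    obtain ⟨v, -, rfl⟩ := T.mem_TJ_iff.1 hg
    rw [← map_pow]
    exact pr1 (pow_mem (hE.t_mem_N0_of_TJ hg) 3) (by rw [show (S.jj v) ^ 3 = 1 from S.jj_cube v]; exact one_mem _)
  have triv : ∀ (L : Subgroup (↥(N0 t E) ⧸ E.subgroupOf (N0 t E))), (Nat.card L).Coprime 3 →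
      ∀ x ∈ L, x ^ 3 = 1 → x = 1 := fun L hL x hx h => by
    refine orderOf_eq_one_iff.1 (Nat.eq_one_of_dvd_coprimes hL (Subgroup.orderOf_dvd_natCard L hx)
      (orderOf_dvd_of_pow_eq_one h))
  -- subgroups centralising the image of `z`
  have botZ : ∀ L : Subgroup (↥(N0 t E) ⧸ E.subgroupOf (N0 t E)), (Nat.card L).Coprime 3 →
      A ≤ Subgroup.normalizer (L : Set _) → (∀ l ∈ L, Commute l (θ (Loc.emb (1, 0, 0)))) → L = ⊥ := by
    intro L hL hn hc
    rw [Subgroup.eq_bot_iff_forall]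
    intro l hl
    obtain ⟨m, rfl⟩ := range l (hc l hl)
    have hgA : θ (Loc.emb (0, 1, 0)) ∈ A := ⟨Multiplicative.ofAdd (0, 1, 0), rfl⟩
    have h1 : θ m * θ (Loc.emb (0, 1, 0)) * (θ m)⁻¹ * (θ (Loc.emb (0, 1, 0)))⁻¹ ∈ L := by
      rw [mul_assoc, mul_assoc, ← mul_assoc (θ (Loc.emb (0, 1, 0)))]
      exact mul_mem hl ((Subgroup.mem_normalizer_iff.1 (hn hgA) _).1 (inv_mem hl))
    rw [← map_inv, ← map_mul, ← map_mul, ← map_inv, ← map_mul] at h1
    have h2 := triv L hL _ h1 (by rw [← map_pow, gx_commutator, map_one])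
    have h3 := inj (h2.trans (map_one θ).symm)
    have h9 := gx_comm_nine m (mul_inv_eq_iff_eq_mul.1 (mul_inv_eq_one.1 h3))
    have hd : orderOf (θ m) ∣ 9 := orderOf_dvd_of_pow_eq_one (by rw [← map_pow, h9, map_one])
    exact orderOf_eq_one_iff.1 (Nat.eq_one_of_dvd_coprimes (hL.pow_right 2)
      (Subgroup.orderOf_dvd_natCard L hl) hd)
  -- subgroups centralising the image of `X'`
  have botW : ∀ L : Subgroup (↥(N0 t E) ⧸ E.subgroupOf (N0 t E)), (Nat.card L).Coprime 3 →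
      A ≤ Subgroup.normalizer (L : Set _) → (∀ l ∈ L, Commute l (pr ⟨S.X', hX'N⟩)) → L = ⊥ := by
    intro L hL hn hc
    refine botZ L hL hn fun l hl => ?_
    obtain ⟨g, rfl⟩ := QuotientGroup.mk'_surjective _ l
    obtain ⟨g', hg'e, hgw⟩ := hlift g hX'N hX'N (S.cube _ S.X'_mem) (S.cube _ S.X'_mem)
      (by rw [(hc _ hl).eq, mul_inv_cancel_right])
    obtain ⟨d, hd, e, he, n, x, hn', hxt, hxT, hdx⟩ :=
      hE.core.cw (g' : G) (mem_N0.1 g'.2).2 (mul_inv_eq_iff_eq_mul.1 hgw)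
    have hdE : d * (n * e * n⁻¹) ∈ E := by
      refine mul_mem (hE.D_le hd) ?_
      exact (Subgroup.mem_normalizer_iff.1 (hE.norm_X' n hn'.1 hn'.2.1) e).1 (hE.D_le he)
    have hxN : x ∈ N0 t E := mem_N0.2 ⟨hE.norm_T x hxt hxT, hxt⟩
    have hgx : pr g = pr ⟨x, hxN⟩ := by
      rw [← hg'e, show g' = ⟨d * (n * e * n⁻¹), hE.E_le_N0 hdE⟩ * ⟨x, hxN⟩ from Subtype.ext hdx, map_mul,
        pr1 _ hdE, one_mul]
    have hlN : pr g ∈ Subgroup.normalizer (A : Set _) := by rw [hgx]; exact hnormA hxN hxT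
    have haA : θ (Loc.emb (1, 0, 0)) ∈ A := ⟨Multiplicative.ofAdd (1, 0, 0), rfl⟩
    set a := θ (Loc.emb (1, 0, 0)) with ha
    have h1 : pr g * a * (pr g)⁻¹ * a⁻¹ ∈ L := by
      rw [mul_assoc, mul_assoc, ← mul_assoc a]
      exact mul_mem hl ((Subgroup.mem_normalizer_iff.1 (hn haA) _).1 (inv_mem hl))
    have h2 : pr g * a * (pr g)⁻¹ * a⁻¹ ∈ A :=
      mul_mem ((Subgroup.mem_normalizer_iff.1 hlN a).1 haA) (inv_mem haA)
    exact mul_inv_eq_iff_eq_mul.1 (mul_inv_eq_one.1 (triv L hL _ h1 (hA3 _ h2)))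
  have sig : ∀ N : Subgroup (↥(N0 t E) ⧸ E.subgroupOf (N0 t E)), (Nat.card N).Coprime 3 →
      A ≤ Subgroup.normalizer (N : Set _) → N = ⊥ := by
    intro N hN hnorm
    have : IsMulCommutative A := ⟨⟨fun a b => Subtype.ext (hcomm a a.2 b b.2).eq⟩⟩
    have hAcard : (Nat.card A).Coprime (Nat.card N) := by
      haveI := Fact.mk Nat.prime_three
      obtain ⟨k, hk⟩ := IsPGroup.iff_card.1 (show IsPGroup 3 A from fun a => ⟨1, Subtype.ext (by
        simpa using hA3 a a.2)⟩)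
      rw [hk]; exact (hN.symm).pow_left k
    set zb := pr ⟨S.z, hzN⟩ with hzb
    set wb := pr ⟨S.X', hX'N⟩ with hwb
    rw [eq_bot_iff]
    refine Coprime.le_of_pair hnorm hAcard Nat.prime_three (a := zb) (b := wb) (hAmem T.z_mem_TJ hzN)
      (hAmem T.X'_mem_TJ hX'N) ?_ ?_ ?_
    · rw [hA3 _ (hAmem T.z_mem_TJ hzN)]; exact one_mem _
    · rw [hA3 _ (hAmem T.X'_mem_TJ hX'N)]; exact one_mem _
    intro i j hij
    rw [le_bot_iff]
    set L := N ⊓ Subgroup.centralizer {zb ^ i * wb ^ j} with hL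
    have hLcop : (Nat.card L).Coprime 3 :=
      Nat.Coprime.coprime_dvd_left (Subgroup.card_dvd_of_le inf_le_left) hN
    have hxA : zb ^ i * wb ^ j ∈ A :=
      mul_mem (pow_mem (hAmem T.z_mem_TJ hzN) _) (pow_mem (hAmem T.X'_mem_TJ hX'N) _)
    have hLn : A ≤ Subgroup.normalizer (L : Set _) := fun a ha =>
      Subgroup.mem_normalizer_fintype fun l hl => ⟨(Subgroup.mem_normalizer_iff.1 (hnorm ha) l).1 hl.1,
        Subgroup.mem_centralizer_singleton_iff.2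
          (((hcomm a ha _ hxA).mul_left (Subgroup.mem_centralizer_singleton_iff.1 hl.2)).mul_left
            (hcomm a ha _ hxA).inv_left).eq⟩
    have hzp : zb ^ i = zb ^ (i : K).val := by
      rw [ZMod.val_natCast]; exact pow_eq_pow_mod i (hA3 _ (hAmem T.z_mem_TJ hzN))
    have hwp : wb ^ j = wb ^ (j : K).val := by
      rw [ZMod.val_natCast]; exact pow_eq_pow_mod j (hA3 _ (hAmem T.X'_mem_TJ hX'N))
    have hval : ∀ k : K, k ≠ 0 → ∃ n : ℕ, k.val * n % 3 = 1 := fun k hk => by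
      rcases beta_cases k with rfl | rfl | rfl
      exacts [absurd rfl hk, ⟨1, rfl⟩, ⟨2, rfl⟩]
    have root : ∀ {x c : ↥(N0 t E) ⧸ E.subgroupOf (N0 t E)} {k : K}, k ≠ 0 → x ^ 3 = 1 →
        Commute c (x ^ k.val) → Commute c x := by
      intro x c k hk hx hc
      obtain ⟨n, hn⟩ := hval k hk
      have h := hc.pow_right n
      rwa [← pow_mul, pow_eq_pow_mod _ hx, hn, pow_one] at h
    by_cases hj : (j : K) = 0
    · refine botZ L hLcop hLn fun l hl => ?_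
      have hc : Commute l (zb ^ i * wb ^ j) := Subgroup.mem_centralizer_singleton_iff.1 hl.2
      rw [hwp, hj, ZMod.val_zero, pow_zero, mul_one, hzp] at hc
      rw [ha_eq]
      refine (root ?_ (hA3 _ (hAmem T.z_mem_TJ hzN)) hc).inv_right
      intro hi
      exact hij ⟨(ZMod.natCast_eq_zero_iff _ _).1 hi, (ZMod.natCast_eq_zero_iff _ _).1 hj⟩
    · obtain ⟨d, hd⟩ := uni_X' (i : K) (j : K) hj
      obtain ⟨q, hq, hqv⟩ := T.exists_trans d
      have hqQ := TInv.mem_QT_iff.1 hq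
      have hqN : q ∈ N0 t E := mem_N0.2 ⟨hE.norm_z q hqQ.2 (S.Q_le q hqQ.1), hqQ.2⟩
      set c := pr ⟨q, hqN⟩ with hc'
      have hqT : q ∈ Subgroup.normalizer (S.TJ t : Set G) :=
        Subgroup.mem_normalizer_fintype fun g hg => T.QT_norm_TJ hq hg
      have hcx : c * wb ^ (j : K).val * c⁻¹ = zb ^ i * wb ^ j := by
        rw [hzp, hwp, hzb, hwb, hc', ← map_pow, ← map_pow, ← map_inv, ← map_mul, ← map_mul, ← map_mul]
        refine congrArg pr (Subtype.ext ?_)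
        simp only [Subgroup.coe_mul, Subgroup.coe_inv, SubgroupClass.coe_pow]
        rw [show S.X' ^ (j : K).val = S.jj (0, 0, 0, (j : K)) by simp [jj], hqv, hd]
        simp [jj]
      set L' := L.map (MulAut.conj c⁻¹).toMonoidHom with hL'
      have hbot : L' = ⊥ := by
        refine botW L' ?_ ?_ ?_
        · rw [hL', Subgroup.card_map_of_injective (MulAut.conj c⁻¹).injective]; exact hLcop
        · intro a ha
          refine Subgroup.mem_normalizer_fintype ?_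
          rintro _ ⟨l, hl, rfl⟩
          have ha' : c * a * c⁻¹ ∈ A := (Subgroup.mem_normalizer_iff.1 (hnormA hqN hqT) a).1 ha
          exact ⟨c * a * c⁻¹ * l * (c * a * c⁻¹)⁻¹, (Subgroup.mem_normalizer_iff.1 (hLn ha') l).1 hl,
            by simp [mul_assoc]⟩
        · rintro _ ⟨l, hl, rfl⟩
          have hc : Commute l (zb ^ i * wb ^ j) := Subgroup.mem_centralizer_singleton_iff.1 hl.2
          rw [← hcx] at hc
          refine root hj (hA3 _ (hAmem T.X'_mem_TJ hX'N)) ?_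
          simpa [mul_assoc] using hc.map (MulAut.conj c⁻¹).toMonoidHom
      exact (Subgroup.map_eq_bot_iff_of_injective L (MulAut.conj c⁻¹).injective).1 hbot
  have L : Loc.Local (↥(N0 t E) ⧸ E.subgroupOf (N0 t E)) :=
    { θ := θ
      inj := inj
      range := range
      real := fun g hg => by
        obtain ⟨g, rfl⟩ := QuotientGroup.mk'_surjective _ g
        rw [ha_eq, inv_inv, ← conj_inv] at hg
        obtain ⟨g', -, hgz⟩ := hlift g hzN (inv_mem hzN) S.z_pow (by rw [inv_pow, S.z_pow, inv_one])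
          (by rw [show pr ⟨S.z⁻¹, inv_mem hzN⟩ = (pr ⟨S.z, hzN⟩)⁻¹ from map_inv pr ⟨S.z, hzN⟩]
              exact inv_eq_iff_eq_inv.1 hg)
        exact hE.core.tinv.no_inv hs (mem_N0.1 g'.2).2 hgz
      sig := sig
      fus := by
        obtain ⟨m, hmt, hmT, hmz⟩ := hE.core.exists_exch_norm
        have hmN : m ∈ N0 t E := mem_N0.2 ⟨hE.norm_T m hmt hmT, hmt⟩
        refine ⟨pr ⟨m, hmN⟩, hnormA hmN hmT, fun hc => ?_⟩
        rw [ha_eq] at hc
        have hc' := Commute.inv_right_iff.1 hc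
        have e := prE (⟨m, hmN⟩ * ⟨S.z, hzN⟩ * ⟨m, hmN⟩⁻¹) ⟨S.z, hzN⟩
          (by rw [map_mul, map_mul, map_inv, hc'.eq, mul_inv_cancel_right])
        have h1 : ∀ v : J4, S.jj v ∈ E → v = 0 := fun v hv => by
          refine S.jj_eq_one.1 (orderOf_eq_one_iff.1 (Nat.eq_one_of_dvd_coprimes
            ((show Nat.Coprime 3 2 by norm_num).pow_right 9) (orderOf_dvd_of_pow_eq_one (S.jj_cube v))
            (hE.card ▸ Subgroup.orderOf_dvd_natCard E hv)))
        rcases hmz with h | h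
        · have := h1 ((0, 1, 0, 0) + -(1, 0, 0, 0)) (by
            rw [S.jj_add, S.jj_neg, S.jj_y, S.jj_z, ← h]; exact e)
          exact absurd this (by decide)
        · have := h1 (-(0, 1, 0, 0) + -(1, 0, 0, 0)) (by
            rw [S.jj_add, S.jj_neg, S.jj_neg, S.jj_y, S.jj_z, ← h]; exact e)
          exact absurd this (by decide) }
  exact L.equiv_psp (ZMod.card 3)

end Std

end Cfsg.Agent.U62ThreeCent
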