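/-
The isometries of `J` realised in the group, in coordinates.

* `tauL`, `uni2`, `negL`, `exL` : coordinate maps; `Std.Lin g L` : conjugation by `g` is `L` on `J`;
* `Std.exists_uni2`, `Std.exists_negL`, `Std.exists_exL` : the generators;
* `Std.exists_word` : every word in them; `Std.mem_normalizer_of_pts` : two points determine `J`.
-/
import Cfsg.Agent.Lib.U62ThreeCent.IndexThree

set_option autoImplicit false
set_option maxRecDepth 100000
set_option synthInstance.maxSize 2000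

namespace Cfsg.Agent.U62ThreeCent

open Cfsg.Agent.PSpThree

/-- Exchange of the first two coordinates. -/
def tauL (v : J4) : J4 := (v.2.1, v.1, v.2.2.1, v.2.2.2)

/-- The unipotent maps fixing the second coordinate vector. -/
def uni2 (p : K × K) (v : J4) : J4 := tauL (uni p (tauL v))

/-- Negation of the third coordinate. -/
def negL (v : J4) : J4 := (v.1, v.2.1, -v.2.2.1, v.2.2.2)

/-- Exchange of the last two coordinates. -/
def exL (v : J4) : J4 := (v.1, v.2.1, v.2.2.2, v.2.2.1)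

/-- A generator. -/
inductive Gen : Type where
  | u (p : K × K)
  | w (p : K × K)
  | neg
  | ex

/-- The map of a generator. -/
def Gen.L : Gen → J4 → J4
  | .u p => uni p
  | .w p => uni2 p
  | .neg => negL
  | .ex => exL

/-- The map of a word: the head acts last. -/
def wordL : List Gen → J4 → J4
  | [] => id
  | g :: w => fun v => g.L (wordL w v)

/-- The coordinates of the square. -/
theorem two_val_smul (v : J4) : v + v = (2 : K) • v := by
  rw [show (2 : K) = 1 + 1 from rfl, add_smul, one_smul]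

theorem upper_conj : ∀ a b : SL23, a * upperU = upperU * a → b * upperU = upperU * b →
    ∀ s : Bool, ∀ c d : K, ∃ c' d' : K, Mon.act ⟨a, b, s⟩ ((c, 0), (d, 0)) = ((c', 0), (d', 0)) := by
  decide +kernel

theorem uni2_dets : ∀ e f x₁ x₂ : K,
    (∀ s t : K, quad ((-(s * s + t * t)) • ((1, -(e * e + f * f), e, f) : J4) + (0, 1, 0, 0) +
      s • (0, x₁, 1, 0) + t • (0, x₂, 0, 1)) = 0) → x₁ = e ∧ x₂ = f := by decide +kernel

theorem uni2_apply : ∀ (p : K × K) (v : J4), uni2 p v = v.1 • ((1, -(p.1 * p.1 + p.2 * p.2), p.1, p.2) : J4) +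
    v.2.1 • (0, 1, 0, 0) + v.2.2.1 • (0, p.1, 1, 0) + v.2.2.2 • (0, p.2, 0, 1) := by decide +kernel

theorem neg_dets : ∀ a : K, quad ((-1, 1, 0, 0) + (a, 0, -1, 0)) = 0 → a = 0 := by decide

theorem sl_upper_split : ∀ A : SL23, ∃ q : SL23, q ^ 4 = 1 ∧ ∃ k : K, A = q * upperU ^ k.val := by
  decide +kernel

theorem upperU_add : ∀ a b : K, upperU ^ a.val * upperU ^ b.val = upperU ^ (a + b).val := by decide +kernel

theorem negOne_upperU : negOne * upperU = upperU * negOne := by decide +kernel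

theorem upperU_pow_comm : ∀ a : K, upperU ^ a.val * upperU = upperU * upperU ^ a.val := by decide +kernel

theorem sl_cent : ∀ a : SL23, a ^ 4 = 1 → a * upperU = upperU * a → a = 1 ∨ a = negOne := by decide +kernel

namespace Std

variable {G : Type*} [Group G] (S : Std G)

/-- Conjugation by `g` acts on `J` as `L`. -/
def Lin (g : G) (L : J4 → J4) : Prop := ∀ v, g * S.jj v * g⁻¹ = S.jj (L v)

theorem jj_pow (w : J4) (k : K) : S.jj w ^ k.val = S.jj (k • w) := by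
  rcases k_cases k with rfl | rfl | rfl
  · simp [S.jj_zero]
  · simp [ZMod.val_one]
  · rw [show (2 : K).val = 2 from rfl, pow_two, ← S.jj_add, two_val_smul]

theorem Lin.mul {g h : G} {L M : J4 → J4} (hg : S.Lin g L) (hh : S.Lin h M) :
    S.Lin (g * h) (fun v => L (M v)) := fun v => by
  rw [show g * h * S.jj v * (g * h)⁻¹ = g * (h * S.jj v * h⁻¹) * g⁻¹ by group, hh, hg]

theorem Lin.mem_normalizer [Finite G] {g : G} {L : J4 → J4} (hg : S.Lin g L) :
    g ∈ Subgroup.normalizer (S.J : Set G) := by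
  have key : ∀ x ∈ S.J, g * x * g⁻¹ ∈ S.J := fun x hx => by
    obtain ⟨v, rfl⟩ := S.mem_J.1 hx
    rw [hg]; exact S.jj_mem _
  exact Subgroup.mem_normalizer_fintype key

/-- A map given by the images of the basis. -/
theorem lin_of_basis {g : G} {L : J4 → J4} {a b c d : J4} (ha : g * S.z * g⁻¹ = S.jj a)
    (hb : g * S.y * g⁻¹ = S.jj b) (hc : g * S.X * g⁻¹ = S.jj c) (hd : g * S.X' * g⁻¹ = S.jj d)
    (hL : ∀ v : J4, L v = v.1 • a + v.2.1 • b + v.2.2.1 • c + v.2.2.2 • d) : S.Lin g L := fun v => by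
  rw [show g * S.jj v * g⁻¹ = (g * S.z * g⁻¹) ^ v.1.val * (g * S.y * g⁻¹) ^ v.2.1.val *
      (g * S.X * g⁻¹) ^ v.2.2.1.val * (g * S.X' * g⁻¹) ^ v.2.2.2.val by
      simp only [jj, conj_pow]; group, ha, hb, hc, hd, S.jj_pow, S.jj_pow, S.jj_pow, S.jj_pow,
    ← S.jj_add, ← S.jj_add, ← S.jj_add, ← hL]

theorem exists_linU (p : K × K) : ∃ q, S.Lin q (uni p) := by
  obtain ⟨q, -, hq⟩ := S.exists_uni p
  exact ⟨q, hq⟩

theorem exists_uni2 [Finite G] (p : K × K) : ∃ r, S.Lin r (uni2 p) := by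
  obtain ⟨D, hD⟩ := S.outer_y.atPt
  obtain ⟨r, hr, hrz⟩ := S.exists_mov hD p.1 p.2
  obtain ⟨hXD, hX'D⟩ := S.X_mem_atPt hD
  have hry : r * S.y * r⁻¹ = S.jj (0, 1, 0, 0) := by
    rw [((hD.comm r).1 (D.Q_le r hr)).eq, mul_inv_cancel_right, S.jj_y]
  have hmove : ∀ w : J4, S.jj w ∈ D.Q → ∃ i : K, r * S.jj w * r⁻¹ = S.jj ((0, i, 0, 0) + w) := by
    intro w hw
    have e := D.comm r hr _ hw
    have hm : D.z ^ (om (D.vec r) (D.vec (S.jj w))).val ∈ Subgroup.zpowers S.y :=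
      pow_mem (hD.zp ▸ Subgroup.mem_zpowers _) _
    obtain ⟨k, hk⟩ := Subgroup.mem_zpowers_iff.1 hm
    refine ⟨(k : K), ?_⟩
    have hy : S.y ^ k = S.jj (0, (k : K), 0, 0) := by
      simp only [jj, ZMod.val_zero, pow_zero, one_mul, mul_one]
      rw [← zpow_natCast, ZMod.val_intCast, ← S.outer_y.orderOf_eq, zpow_mod_orderOf]
    rw [S.jj_add, ← hy, hk, ← e]
    group
  obtain ⟨x₁, h1⟩ := hmove _ (by rw [S.jj_X]; exact hXD)
  obtain ⟨x₂, h2⟩ := hmove _ (by rw [S.jj_X']; exact hX'D)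
  rw [show ((0, x₁, 0, 0) : J4) + (0, 0, 1, 0) = (0, x₁, 1, 0) by simp, S.jj_X] at h1
  rw [show ((0, x₂, 0, 0) : J4) + (0, 0, 0, 1) = (0, x₂, 0, 1) by simp, S.jj_X'] at h2
  have hlin := fun L hL => S.lin_of_basis (g := r) (L := L) hrz hry h1 h2 hL
  obtain ⟨rfl, rfl⟩ := uni2_dets p.1 p.2 x₁ x₂ fun s t => by
    have hpt : S.IsPt (S.jj (-(s * s + t * t), 1, s, t)) := by
      refine (S.isPt_jj _).2 ⟨fun h => ?_, ?_⟩
      · simp [Prod.ext_iff] at h
      · simp only [quad]; ring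
    have := hlin (fun v => _) (fun v => rfl) (-(s * s + t * t), 1, s, t)
    refine S.quad_of_pt ?_
    have h3 := this ▸ hpt.conj r
    simpa only [one_smul] using h3
  exact ⟨r, hlin _ (uni2_apply p)⟩

/-- Adjusting an element of `C(z)` whose image commutes with that of `y`. -/
theorem adjust {h : G} (hh : Commute h S.z) (hc : S.φ h * S.φ S.y = S.φ S.y * S.φ h) :
    ∃ x, Commute x S.z ∧ S.φ x = S.φ h ∧ x * S.y * x⁻¹ = S.y := by
  have hyz' : Commute (h * S.y * h⁻¹) S.z := (hh.mul_left S.y_comm).mul_left hh.inv_left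
  have hφy : S.φ (h * S.y * h⁻¹) = S.φ S.y := by
    rw [S.φ_mul _ _ (hh.mul_left S.y_comm) hh.inv_left, S.φ_mul _ _ hh S.y_comm, S.φ_inv hh, hc,
      mul_inv_cancel_right]
  obtain ⟨⟨a, b, e, f⟩, hv⟩ := S.mem_J.1 (S.mem_J_of_pt' (S.isPt_y.conj h) hyz' (by rw [hφy]))
  have hb : b = 1 := by
    have e1 := hφy
    rw [← hv, S.φ_jj, S.φ_y, Mon.pow_false rfl] at e1
    exact upperU_val b 1 (by rw [ZMod.val_one, pow_one]; exact congrArg Mon.a e1)
  subst hb
  obtain ⟨q, hq, hqc⟩ := S.exists_uni (e, f)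
  have hqy : q * S.y * q⁻¹ = h * S.y * h⁻¹ := by
    rw [← hv, ← S.jj_y, hqc]
    refine congrArg S.jj ?_
    have hquad : quad (a, 1, e, f) = 0 := S.quad_of_pt (hv ▸ S.isPt_y.conj h)
    have h4 : ∀ a e f : K, quad (a, 1, e, f) = 0 → uni (e, f) (0, 1, 0, 0) = (a, 1, e, f) := by decide
    exact h4 a e f hquad
  have hqz : Commute q⁻¹ S.z := (S.Q_le q hq).inv_left
  refine ⟨q⁻¹ * h, hqz.mul_left hh, by rw [S.φ_mul _ _ hqz hh, S.φ_of_mem (inv_mem hq), one_mul], ?_⟩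
  rw [show q⁻¹ * h * S.y * (q⁻¹ * h)⁻¹ = q⁻¹ * (h * S.y * h⁻¹) * q by group, ← hqy]; group

/-- The image of an element of the plane `⟨X, X'⟩`. -/
theorem conj_plane {x : G} (hxz : Commute x S.z) (hxy : x * S.y * x⁻¹ = S.y) {W : G} (hW : W ∈ S.Q)
    {c d c' d' : K} (hWj : W = S.jj (0, 0, c, d)) (hact : Mon.act (S.φ x) (S.vec W) = ((c', 0), (d', 0)))
    (hn : c' * c' + d' * d' = c * c + d * d) : x * W * x⁻¹ = S.jj (0, 0, c', d') := by
  obtain ⟨i, hi⟩ := S.jj_of_Q (S.conj_mem x hxz W hW)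
    (show S.vec (x * W * x⁻¹) = ((c', 0), (d', 0)) by rw [S.vec_conj x hxz W hW, hact])
  have hpt : S.IsPt (S.jj (-(c * c + d * d), 1, c, d)) := (S.isPt_jj _).2
    ⟨fun h => by simp [Prod.ext_iff] at h, by simp only [quad]; ring⟩
  have hp := hpt.conj x
  have hxzz : x * S.z * x⁻¹ = S.z := by rw [hxz.eq, mul_inv_cancel_right]
  rw [show ((-(c * c + d * d), 1, c, d) : J4) = (-(c * c + d * d), 1, 0, 0) + (0, 0, c, d) by simp,
    S.jj_add, ← hWj, ← conj_mul, hi,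
    show x * S.jj (-(c * c + d * d), 1, 0, 0) * x⁻¹ = S.jj (-(c * c + d * d), 1, 0, 0) by
      simp only [jj, ZMod.val_zero, pow_zero, mul_one]
      rw [← conj_mul, ← conj_pow, ← conj_pow, hxzz, hxy],
    ← S.jj_add] at hp
  have h4 : ∀ i c d n : K, quad ((-n, 1, 0, 0) + ((i, 0, c, d) : J4)) = 0 → c * c + d * d = n → i = 0 := by
    decide +kernel
  rw [hi, h4 i c' d' _ (S.quad_of_pt hp) hn]

theorem exists_negL : ∃ g, Commute g S.z ∧ S.Lin g negL := by
  obtain ⟨n, hn, hnφ⟩ := S.quat negOne 1 (by decide +kernel) (one_pow 4)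
  obtain ⟨x, hx, hxφ, hxy⟩ := S.adjust hn (by rw [hnφ, S.φ_y, Mon.mul_def, Mon.mul_def]; simp [negOne_upperU])
  refine ⟨x, hx, S.lin_of_basis (a := (1, 0, 0, 0)) (b := (0, 1, 0, 0)) (c := (0, 0, -1, 0))
    (d := (0, 0, 0, 1)) ?_ ?_ ?_ ?_ ?_⟩
  · rw [hx.eq, mul_inv_cancel_right, S.jj_z]
  · rw [hxy, S.jj_y]
  · exact S.conj_plane hx hxy S.X_mem (c := 1) (d := 0) S.jj_X.symm
      (by rw [hxφ, hnφ, S.vec_X]; decide +kernel) (by decide)
  · exact S.conj_plane hx hxy S.X'_mem (c := 0) (d := 1) S.jj_X'.symm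
      (by rw [hxφ, hnφ, S.vec_X']; decide +kernel) (by decide)
  · decide +kernel

theorem exists_exL (hs : S.toCfg.Swap) : ∃ g, Commute g S.z ∧ S.Lin g exL := by
  obtain ⟨h, hh, hhs⟩ := hs
  obtain ⟨qa, hqa, a, ea⟩ := sl_upper_split (S.φ h).a
  obtain ⟨qb, hqb, b, eb⟩ := sl_upper_split (S.φ h).b
  have e : S.φ h = ⟨qa * upperU ^ a.val, qb * upperU ^ b.val, true⟩ := Mon.ext ea eb hhs
  obtain ⟨n, hn, hnφ⟩ := S.quat qa⁻¹ qb⁻¹ (by rw [inv_pow, hqa, inv_one]) (by rw [inv_pow, hqb, inv_one])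
  have hφ : S.φ (n * h) = ⟨upperU ^ a.val, upperU ^ b.val, true⟩ := by
    rw [S.φ_mul _ _ hn hh, hnφ, e, Mon.mul_def]
    simp
  have hc : ∀ a b : K, (⟨upperU ^ a.val, upperU ^ b.val, true⟩ : Mon) * ⟨upperU, upperU, false⟩ =
      ⟨upperU, upperU, false⟩ * ⟨upperU ^ a.val, upperU ^ b.val, true⟩ := fun a b => by
    rw [Mon.mul_def, Mon.mul_def]
    simp [upperU_pow_comm]
  obtain ⟨x, hx, hxφ, hxy⟩ := S.adjust (hn.mul_left hh) (by rw [hφ, S.φ_y]; exact hc a b)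
  have hact : ∀ a b : K, Mon.act ⟨upperU ^ a.val, upperU ^ b.val, true⟩ ((1, 0), 0) = ((0, 0), (1, 0)) ∧
      Mon.act ⟨upperU ^ a.val, upperU ^ b.val, true⟩ (0, (1, 0)) = ((1, 0), (0, 0)) := by decide +kernel
  refine ⟨x, hx, S.lin_of_basis (a := (1, 0, 0, 0)) (b := (0, 1, 0, 0)) (c := (0, 0, 0, 1))
    (d := (0, 0, 1, 0)) ?_ ?_ ?_ ?_ ?_⟩
  · rw [hx.eq, mul_inv_cancel_right, S.jj_z]
  · rw [hxy, S.jj_y]
  · exact S.conj_plane hx hxy S.X_mem (c := 1) (d := 0) S.jj_X.symm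
      (by rw [hxφ, hφ, S.vec_X]; exact (hact a b).1) (by decide)
  · exact S.conj_plane hx hxy S.X'_mem (c := 0) (d := 1) S.jj_X'.symm
      (by rw [hxφ, hφ, S.vec_X']; exact (hact a b).2) (by decide)
  · decide +kernel

theorem exists_gen [Finite G] (hs : S.toCfg.Swap) : ∀ g : Gen, ∃ x, S.Lin x g.L
  | .u p => S.exists_linU p
  | .w p => S.exists_uni2 p
  | .neg => let ⟨x, _, hx⟩ := S.exists_negL; ⟨x, hx⟩
  | .ex => let ⟨x, _, hx⟩ := S.exists_exL hs; ⟨x, hx⟩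

theorem exists_word [Finite G] (hs : S.toCfg.Swap) : ∀ w : List Gen, ∃ x, S.Lin x (wordL w)
  | [] => ⟨1, fun v => by simp [wordL]⟩
  | g :: w => by
    obtain ⟨x, hx⟩ := S.exists_gen hs g
    obtain ⟨y, hy⟩ := exists_word hs w
    exact ⟨x * y, hx.mul S hy⟩

/-- An element of `C(z)` whose image commutes with that of `y` normalises `J`. -/
theorem mem_normalizer_of_φ [Finite G] {g : G} (hg : Commute g S.z)
    (hc : S.φ g * S.φ S.y = S.φ S.y * S.φ g) : g ∈ Subgroup.normalizer (S.J : Set G) := by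
  obtain ⟨x, hx, hφ, hxy⟩ := S.adjust hg hc
  have hq : x⁻¹ * g ∈ S.Q := (S.φ_ker _ (hx.inv_left.mul_left hg)).1 (by
    rw [S.φ_mul _ _ hx.inv_left hg, S.φ_inv hx, hφ, inv_mul_cancel])
  have hplane : ∀ c d : K, ∃ c' d' : K, Mon.act (S.φ x) ((c, 0), (d, 0)) = ((c', 0), (d', 0)) := by
    intro c d
    rw [hφ]
    generalize S.φ g = m at hc ⊢
    obtain ⟨A, B, s⟩ := m
    rw [S.φ_y, Mon.mul_def, Mon.mul_def] at hc
    cases s <;> simp only [cond_false, cond_true, Mon.mk.injEq] at hc <;>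
      exact upper_conj A B hc.1 hc.2.1 _ c d
  have himg : ∀ W ∈ S.Q, ∀ c d : K, S.vec W = ((c, 0), (d, 0)) → x * W * x⁻¹ ∈ S.J := by
    intro W hW c d hv
    obtain ⟨c', d', e⟩ := hplane c d
    obtain ⟨i, hi⟩ := S.jj_of_Q (S.conj_mem x hx W hW)
      (show S.vec (x * W * x⁻¹) = ((c', 0), (d', 0)) by rw [S.vec_conj x hx W hW, hv, e])
    rw [hi]; exact S.jj_mem _
  have hxN : x ∈ Subgroup.normalizer (S.J : Set G) := Subgroup.mem_normalizer_fintype fun j hj => by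
    obtain ⟨v, rfl⟩ := S.mem_J.1 hj
    rw [show x * S.jj v * x⁻¹ = (x * S.z * x⁻¹) ^ v.1.val * (x * S.y * x⁻¹) ^ v.2.1.val *
      (x * S.X * x⁻¹) ^ v.2.2.1.val * (x * S.X' * x⁻¹) ^ v.2.2.2.val by
        simp only [jj, conj_pow]; group, hxy, hx.eq, mul_inv_cancel_right]
    exact mul_mem (mul_mem (mul_mem (pow_mem (S.jj_z ▸ S.jj_mem _) _) (pow_mem (S.jj_y ▸ S.jj_mem _) _))
      (pow_mem (himg _ S.X_mem 1 0 (by rw [S.vec_X]; rfl)) _))
      (pow_mem (himg _ S.X'_mem 0 1 (by rw [S.vec_X']; rfl)) _)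
  rw [show g = x * (x⁻¹ * g) by group]
  exact mul_mem hxN (S.Q_normalizer hq)

/-- An element mapping two independent points of `J` into `J` normalises `J`. -/
theorem mem_normalizer_of_pts [Finite G] {g : G} {v w : J4} (hv : S.IsPt (S.jj v)) (hw : S.IsPt (S.jj w))
    (hvw : ∀ k : K, w ≠ k • v) (h1 : g * S.jj v * g⁻¹ ∈ S.J) (h2 : g * S.jj w * g⁻¹ ∈ S.J) :
    g ∈ Subgroup.normalizer (S.J : Set G) := by
  -- points commuting with two independent points of `J` lie in `J`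
  have key : ∀ v w : J4, S.IsPt (S.jj v) → S.IsPt (S.jj w) → (∀ k : K, w ≠ k • v) → ∀ x, S.IsPt x →
      Commute x (S.jj v) → Commute x (S.jj w) → x ∈ S.J := by
    intro v w hv hw hvw x hx hxv hxw
    obtain ⟨c, hc, hcz⟩ := S.exists_conj_pt hv (S.jj_mem v)
    have hcn : c ∈ Subgroup.normalizer (S.J : Set G) :=
      Subgroup.closure_le (K := Subgroup.normalizer (S.J : Set G)) |>.2 (fun _ h => h.1) hc
    obtain ⟨L, hL⟩ : ∃ L, c⁻¹ * S.jj w * c = S.jj L := by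
      obtain ⟨L, hL⟩ := S.mem_J.1 (show c⁻¹ * S.jj w * c ∈ S.J from
        (Subgroup.mem_normalizer_iff''.1 hcn _).1 (S.jj_mem w))
      exact ⟨L, hL.symm⟩
    obtain ⟨a, b, e, f⟩ := L
    have hLpt : S.IsPt (S.jj (a, b, e, f)) := by
      rw [← hL]; simpa using hw.conj c⁻¹
    have hzc : c⁻¹ * S.jj v * c = S.z := by rw [← hcz]; group
    by_cases hb : b = 0
    · exfalso
      subst hb
      have h0 : ∀ a e f : K, quad (a, 0, e, f) = 0 → e = 0 ∧ f = 0 := by decide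
      obtain ⟨rfl, rfl⟩ := h0 a e f ((S.isPt_jj _).1 hLpt).2
      refine hvw a (S.jj_inj ?_)
      calc S.jj w = c * (c⁻¹ * S.jj w * c) * c⁻¹ := by group
        _ = c * S.z ^ a.val * c⁻¹ := by rw [hL]; simp [jj]
        _ = S.jj (a • v) := by rw [← conj_pow, hcz, S.jj_pow]
    · obtain ⟨q, hq, hqc⟩ := S.exists_uni (b * e, b * f)
      have hqy : q * S.jj (0, b, 0, 0) * q⁻¹ = S.jj (a, b, e, f) := by
        rw [hqc]
        have h1 : ∀ (b : K) (p : K × K), uni p (0, b, 0, 0) = b • uni p (0, 1, 0, 0) := by decide +kernel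
        rw [h1, ← uni_reach b e f hb a ((S.isPt_jj _).1 hLpt).2]
      set d := c * q with hd
      have hdn : d ∈ Subgroup.normalizer (S.J : Set G) := mul_mem hcn (S.Q_normalizer hq)
      have hdz : d * S.z * d⁻¹ = S.jj v := by
        rw [hd, show c * q * S.z * (c * q)⁻¹ = c * (q * S.z * q⁻¹) * c⁻¹ by group, (S.Q_le q hq).eq,
          mul_inv_cancel_right, hcz]
      have hdy : d * S.jj (0, b, 0, 0) * d⁻¹ = S.jj w := by
        rw [hd, show c * q * S.jj (0, b, 0, 0) * (c * q)⁻¹ =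
          c * (q * S.jj (0, b, 0, 0) * q⁻¹) * c⁻¹ by group, hqy, ← hL]
        group
      have hm : d⁻¹ * x * d ∈ S.J := by
        have hconj : ∀ a b : G, Commute x b → d * a * d⁻¹ = b → Commute (d⁻¹ * x * d) a := by
          intro a b hb e
          show d⁻¹ * x * d * a = a * (d⁻¹ * x * d)
          calc d⁻¹ * x * d * a = d⁻¹ * (x * (d * a * d⁻¹)) * d := by group
            _ = d⁻¹ * ((d * a * d⁻¹) * x) * d := by rw [e, hb.eq]
            _ = a * (d⁻¹ * x * d) := by group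
        refine S.mem_J_of_pt (by simpa using hx.conj d⁻¹) (hconj _ _ hxv hdz) ?_
        have h2 := (hconj _ _ hxw hdy).pow_right b.val
        rw [S.jj_pow] at h2
        have hbb : (b • (0, b, 0, 0) : J4) = (0, 1, 0, 0) := by
          have : ∀ b : K, b ≠ 0 → (b • (0, b, 0, 0) : J4) = (0, 1, 0, 0) := by decide
          exact this b hb
        rwa [hbb, S.jj_y] at h2
      have := (Subgroup.mem_normalizer_iff.1 hdn _).1 hm
      rwa [show d * (d⁻¹ * x * d) * d⁻¹ = x by group] at this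
  obtain ⟨v', hv'⟩ := S.mem_J.1 h1
  obtain ⟨w', hw'⟩ := S.mem_J.1 h2
  have hvp : S.IsPt (S.jj v') := hv' ▸ hv.conj g
  have hwp : S.IsPt (S.jj w') := hw' ▸ hw.conj g
  have hind : ∀ k : K, w' ≠ k • v' := fun k e => hvw k (S.jj_inj (by
    rw [← S.jj_pow]
    have := hw'
    rw [e, ← S.jj_pow, hv', conj_pow] at this
    simpa using this.symm))
  have hpt : ∀ u : J4, S.IsPt (S.jj u) → g * S.jj u * g⁻¹ ∈ S.J := fun u hu =>
    key v' w' hvp hwp hind _ (hu.conj g) (by rw [hv']; exact (Commute.conj_iff g).2 (S.commute_jj u v) )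
      (by rw [hw']; exact (Commute.conj_iff g).2 (S.commute_jj u w))
  have hz := hpt (1, 0, 0, 0) ((S.isPt_jj _).2 (by decide))
  have hy := hpt (0, 1, 0, 0) ((S.isPt_jj _).2 (by decide))
  have hX := hpt (-1, 1, 1, 0) ((S.isPt_jj _).2 (by decide))
  have hX' := hpt (-1, 1, 0, 1) ((S.isPt_jj _).2 (by decide))
  refine Subgroup.mem_normalizer_fintype fun j hj => ?_
  obtain ⟨⟨a, b, c, d⟩, rfl⟩ := S.mem_J.1 hj
  have e : ((a, b, c, d) : J4) = (a + c + d) • ((1, 0, 0, 0) : J4) + (b - c - d) • (0, 1, 0, 0) +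
      c • (-1, 1, 1, 0) + d • (-1, 1, 0, 1) := by
    ext <;> simp <;> ring
  rw [e, S.jj_add, S.jj_add, S.jj_add, ← conj_mul, ← conj_mul, ← conj_mul, ← S.jj_pow, ← S.jj_pow,
    ← S.jj_pow, ← S.jj_pow, ← conj_pow, ← conj_pow, ← conj_pow, ← conj_pow]
  exact mul_mem (mul_mem (mul_mem (pow_mem hz _) (pow_mem hy _)) (pow_mem hX _)) (pow_mem hX' _)

end Std

end Cfsg.Agent.U62ThreeCent
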