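/-
The axis in the exchange case.

* `nine_bound` : S3805 applied to a quotient of a subgroup;
* `Std.centJ_le` : `C(J) = J` when not Big;
* `Std.axis_W0` : `C(X, X') ≤ N(J)`;
* `Std.exists_sigma` : an involution exchanging the lines of `z y` and `X'`, with `C(v, σ) ≤ N(J)`.
-/
import Cfsg.Agent.Lib.U62ThreeCent.SwapLin
import Cfsg.Agent.Lib.U62ThreeCent.TCent
import Cfsg.Agent.S3805
import Mathlib.GroupTheory.SpecificGroups.KleinFour

set_option autoImplicit false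
set_option maxRecDepth 100000
set_option synthInstance.maxSize 2000

namespace Cfsg.Agent.U62ThreeCent

open Cfsg.Agent.PSpThree

section Bound

variable {G : Type*} [Group G]

theorem card_four_of (Q : Type*) [Group Q] (x y : Q) (hx : x ≠ 1) (hy : y ≠ 1) (hxy : x ≠ y)
    (h4 : x * y ≠ 1) (hall : ∀ q : Q, q = 1 ∨ q = x ∨ q = y ∨ q = x * y) : Nat.card Q = 4 := by
  classical
  have hu : (Set.univ : Set Q) = {1, x, y, x * y} := by
    ext q; simpa using hall q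
  rw [← Set.ncard_univ, hu, Set.ncard_insert_of_notMem (by simp [hx.symm, hy.symm, Ne.symm h4]),
    Set.ncard_insert_of_notMem (by simp [hxy, hy]), Set.ncard_pair (by simp [hx])]

theorem mem_map_mk (C M T : Subgroup G) (hMC : M ≤ C) (hTC : T ≤ C) (hTM : ∀ t ∈ T, ∀ m ∈ M, Commute t m)
    [(M.subgroupOf C).Normal] (c : C) :
    QuotientGroup.mk' (M.subgroupOf C) c ∈ (T.subgroupOf C).map (QuotientGroup.mk' (M.subgroupOf C)) ↔
      ∃ t ∈ T, ∃ m ∈ M, (c : G) = t * m := by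
  constructor
  · rintro ⟨t, ht, e⟩
    have hm : ((t⁻¹ * c : C) : G) ∈ M := (QuotientGroup.eq (s := M.subgroupOf C)).1 e
    exact ⟨t, ht, _, hm, by simp⟩
  · rintro ⟨t, ht, m, hm, e⟩
    refine ⟨⟨t, hTC ht⟩, ht, (QuotientGroup.eq (s := M.subgroupOf C)).2 ?_⟩
    show t⁻¹ * (c : G) ∈ M
    rw [e, inv_mul_cancel_left]; exact hm

/-- S3805 for the quotient of a subgroup `C` by `M`. -/
theorem nine_bound [Finite G] (C M T : Subgroup G) (hMC : M ≤ C) (hTC : T ≤ C)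
    (hMn : ∀ c ∈ C, ∀ m ∈ M, c * m * c⁻¹ ∈ M) (hTM : ∀ t ∈ T, ∀ m ∈ M, Commute t m)
    (hTdisj : ∀ t ∈ T, t ∈ M → t = 1) (hT3 : ∀ t ∈ T, t ^ 3 = 1)
    (hTab : ∀ a ∈ T, ∀ b ∈ T, Commute a b) (hT9 : Nat.card T = 9)
    (hsyl : ∀ c ∈ C, (∀ t ∈ T, ∃ t' ∈ T, ∃ m ∈ M, c * t * c⁻¹ = t' * m) →
      (∃ k : ℕ, c ^ 3 ^ k ∈ M) → ∃ t ∈ T, ∃ m ∈ M, c = t * m)
    (hcent : ∀ c ∈ C, (∀ t ∈ T, ∃ m ∈ M, c * t * c⁻¹ = t * m) → ∃ t ∈ T, ∃ m ∈ M, c = t * m)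
    (a b : G) (haC : a ∈ C) (hbC : b ∈ C)
    (haN : ∀ t ∈ T, ∃ t' ∈ T, ∃ m ∈ M, a * t * a⁻¹ = t' * m)
    (hbN : ∀ t ∈ T, ∃ t' ∈ T, ∃ m ∈ M, b * t * b⁻¹ = t' * m)
    (ha : ¬ ∃ t ∈ T, ∃ m ∈ M, a = t * m) (hb : ¬ ∃ t ∈ T, ∃ m ∈ M, b = t * m)
    (hab : ¬ ∃ t ∈ T, ∃ m ∈ M, a⁻¹ * b = t * m)
    (hN : ∀ c ∈ C, (∀ t ∈ T, ∃ t' ∈ T, ∃ m ∈ M, c * t * c⁻¹ = t' * m) →
      (∃ t ∈ T, ∃ m ∈ M, c * c = t * m) ∧
      ((∃ t ∈ T, ∃ m ∈ M, c = t * m) ∨ (∃ t ∈ T, ∃ m ∈ M, a⁻¹ * c = t * m) ∨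
        (∃ t ∈ T, ∃ m ∈ M, b⁻¹ * c = t * m) ∨ (∃ t ∈ T, ∃ m ∈ M, b⁻¹ * (a⁻¹ * c) = t * m)))
    (hloc : ∀ t ∈ T, t ≠ 1 → ∀ c ∈ C, (∃ m ∈ M, c * t * c⁻¹ = t * m) →
      ∀ s ∈ T, ∃ s' ∈ T, ∃ m ∈ M, c * s * c⁻¹ = s' * m) :
    ∀ c ∈ C, ∀ t ∈ T, ∃ t' ∈ T, ∃ m ∈ M, c * t * c⁻¹ = t' * m := by
  haveI hn : (M.subgroupOf C).Normal := ⟨fun m hm c => hMn c c.2 m hm⟩
  set π := QuotientGroup.mk' (M.subgroupOf C) with hπ
  set Tb := (T.subgroupOf C).map π with hTb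
  have hmem := mem_map_mk C M T hMC hTC hTM
  have hsurj := QuotientGroup.mk'_surjective (M.subgroupOf C)
  have hnorm : ∀ c : C, π c ∈ Subgroup.normalizer (Tb : Set _) ↔
      ∀ t ∈ T, ∃ t' ∈ T, ∃ m ∈ M, (c : G) * t * (c : G)⁻¹ = t' * m := by
    intro c
    constructor
    · intro hc t ht
      have h1 : π ⟨t, hTC ht⟩ ∈ Tb := ⟨_, ht, rfl⟩
      have h2 := (Subgroup.mem_normalizer_iff.1 hc _).1 h1
      rw [← map_inv, ← map_mul, ← map_mul] at h2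
      obtain ⟨t', ht', m, hm, e⟩ := (hmem _).1 h2
      exact ⟨t', ht', m, hm, e⟩
    · intro h
      refine Subgroup.mem_normalizer_fintype fun x hx => ?_
      obtain ⟨u, hu, rfl⟩ := hx
      obtain ⟨t', ht', m, hm, e⟩ := h u hu
      rw [SetLike.mem_coe, ← map_inv, ← map_mul, ← map_mul]
      exact (hmem _).2 ⟨t', ht', m, hm, e⟩
  have hTinj : Function.Injective (fun t : T => π ⟨t, hTC t.2⟩) := by
    intro s t e
    have hm : ((⟨s, hTC s.2⟩⁻¹ * ⟨t, hTC t.2⟩ : C) : G) ∈ M := (QuotientGroup.eq (s := M.subgroupOf C)).1 e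
    exact Subtype.ext (inv_mul_eq_one.1 (hTdisj _ (mul_mem (inv_mem s.2) t.2) hm))
  have hTbcard : Nat.card Tb = 9 := by
    rw [← hT9]
    refine (Nat.card_congr (Equiv.ofBijective (fun t : T => (⟨π ⟨t, hTC t.2⟩, ⟨_, t.2, rfl⟩⟩ : Tb))
      ⟨fun s t e => hTinj (congrArg Subtype.val e), ?_⟩)).symm
    rintro ⟨x, u, hu, rfl⟩
    exact ⟨⟨u, hu⟩, rfl⟩
  have hp : IsPGroup 3 Tb := IsPGroup.of_card (n := 2) (by rw [hTbcard]; rfl)
  haveI : Fact (Nat.Prime 3) := ⟨Nat.prime_three⟩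
  obtain ⟨P, hP⟩ := hp.exists_le_sylow
  have hPT : (P : Subgroup (C ⧸ M.subgroupOf C)) = Tb := by
    by_contra hne
    haveI : Group.IsNilpotent (P : Subgroup (C ⧸ M.subgroupOf C)) := P.isPGroup'.isNilpotent
    have hlt : Tb.subgroupOf (P : Subgroup (C ⧸ M.subgroupOf C)) < ⊤ := by
      refine lt_top_iff_ne_top.2 fun h => hne (le_antisymm ?_ hP)
      exact fun x hx => Subgroup.mem_subgroupOf.1 (h.symm ▸ Subgroup.mem_top (⟨x, hx⟩ : (P : Subgroup _)) : (⟨x, hx⟩ : (P : Subgroup _)) ∈ Tb.subgroupOf (P : Subgroup _))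
    obtain ⟨x, hxn, hxT⟩ := SetLike.exists_of_lt (Group.normalizerCondition_of_isNilpotent _ hlt)
    obtain ⟨c, hc⟩ := hsurj (x : C ⧸ M.subgroupOf C)
    obtain ⟨k, hk⟩ := P.isPGroup' x
    have hk' : π (c ^ 3 ^ k) = 1 := by
      rw [map_pow, hc, ← Subgroup.coe_pow, hk, Subgroup.coe_one]
    have hk'' : ((c ^ 3 ^ k : C) : G) ∈ M := (QuotientGroup.eq_one_iff (N := M.subgroupOf C) _).1 hk'
    refine hxT (Subgroup.mem_subgroupOf.2 ?_)
    rw [← hc]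
    refine (hmem c).2 (hsyl c c.2 ((hnorm c).1 ?_) ⟨k, by simpa using hk''⟩)
    refine Subgroup.mem_normalizer_fintype fun u hu => ?_
    have huP : u ∈ (P : Subgroup _) := hP hu
    have h1 := (Subgroup.mem_normalizer_iff.1 hxn ⟨u, huP⟩).1 (Subgroup.mem_subgroupOf.2 hu)
    rw [Subgroup.mem_subgroupOf, Subgroup.coe_mul, Subgroup.coe_mul, Subgroup.coe_inv, ← hc] at h1
    exact h1
  haveI hnT : ((P : Subgroup (C ⧸ M.subgroupOf C)).subgroupOf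
      (Subgroup.normalizer ((P : Subgroup (C ⧸ M.subgroupOf C)) : Set (C ⧸ M.subgroupOf C)))).Normal :=
    Subgroup.normal_subgroupOf_iff_le_normalizer Subgroup.le_normalizer |>.2 le_rfl
  have hTel : Cfsg.IsElementaryAbelian 3 (P : Subgroup (C ⧸ M.subgroupOf C)) := by
    rw [hPT]
    refine ⟨⟨⟨?_⟩⟩, ?_⟩
    · rintro ⟨x, u, hu, rfl⟩ ⟨y, w, hw, rfl⟩
      exact Subtype.ext (((Subtype.ext (hTab u hu w hw).eq : u * w = w * u) ▸ (map_mul π u w).symm).trans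
        (map_mul π w u))
    · rintro x ⟨u, hu, rfl⟩
      rw [← map_pow, show u ^ 3 = 1 from Subtype.ext (by simpa using hT3 _ hu), map_one]
  have hC : Subgroup.centralizer ((P : Subgroup (C ⧸ M.subgroupOf C)) : Set (C ⧸ M.subgroupOf C)) = (P : Subgroup (C ⧸ M.subgroupOf C)) := by
    rw [hPT]
    refine le_antisymm (fun x hx => ?_) fun x hx => ?_
    · obtain ⟨c, rfl⟩ := hsurj x
      refine (hmem c).2 (hcent c c.2 fun t ht => ?_)
      have e := Subgroup.mem_centralizer_iff.1 hx (π ⟨t, hTC ht⟩) ⟨_, ht, rfl⟩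
      rw [← map_mul, ← map_mul] at e
      have hm := (QuotientGroup.eq (s := M.subgroupOf C)).1 e.symm
      have hm' : (c * ⟨t, hTC ht⟩ : C)⁻¹ * (⟨t, hTC ht⟩ * c) ∈ M.subgroupOf C := hm
      refine ⟨((c : G) * t)⁻¹⁻¹⁻¹ * (t * c) |> fun _ => t⁻¹ * ((c : G) * t * (c : G)⁻¹), ?_, by group⟩
      have h2 := hMn c c.2 _ (inv_mem (Subgroup.mem_subgroupOf.1 hm'))
      simp only [Subgroup.coe_mul, Subgroup.coe_inv] at h2
      convert h2 using 1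
      group
    · obtain ⟨u, hu, rfl⟩ := hx
      rw [Subgroup.mem_centralizer_iff]
      rintro y ⟨w, hw, rfl⟩
      exact ((map_mul π w u).symm.trans (congrArg π (Subtype.ext (hTab w hw u hu).eq))).trans
        (map_mul π u w)
  have hloc' : ∀ t ∈ (P : Subgroup (C ⧸ M.subgroupOf C)), t ≠ 1 →
      Subgroup.centralizer ({t} : Set _) ≤ Subgroup.normalizer ((P : Subgroup (C ⧸ M.subgroupOf C)) : Set (C ⧸ M.subgroupOf C)) := by
    rw [hPT]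
    rintro _ ⟨u, hu, rfl⟩ hne x hx
    obtain ⟨c, rfl⟩ := hsurj x
    have e := Subgroup.mem_centralizer_singleton_iff.1 hx
    rw [← map_mul, ← map_mul] at e
    have hm : (u * c : C)⁻¹ * (c * u) ∈ M.subgroupOf C := (QuotientGroup.eq (s := M.subgroupOf C)).1 e.symm
    refine (hnorm c).2 (hloc u hu (fun h => hne (by rw [show u = 1 from Subtype.ext h, map_one])) c c.2
      ⟨(u : G)⁻¹ * ((c : G) * u * (c : G)⁻¹), ?_, by group⟩)
    have h2 := hMn c c.2 _ (Subgroup.mem_subgroupOf.1 hm)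
    simp only [Subgroup.coe_mul, Subgroup.coe_inv] at h2
    convert h2 using 1
    group
  have hK : IsKleinFour (↥(Subgroup.normalizer ((P : Subgroup (C ⧸ M.subgroupOf C)) : Set (C ⧸ M.subgroupOf C))) ⧸
      (P : Subgroup (C ⧸ M.subgroupOf C)).subgroupOf (Subgroup.normalizer ((P : Subgroup (C ⧸ M.subgroupOf C)) : Set (C ⧸ M.subgroupOf C)))) := by
    set N := Subgroup.normalizer ((P : Subgroup (C ⧸ M.subgroupOf C)) : Set (C ⧸ M.subgroupOf C))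
    let A : N := ⟨π ⟨a, haC⟩, by simp only [N, hPT]; exact (hnorm _).2 haN⟩
    let B : N := ⟨π ⟨b, hbC⟩, by simp only [N, hPT]; exact (hnorm _).2 hbN⟩
    set ρ := QuotientGroup.mk' ((P : Subgroup (C ⧸ M.subgroupOf C)).subgroupOf N)
    have hρ : ∀ (c : C) (h : π c ∈ N), ρ ⟨π c, h⟩ = 1 ↔ ∃ t ∈ T, ∃ m ∈ M, (c : G) = t * m := by
      intro c h
      refine (QuotientGroup.eq_one_iff _).trans ?_
      rw [Subgroup.mem_subgroupOf, hPT]
      exact hmem c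
    have hsq : ∀ x : N ⧸ (P : Subgroup (C ⧸ M.subgroupOf C)).subgroupOf N, x * x = 1 := by
      intro x
      obtain ⟨⟨y, hy⟩, rfl⟩ := QuotientGroup.mk'_surjective _ x
      obtain ⟨c, rfl⟩ := hsurj y
      rw [← map_mul]
      refine (hρ (c * c) (mul_mem hy hy)).2 (hN c c.2 ((hnorm c).1 ?_)).1
      rw [← hPT]; exact hy
    have hall : ∀ x : N ⧸ (P : Subgroup (C ⧸ M.subgroupOf C)).subgroupOf N,
        x = 1 ∨ x = ρ A ∨ x = ρ B ∨ x = ρ A * ρ B := by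
      intro x
      obtain ⟨⟨y, hy⟩, rfl⟩ := QuotientGroup.mk'_surjective _ x
      obtain ⟨c, rfl⟩ := hsurj y
      rcases (hN c c.2 ((hnorm c).1 (by rw [← hPT]; exact hy))).2 with h | h | h | h
      · exact Or.inl ((hρ c hy).2 h)
      · refine Or.inr (Or.inl (inv_mul_eq_one.1 ?_).symm)
        rw [← map_inv, ← map_mul]
        exact (hρ (⟨a, haC⟩⁻¹ * c) (by rw [map_mul, map_inv]; exact mul_mem (inv_mem A.2) hy)).2 h
      · refine Or.inr (Or.inr (Or.inl (inv_mul_eq_one.1 ?_).symm))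
        rw [← map_inv, ← map_mul]
        exact (hρ (⟨b, hbC⟩⁻¹ * c) (by rw [map_mul, map_inv]; exact mul_mem (inv_mem B.2) hy)).2 h
      · refine Or.inr (Or.inr (Or.inr (inv_mul_eq_one.1 ?_).symm))
        rw [← map_mul, ← map_inv, ← map_mul, mul_inv_rev, mul_assoc]
        exact (hρ (⟨b, hbC⟩⁻¹ * (⟨a, haC⟩⁻¹ * c))
          (by rw [map_mul, map_mul, map_inv, map_inv]; exact mul_mem (inv_mem B.2) (mul_mem (inv_mem A.2) hy))).2 h
    have hA1 : ρ A ≠ 1 := fun e => ha ((hρ _ A.2).1 e)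
    have hB1 : ρ B ≠ 1 := fun e => hb ((hρ _ B.2).1 e)
    have hABne : ρ A ≠ ρ B := fun e => by
      refine hab ((hρ (⟨a, haC⟩⁻¹ * ⟨b, hbC⟩) (A⁻¹ * B).2).1 ?_)
      show ρ (A⁻¹ * B) = 1
      rw [map_mul, map_inv, e, inv_mul_cancel]
    refine ⟨?_, ?_⟩
    · have h4 : ρ A * ρ B ≠ 1 := fun e => hABne (mul_left_cancel ((hsq (ρ A)).trans e.symm))
      exact card_four_of _ (ρ A) (ρ B) hA1 hB1 hABne h4 hall
    · haveI := nontrivial_of_ne _ _ hA1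
      exact (Monoid.exponent_eq_prime_iff Nat.prime_two).2 fun x hx =>
        orderOf_eq_prime (by rw [pow_two, hsq]) hx
  have hfin := S3805.result P hTel (by show Nat.card (P : Subgroup (C ⧸ M.subgroupOf C)) = 9; rw [hPT, hTbcard]) hC hK hloc'
  intro c hc t ht
  have h1 : π ⟨c, hc⟩ ∈ Subgroup.normalizer (Tb : Set _) := by
    rw [← hPT, hfin]; exact Subgroup.mem_top _
  exact (hnorm _).1 h1 t ht

end Bound

theorem quad_wit : ∀ w₀ : K × K, ∀ a b : K, a ≠ 0 → b ≠ 0 →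
    (∀ e f : K, quad (a, b, e, f) = 0 → quad (a, b, e + w₀.1, f + w₀.2) = 0) → w₀ = 0 := by decide +kernel

theorem pair_wit : ∀ a b : K, a ≠ 0 → b ≠ 0 → ∃ e f e' f' : K, quad (a, b, e, f) = 0 ∧
    quad (a, b, e', f') = 0 ∧ ∀ k : K, ((a, b, e', f') : J4) ≠ k • (a, b, e, f) := by decide +kernel

theorem zero_of_quad : ∀ a b : K, ∀ e f : K, a * b = 0 → quad (a, b, e, f) = 0 → e = 0 ∧ f = 0 := by decide

/-- The map fixing `X`, `X'` with given images of `z`, `y`. -/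
def w0L (p q : J4) (v : J4) : J4 := v.1 • p + v.2.1 • q + v.2.2.1 • (0, 0, 1, 0) + v.2.2.2 • (0, 0, 0, 1)

theorem w0L_cases : ∀ p : J4, quad p = 0 → p ≠ 0 → ∀ q : J4, quad q = 0 → q ≠ 0 →
    (∀ v : J4, quad v = 0 → quad (w0L p q v) = 0) →
    (p = (1, 0, 0, 0) ∧ q = (0, 1, 0, 0)) ∨ (p = -(1, 0, 0, 0) ∧ q = -(0, 1, 0, 0)) ∨
      (p = (0, 1, 0, 0) ∧ q = (1, 0, 0, 0)) ∨ (p = -(0, 1, 0, 0) ∧ q = -(1, 0, 0, 0)) := by
  decide +kernel

/-- The map fixing `v` and commuting with `σ`, with given images of `X`, `X'`. -/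
def vsL (p p' : J4) (v : J4) : J4 :=
  v.1 • (-((1, -1, 0, 0) + sigL p')) + v.2.1 • (-(sigL p' - (1, -1, 0, 0))) + v.2.2.1 • p + v.2.2.2 • p'
where
  /-- the exchange of `z y` and `X'` -/
  sigL (w : J4) : J4 := w.1 • (2, 1, 0, 2) + w.2.1 • (1, 2, 0, 2) + w.2.2.1 • (0, 0, 1, 0) + w.2.2.2 • (1, 1, 0, 0)

/-- The exchange of the lines of `z y` and `X'`. -/
def sigL (w : J4) : J4 := vsL.sigL w

theorem sigL_word : ∀ v : J4, wordL [.ex, .u (0, 2), .w (2, 0), .w (0, 1), .u (1, 0)] v = sigL v := by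
  decide +kernel

theorem sigL_sigL : ∀ v : J4, sigL (sigL v) = v := by decide +kernel

theorem sigL_fix : ∀ v : J4, sigL v = v → ∃ a b c : K,
    v = a • ((1, -1, 0, 0) : J4) + b • (0, 0, 1, 0) + c • (1, 1, 0, 1) := by decide +kernel

theorem vsL_cases : ∀ p : J4, sigL p = p → (quad p ≠ 0) → ∀ p' : J4, quad p' ≠ 0 →
    (∀ v : J4, quad v = 0 → quad (vsL p p' v) = 0) →
    (p = (0, 0, 1, 0) ∨ p = -(0, 0, 1, 0)) ∧
      (p' = (0, 0, 0, 1) ∨ p' = -(0, 0, 0, 1) ∨ p' = (1, 1, 0, 0) ∨ p' = -(1, 1, 0, 0)) := by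
  decide +kernel

theorem vsL_sq : ∀ p p' : J4, (p = (0, 0, 1, 0) ∨ p = -(0, 0, 1, 0)) →
    (p' = (0, 0, 0, 1) ∨ p' = -(0, 0, 0, 1) ∨ p' = (1, 1, 0, 0) ∨ p' = -(1, 1, 0, 0)) →
    ∀ v : J4, vsL p p' (vsL p p' v) = v := by decide +kernel

/-- The negation of the fixed line other than that of `X`. -/
def negU (v : J4) : J4 := v.1 • (2, 1, 0, 1) + v.2.1 • (1, 2, 0, 1) + v.2.2.1 • (0, 0, 1, 0) + v.2.2.2 • (2, 2, 0, 0)

theorem negU_word : ∀ v : J4, wordL [.ex, .w (0, 1), .u (0, 2), .w (1, 0), .u (2, 0)] v = negU v := by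
  decide +kernel

theorem negU_sigL : ∀ v : J4, negU (sigL v) = sigL (negU v) := by decide +kernel

/-- The map to the anti-axis. -/
def axL : J4 → J4 := wordL [.u (0, 2), .w (2, 0), .u (1, 0)]

theorem axL_facts : (∀ e f : K, ∃ i k : K, axL (0, 0, e, f) = i • ((1, -1, 0, 0) : J4) + k • (1, 1, 0, 1)) ∧
    (∀ i k : K, ∃ e f : K, axL (0, 0, e, f) = i • ((1, -1, 0, 0) : J4) + k • (1, 1, 0, 1)) := by
  decide +kernel

theorem pt_words : wordL [.w (0, 2), .w (2, 0)] (1, 1, 1, 1) = (1, 0, 0, 0) ∧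
    wordL [.w (0, 2), .w (2, 0)] (1, -1, 0, 0) = (1, 0, 2, 2) ∧
    wordL [.w (0, 1), .u (1, 0)] (-1, -1, 1, -1) = (1, 0, 0, 0) ∧
    wordL [.w (0, 1), .u (1, 0)] (1, -1, 0, 0) = (2, 0, 2, 2) := by decide +kernel

theorem pt_cases : ∀ a b : K, quad (a • ((0, 0, 1, 0) : J4) + b • (1, 1, 0, 1)) = 0 →
    (a = 0 ∧ b = 0) ∨ ∃ s : K, s ≠ 0 ∧ ((a • ((0, 0, 1, 0) : J4) + b • (1, 1, 0, 1)) = s • ((1, 1, 1, 1) : J4) ∨
      (a • ((0, 0, 1, 0) : J4) + b • (1, 1, 0, 1)) = s • ((-1, -1, 1, -1) : J4)) := by decide +kernel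

theorem coset_pt : ∀ a b i : K, quad (a • ((0, 0, 1, 0) : J4) + b • (1, 1, 0, 1)) = 0 → (a ≠ 0 ∨ b ≠ 0) →
    quad (a • ((0, 0, 1, 0) : J4) + b • (1, 1, 0, 1) + i • (1, -1, 0, 0)) = 0 → i = 0 := by decide +kernel

theorem axis_cases : ∀ a b : K, quad (a • ((0, 0, 1, 0) : J4) + b • (1, 1, 0, 1)) ≠ 0 →
    (b = 0 ∧ a ≠ 0) ∨ (a = 0 ∧ b ≠ 0) := by decide +kernel

namespace Std

variable {G : Type*} [Group G] (S : Std G)

/-- The image of a plane of coordinates. -/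
def sub2 (e₁ e₂ : J4) : Subgroup G :=
  ((MonoidHom.mk' (fun p : Multiplicative (K × K) => S.jj (p.toAdd.1 • e₁ + p.toAdd.2 • e₂))
    fun p q => by rw [← S.jj_add, toAdd_mul, Prod.fst_add, Prod.snd_add, add_smul, add_smul]; congr 1; abel)).range

theorem mem_sub2 {e₁ e₂ : J4} {g : G} : g ∈ S.sub2 e₁ e₂ ↔ ∃ a b : K, S.jj (a • e₁ + b • e₂) = g :=
  ⟨fun ⟨p, hp⟩ => ⟨_, _, hp⟩, fun ⟨a, b, h⟩ => ⟨Multiplicative.ofAdd (a, b), h⟩⟩

theorem sub2_le_J (e₁ e₂ : J4) : S.sub2 e₁ e₂ ≤ S.J := fun g hg => by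
  obtain ⟨a, b, rfl⟩ := S.mem_sub2.1 hg
  exact S.jj_mem _

theorem card_sub2 (e₁ e₂ : J4) (h : ∀ a b : K, a • e₁ + b • e₂ = 0 → a = 0 ∧ b = 0) :
    Nat.card (S.sub2 e₁ e₂) = 9 := by
  rw [sub2, ← Nat.card_congr (MonoidHom.ofInjective ?_).toEquiv, Nat.card_congr Multiplicative.toAdd,
    Nat.card_eq_fintype_card]
  · rfl
  · rw [injective_iff_map_eq_one]
    intro p hp
    obtain ⟨h1, h2⟩ := h _ _ (S.jj_eq_one.1 hp)
    exact Multiplicative.toAdd.injective (Prod.ext h1 h2)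

theorem sl_fix_upper : ∀ a : SL23, act2 a (1, 0) = (1, 0) →
    (∃ k : K, a = upperU ^ k.val) ∧ a * upperU = upperU * a := by decide +kernel

theorem φ_fix_W {c : G} (h1 : Mon.act (S.φ c) ((1, 0), 0) = ((1, 0), 0))
    (h2 : Mon.act (S.φ c) (0, (1, 0)) = (0, (1, 0))) :
    (∃ k l : K, S.φ c = ⟨upperU ^ k.val, upperU ^ l.val, false⟩) ∧
      (S.φ c).a * upperU = upperU * (S.φ c).a ∧ (S.φ c).b * upperU = upperU * (S.φ c).b ∧
      (S.φ c).s = false := by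
  generalize S.φ c = m at h1 h2 ⊢
  obtain ⟨A, B, s⟩ := m
  cases s
  · simp only [Mon.act, cond_false, Prod.ext_iff] at h1 h2
    obtain ⟨⟨k, rfl⟩, hA⟩ := sl_fix_upper A (Prod.ext h1.1.1 h1.1.2)
    obtain ⟨⟨l, rfl⟩, hB⟩ := sl_fix_upper B (Prod.ext h2.2.1 h2.2.2)
    exact ⟨⟨k, l, rfl⟩, hA, hB, rfl⟩
  · simp [Mon.act, act2] at h1

/-- An element of `C(z)` fixing the images of `X`, `X'` is a power of `y` modulo `Q` when not Big. -/
theorem φ_commute_W {a : G} (haz : Commute a S.z) (_ : Commute a S.y)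
    (h1 : Mon.act (S.φ a) ((1, 0), 0) = ((1, 0), 0)) (h2 : Mon.act (S.φ a) (0, (1, 0)) = (0, (1, 0)))
    (hb : ¬ S.toCfg.Big) : ∃ k : K, S.φ a = S.φ S.y ^ k.val := by
  obtain ⟨⟨k, l, hk⟩, -⟩ := S.φ_fix_W h1 h2
  refine ⟨k, ?_⟩
  by_cases hkl : l = k
  · subst hkl; rw [hk, S.φ_y, Mon.pow_false rfl]
  exfalso
  refine hb ⟨a * (S.y ^ k.val)⁻¹, haz.mul_left (S.y_comm.pow_left _).inv_left, ?_⟩
  have e : S.φ (a * (S.y ^ k.val)⁻¹) = ⟨1, upperU ^ (l - k).val, false⟩ := by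
    rw [S.φ_mul _ _ haz (S.y_comm.pow_left _).inv_left, S.φ_inv (S.y_comm.pow_left _), S.φ_pow_y, hk,
      S.φ_y, Mon.pow_false rfl, Mon.inv_def, Mon.mul_def]
    simp [upperU_inv, upperU_add, sub_eq_add_neg, ZMod.val_zero]
  refine ⟨?_, Or.inl ⟨congrArg Mon.a e, fun h => ?_⟩⟩
  · rw [e, Mon.pow_false rfl, one_pow]
    have h3 : ∀ k : K, (upperU ^ k.val) ^ 3 = 1 := by decide +kernel
    rw [h3]; rfl
  · rw [e] at h
    have h4 : ∀ k : K, upperU ^ k.val = 1 → k = 0 := by decide +kernel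
    exact hkl (sub_eq_zero.1 (h4 _ h))

/-- `C(J) = J` when not Big. -/
theorem centJ_le (hb : ¬ S.toCfg.Big) : Subgroup.centralizer (S.J : Set G) ≤ S.J := by
  intro a ha
  have haz := S.centJ_z ha
  have hay : Commute a S.y := S.jj_y ▸ S.mem_centJ_comm ha _
  have hfix : ∀ x ∈ S.Q, Commute a x → Mon.act (S.φ a) (S.vec x) = S.vec x := fun x hx hc => by
    rw [← S.vec_conj a haz x hx, hc.eq, mul_inv_cancel_right]
  have h1 := hfix _ S.X_mem (S.jj_X ▸ S.mem_centJ_comm ha _)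
  rw [S.vec_X] at h1
  obtain ⟨k, hk⟩ := S.φ_commute_W haz hay h1 (S.vec_X' ▸ hfix _ S.X'_mem (S.jj_X' ▸ S.mem_centJ_comm ha _)) hb
  have hyk : Commute (S.y ^ k.val)⁻¹ S.z := (S.y_comm.pow_left _).inv_left
  have hq : a * (S.y ^ k.val)⁻¹ ∈ S.Q := by
    refine (S.φ_ker _ (haz.mul_left hyk)).1 ?_
    rw [S.φ_mul _ _ haz hyk, S.φ_inv (S.y_comm.pow_left _), S.φ_pow_y, hk, mul_inv_cancel]
  have hm := S.mem_J_of_mem_Q hq ((S.jj_X ▸ S.mem_centJ_comm ha _).mul_left (S.y_X.pow_left _).inv_left)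
    ((S.jj_X' ▸ S.mem_centJ_comm ha _).mul_left (S.y_X'.pow_left _).inv_left)
  have hy : S.y ^ k.val ∈ S.J := pow_mem (S.jj_y ▸ S.jj_mem _) _
  simpa using mul_mem hm hy

theorem Lin.sq_mem (hb : ¬ S.toCfg.Big) {g : G} {L : J4 → J4} (hg : S.Lin g L) (hL : ∀ v, L (L v) = v) :
    g * g ∈ S.J := by
  refine S.centJ_le hb (Subgroup.mem_centralizer_iff.2 fun j hj => ?_)
  obtain ⟨v, rfl⟩ := S.mem_J.1 hj
  have := (hg.mul S hg) v
  simp only [hL] at this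
  rw [mul_inv_eq_iff_eq_mul] at this
  exact this.symm

theorem mem_J_of_id (hb : ¬ S.toCfg.Big) {g : G} (h : ∀ v, g * S.jj v * g⁻¹ = S.jj v) : g ∈ S.J := by
  refine S.centJ_le hb (Subgroup.mem_centralizer_iff.2 fun j hj => ?_)
  obtain ⟨v, rfl⟩ := S.mem_J.1 hj
  exact (mul_inv_eq_iff_eq_mul.1 (h v)).symm

theorem cube_pow {g : G} {L : J4 → J4} (hg : S.Lin g L) (hL : ∀ v, L (L v) = v) {k : ℕ}
    (h : ∀ v, g ^ 3 ^ k * S.jj v * (g ^ 3 ^ k)⁻¹ = S.jj v) : ∀ v, g * S.jj v * g⁻¹ = S.jj v := by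
  intro v
  obtain ⟨m, hm⟩ : Odd (3 ^ k) := (by decide : Odd 3).pow
  have h2 : ∀ (i : ℕ) (w : J4), g ^ (2 * i) * S.jj w * (g ^ (2 * i))⁻¹ = S.jj w := by
    intro i
    induction i with
    | zero => intro w; simp
    | succ i ih =>
      intro w
      rw [show g ^ (2 * (i + 1)) * S.jj w * (g ^ (2 * (i + 1)))⁻¹ =
        g ^ (2 * i) * (g * g * S.jj w * (g * g)⁻¹) * (g ^ (2 * i))⁻¹ by
        rw [mul_add, pow_add, mul_one, pow_two]; group, hg.mul S hg]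
      simp only [hL, ih]
  have := h v
  rw [hm, pow_succ', show g * g ^ (2 * m) * S.jj v * (g * g ^ (2 * m))⁻¹ =
    g * (g ^ (2 * m) * S.jj v * (g ^ (2 * m))⁻¹) * g⁻¹ by group, h2] at this
  exact this

/-- An element fixing `X`, `X'` and normalising `J` is one of the four isometries. -/
theorem w0_lin {c : G} (hX : Commute c S.X) (hX' : Commute c S.X') (hn : ∀ x ∈ S.J, c * x * c⁻¹ ∈ S.J) :
    ∃ p q : J4, S.Lin c (w0L p q) ∧ ((p = (1, 0, 0, 0) ∧ q = (0, 1, 0, 0)) ∨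
      (p = -(1, 0, 0, 0) ∧ q = -(0, 1, 0, 0)) ∨ (p = (0, 1, 0, 0) ∧ q = (1, 0, 0, 0)) ∨
      (p = -(0, 1, 0, 0) ∧ q = -(1, 0, 0, 0))) := by
  obtain ⟨L, hL, -, -, hq⟩ := S.exists_lin hn
  have e1 : L (0, 0, 1, 0) = (0, 0, 1, 0) := S.jj_inj (by rw [← hL, S.jj_X, hX.eq, mul_inv_cancel_right])
  have e2 : L (0, 0, 0, 1) = (0, 0, 0, 1) := S.jj_inj (by rw [← hL, S.jj_X', hX'.eq, mul_inv_cancel_right])
  have hlin : S.Lin c (w0L (L (1, 0, 0, 0)) (L (0, 1, 0, 0))) := by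
    refine S.lin_of_basis (a := L (1, 0, 0, 0)) (b := L (0, 1, 0, 0)) (c := (0, 0, 1, 0))
      (d := (0, 0, 0, 1)) ?_ ?_ ?_ ?_ (fun v => rfl)
    · rw [← S.jj_z, hL]
    · rw [← S.jj_y, hL]
    · rw [← S.jj_X, hL, e1]
    · rw [← S.jj_X', hL, e2]
  have hpt : ∀ v : J4, v ≠ 0 → L v ≠ 0 := fun v hv e => hv (S.jj_eq_one.1 (by
    have := hL v
    rw [e, S.jj_zero] at this
    exact conj_eq_one_iff.1 this))
  refine ⟨_, _, hlin, w0L_cases _ (hq _ (by decide)) (hpt _ (by decide)) _ (hq _ (by decide))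
    (hpt _ (by decide)) fun v hv => ?_⟩
  have : L v = w0L (L (1, 0, 0, 0)) (L (0, 1, 0, 0)) v := S.jj_inj (by rw [← hL, hlin])
  rw [← this]; exact hq v hv

variable [Finite G]

/-- `C(X, X') ≤ N(J)`. -/
theorem axis_W0 (hb : ¬ S.toCfg.Big) (hs : S.toCfg.Swap) :
    Subgroup.centralizer ({S.X, S.X'} : Set G) ≤ Subgroup.normalizer (S.J : Set G) := by
  set C := Subgroup.centralizer ({S.X, S.X'} : Set G) with hC
  have hCmem : ∀ {g : G}, g ∈ C ↔ Commute g S.X ∧ Commute g S.X' := fun {g} =>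
    ⟨fun h => ⟨(Subgroup.mem_centralizer_iff.1 h _ (Or.inl rfl)).symm,
      (Subgroup.mem_centralizer_iff.1 h _ (Or.inr rfl)).symm⟩, fun h => Subgroup.mem_centralizer_iff.2 (by
      rintro x (rfl | rfl)
      exacts [h.1.symm.eq, h.2.symm.eq])⟩
  set M := S.sub2 (0, 0, 1, 0) (0, 0, 0, 1) with hM
  set T := S.sub2 (1, 0, 0, 0) (0, 1, 0, 0) with hT
  have hJC : S.J ≤ C := fun j hj => by
    obtain ⟨v, rfl⟩ := S.mem_J.1 hj
    exact hCmem.2 ⟨S.jj_X ▸ S.commute_jj _ _, S.jj_X' ▸ S.commute_jj _ _⟩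
  have hMfix : ∀ c ∈ C, ∀ e f : K, c * S.jj (0, 0, e, f) * c⁻¹ = S.jj (0, 0, e, f) := by
    intro c hc e f
    obtain ⟨h1, h2⟩ := hCmem.1 hc
    have h3 : Commute c (S.jj (0, 0, e, f)) := by
      simp only [jj, ZMod.val_zero, pow_zero, one_mul]
      exact (h1.pow_right _).mul_right (h2.pow_right _)
    rw [h3.eq, mul_inv_cancel_right]
  have hdec : ∀ v : J4, ∃ t ∈ T, ∃ m ∈ M, S.jj v = t * m := fun ⟨a, b, e, f⟩ =>
    ⟨_, S.mem_sub2.2 ⟨a, b, rfl⟩, _, S.mem_sub2.2 ⟨e, f, rfl⟩, by rw [← S.jj_add]; simp⟩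
  have hTMJ : ∀ g : G, (∃ t ∈ T, ∃ m ∈ M, g = t * m) → g ∈ S.J := by
    rintro g ⟨t, ht, m, hm, rfl⟩
    exact mul_mem (S.sub2_le_J _ _ ht) (S.sub2_le_J _ _ hm)
  have hJTM : ∀ g ∈ S.J, ∃ t ∈ T, ∃ m ∈ M, g = t * m := by
    intro g hg
    obtain ⟨v, rfl⟩ := S.mem_J.1 hg
    exact hdec v
  have hnorm : ∀ c, (∀ t ∈ T, ∃ t' ∈ T, ∃ m ∈ M, c * t * c⁻¹ = t' * m) →
      c ∈ C → ∀ x ∈ S.J, c * x * c⁻¹ ∈ S.J := by
    intro c h hc x hx
    obtain ⟨t, ht, m, hm, rfl⟩ := hJTM x hx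
    rw [← conj_mul]
    refine mul_mem (hTMJ _ (h t ht)) ?_
    obtain ⟨e, f, rfl⟩ := S.mem_sub2.1 hm
    rw [show e • ((0 : K), (0 : K), (1 : K), (0 : K)) + f • (0, 0, 0, 1) = ((0, 0, e, f) : J4) by simp,
      hMfix c hc]
    exact S.jj_mem _
  have hnorm' : ∀ c, c ∈ Subgroup.normalizer (S.J : Set G) →
      ∀ t ∈ T, ∃ t' ∈ T, ∃ m ∈ M, c * t * c⁻¹ = t' * m := fun c hc t ht =>
    hJTM _ ((Subgroup.mem_normalizer_iff.1 hc t).1 (S.sub2_le_J _ _ ht))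
  have hinvol : ∀ p q : J4, ((p = (1, 0, 0, 0) ∧ q = (0, 1, 0, 0)) ∨
      (p = -(1, 0, 0, 0) ∧ q = -(0, 1, 0, 0)) ∨ (p = (0, 1, 0, 0) ∧ q = (1, 0, 0, 0)) ∨
      (p = -(0, 1, 0, 0) ∧ q = -(1, 0, 0, 0))) → ∀ v, w0L p q (w0L p q v) = v := by
    rintro p q (⟨rfl, rfl⟩ | ⟨rfl, rfl⟩ | ⟨rfl, rfl⟩ | ⟨rfl, rfl⟩) <;> decide +kernel
  have hwords : ∀ v, wordL [.ex, .u (1, 0), .w (0, 1), .u (1, 0), .w (0, 1), .u (1, 0)] v =
      w0L (0, 1, 0, 0) (1, 0, 0, 0) v ∧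
      wordL [.ex, .neg, .u (2, 0), .w (0, 1), .u (2, 0), .w (0, 1), .w (1, 0), .u (1, 0)] v =
        w0L (-(1, 0, 0, 0)) (-(0, 1, 0, 0)) v := by decide +kernel
  obtain ⟨a, ha⟩ := S.exists_word hs [.ex, .u (1, 0), .w (0, 1), .u (1, 0), .w (0, 1), .u (1, 0)]
  obtain ⟨b, hb'⟩ := S.exists_word hs [.ex, .neg, .u (2, 0), .w (0, 1), .u (2, 0), .w (0, 1), .w (1, 0), .u (1, 0)]
  have hla : S.Lin a (w0L (0, 1, 0, 0) (1, 0, 0, 0)) := fun v => (ha v).trans (by rw [(hwords v).1])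
  have hlb : S.Lin b (w0L (-(1, 0, 0, 0)) (-(0, 1, 0, 0))) := fun v => (hb' v).trans (by rw [(hwords v).2])
  have hfix0 : ∀ (p q : J4) (c : G), S.Lin c (w0L p q) → c ∈ C := by
    intro p q c h
    refine hCmem.2 ⟨?_, ?_⟩
    · have := h (0, 0, 1, 0)
      rw [show w0L p q (0, 0, 1, 0) = (0, 0, 1, 0) by simp [w0L], S.jj_X, mul_inv_eq_iff_eq_mul] at this
      exact this
    · have := h (0, 0, 0, 1)
      rw [show w0L p q (0, 0, 0, 1) = (0, 0, 0, 1) by simp [w0L], S.jj_X', mul_inv_eq_iff_eq_mul] at this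
      exact this
  have hid : ∀ (p q : J4) (c : G), S.Lin c (w0L p q) → c ∈ S.J → p = (1, 0, 0, 0) ∧ q = (0, 1, 0, 0) := by
    intro p q c h hc
    have hcomm : ∀ v, w0L p q v = v := fun v => S.jj_inj (by
      obtain ⟨u, rfl⟩ := S.mem_J.1 hc
      rw [← h, (S.commute_jj u v).eq, mul_inv_cancel_right])
    exact ⟨by simpa [w0L] using hcomm (1, 0, 0, 0), by simpa [w0L] using hcomm (0, 1, 0, 0)⟩
  have hLid : ∀ v, w0L (1, 0, 0, 0) (0, 1, 0, 0) v = v := by decide +kernel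
  have hmain := nine_bound C M T ((S.sub2_le_J _ _).trans hJC) ((S.sub2_le_J _ _).trans hJC)
    (fun c hc m hm => by
      obtain ⟨e, f, rfl⟩ := S.mem_sub2.1 hm
      rw [show e • ((0 : K), (0 : K), (1 : K), (0 : K)) + f • (0, 0, 0, 1) = ((0, 0, e, f) : J4) by simp,
        hMfix c hc]
      exact S.mem_sub2.2 ⟨e, f, by simp⟩)
    (fun t ht m hm => by
      obtain ⟨a, b, rfl⟩ := S.mem_sub2.1 ht
      obtain ⟨e, f, rfl⟩ := S.mem_sub2.1 hm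
      exact S.commute_jj _ _)
    (fun t ht htm => by
      obtain ⟨a, b, rfl⟩ := S.mem_sub2.1 ht
      obtain ⟨e, f, he⟩ := S.mem_sub2.1 htm
      have h := S.jj_inj he
      simp [Prod.ext_iff] at h
      simp [h.1.symm, h.2.1.symm, S.jj_zero])
    (fun t ht => S.cube_mem (S.sub2_le_J _ _ ht))
    (fun a ha b hb => by
      obtain ⟨a1, a2, rfl⟩ := S.mem_sub2.1 ha
      obtain ⟨b1, b2, rfl⟩ := S.mem_sub2.1 hb
      exact S.commute_jj _ _)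
    (S.card_sub2 _ _ (by decide +kernel))
    ?syl ?cent a b (hfix0 _ _ a hla) (hfix0 _ _ b hlb) (hnorm' a (hla.mem_normalizer S))
    (hnorm' b (hlb.mem_normalizer S)) ?na ?nb ?nab ?four ?loc
  · intro c hc
    have h1 : ∀ v : J4, v.2.2.1 = 0 → v.2.2.2 = 0 → S.jj v ∈ T := fun ⟨a, b, e, f⟩ he hf => by
      simp only at he hf
      subst he hf
      exact S.mem_sub2.2 ⟨a, b, by simp⟩
    exact S.mem_normalizer_of_pts (v := (1, 0, 0, 0)) (w := (0, 1, 0, 0))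
      ((S.isPt_jj _).2 (by decide)) ((S.isPt_jj _).2 (by decide)) (by decide)
      (hTMJ _ (hmain c hc _ (h1 _ rfl rfl))) (hTMJ _ (hmain c hc _ (h1 _ rfl rfl)))
  case syl =>
    rintro c hc hn ⟨k, hk⟩
    refine hJTM _ (S.mem_J_of_id hb ?_)
    obtain ⟨p, q, hl, hcases⟩ := S.w0_lin (hCmem.1 hc).1 (hCmem.1 hc).2 (hnorm c hn hc)
    refine S.cube_pow hl (hinvol p q hcases) (k := k) fun v => ?_
    obtain ⟨u, hu⟩ := S.mem_J.1 (S.sub2_le_J _ _ hk)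
    rw [← hu, (S.commute_jj u v).eq, mul_inv_cancel_right]
  case cent =>
    intro c hc h
    refine hJTM _ (S.mem_J_of_id hb ?_)
    have hz : ∀ v : J4, quad v = 0 → v ≠ 0 → v.2.2.1 = 0 → v.2.2.2 = 0 → c * S.jj v * c⁻¹ = S.jj v := by
      rintro ⟨a, b, e, f⟩ hq hne he hf
      simp only at he hf
      subst he hf
      obtain ⟨m, hm, e1⟩ := h (S.jj (a, b, 0, 0)) (S.mem_sub2.2 ⟨a, b, by simp⟩)
      obtain ⟨e, f, rfl⟩ := S.mem_sub2.1 hm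
      rw [← S.jj_add, show ((a, b, 0, 0) : J4) + (e • ((0, 0, 1, 0) : J4) + f • (0, 0, 0, 1)) =
        (a, b, e, f) by simp] at e1
      have h2 := S.quad_of_pt (e1 ▸ ((S.isPt_jj _).2 ⟨hne, hq⟩).conj c)
      obtain ⟨rfl, rfl⟩ := zero_of_quad a b e f (by simpa [quad] using hq) h2
      exact e1
    have hl : S.Lin c id := S.lin_of_basis (a := (1, 0, 0, 0)) (b := (0, 1, 0, 0)) (c := (0, 0, 1, 0))
      (d := (0, 0, 0, 1)) (by rw [← S.jj_z]; exact hz _ (by decide) (by decide) rfl rfl)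
      (by rw [← S.jj_y]; exact hz _ (by decide) (by decide) rfl rfl)
      (by rw [← S.jj_X]; exact hMfix c hc 1 0) (by rw [← S.jj_X']; exact hMfix c hc 0 1)
      (fun v => by simp)
    exact hl
  case na => exact fun e => absurd (hid _ _ a hla (hTMJ _ e)) (by decide)
  case nb => exact fun e => absurd (hid _ _ b hlb (hTMJ _ e)) (by decide)
  case nab =>
    intro e
    have hJ' : b ∈ Subgroup.normalizer (S.J : Set G) := hlb.mem_normalizer S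
    obtain ⟨u, hu⟩ := S.mem_J.1 (hTMJ _ e)
    have h3 : b = a * S.jj u := by rw [hu]; group
    have h4 := hlb (1, 0, 0, 0)
    rw [h3, show a * S.jj u * S.jj (1, 0, 0, 0) * (a * S.jj u)⁻¹ =
      a * (S.jj u * S.jj (1, 0, 0, 0) * (S.jj u)⁻¹) * a⁻¹ by group, (S.commute_jj u _).eq,
      mul_inv_cancel_right, hla] at h4
    exact absurd (S.jj_inj h4) (by decide +kernel)
  case four =>
    intro c hc hn
    obtain ⟨p, q, hl, hcases⟩ := S.w0_lin (hCmem.1 hc).1 (hCmem.1 hc).2 (hnorm c hn hc)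
    refine ⟨hJTM _ (hl.sq_mem S hb (hinvol p q hcases)), ?_⟩
    have hdiff : ∀ (d : G) (p' q' : J4), S.Lin d (w0L p' q') → p = p' → q = q' → d⁻¹ * c ∈ S.J := by
      intro d p' q' hd hp hq
      subst hp hq
      refine S.mem_J_of_id hb fun v => ?_
      rw [show d⁻¹ * c * S.jj v * (d⁻¹ * c)⁻¹ = d⁻¹ * (c * S.jj v * c⁻¹) * d by group, hl, ← hd]
      group
    rcases hcases with ⟨hp, hq⟩ | ⟨hp, hq⟩ | ⟨hp, hq⟩ | ⟨hp, hq⟩
    · refine Or.inl (hJTM _ (S.mem_J_of_id hb fun v => ?_))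
      rw [hl, hp, hq, hLid]
    · exact Or.inr (Or.inr (Or.inl (hJTM _ (hdiff b _ _ hlb hp hq))))
    · exact Or.inr (Or.inl (hJTM _ (hdiff a _ _ hla hp hq)))
    · refine Or.inr (Or.inr (Or.inr (hJTM _ ?_)))
      have hcomp : ∀ v, w0L (0, 1, 0, 0) (1, 0, 0, 0) (w0L (-(1, 0, 0, 0)) (-(0, 1, 0, 0)) v) =
          w0L (-(0, 1, 0, 0)) (-(1, 0, 0, 0)) v := by decide +kernel
      have := hdiff (a * b) _ _ (fun v => ((hla.mul S hlb) v).trans (by simp only [hcomp])) hp hq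
      rwa [mul_inv_rev, mul_assoc] at this
  case loc =>
    intro t ht hne c hc h
    obtain ⟨m, hm, e1⟩ := h
    obtain ⟨a0, b0, rfl⟩ := S.mem_sub2.1 ht
    obtain ⟨e, f, rfl⟩ := S.mem_sub2.1 hm
    obtain ⟨hX, hX'⟩ := hCmem.1 hc
    rw [← S.jj_add, show a0 • ((1 : K), (0 : K), (0 : K), (0 : K)) + b0 • (0, 1, 0, 0) +
      (e • (0, 0, 1, 0) + f • (0, 0, 0, 1)) = ((a0, b0, e, f) : J4) by simp,
      show a0 • ((1 : K), (0 : K), (0 : K), (0 : K)) + b0 • (0, 1, 0, 0) = ((a0, b0, 0, 0) : J4) by simp]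
      at e1
    have hab : a0 ≠ 0 ∨ b0 ≠ 0 := by
      by_contra h0
      rw [not_or, not_not, not_not] at h0
      exact hne (by simp [h0.1, h0.2, S.jj_zero])
    refine hnorm' c ?_
    -- an element of `C` centralising `z` normalises `J`
    have hzN : ∀ c, Commute c S.X → Commute c S.X' → Commute c S.z →
        c ∈ Subgroup.normalizer (S.J : Set G) := by
      intro c hX hX' hz
      refine S.mem_normalizer_of_φ hz ?_
      have h1 : Mon.act (S.φ c) ((1, 0), 0) = ((1, 0), 0) := by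
        rw [← S.vec_X, ← S.vec_conj c hz _ S.X_mem, hX.eq, mul_inv_cancel_right]
      have h2 : Mon.act (S.φ c) (0, (1, 0)) = (0, (1, 0)) := by
        rw [← S.vec_X', ← S.vec_conj c hz _ S.X'_mem, hX'.eq, mul_inv_cancel_right]
      obtain ⟨-, hA, hB, hs'⟩ := S.φ_fix_W h1 h2
      rw [S.φ_y, Mon.mul_def, Mon.mul_def, hs']
      simp [hA, hB]
    by_cases h0 : a0 * b0 = 0
    · have hpt : S.IsPt (S.jj (a0, b0, 0, 0)) := by
        refine (S.isPt_jj _).2 ⟨fun h => ?_, by simp [quad, h0]⟩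
        simp [Prod.ext_iff] at h
        rcases hab with h' | h'
        exacts [h' h.1, h' h.2]
      obtain ⟨rfl, rfl⟩ := zero_of_quad a0 b0 e f h0 (S.quad_of_pt (e1 ▸ hpt.conj c))
      have hcomm : Commute c (S.jj (a0, b0, 0, 0)) := mul_inv_eq_iff_eq_mul.1 e1
      rcases mul_eq_zero.1 h0 with ha0 | hb0
      · subst ha0
        have hb0 : b0 ≠ 0 := hab.resolve_left (by simp)
        have hy : Commute c S.y := by
          have := hcomm.pow_right b0.val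
          rw [S.jj_pow] at this
          have hbb : ∀ b : K, b ≠ 0 → (b • (0, b, 0, 0) : J4) = (0, 1, 0, 0) := by decide
          rwa [hbb b0 hb0, S.jj_y] at this
        obtain ⟨hXa, hX'a⟩ := hCmem.1 (hfix0 _ _ a hla)
        have haz : a * S.z * a⁻¹ = S.y := by
          rw [← S.jj_z, hla, ← S.jj_y]; congr 1
        have hcz : Commute (a⁻¹ * c * a) S.z := by
          show a⁻¹ * c * a * S.z = S.z * (a⁻¹ * c * a)
          calc a⁻¹ * c * a * S.z = a⁻¹ * (c * (a * S.z * a⁻¹)) * a := by group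
            _ = a⁻¹ * ((a * S.z * a⁻¹) * c) * a := by rw [haz, hy.eq]
            _ = S.z * (a⁻¹ * c * a) := by group
        have h := hzN _ ((hXa.inv_left.mul_left hX).mul_left hXa) ((hX'a.inv_left.mul_left hX').mul_left hX'a) hcz
        have han := hla.mem_normalizer S
        have := mul_mem (mul_mem han h) (inv_mem han)
        rwa [show a * (a⁻¹ * c * a) * a⁻¹ = c by group] at this
      · subst hb0
        have ha0 : a0 ≠ 0 := hab.resolve_right (by simp)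
        refine hzN c hX hX' ?_
        have := hcomm.pow_right a0.val
        rw [S.jj_pow] at this
        have haa : ∀ a : K, a ≠ 0 → (a • (a, 0, 0, 0) : J4) = (1, 0, 0, 0) := by decide
        rwa [haa a0 ha0, S.jj_z] at this
    · have ha0 : a0 ≠ 0 := left_ne_zero_of_mul h0
      have hb0 : b0 ≠ 0 := right_ne_zero_of_mul h0
      have hshift : ∀ e' f' : K, c * S.jj (a0, b0, e', f') * c⁻¹ = S.jj (a0, b0, e' + e, f' + f) := by
        intro e' f'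
        rw [show ((a0, b0, e', f') : J4) = (a0, b0, 0, 0) + (0, 0, e', f') by simp, S.jj_add, ← conj_mul,
          e1, hMfix c hc, ← S.jj_add]
        congr 1
        ext <;> simp <;> ring
      have hw := quad_wit (e, f) a0 b0 ha0 hb0 fun e' f' hq => S.quad_of_pt (hshift e' f' ▸
        ((S.isPt_jj _).2 ⟨fun h => ha0 (congrArg Prod.fst h), hq⟩).conj c)
      obtain ⟨rfl, rfl⟩ : e = 0 ∧ f = 0 := Prod.mk.injEq _ _ _ _ |>.mp hw
      obtain ⟨e1', f1', e2', f2', hq1, hq2, hind⟩ := pair_wit a0 b0 ha0 hb0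
      exact S.mem_normalizer_of_pts ((S.isPt_jj _).2 ⟨fun h => ha0 (congrArg Prod.fst h), hq1⟩)
        ((S.isPt_jj _).2 ⟨fun h => ha0 (congrArg Prod.fst h), hq2⟩) hind
        (by rw [hshift]; exact S.jj_mem _) (by rw [hshift]; exact S.jj_mem _)

end Std

end Cfsg.Agent.U62ThreeCent
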