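/-
The exchange of the lines of `z y` and `X'`.

* `Std.exists_sigmaInvol` : an involution inducing `sigL` and commuting with `t`;
* `Std.axis_sigma` : the centraliser of `v` and this involution normalises `J`;
* `Std.exists_sigma` : both together.
-/
import Cfsg.Agent.Lib.U62ThreeCent.SwapAxis

set_option autoImplicit false
set_option maxRecDepth 100000
set_option synthInstance.maxSize 2000

namespace Cfsg.Agent.U62ThreeCent

open Cfsg.Agent.PSpThree

/-- The coordinate vector of `v`. -/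
def vV : J4 := (1, -1, 0, 0)

/-- The coordinate vector of `z y X'`. -/
def uV : J4 := (1, 1, 0, 1)

theorem sig_facts : sigL vV = vV ∧ sigL (0, 0, 1, 0) = (0, 0, 1, 0) ∧ sigL uV = uV ∧
    sigL (1, 1, 0, 0) = (0, 0, 0, 1) ∧ sigL (0, 0, 0, 1) = (1, 1, 0, 0) ∧
    sigL (1, 0, 0, 0) ≠ (1, 0, 0, 0) ∧ negL vV = vV ∧ negU vV = vV := by decide +kernel

theorem sig_neg : (∀ w : J4, sigL (negL (sigL (negL w))) = w) ∧
    (∀ w : J4, negL w = -w → sigL w = -w → w = 0) ∧ (∀ w : J4, sigL (negL w) = negL (sigL w)) := by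
  decide +kernel

theorem sig_fixed : ∀ a b i : K, sigL (a • ((0, 0, 1, 0) : J4) + b • uV + i • vV) =
    a • ((0, 0, 1, 0) : J4) + b • uV + i • vV := by decide +kernel

theorem sig_fix_cases : ∀ w : J4, sigL w = w → ∃ a b i : K, w = a • ((0, 0, 1, 0) : J4) + b • uV + i • vV := by
  decide +kernel

theorem tri_inj : ∀ a b i : K, a • ((0, 0, 1, 0) : J4) + b • uV = i • vV → a = 0 ∧ b = 0 := by decide +kernel

theorem diag_vecs : ((1, 1, 1, 1) : J4) = (1 : K) • ((0, 0, 1, 0) : J4) + (1 : K) • uV ∧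
    ((-1, -1, 1, -1) : J4) = (1 : K) • ((0, 0, 1, 0) : J4) + (-1 : K) • uV := by decide +kernel

theorem coset_zero : ∀ b i : K, quad ((1 : K) • ((0, 0, 1, 0) : J4) + b • uV) = 0 →
    quad ((1 : K) • ((0, 0, 1, 0) : J4) + b • uV + i • vV) = 0 → i = 0 := by decide +kernel

theorem axis_shift : ∀ a i : K, a ≠ 0 → quad (a • ((0, 0, 1, 0) : J4) + ((1 + i) • vV)) = 0 →
    quad (a • ((0, 0, 1, 0) : J4) + ((-1 + i) • vV)) = 0 → i = 0 := by decide +kernel

theorem axis_pts : ∀ a : K, a ≠ 0 → quad (a • ((0, 0, 1, 0) : J4) + (1 : K) • vV) = 0 ∧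
    quad (a • ((0, 0, 1, 0) : J4) + (-1 : K) • vV) = 0 ∧ a • ((0, 0, 1, 0) : J4) + (1 : K) • vV ≠ 0 ∧
    a • ((0, 0, 1, 0) : J4) + (-1 : K) • vV ≠ 0 ∧
    ∀ k : K, a • ((0, 0, 1, 0) : J4) + (-1 : K) • vV ≠ k • (a • ((0, 0, 1, 0) : J4) + (1 : K) • vV) := by
  decide +kernel

/-- The map of `σ` or the identity. -/
def sigPow (s : Bool) (w : J4) : J4 := cond s (sigL w) w

theorem vs_cent : ∀ p p' : J4, (p = (0, 0, 1, 0) ∨ p = -(0, 0, 1, 0)) →
    (p' = (0, 0, 0, 1) ∨ p' = -(0, 0, 0, 1) ∨ p' = (1, 1, 0, 0) ∨ p' = -(1, 1, 0, 0)) →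
    vsL p p' (0, 0, 1, 0) = (0, 0, 1, 0) → vsL p p' uV = uV →
    ∃ s : Bool, ∀ w : J4, vsL p p' w = sigPow s w := by decide +kernel

theorem vs_four : ∀ p p' : J4, (p = (0, 0, 1, 0) ∨ p = -(0, 0, 1, 0)) →
    (p' = (0, 0, 0, 1) ∨ p' = -(0, 0, 0, 1) ∨ p' = (1, 1, 0, 0) ∨ p' = -(1, 1, 0, 0)) →
    ∃ s : Bool, (∀ w : J4, vsL p p' w = sigPow s w) ∨ (∀ w : J4, vsL p p' w = negL (sigPow s w)) ∨
      (∀ w : J4, vsL p p' w = negU (sigPow s w)) ∨ (∀ w : J4, vsL p p' w = negL (negU (sigPow s w))) := by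
  decide +kernel

theorem neg_not_sig : ∀ s : Bool, (∃ w : J4, negL w ≠ sigPow s w) ∧ (∃ w : J4, negU w ≠ sigPow s w) ∧
    (∃ w : J4, negU w ≠ negL (sigPow s w)) := by decide +kernel

theorem upper_of_fix : ∀ A : SL23, ∀ e f : K, e ≠ 0 → act2 A (f, 0) = (e, 0) → A * upperU = upperU * A := by
  decide +kernel

namespace Std

variable {G : Type*} [Group G] (S : Std G)

/-- An element of `C(z)` centralising a vector of `J` in general position normalises `J`. -/
theorem mem_normalizer_of_z_u [Finite G] {g : G} (hz : Commute g S.z) {a e f : K} (he : e ≠ 0) (hf : f ≠ 0)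
    (hc : Commute g (S.jj (a, 0, e, f))) : g ∈ Subgroup.normalizer (S.J : Set G) := by
  refine S.mem_normalizer_of_φ hz ?_
  have hq : S.jj (a, 0, e, f) ∈ S.Q := by
    simp only [jj, ZMod.val_zero, pow_zero, mul_one]
    exact mul_mem (mul_mem (pow_mem S.z_mem _) (pow_mem S.X_mem _)) (pow_mem S.X'_mem _)
  have hv : S.vec (S.jj (a, 0, e, f)) = ((e, 0), (f, 0)) := by
    simp only [jj, ZMod.val_zero, pow_zero, mul_one]
    rw [S.vec_mul _ (mul_mem (pow_mem S.z_mem _) (pow_mem S.X_mem _)) _ (pow_mem S.X'_mem _),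
      S.vec_mul _ (pow_mem S.z_mem _) _ (pow_mem S.X_mem _), Cfg.vec_pow_val S.z_mem,
      Cfg.vec_pow_val S.X_mem, Cfg.vec_pow_val S.X'_mem, S.vec_z, S.vec_X, S.vec_X']
    simp
  have h := S.vec_conj g hz _ hq
  rw [hc.eq, mul_inv_cancel_right, hv] at h
  rw [S.φ_y]
  generalize S.φ g = m at h ⊢
  obtain ⟨A, B, s⟩ := m
  cases s
  · simp only [Mon.act, cond_false, Prod.ext_iff] at h
    have h1 := upper_of_fix A e e he (Prod.ext h.1.1.symm h.1.2.symm)
    have h2 := upper_of_fix B f f hf (Prod.ext h.2.1.symm h.2.2.symm)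
    rw [Mon.mul_def, Mon.mul_def]
    simp [h1, h2]
  · simp only [Mon.act, cond_true, Prod.ext_iff] at h
    have h1 := upper_of_fix A e f he (Prod.ext h.1.1.symm h.1.2.symm)
    have h2 := upper_of_fix B f e hf (Prod.ext h.2.1.symm h.2.2.symm)
    rw [Mon.mul_def, Mon.mul_def]
    simp [h1, h2]

theorem cube_of_mem_conj {x : G} (h : x ∈ S.J) (c : G) : (c * x * c⁻¹) ^ 3 = 1 := by
  rw [conj_pow, S.cube_mem h, mul_one, mul_inv_cancel]

theorem Lin.eq_id_of_mem {g : G} {L : J4 → J4} (hg : S.Lin g L) (h : g ∈ S.J) (v : J4) : L v = v := by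
  obtain ⟨u, rfl⟩ := S.mem_J.1 h
  refine S.jj_inj ?_
  rw [← hg, (S.commute_jj u v).eq, mul_inv_cancel_right]

variable [Finite G]

/-- The involution. -/
theorem exists_sigmaInvol (hb : ¬ S.toCfg.Big) (hs : S.toCfg.Swap) {t : G} (T : S.TInv t) :
    ∃ σ : G, σ * σ = 1 ∧ σ ≠ 1 ∧ S.Lin σ sigL ∧ Commute σ t := by
  obtain ⟨g, hg⟩ := S.exists_word hs [.ex, .u (0, 2), .w (2, 0), .w (0, 1), .u (1, 0)]
  have hgl : S.Lin g sigL := fun v => (hg v).trans (by rw [sigL_word])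
  have hj := hgl.sq_mem S hb sigL_sigL
  set σ := g * (g * g) with hσ
  have hl : S.Lin σ sigL := fun v => by
    rw [hσ, show g * (g * g) * S.jj v * (g * (g * g))⁻¹ = g * (g * g * S.jj v * (g * g)⁻¹) * g⁻¹ by group]
    obtain ⟨u, hu⟩ := S.mem_J.1 hj
    rw [← hu, (S.commute_jj u v).eq, mul_inv_cancel_right, hgl]
  have h2 : σ * σ = 1 := by
    rw [hσ, show g * (g * g) * (g * (g * g)) = (g * g) ^ 3 by rw [pow_three]; group, S.cube_mem hj]
  have hne : σ ≠ 1 := fun e => sig_facts.2.2.2.2.2.1 (by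
    refine S.jj_inj ?_
    rw [← hl, e]; group)
  refine ⟨σ, h2, hne, hl, ?_⟩
  clear_value σ
  clear hσ
  have hσi : σ⁻¹ = σ := inv_eq_of_mul_eq_one_right h2
  have hti := T.inv_eq
  have hlt : S.Lin t negL := T.conj_jj
  have hall : ∀ v, σ * t * σ * t * S.jj v * (σ * t * σ * t)⁻¹ = S.jj v := fun v => by
    rw [(((hl.mul S hlt).mul S hl).mul S hlt) v]
    exact congrArg S.jj (sig_neg.1 v)
  obtain ⟨w, hw⟩ := S.mem_J.1 (S.mem_J_of_id hb hall)
  have e1 : t * S.jj w * t⁻¹ = (S.jj w)⁻¹ := by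
    rw [hw, mul_inv_rev, mul_inv_rev, mul_inv_rev, hσi, hti]
    simp only [mul_assoc, T.sq, mul_one]
  have e2 : σ * S.jj w * σ⁻¹ = (S.jj w)⁻¹ := by
    rw [hw, mul_inv_rev, mul_inv_rev, mul_inv_rev, hσi, hti, ← mul_assoc σ, ← mul_assoc σ, ← mul_assoc σ,
      h2, one_mul]
    group
  rw [hlt, ← S.jj_neg] at e1
  rw [hl, ← S.jj_neg] at e2
  rw [sig_neg.2.1 w (S.jj_inj e1) (S.jj_inj e2), S.jj_zero] at hw
  show σ * t = t * σ
  calc σ * t = σ * t * (σ * t * σ * t)⁻¹⁻¹ * (σ * t * σ * t)⁻¹ := by group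
    _ = σ * t * (σ * t * σ * t)⁻¹ := by rw [inv_inv, ← hw]; group
    _ = t * σ := by
      rw [mul_inv_rev, mul_inv_rev, mul_inv_rev, hσi, hti]
      rw [show σ * t * (t * (σ * (t * σ))) = σ * (t * t) * σ * (t * σ) by group, T.sq, mul_one, h2, one_mul]

/-- `C(v, σ) ≤ N(J)`. -/
theorem axis_sigma (hb : ¬ S.toCfg.Big) (hs : S.toCfg.Swap) {t σ : G} (T : S.TInv t) (h2 : σ * σ = 1)
    (hne : σ ≠ 1) (hl : S.Lin σ sigL) (hσt : Commute σ t) :
    Subgroup.centralizer ({S.jj vV, σ} : Set G) ≤ Subgroup.normalizer (S.J : Set G) := by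
  set C := Subgroup.centralizer ({S.jj vV, σ} : Set G) with hC
  have hCmem : ∀ {g : G}, g ∈ C ↔ Commute g (S.jj vV) ∧ Commute g σ := fun {g} =>
    ⟨fun h => ⟨(Subgroup.mem_centralizer_iff.1 h _ (Or.inl rfl)).symm,
      (Subgroup.mem_centralizer_iff.1 h _ (Or.inr rfl)).symm⟩, fun h => Subgroup.mem_centralizer_iff.2 (by
      rintro x (rfl | rfl)
      exacts [h.1.symm.eq, h.2.symm.eq])⟩
  have hfixσ : ∀ w, sigL w = w → Commute σ (S.jj w) := fun w hw => by
    have := hl w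
    rw [hw, mul_inv_eq_iff_eq_mul] at this
    exact this
  have hσv : Commute σ (S.jj vV) := hfixσ _ sig_facts.1
  have hσC : σ ∈ C := hCmem.2 ⟨hσv, Commute.refl σ⟩
  have hσi : σ⁻¹ = σ := inv_eq_of_mul_eq_one_right h2
  have hσJ : σ ∉ S.J := fun h => sig_facts.2.2.2.2.2.1 (hl.eq_id_of_mem S h _)
  -- the central subgroup
  let M : Subgroup G :=
    { carrier := {g | ∃ i : K, g = S.jj (i • vV) ∨ g = S.jj (i • vV) * σ}
      one_mem' := ⟨0, Or.inl (by simp [S.jj_zero])⟩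
      mul_mem' := by
        rintro a b ⟨i, ha⟩ ⟨k, hb⟩
        refine ⟨i + k, ?_⟩
        have hc : Commute σ (S.jj (k • vV)) := hfixσ _ (by
          have := sig_fixed 0 0 k; simpa using this)
        rcases ha with rfl | rfl <;> rcases hb with rfl | rfl <;> rw [add_smul, S.jj_add]
        · exact Or.inl rfl
        · exact Or.inr (by rw [mul_assoc])
        · exact Or.inr (by rw [mul_assoc, hc.eq, ← mul_assoc])
        · refine Or.inl ?_
          rw [mul_assoc (S.jj (i • vV)) σ, ← mul_assoc σ, hc.eq, mul_assoc (S.jj (k • vV)) σ, h2, mul_one]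
      inv_mem' := by
        rintro a ⟨i, ha⟩
        refine ⟨-i, ?_⟩
        have hc : Commute σ (S.jj ((-i) • vV)) := hfixσ _ (by
          have := sig_fixed 0 0 (-i); simpa using this)
        rcases ha with rfl | rfl
        · exact Or.inl (by rw [neg_smul, S.jj_neg])
        · refine Or.inr ?_
          rw [mul_inv_rev, hσi, ← S.jj_neg, ← neg_smul, hc.eq] }
  have hMC : M ≤ C := by
    rintro g ⟨i, hg⟩
    have h1 : S.jj (i • vV) ∈ C := hCmem.2 ⟨S.commute_jj _ _, (hfixσ _ (by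
      have := sig_fixed 0 0 i; simpa using this)).symm⟩
    rcases hg with rfl | rfl
    exacts [h1, mul_mem h1 hσC]
  set Tg := S.sub2 (0, 0, 1, 0) uV with hTg
  have hTC : Tg ≤ C := fun g hg => by
    obtain ⟨a, b, rfl⟩ := S.mem_sub2.1 hg
    refine hCmem.2 ⟨S.commute_jj _ _, (hfixσ _ ?_).symm⟩
    have := sig_fixed a b 0; simpa using this
  have hMcomm : ∀ c ∈ C, ∀ m ∈ M, Commute c m := by
    rintro c hc m ⟨i, hm⟩
    obtain ⟨h1, h2'⟩ := hCmem.1 hc
    have h3 : Commute c (S.jj (i • vV)) := by rw [← S.jj_pow]; exact h1.pow_right _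
    rcases hm with rfl | rfl
    exacts [h3, h3.mul_right h2']
  -- the elements of `T M`
  have hTMof : ∀ a b i : K, ∀ s : Bool, ∃ t' ∈ Tg, ∃ m ∈ M,
      S.jj (a • ((0, 0, 1, 0) : J4) + b • uV + i • vV) * cond s σ 1 = t' * m := by
    intro a b i s
    refine ⟨_, S.mem_sub2.2 ⟨a, b, rfl⟩, _, ?_, by rw [S.jj_add, mul_assoc]⟩
    cases s
    · exact ⟨i, Or.inl (by simp)⟩
    · exact ⟨i, Or.inr rfl⟩
  have hinTM : ∀ c ∈ C, ∀ s : Bool, S.Lin c (sigPow s) → ∃ t' ∈ Tg, ∃ m ∈ M, c = t' * m := by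
    intro c hc s hls
    have hc2 := (hCmem.1 hc).2
    have hJ : c * cond s σ 1 ∈ S.J := by
      refine S.mem_J_of_id hb fun v => ?_
      cases s
      · simpa [sigPow] using hls v
      · rw [show c * cond true σ 1 * S.jj v * (c * cond true σ 1)⁻¹ = c * (σ * S.jj v * σ⁻¹) * c⁻¹ by
          simp only [cond_true]; group, hl, hls]
        simp only [sigPow, cond_true, sigL_sigL]
    obtain ⟨w, hw⟩ := S.mem_J.1 hJ
    have hcw : Commute (S.jj w) σ := by
      rw [hw]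
      cases s
      · simpa using hc2
      · exact hc2.mul_left (Commute.refl σ)
    obtain ⟨a, b, i, rfl⟩ := sig_fix_cases w (S.jj_inj (by rw [← hl, ← hcw.eq, mul_inv_cancel_right]))
    obtain ⟨t', ht', m, hm, e⟩ := hTMof a b i s
    refine ⟨t', ht', m, hm, ?_⟩
    rw [← e, hw]
    cases s <;> simp [mul_assoc, h2]
  have hTJ : ∀ c : G, ∀ x ∈ S.J, ∀ t' ∈ Tg, ∀ m ∈ M, c * x * c⁻¹ = t' * m →
      ∃ a b i : K, c * x * c⁻¹ = S.jj (a • ((0, 0, 1, 0) : J4) + b • uV + i • vV) := by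
    intro c x hx t' ht' m hm e
    obtain ⟨a, b, rfl⟩ := S.mem_sub2.1 ht'
    obtain ⟨i, hm | hm⟩ := hm
    · exact ⟨a, b, i, by rw [e, hm, ← S.jj_add]⟩
    · exfalso
      have h3 := S.cube_of_mem_conj hx c
      rw [e, hm, ← mul_assoc, ← S.jj_add] at h3
      have hc : Commute σ (S.jj (a • ((0, 0, 1, 0) : J4) + b • uV + i • vV)) := hfixσ _ (sig_fixed a b i)
      rw [hc.symm.mul_pow, S.jj_cube, one_mul, pow_three, h2, mul_one] at h3
      exact hne h3
  have hdiag : S.jj (1, 1, 1, 1) ∈ Tg ∧ S.jj (-1, -1, 1, -1) ∈ Tg :=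
    ⟨S.mem_sub2.2 ⟨1, 1, by rw [← diag_vecs.1]⟩, S.mem_sub2.2 ⟨1, -1, by rw [← diag_vecs.2]⟩⟩
  have hdpt : S.IsPt (S.jj (1, 1, 1, 1)) ∧ S.IsPt (S.jj (-1, -1, 1, -1)) :=
    ⟨(S.isPt_jj _).2 (by decide), (S.isPt_jj _).2 (by decide)⟩
  have hnorm : ∀ c, (∀ t' ∈ Tg, ∃ t'' ∈ Tg, ∃ m ∈ M, c * t' * c⁻¹ = t'' * m) →
      c ∈ Subgroup.normalizer (S.J : Set G) := by
    intro c h
    have key : ∀ x ∈ Tg, c * x * c⁻¹ ∈ S.J := by
      intro x hx
      obtain ⟨t', ht', m, hm, e⟩ := h x hx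
      obtain ⟨a, b, i, e'⟩ := hTJ c x (S.sub2_le_J _ _ hx) t' ht' m hm e
      exact e' ▸ S.jj_mem _
    exact S.mem_normalizer_of_pts hdpt.1 hdpt.2 (by decide +kernel) (key _ hdiag.1) (key _ hdiag.2)
  have hnorm' : ∀ c ∈ C, c ∈ Subgroup.normalizer (S.J : Set G) →
      ∀ t' ∈ Tg, ∃ t'' ∈ Tg, ∃ m ∈ M, c * t' * c⁻¹ = t'' * m := by
    intro c hc hn t' ht'
    obtain ⟨w, hw⟩ := S.mem_J.1 ((Subgroup.mem_normalizer_iff.1 hn t').1 (S.sub2_le_J _ _ ht'))
    have hcomm : Commute σ (c * t' * c⁻¹) := ((hCmem.1 hc).2.symm.mul_right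
      ((hCmem.1 (hTC ht')).2.symm)).mul_right (hCmem.1 hc).2.symm.inv_right
    rw [← hw] at hcomm ⊢
    obtain ⟨a, b, i, rfl⟩ := sig_fix_cases w (S.jj_inj (by rw [← hl, hcomm.eq, mul_inv_cancel_right]))
    obtain ⟨t'', ht'', m, hm, e⟩ := hTMof a b i false
    exact ⟨t'', ht'', m, hm, by rw [← e]; simp⟩
  -- the isometry of an element of `C` normalising `J`
  have hclin : ∀ c ∈ C, c ∈ Subgroup.normalizer (S.J : Set G) → ∃ p p' : J4, S.Lin c (vsL p p') ∧
      (p = (0, 0, 1, 0) ∨ p = -(0, 0, 1, 0)) ∧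
      (p' = (0, 0, 0, 1) ∨ p' = -(0, 0, 0, 1) ∨ p' = (1, 1, 0, 0) ∨ p' = -(1, 1, 0, 0)) := by
    intro c hc hn
    obtain ⟨hcv, hcσ⟩ := hCmem.1 hc
    obtain ⟨L, hL, -, -, hq⟩ := S.exists_lin fun x hx => (Subgroup.mem_normalizer_iff.1 hn x).1 hx
    have hcomm : ∀ w, sigL (L w) = L (sigL w) := fun w => S.jj_inj (by
      rw [← hl, ← hL, ← hL, ← hl, show c * (σ * S.jj w * σ⁻¹) * c⁻¹ = c * σ * S.jj w * (c * σ)⁻¹ by group,
        hcσ.eq]
      group)
    have hv : L vV = vV := S.jj_inj (by rw [← hL, hcv.eq, mul_inv_cancel_right])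
    have hns : ∀ w, quad w ≠ 0 → quad (L w) ≠ 0 := by
      intro w hw h0
      have hne0 : L w ≠ 0 := fun e => hw (by
        have := hL w
        rw [e, S.jj_zero, conj_eq_one_iff, S.jj_eq_one] at this
        rw [this]; rfl)
      have h1 := ((S.isPt_jj (L w)).2 ⟨hne0, h0⟩).conj c⁻¹
      rw [← hL, show c⁻¹ * (c * S.jj w * c⁻¹) * c⁻¹⁻¹ = S.jj w by group] at h1
      exact hw (S.quad_of_pt h1)
    set p := L (0, 0, 1, 0) with hp
    set p' := L (0, 0, 0, 1) with hp'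
    have hadd : ∀ a b, L (a + b) = L a + L b := fun a b => S.jj_inj (by
      rw [← hL, S.jj_add, S.jj_add, ← conj_mul, hL, hL])
    have h110 : L (1, 1, 0, 0) = sigL p' := by
      rw [hp', hcomm, sig_facts.2.2.2.2.1]
    have hneg : ∀ a, L (-a) = -L a := fun a => S.jj_inj (by
      rw [← hL, S.jj_neg, S.jj_neg, ← hL]; group)
    have hz : L (1, 0, 0, 0) = -(vV + sigL p') := by
      rw [← h110, ← hv, ← hadd, ← hneg]; congr 1
    have hy : L (0, 1, 0, 0) = -(sigL p' - vV) := by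
      rw [← h110, ← hv, sub_eq_add_neg, ← hneg vV, ← hadd, ← hneg]; congr 1
    have hlin : S.Lin c (vsL p p') := by
      refine S.lin_of_basis (a := -(vV + sigL p')) (b := -(sigL p' - vV)) (c := p) (d := p')
        ?_ ?_ ?_ ?_ (fun w => rfl)
      · rw [← hz, ← hL, S.jj_z]
      · rw [← hy, ← hL, S.jj_y]
      · rw [hp, ← hL, S.jj_X]
      · rw [hp', ← hL, S.jj_X']
    exact ⟨p, p', hlin, vsL_cases p (by rw [hp, hcomm, sig_facts.2.1]) (hns _ (by decide)) p'
      (hns _ (by decide)) fun w hw => by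
        rw [← show L w = vsL p p' w from S.jj_inj (by rw [← hL, hlin])]
        exact hq w hw⟩
  -- the two generators of the automiser
  have hlt : S.Lin t negL := T.conj_jj
  have htC : t ∈ C := hCmem.2 ⟨by
    have := hlt vV
    rw [sig_facts.2.2.2.2.2.2.1, mul_inv_eq_iff_eq_mul] at this
    exact this, hσt.symm⟩
  obtain ⟨h₀, hh₀⟩ := S.exists_word hs [.ex, .w (0, 1), .u (0, 2), .w (1, 0), .u (2, 0)]
  have hlh₀ : S.Lin h₀ negU := fun w => (hh₀ w).trans (by rw [negU_word])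
  have hj : h₀ * σ * h₀⁻¹ * σ ∈ S.J := by
    refine S.mem_J_of_id hb fun w => ?_
    have e := hl (negU (sigL w))
    have hinv : h₀⁻¹ * S.jj (sigL w) * h₀ = S.jj (negU (sigL w)) := by
      have h := hlh₀ (negU (sigL w))
      have hnn : ∀ w : J4, negU (negU w) = w := by decide +kernel
      rw [hnn] at h
      rw [← h]; group
    rw [show h₀ * σ * h₀⁻¹ * σ * S.jj w * (h₀ * σ * h₀⁻¹ * σ)⁻¹ =
      h₀ * (σ * (h₀⁻¹ * (σ * S.jj w * σ⁻¹) * h₀) * σ⁻¹) * h₀⁻¹ by group, hl, hinv, e, hlh₀]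
    have h5 : ∀ w : J4, negU (sigL (negU (sigL w))) = w := by decide +kernel
    rw [h5]
  set j := h₀ * σ * h₀⁻¹ * σ with hjdef
  set b := j * h₀ with hbdef
  have hlb : S.Lin b negU := fun w => by
    rw [hbdef, show j * h₀ * S.jj w * (j * h₀)⁻¹ = j * (h₀ * S.jj w * h₀⁻¹) * j⁻¹ by group, hlh₀]
    obtain ⟨u, hu⟩ := S.mem_J.1 hj
    rw [← hu, (S.commute_jj u _).eq, mul_inv_cancel_right]
  have hbC : b ∈ C := by
    refine hCmem.2 ⟨?_, ?_⟩
    · have := hlb vV
      rw [sig_facts.2.2.2.2.2.2.2, mul_inv_eq_iff_eq_mul] at this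
      exact this
    · have hjσ : j * σ = h₀ * σ * h₀⁻¹ := by rw [hjdef, mul_assoc _ σ σ, h2, mul_one]
      have hjj : j * σ * (j * σ) = 1 := by
        rw [hjσ, show h₀ * σ * h₀⁻¹ * (h₀ * σ * h₀⁻¹) = h₀ * (σ * σ) * h₀⁻¹ by group, h2]; group
      show b * σ = σ * b
      have e1 : b * σ * b⁻¹ = σ := by
        rw [hbdef, show j * h₀ * σ * (j * h₀)⁻¹ = j * (h₀ * σ * h₀⁻¹) * j⁻¹ by group, ← hjσ]
        have e2 : σ * j⁻¹ = j * σ := by
          rw [eq_comm, eq_mul_inv_iff_mul_eq]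
          calc j * σ * j = j * σ * (j * σ) * σ⁻¹ := by group
            _ = σ := by rw [hjj, one_mul, hσi]
        calc j * (j * σ) * j⁻¹ = j * j * (σ * j⁻¹) := by group
          _ = j ^ 3 * σ := by rw [e2, pow_three]; group
          _ = σ := by rw [S.cube_mem hj, one_mul]
      exact mul_inv_eq_iff_eq_mul.1 e1
  have hnotTM : ∀ d : G, ∀ L : J4 → J4, S.Lin d L → (∀ s : Bool, ∃ w, L w ≠ sigPow s w) →
      ¬ ∃ t' ∈ Tg, ∃ m ∈ M, d = t' * m := by
    rintro d L hd hL ⟨t', ht', m, ⟨i, hm⟩, rfl⟩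
    obtain ⟨a, b, rfl⟩ := S.mem_sub2.1 ht'
    rcases hm with rfl | rfl
    · obtain ⟨w, hw⟩ := hL false
      refine hw (S.jj_inj ?_)
      rw [← hd, ← S.jj_add, (S.commute_jj _ w).eq, mul_inv_cancel_right]; rfl
    · obtain ⟨w, hw⟩ := hL true
      refine hw (S.jj_inj ?_)
      rw [← hd, ← mul_assoc, ← S.jj_add,
        show ∀ u : G, u * σ * S.jj w * (u * σ)⁻¹ = u * (σ * S.jj w * σ⁻¹) * u⁻¹ from fun u => by group,
        hl, (S.commute_jj _ (sigL w)).eq, mul_inv_cancel_right]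
      rfl
  have hmain := nine_bound C M Tg hMC hTC
    (fun c hc m hm => by rw [(hMcomm c hc m hm).eq, mul_inv_cancel_right]; exact hm)
    (fun t' ht' m hm => hMcomm t' (hTC ht') m hm)
    (fun t' ht' htm => by
      obtain ⟨a, b, rfl⟩ := S.mem_sub2.1 ht'
      obtain ⟨i, h | h⟩ := htm
      · obtain ⟨rfl, rfl⟩ := tri_inj a b i (S.jj_inj h)
        simp [S.jj_zero]
      · exact absurd (show σ ∈ S.J by
          rw [show σ = (S.jj (i • vV))⁻¹ * S.jj (a • ((0, 0, 1, 0) : J4) + b • uV) by rw [h]; group]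
          exact mul_mem (inv_mem (S.jj_mem _)) (S.jj_mem _)) hσJ)
    (fun t' ht' => S.cube_mem (S.sub2_le_J _ _ ht'))
    (fun x hx y hy => by
      obtain ⟨a1, a2, rfl⟩ := S.mem_sub2.1 hx
      obtain ⟨b1, b2, rfl⟩ := S.mem_sub2.1 hy
      exact S.commute_jj _ _)
    (S.card_sub2 _ _ (by decide +kernel))
    ?syl ?cent t b htC hbC (hnorm' t htC (hlt.mem_normalizer S)) (hnorm' b hbC (hlb.mem_normalizer S))
    (hnotTM t negL hlt fun s => (neg_not_sig s).1) (hnotTM b negU hlb fun s => (neg_not_sig s).2.1)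
    ?nab ?four ?loc
  · intro c hc
    exact hnorm c (hmain c hc)
  case syl =>
    rintro c hc hn ⟨k, i, hk⟩
    obtain ⟨p, p', hlc, hp, hp'⟩ := hclin c hc (hnorm c hn)
    have hinv := vsL_sq p p' hp hp'
    rcases hk with hk | hk
    · refine hinTM c hc false (fun w => ?_)
      refine S.cube_pow hlc hinv (k := k) (fun v => ?_) w
      rw [hk, (S.commute_jj _ v).eq, mul_inv_cancel_right]
    · refine hinTM c hc true (fun w => ?_)
      obtain ⟨m, hm⟩ : Odd (3 ^ k) := (by decide : Odd 3).pow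
      have h2' : ∀ (n : ℕ) (u : J4), c ^ (2 * n) * S.jj u * (c ^ (2 * n))⁻¹ = S.jj u := by
        intro n
        induction n with
        | zero => intro u; simp
        | succ n ih =>
          intro u
          rw [show c ^ (2 * (n + 1)) * S.jj u * (c ^ (2 * (n + 1)))⁻¹ =
            c ^ (2 * n) * (c * c * S.jj u * (c * c)⁻¹) * (c ^ (2 * n))⁻¹ by
            rw [mul_add, pow_add, mul_one, pow_two]; group, hlc.mul S hlc]
          simp only [hinv, ih]
      have e : c ^ 3 ^ k * S.jj w * (c ^ 3 ^ k)⁻¹ = S.jj (sigL w) := by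
        rw [hk, show ∀ u : G, u * σ * S.jj w * (u * σ)⁻¹ = u * (σ * S.jj w * σ⁻¹) * u⁻¹ from
          fun u => by group, hl, (S.commute_jj _ (sigL w)).eq, mul_inv_cancel_right]
      rw [hm, pow_succ', show c * c ^ (2 * m) * S.jj w * (c * c ^ (2 * m))⁻¹ =
        c * (c ^ (2 * m) * S.jj w * (c ^ (2 * m))⁻¹) * c⁻¹ by group, h2'] at e
      exact e
  case cent =>
    intro c hc h
    have hfix : ∀ d : K, quad ((1 : K) • ((0, 0, 1, 0) : J4) + d • uV) = 0 →
        c * S.jj ((1 : K) • ((0, 0, 1, 0) : J4) + d • uV) * c⁻¹ =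
          S.jj ((1 : K) • ((0, 0, 1, 0) : J4) + d • uV) := by
      intro d hd
      have hmemT : S.jj ((1 : K) • ((0, 0, 1, 0) : J4) + d • uV) ∈ Tg := S.mem_sub2.2 ⟨1, d, rfl⟩
      obtain ⟨m, ⟨i, hm⟩, e⟩ := h _ hmemT
      rcases hm with hm | hm
      · rw [hm, ← S.jj_add] at e
        have hpt : S.IsPt (S.jj ((1 : K) • ((0, 0, 1, 0) : J4) + d • uV)) :=
          (S.isPt_jj _).2 ⟨fun h0 => by
            have := congrArg (fun w : J4 => w.2.2.1) h0
            simp [uV] at this, hd⟩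
        have hi := coset_zero d i hd (S.quad_of_pt (e ▸ hpt.conj c))
        rw [e, hi, zero_smul, add_zero]
      · exfalso
        have h3 := S.cube_of_mem_conj (S.sub2_le_J _ _ hmemT) c
        rw [e, hm, ← mul_assoc, ← S.jj_add] at h3
        have hcs : Commute σ (S.jj ((1 : K) • ((0, 0, 1, 0) : J4) + d • uV + i • vV)) :=
          hfixσ _ (sig_fixed 1 d i)
        rw [hcs.symm.mul_pow, S.jj_cube, one_mul, pow_three, h2, mul_one] at h3
        exact hne h3
    have e1 := hfix 1 (by decide +kernel)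
    have e2 := hfix (-1) (by decide +kernel)
    rw [← diag_vecs.1] at e1
    rw [← diag_vecs.2] at e2
    have hn : c ∈ Subgroup.normalizer (S.J : Set G) := S.mem_normalizer_of_pts hdpt.1 hdpt.2 (by decide +kernel)
      (by rw [e1]; exact S.jj_mem _) (by rw [e2]; exact S.jj_mem _)
    obtain ⟨p, p', hlc, hp, hp'⟩ := hclin c hc hn
    have f1 : vsL p p' (1, 1, 1, 1) = (1, 1, 1, 1) := S.jj_inj (by rw [← hlc, e1])
    have f2 : vsL p p' (-1, -1, 1, -1) = (-1, -1, 1, -1) := S.jj_inj (by rw [← hlc, e2])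
    have hspan : ∀ p p' : J4, (p = (0, 0, 1, 0) ∨ p = -(0, 0, 1, 0)) →
        (p' = (0, 0, 0, 1) ∨ p' = -(0, 0, 0, 1) ∨ p' = (1, 1, 0, 0) ∨ p' = -(1, 1, 0, 0)) →
        vsL p p' (1, 1, 1, 1) = (1, 1, 1, 1) → vsL p p' (-1, -1, 1, -1) = (-1, -1, 1, -1) →
        vsL p p' (0, 0, 1, 0) = (0, 0, 1, 0) ∧ vsL p p' uV = uV := by decide +kernel
    obtain ⟨g1, g2⟩ := hspan p p' hp hp' f1 f2
    obtain ⟨s, hsig⟩ := vs_cent p p' hp hp' g1 g2
    exact hinTM c hc s fun w => by rw [hlc, hsig]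
  case nab =>
    refine hnotTM (t⁻¹ * b) (fun w => negL (negU w)) (fun w => ?_) fun s => ?_
    · rw [T.inv_eq, (hlt.mul S hlb) w]
    · have : ∀ s : Bool, ∃ w : J4, negL (negU w) ≠ sigPow s w := by decide +kernel
      exact this s
  case four =>
    intro c hc hn
    obtain ⟨p, p', hlc, hp, hp'⟩ := hclin c hc (hnorm c hn)
    refine ⟨hinTM _ (mul_mem hc hc) false fun w => ?_, ?_⟩
    · rw [(hlc.mul S hlc) w]
      simp only [vsL_sq p p' hp hp']; rfl
    obtain ⟨s, hcases⟩ := vs_four p p' hp hp'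
    have hback : ∀ (d : G) (L : J4 → J4), S.Lin d L → (∀ w, L (L w) = w) → ∀ w, d⁻¹ * S.jj w * d = S.jj (L w) :=
      fun d L hd hinv w => by
      have h := hd (L w)
      rw [hinv] at h
      rw [← h]; group
    have hnegL : ∀ w : J4, negL (negL w) = w := by decide +kernel
    have hnegU : ∀ w : J4, negU (negU w) = w := by decide +kernel
    rcases hcases with h | h | h | h
    · exact Or.inl (hinTM c hc s fun w => by rw [hlc, h])
    · refine Or.inr (Or.inl (hinTM _ (mul_mem (inv_mem htC) hc) s fun w => ?_))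
      rw [show t⁻¹ * c * S.jj w * (t⁻¹ * c)⁻¹ = t⁻¹ * (c * S.jj w * c⁻¹) * t by group, hlc, h,
        hback t negL hlt hnegL, hnegL]
    · refine Or.inr (Or.inr (Or.inl (hinTM _ (mul_mem (inv_mem hbC) hc) s fun w => ?_)))
      rw [show b⁻¹ * c * S.jj w * (b⁻¹ * c)⁻¹ = b⁻¹ * (c * S.jj w * c⁻¹) * b by group, hlc, h,
        hback b negU hlb hnegU, hnegU]
    · refine Or.inr (Or.inr (Or.inr (hinTM _ (mul_mem (inv_mem hbC) (mul_mem (inv_mem htC) hc)) s fun w => ?_)))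
      rw [show b⁻¹ * (t⁻¹ * c) * S.jj w * (b⁻¹ * (t⁻¹ * c))⁻¹ =
        b⁻¹ * (t⁻¹ * (c * S.jj w * c⁻¹) * t) * b by group, hlc, h,
        hback t negL hlt hnegL, hnegL, hback b negU hlb hnegU, hnegU]
  case loc =>
    intro x hx hxne c hc h
    refine hnorm' c hc ?_
    obtain ⟨m, hm, e⟩ := h
    obtain ⟨a, d, hxe⟩ := S.mem_sub2.1 hx
    obtain ⟨i, e'⟩ : ∃ i : K, c * x * c⁻¹ = S.jj (a • ((0, 0, 1, 0) : J4) + d • uV + i • vV) := by
      obtain ⟨i, hm | hm⟩ := hm
      · exact ⟨i, by rw [e, hm, ← hxe, ← S.jj_add]⟩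
      · exfalso
        have h3 := S.cube_of_mem_conj (S.sub2_le_J _ _ hx) c
        rw [e, hm, ← hxe, ← mul_assoc, ← S.jj_add] at h3
        have hcs : Commute σ (S.jj (a • ((0, 0, 1, 0) : J4) + d • uV + i • vV)) :=
          hfixσ _ (sig_fixed a d i)
        rw [hcs.symm.mul_pow, S.jj_cube, one_mul, pow_three, h2, mul_one] at h3
        exact hne h3
    rw [← hxe] at e'
    obtain ⟨hcv, -⟩ := hCmem.1 hc
    have hne2 : a ≠ 0 ∨ d ≠ 0 := by
      by_contra h0
      rw [not_or, not_not, not_not] at h0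
      exact hxne (by rw [← hxe]; simp [h0.1, h0.2, S.jj_zero])
    by_cases hq : quad (a • ((0, 0, 1, 0) : J4) + d • uV) = 0
    · -- a point orthogonal to `v`
      have hpt : S.IsPt (S.jj (a • ((0, 0, 1, 0) : J4) + d • uV)) := by
        refine (S.isPt_jj _).2 ⟨fun h0 => ?_, hq⟩
        obtain ⟨h1, h2''⟩ := tri_inj a d 0 (by rw [h0]; simp)
        exact hne2.elim (fun h => h h1) fun h => h h2''
      have hi : i = 0 := coset_pt a d i hq hne2 (S.quad_of_pt (e' ▸ hpt.conj c))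
      subst hi
      rw [zero_smul, add_zero] at e'
      have hcomm : Commute c (S.jj (a • ((0, 0, 1, 0) : J4) + d • uV)) := mul_inv_eq_iff_eq_mul.1 e'
      rcases pt_cases a d hq with ⟨rfl, rfl⟩ | ⟨s, hs0, hp⟩
      · exact absurd rfl (hne2.elim id id)
      have hval : ∀ P : J4, a • ((0, 0, 1, 0) : J4) + d • uV = s • P → Commute c (S.jj P) := by
        intro P hP
        have h := hcomm.pow_right s.val
        rw [hP, S.jj_pow, smul_smul] at h
        have hss : ∀ s : K, s ≠ 0 → s * s = 1 := by decide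
        rwa [hss s hs0, one_smul] at h
      obtain ⟨w1, w2, w3, w4⟩ := pt_words
      have hmove : ∀ (P : J4) (w : List Gen) (u : J4), Commute c (S.jj P) → wordL w P = (1, 0, 0, 0) →
          wordL w vV = u → u.2.1 = 0 → u.2.2.1 ≠ 0 → u.2.2.2 ≠ 0 → c ∈ Subgroup.normalizer (S.J : Set G) := by
        intro P w u hP hz hu hb0 he hf
        obtain ⟨g, hg⟩ := S.exists_word hs w
        have hgn := hg.mem_normalizer S
        have hconj : ∀ P' : J4, Commute c (S.jj P') → Commute (g * c * g⁻¹) (S.jj (wordL w P')) := fun P' h' => by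
          rw [← hg]; exact (Commute.conj_iff g).2 h'
        have h1 := hconj P hP
        rw [hz, S.jj_z] at h1
        have h3 := hconj vV hcv
        rw [hu] at h3
        obtain ⟨ua, ub, ue, uf⟩ := u
        simp only at hb0 he hf
        subst hb0
        have h4 := S.mem_normalizer_of_z_u h1 he hf h3
        have := mul_mem (mul_mem (inv_mem hgn) h4) hgn
        rwa [show g⁻¹ * (g * c * g⁻¹) * g = c by group] at this
      rcases hp with hp | hp
      · exact hmove _ _ _ (hval _ hp) w1 w2 rfl (by decide) (by decide)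
      · exact hmove _ _ _ (hval _ hp) w3 w4 rfl (by decide) (by decide)
    · rcases axis_cases a d hq with ⟨rfl, ha⟩ | ⟨rfl, hd⟩
      · rw [zero_smul, add_zero] at e'
        obtain ⟨q1, q2, n1, n2, hind⟩ := axis_pts a ha
        have hsh : ∀ k : K, c * S.jj (a • ((0, 0, 1, 0) : J4) + k • vV) * c⁻¹ =
            S.jj (a • ((0, 0, 1, 0) : J4) + (k + i) • vV) := by
          intro k
          have hck : Commute c (S.jj (k • vV)) := by rw [← S.jj_pow]; exact hcv.pow_right _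
          rw [S.jj_add, ← conj_mul, e', hck.eq, mul_inv_cancel_right, ← S.jj_add]
          congr 1
          rw [add_smul]; abel
        have hi := axis_shift a i ha (S.quad_of_pt (hsh 1 ▸ ((S.isPt_jj _).2 ⟨n1, q1⟩).conj c))
          (S.quad_of_pt (hsh (-1) ▸ ((S.isPt_jj _).2 ⟨n2, q2⟩).conj c))
        exact S.mem_normalizer_of_pts ((S.isPt_jj _).2 ⟨n1, q1⟩) ((S.isPt_jj _).2 ⟨n2, q2⟩) hind
          (by rw [hsh]; exact S.jj_mem _) (by rw [hsh]; exact S.jj_mem _)
      · -- the anti-axis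
        rw [zero_smul, zero_add] at e'
        obtain ⟨g, hg⟩ := S.exists_word hs [.u (0, 2), .w (2, 0), .u (1, 0)]
        have hax : S.Lin g axL := hg
        have hgn := hg.mem_normalizer S
        refine Subgroup.mem_normalizer_fintype fun j hj => ?_
        set y := c * j * c⁻¹ with hy
        -- `y` centralises `v` and `z y X'`
        have hyv : ∀ k l : K, Commute y (S.jj (k • vV + l • uV)) := by
          intro k l
          have himg : ∃ k' l' : K, c⁻¹ * S.jj (k • vV + l • uV) * c = S.jj (k' • vV + l' • uV) := by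
            refine ⟨k - l * d * i, l, ?_⟩
            have hck : ∀ k : K, Commute c (S.jj (k • vV)) := fun k => by
              rw [← S.jj_pow]; exact hcv.pow_right _
            have hdd : ∀ d : K, d ≠ 0 → d * d = 1 := by decide
            have hU : c * S.jj uV * c⁻¹ = S.jj (uV + (d * i) • vV) := by
              have h := congrArg (fun g : G => g ^ d.val) e'
              simp only [conj_pow, S.jj_pow, smul_add, smul_smul, hdd d hd, one_smul] at h
              exact h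
            have hUl : c * S.jj (l • uV) * c⁻¹ = S.jj (l • uV + (l * d * i) • vV) := by
              rw [← S.jj_pow, ← conj_pow, hU, S.jj_pow, smul_add, smul_smul, mul_assoc]
            have h1 : c * S.jj ((k - l * d * i) • vV + l • uV) * c⁻¹ = S.jj (k • vV + l • uV) := by
              rw [S.jj_add, ← conj_mul, (hck _).eq, mul_inv_cancel_right, hUl, ← S.jj_add]
              congr 1
              rw [sub_smul]; abel
            rw [← h1]; group
          obtain ⟨k', l', e3⟩ := himg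
          obtain ⟨u, rfl⟩ := S.mem_J.1 hj
          have := (Commute.conj_iff c).2 (S.commute_jj u (k' • vV + l' • uV))
          rwa [← e3, show c * (c⁻¹ * S.jj (k • vV + l • uV) * c) * c⁻¹ = S.jj (k • vV + l • uV) by group] at this
        set y' := g⁻¹ * y * g with hy'
        have hy'XX : ∀ e f : K, Commute y' (S.jj (0, 0, e, f)) := by
          intro e f
          obtain ⟨k, l, hkl⟩ := axL_facts.1 e f
          have h := (Commute.conj_iff g⁻¹).2 (hyv k l)
          rw [inv_inv, show S.jj (k • vV + l • uV) = g * S.jj (0, 0, e, f) * g⁻¹ by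
            rw [hax, hkl]; rfl, show g⁻¹ * (g * S.jj (0, 0, e, f) * g⁻¹) * g = S.jj (0, 0, e, f) by group] at h
          exact h
        have hX : Commute y' S.X := S.jj_X ▸ hy'XX 1 0
        have hX' : Commute y' S.X' := S.jj_X' ▸ hy'XX 0 1
        have hn := S.axis_W0 hb hs (Subgroup.mem_centralizer_iff.2 (by
          rintro x (rfl | rfl)
          exacts [hX.symm.eq, hX'.symm.eq]))
        obtain ⟨p, q, hlq, hcases⟩ := S.w0_lin hX hX' fun x hx => (Subgroup.mem_normalizer_iff.1 hn x).1 hx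
        have hinv : ∀ w, w0L p q (w0L p q w) = w := by
          rcases hcases with ⟨rfl, rfl⟩ | ⟨rfl, rfl⟩ | ⟨rfl, rfl⟩ | ⟨rfl, rfl⟩ <;> decide +kernel
        have hy3 : y' ^ 3 = 1 := by
          have e := conj_pow (i := 3) (a := g⁻¹) (b := y)
          rw [inv_inv] at e
          rw [hy', e, S.cube_of_mem_conj hj c]; group
        have hJ' : y' ∈ S.J := S.mem_J_of_id hb (S.cube_pow hlq hinv (k := 1) fun v => by
          rw [pow_one, hy3]; group)
        have := (Subgroup.mem_normalizer_iff.1 hgn y').1 hJ'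
        rwa [hy', show g * (g⁻¹ * y * g) * g⁻¹ = y by group] at this

/-- The involution with its centraliser bound. -/
theorem exists_sigma (hb : ¬ S.toCfg.Big) (hs : S.toCfg.Swap) {t : G} (T : S.TInv t) :
    ∃ σ : G, orderOf σ = 2 ∧ σ ∈ Subgroup.normalizer (S.J : Set G) ∧ Commute σ t ∧
      Commute σ (S.jj vV) ∧ σ * S.jj (1, 1, 0, 0) * σ⁻¹ = S.X' ∧ σ * S.X' * σ⁻¹ = S.jj (1, 1, 0, 0) ∧
      S.Lin σ sigL ∧ Subgroup.centralizer ({S.jj vV, σ} : Set G) ≤ Subgroup.normalizer (S.J : Set G) := by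
  obtain ⟨σ, h2, hne, hl, hσt⟩ := S.exists_sigmaInvol hb hs T
  refine ⟨σ, orderOf_eq_prime (by rw [pow_two, h2]) hne, hl.mem_normalizer S, hσt, ?_, ?_, ?_, hl,
    S.axis_sigma hb hs T h2 hne hl hσt⟩
  · have := hl vV
    rw [sig_facts.1, mul_inv_eq_iff_eq_mul] at this
    exact this
  · rw [hl, sig_facts.2.2.2.1, S.jj_X']
  · rw [← S.jj_X', hl, sig_facts.2.2.2.2.1]

end Std

end Cfsg.Agent.U62ThreeCent
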