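/-
The local analysis at `X'` when the Sylow three-subgroup of `C(z)/Q` is small and some element
exchanges the planes: `C(X')/⟨X'⟩` has a normal subgroup of index two with the configuration of
`PSp(4,3)`, which gives `Std.Core`.

* `Std.exists_inverter` : an element of `C(X')` inverting `z`;
* `Std.exists_core_of_parity` : the outcome, given the index two subgroup of the real case.
-/
import Cfsg.Agent.Lib.U62ThreeCent.LocalW
import Cfsg.Agent.Lib.U62ThreeCent.EGroup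
import Cfsg.Agent.Lib.PSpThreeReal.AxisCent
import Cfsg.Agent.Lib.PSpThreeReal.AutEnd

set_option autoImplicit false
set_option maxRecDepth 100000
set_option linter.unusedSectionVars false
set_option synthInstance.maxSize 8000
set_option synthInstance.maxHeartbeats 200000

namespace Cfsg.Agent.U62ThreeCent

open Cfsg.Agent.PSpThree
open ThreeCubedSymFour (V3)
open SymNineThree (el ones)

theorem quad_lift : ∀ (w : J4) (i : K), w.2.2.2 = 0 → quad (w + (0, 0, 0, i)) = 0 →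
    quad (w + (0, 0, 0, i + 1)) ≠ 0 → quad (w + (0, 0, 0, i + -1)) ≠ 0 → i = 0 := by decide +kernel

/-- The form of `J` on the coordinates of the model. -/
def q3 (v : Loc.V) : K := v.2.1 * v.2.1 - v.1 * v.2.2

theorem q3_quad : ∀ v : Loc.V, quad (-v.1, v.2.2, v.2.1, 0) = q3 v := by decide +kernel

theorem q3_point : ∀ v : Loc.V, v ≠ 0 → q3 v ≠ 1 →
    ∃ i : K, ((-v.1, v.2.2, v.2.1, i) : J4) ≠ 0 ∧ quad (-v.1, v.2.2, v.2.1, i) = 0 := by decide +kernel

theorem q3_triple : ∀ A : Loc.V, q3 A = 1 → ∀ B : Loc.V, B ≠ 0 → ∀ C : Loc.V, C ≠ 0 →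
    q3 (A + B + C) = 0 → q3 (A + B - C) = 0 → q3 (A - B + C) = 0 → q3 (A - B - C) = 0 → False := by
  decide +kernel

theorem rep_singular : ∀ i, (Loc.rep i).2.2 = 1 → q3 (Loc.rep i) = 0 → (Loc.rep i).1 = 0 := by
  decide +kernel

theorem weight_three : ∀ v : V3, v.1 ≠ 0 → v.2.1 ≠ 0 → v.2.2 ≠ 0 →
    ∃ m : SymNineThree.Mon, SymNineThree.act m ones = v := by decide +kernel

theorem basis_sums :
    ((1, 1, 1) : V3) = (1, 0, 0) + (0, 1, 0) + (0, 0, 1) ∧
    ((1, 1, -1) : V3) = (1, 0, 0) + (0, 1, 0) - (0, 0, 1) ∧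
    ((1, -1, 1) : V3) = (1, 0, 0) - (0, 1, 0) + (0, 0, 1) ∧
    ((1, -1, -1) : V3) = (1, 0, 0) - (0, 1, 0) - (0, 0, 1) := by decide +kernel

theorem kind_one_ones : ∀ m, SymNineThree.inKind 1 m = true →
    SymNineThree.act m ones = ones ∨ SymNineThree.act m ones = -ones := by decide +kernel

theorem negOne_tau : SymNineThree.negOne * SymNineThree.tau = SymNineThree.tau * SymNineThree.negOne := by
  decide +kernel

theorem involution_conj_tM : ∀ m : Loc.M, m * m = 1 → m ≠ 1 →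
    ∃ h : H3, SemidirectProduct.inl h * m * (SemidirectProduct.inl h)⁻¹ = Loc.tM := by decide +kernel

theorem inl_normal : ∀ (h : H3) (v : Loc.V),
    Loc.InJ ((SemidirectProduct.inl h : Loc.M) * Loc.emb v * (SemidirectProduct.inl h)⁻¹) := by
  decide +kernel

theorem quat_reach : ∀ u : V2, u ≠ 0 → ∃ b : SL23, b ^ 4 = 1 ∧ act2 b u = (1, 0) := by decide +kernel

theorem sl_five : ∀ a : SL23, a ^ 5 = 1 → a = 1 := by decide +kernel

theorem mon_five {m : Mon} (h : m ^ 5 = 1) : m = 1 := by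
  have hs : m.s = false := by
    have := congrArg Mon.s h
    rw [Mon.pow_s] at this
    simpa [Mon.one_def] using this
  rw [Mon.pow_false hs, Mon.one_def, Mon.mk.injEq] at h
  exact Mon.ext (sl_five _ h.1) (sl_five _ h.2.1) hs

section Real

variable {G : Type*} [Group G]

/-- Two copies of the model at the same element: the two copies of `J` are conjugate in the first. -/
theorem exists_conj_J (P P' : PSpThreeReal.Pre G) (h : P'.z = P.z) :
    ∃ m : Loc.M, ∀ x, x ∈ P.J ↔ (P.θ m)⁻¹ * x * P.θ m ∈ P'.J := by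
  have hle : P'.J ≤ P.θ.range := fun x hx => by
    obtain ⟨v, rfl⟩ := P'.mem_J.1 hx
    have hc := P'.commute_z (Loc.emb v)
    rw [h] at hc
    exact P.range _ hc
  obtain ⟨m, hm⟩ := Loc.exists_conj_J0 (P'.J.comap P.θ)
    (fun x hx y hy => P.inj (by
      rw [map_mul, map_mul]
      exact congrArg Subtype.val (P'.J_comm.is_comm.comm ⟨P.θ x, hx⟩ ⟨P.θ y, hy⟩)))
    (fun x hx => P.inj (by rw [map_pow, map_one]; exact P'.J_cube hx))
    (by rw [← Subgroup.card_map_of_injective P.inj, Subgroup.map_comap_eq_self hle, P'.card_J])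
  refine ⟨m, fun x => ⟨fun hx => ?_, fun hx => ?_⟩⟩
  · obtain ⟨v, rfl⟩ := P.mem_J.1 hx
    have h1 : P.θ (m⁻¹ * Loc.emb v * m) ∈ P'.J := (hm _).1 ⟨Multiplicative.ofAdd v, rfl⟩
    rwa [map_mul, map_mul, map_inv] at h1
  · obtain ⟨n, hn⟩ := hle hx
    obtain ⟨w, hw⟩ := (hm (m * n * m⁻¹)).2 (by
      rw [show m⁻¹ * (m * n * m⁻¹) * m = n by group]
      show P.θ n ∈ P'.J
      rw [hn]; exact hx)
    refine P.mem_J.2 ⟨w.toAdd, ?_⟩
    show P.θ (Loc.embHom w) = x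
    rw [hw, map_mul, map_mul, map_inv, hn]
    group

/-- In the kind one the normaliser of `J` fixes the line of the distinguished element. -/
theorem conj_z_of_kind_one {W : Subgroup SymNineThree.Mon} {j : Multiplicative V3 →* G} {s : W →* G}
    {P : PSpThreeReal.Pre G} (E : PSpThreeReal.Real W j s 1 P) {g : G}
    (hg : g ∈ Subgroup.normalizer (P.J : Set G)) : g * P.z * g⁻¹ = P.z ∨ g * P.z * g⁻¹ = P.z⁻¹ := by
  rw [E.range_eq] at hg
  obtain ⟨v, m, hm, rfl⟩ := E.exists_normal_form hg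
  rw [E.z_eq, E.el_conj hm, E.el_inv (one_mem W), inv_one, SymNineThree.act_one]
  rcases kind_one_ones m ((E.kind m).1 hm) with e | e <;> rw [e]
  · exact Or.inl rfl
  · exact Or.inr rfl

end Real

namespace Std

variable {G : Type*} [Group G] [Finite G] (S : Std G)

/-- With an exchange of the planes some element centralising `X'` inverts `z`. -/
theorem exists_inverter (hs : S.toCfg.Swap) : ∃ g : G, Commute g S.X' ∧ g * S.z * g⁻¹ = S.z⁻¹ := by
  obtain ⟨g, hg, m, hm, hmv⟩ := S.exists_exchange S.exists_swap_zy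
  obtain ⟨h, hh, hhs⟩ := hs
  have hg1 : h * g * S.z * (h * g)⁻¹ = S.z⁻¹ := by
    rw [show h * g * S.z * (h * g)⁻¹ = h * (g * S.z * g⁻¹) * h⁻¹ by group, hg, hh.inv_right.eq,
      mul_inv_cancel_right]
  set n := S.φ h * m with hn
  have hns : n.s = false := by simp [hn, Mon.mul_def, hhs, hm]
  have hv : S.vec (h * g * S.X' * (h * g)⁻¹) = (0, act2 n.b (1, 0)) := by
    rw [show h * g * S.X' * (h * g)⁻¹ = h * (g * S.X' * g⁻¹) * h⁻¹ by group,
      S.vec_conj h hh _ (S.inv_Q hg S.X'_mem), hmv _ S.X'_mem, ← Mon.act_mul, ← hn, S.vec_X',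
      Mon.act_false hns]
    simp [refl, refl2, act2]
  obtain ⟨b, hb, hbu⟩ := quat_reach _ (act2_ne_zero n.b)
  obtain ⟨d, hd, hφ⟩ := S.quat 1 b (one_pow _) hb
  set g2 := d * (h * g) with hg2def
  have hg2 : g2 * S.z * g2⁻¹ = S.z⁻¹ := by
    rw [show g2 * S.z * g2⁻¹ = d * (h * g * S.z * (h * g)⁻¹) * d⁻¹ by rw [hg2def]; group, hg1,
      hd.inv_right.eq, mul_inv_cancel_right]
  have hmem := S.inv_Q hg2 S.X'_mem
  have hv2 : S.vec (g2 * S.X' * g2⁻¹) = S.vec S.X' := by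
    rw [show g2 * S.X' * g2⁻¹ = d * (h * g * S.X' * (h * g)⁻¹) * d⁻¹ by rw [hg2def]; group,
      S.vec_conj d hd _ (S.inv_Q hg1 S.X'_mem), hv, hφ, Mon.act_false rfl, S.vec_X']
    simp only [hbu, act2_one]
  obtain ⟨k, hk⟩ := Cfg.exists_pow_val ((S.vec_eq S.X'_mem hmem).1 hv2.symm)
  have hk' : g2 * S.X' * g2⁻¹ = S.X' * S.z ^ k.val := by rw [← hk]; group
  obtain ⟨q, hq, hqv⟩ := S.vec_surj (0, (0, k))
  have hqc : q * S.X' * q⁻¹ = S.z ^ (-k).val * S.X' := by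
    have e := S.comm q hq _ S.X'_mem
    rw [hqv, S.vec_X', show om ((0, (0, k)) : V) (0, (1, 0)) = -k by simp [om, det2]] at e
    exact mul_inv_eq_iff_eq_mul.1 e
  have hqz := S.Q_le q hq
  refine ⟨q * g2, ?_, ?_⟩
  · refine mul_inv_eq_iff_eq_mul.1 ?_
    calc q * g2 * S.X' * (q * g2)⁻¹ = q * (g2 * S.X' * g2⁻¹) * q⁻¹ := by group
      _ = q * S.X' * q⁻¹ * (q * S.z ^ k.val * q⁻¹) := by rw [hk']; group
      _ = S.X' := by
        rw [(hqz.pow_right _).eq, mul_inv_cancel_right, hqc, mul_assoc, ← (S.z_X'.pow_left k.val).eq,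
          ← mul_assoc, Cfg.z_pow_add', neg_add_cancel, ZMod.val_zero, pow_zero, one_mul]
  · rw [show q * g2 * S.z * (q * g2)⁻¹ = q * (g2 * S.z * g2⁻¹) * q⁻¹ by group, hg2, hqz.inv_right.eq,
      mul_inv_cancel_right]

variable {t : G} {T : S.TInv t}

/-- A conjugate of the image of `z⁻¹` in the image of `J` is singular and lifts to the point. -/
theorem conj_point (M : S.WModel T) {g : S.Wc} {v : Loc.V}
    (h : S.pw g * S.thetaW M (Loc.emb (1, 0, 0)) * (S.pw g)⁻¹ = S.thetaW M (Loc.emb v)) :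
    q3 v = 0 ∧ (g : G) * S.z⁻¹ * (g : G)⁻¹ = S.jj (-v.1, v.2.2, v.2.1, 0) := by
  rw [S.thetaW_emb, S.thetaW_emb, ← map_inv, ← map_mul, ← map_mul] at h
  obtain ⟨i, hi⟩ := S.pw_eq h.symm
  set w : J4 := (-v.1, v.2.2, v.2.1, 0) with hw
  have hi' : (g : G) * S.jj (-1, 0, 0, 0) * (g : G)⁻¹ = S.jj (w + (0, 0, 0, i)) :=
    hi.trans (S.jj_shift _ _)
  have hl : ∀ l : K, (g : G) * S.jj (-1, 0, 0, l) * (g : G)⁻¹ = S.jj (w + (0, 0, 0, i + l)) := by
    intro l
    have hgl : Commute (g : G) (S.jj (0, 0, 0, l)) := by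
      simpa [jj] using (S.commute_Wc g).pow_right l.val
    rw [show ((-1 : K), (0 : K), (0 : K), l) = ((-1, 0, 0, 0) : J4) + (0, 0, 0, l) by simp, S.jj_add,
      show w + ((0, 0, 0, i + l) : J4) = w + (0, 0, 0, i) + (0, 0, 0, l) by rw [add_assoc]; simp,
      S.jj_add (w + (0, 0, 0, i)), ← hi', mul_assoc, mul_assoc (S.jj (-1, 0, 0, 0)), ← hgl.inv_left.eq]
    group
  have hpt : S.IsPt (S.jj (w + (0, 0, 0, i))) := by
    rw [← hi']
    exact Cfg.IsPt.conj ((S.isPt_jj _).2 ⟨by decide, move_facts.2.2.2.1⟩) _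
  have hnp : ∀ l : K, l ≠ 0 → quad (w + (0, 0, 0, i + l)) ≠ 0 := by
    intro l hl0 hq
    have hne : w + ((0, 0, 0, i + l) : J4) ≠ 0 := fun e0 => by
      have := hl l
      rw [e0, S.jj_zero, conj_eq_one_iff, S.jj_eq_one] at this
      simp [Prod.ext_iff] at this
    have hp := Cfg.IsPt.conj ((S.isPt_jj _).2 ⟨hne, hq⟩) (g : G)⁻¹
    rw [← hl l] at hp
    have hp' : S.IsPt (S.jj (-1, 0, 0, l)) := by simpa [mul_assoc] using hp
    exact (by decide : ∀ l : K, l ≠ 0 → quad (-1, 0, 0, l) ≠ 0) l hl0 (S.quad_of_pt hp')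
  have hi0 : i = 0 := quad_lift w i rfl (S.quad_of_pt hpt) (hnp 1 (by decide)) (hnp (-1) (by decide))
  subst hi0
  have hw0 : w + ((0, 0, 0, 0) : J4) = w := by simp
  rw [hw0] at hpt hi'
  refine ⟨?_, ?_⟩
  · rw [← q3_quad]; exact S.quad_of_pt hpt
  · rw [← S.z_inv_jj]; exact hi'

/-- An element of order five modulo `⟨X'⟩` commutes with no point. -/
theorem five_point {x : S.Xb} (h5 : x ^ 5 = 1) {p : G} (hp : S.IsPt p) (hW : p ∈ S.Wc)
    (hc : Commute x (S.pw ⟨p, hW⟩)) : x = 1 := by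
  obtain ⟨g, rfl⟩ := S.pw_surjective x
  obtain ⟨i5, hi5⟩ := mem_powers_iff_mem_zpowers.2
    (Subgroup.mem_subgroupOf.1 ((QuotientGroup.eq_one_iff (N := S.Nz) (g ^ 5)).1
      (show S.pw (g ^ 5) = 1 by rw [map_pow, h5])))
  set g1 := g ^ 3 with hg1
  have hg15 : (g1 : G) ^ 5 = 1 := by
    have e : S.X' ^ i5 = (g : G) ^ 5 := hi5
    rw [hg1, SubgroupClass.coe_pow, ← pow_mul, show 3 * 5 = 5 * 3 from rfl, pow_mul, ← e, ← pow_mul,
      mul_comm, pow_mul, S.cube _ S.X'_mem, one_pow]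
  have hc1 : Commute (S.pw g1) (S.pw ⟨p, hW⟩) := by rw [hg1, map_pow]; exact hc.pow_left 3
  obtain ⟨i, hi⟩ := S.pw_eq (a := (⟨p, hW⟩ : S.Wc)) (b := g1 * ⟨p, hW⟩ * g1⁻¹) (by
    rw [map_mul, map_mul, map_inv, hc1.eq, mul_inv_cancel_right])
  have hi' : (g1 : G) * p * (g1 : G)⁻¹ = p * S.X' ^ i.val := hi
  have step : ∀ n : ℕ, (g1 : G) ^ n * p * ((g1 : G) ^ n)⁻¹ = p * (S.X' ^ i.val) ^ n := by
    intro n
    induction n with
    | zero => simp
    | succ n ih =>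
      calc (g1 : G) ^ (n + 1) * p * ((g1 : G) ^ (n + 1))⁻¹
          = (g1 : G) * ((g1 : G) ^ n * p * ((g1 : G) ^ n)⁻¹) * (g1 : G)⁻¹ := by rw [pow_succ']; group
        _ = (g1 : G) * p * (g1 : G)⁻¹ * ((g1 : G) * (S.X' ^ i.val) ^ n * (g1 : G)⁻¹) := by rw [ih]; group
        _ = _ := by
          rw [hi', (((S.commute_Wc g1).pow_right _).pow_right n).eq, mul_inv_cancel_right, mul_assoc,
            ← pow_succ']
  have h0 : S.X' ^ i.val = 1 := by
    have e := step 5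
    rw [hg15] at e
    have e' : (S.X' ^ i.val) ^ 5 = 1 := by simpa using e
    have e3 : (S.X' ^ i.val) ^ 3 = 1 := S.cube _ (pow_mem S.X'_mem _)
    calc S.X' ^ i.val = ((S.X' ^ i.val) ^ 3) ^ 2 * ((S.X' ^ i.val) ^ 5)⁻¹ := by group
      _ = 1 := by rw [e3, e']; simp
  have hcp : Commute (g1 : G) p := by
    rw [h0, mul_one] at hi'; exact mul_inv_eq_iff_eq_mul.1 hi'
  obtain ⟨h, hh⟩ : ∃ h : G, Commute (g1 : G) (h * S.z * h⁻¹) := by
    obtain ⟨h, e | e⟩ := hp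
    · exact ⟨h, e ▸ hcp⟩
    · exact ⟨h, Commute.inv_right_iff.1 (e ▸ hcp)⟩
  set k := h⁻¹ * (g1 : G) * h with hk
  have hkz : Commute k S.z := by
    have := hh.map (MulAut.conj h⁻¹).toMonoidHom
    simpa [hk, mul_assoc] using this
  have hk5 : k ^ 5 = 1 := by
    rw [hk, show h⁻¹ * (g1 : G) * h = h⁻¹ * (g1 : G) * h⁻¹⁻¹ by rw [inv_inv], conj_pow, hg15]
    group
  have hkQ : k ∈ S.Q := (S.φ_ker k hkz).1 (mon_five (by rw [← Cfg.φ_pow' _ hkz, hk5, S.φ_one]))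
  have hk1 : k = 1 := by
    calc k = (k ^ 3) ^ 2 * (k ^ 5)⁻¹ := by group
      _ = 1 := by rw [S.cube k hkQ, hk5]; simp
  have hg1' : g1 = 1 := Subtype.ext (by
    show (g1 : G) = 1
    calc (g1 : G) = h * k * h⁻¹ := by rw [hk]; group
      _ = 1 := by rw [hk1]; group)
  have h3 : S.pw g ^ 3 = 1 := by rw [← map_pow, ← hg1, hg1', map_one]
  calc S.pw g = (S.pw g ^ 3) ^ 2 * (S.pw g ^ 5)⁻¹ := by group
    _ = 1 := by rw [h3, h5]; simp

/-- An element whose image commutes with that of `t` does so. -/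
theorem commute_t_of_pw (M : S.WModel T) {g : S.Wc} (hg : Commute (S.pw g) (S.thetaW M Loc.tM)) :
    Commute (g : G) t := by
  let tW : S.Wc := ⟨t, S.mem_Wc.2 T.comm_X'⟩
  rw [show S.thetaW M Loc.tM = S.pw tW from congrArg S.pw (Subtype.ext M.tM_eq)] at hg
  obtain ⟨i, hi⟩ := S.pw_eq (a := tW) (b := g * tW * g⁻¹) (by
    rw [map_mul, map_mul, map_inv, hg.eq, mul_inv_cancel_right])
  have hi' : (g : G) * t * (g : G)⁻¹ = t * S.X' ^ i.val := hi
  have h2 : (S.X' ^ i.val) * (S.X' ^ i.val) = 1 := by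
    have h := congrArg (fun x => x * x) hi'
    rw [show (g : G) * t * (g : G)⁻¹ * ((g : G) * t * (g : G)⁻¹) = (g : G) * (t * t) * (g : G)⁻¹ by group,
      T.sq, mul_one, mul_inv_cancel,
      (T.comm_X'.pow_right i.val).symm.mul_mul_mul_comm, T.sq, one_mul] at h
    exact h.symm
  rw [← pow_val_add (S.cube _ S.X'_mem)] at h2
  have h0 : i = 0 := by
    have := S.jj_eq_one.1 (show S.jj (0, 0, 0, i + i) = 1 by simpa [jj] using h2)
    simp [Prod.ext_iff] at this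
    exact (by decide : ∀ i : K, i + i = 0 → i = 0) i this
  rw [h0, ZMod.val_zero, pow_zero, mul_one] at hi'
  exact mul_inv_eq_iff_eq_mul.1 hi'

variable (hb : ¬ S.toCfg.Big) (hs : S.toCfg.Swap)

include hb in
/-- The centraliser of the image of `z` as a copy of the model. -/
theorem exists_preW (M : S.WModel T) : ∃ P : PSpThreeReal.Pre S.Xb, P.θ = S.thetaW M :=
  ⟨{ θ := S.thetaW M
     inj := (injective_iff_map_eq_one _).2 fun m hm =>
       M.ker m (Subgroup.mem_subgroupOf.1 ((QuotientGroup.eq_one_iff _).1 hm))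
     range := fun g hg => by
       obtain ⟨g, rfl⟩ := S.pw_surjective g
       have h1 := S.conj_z_of_pw M (g := g) (w := (-1, 0, 0, 0)) move_facts.2.2.2.1 rfl (by
         rw [hg.eq, mul_inv_cancel_right, S.thetaW_emb])
       rw [S.z_inv_jj] at h1
       have hgz : Commute (g : G) S.z := Commute.inv_right_iff.1 (mul_inv_eq_iff_eq_mul.1 h1)
       obtain ⟨m, hm⟩ := M.onto hb _ hgz (S.commute_Wc g)
       obtain ⟨i, hi⟩ := mem_powers_iff_mem_zpowers.2 hm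
       refine ⟨m, S.pw_pow_X' i ?_⟩
       show (g : G) = M.ψ m * S.X' ^ i
       rw [((M.comm_X' m).pow_right i).eq]
       exact mul_inv_eq_iff_eq_mul.1 hi.symm
     sig := fun N h3 hN => S.sigW M N h3 hN }, rfl⟩

/-- The hypothesis taken from the real case: the index two subgroup. -/
abbrev ParityHyp : Prop :=
  ∀ (W : Subgroup SymNineThree.Mon) (j : Multiplicative V3 →* S.Xb) (s : W →* S.Xb)
    (P : PSpThreeReal.Pre S.Xb), PSpThreeReal.Real W j s 3 P →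
    (∀ v : V3, v ≠ 0 → SymNineThree.Axis v →
      Subgroup.centralizer ({el j s v 1} : Set S.Xb) ≤ Subgroup.normalizer (j.range : Set S.Xb)) →
    ∃ Mi : Subgroup S.Xb, Mi.Normal ∧ Mi.index = 2 ∧ el j s 0 SymNineThree.eA ∉ Mi

include hb hs in
/-- The configuration of `PSp(4,3)` in a normal subgroup of index two, and an inverter outside. -/
theorem exists_local_two (hpar : S.ParityHyp) (M : S.WModel T) :
    ∃ (Mi : Subgroup S.Xb) (F : Loc.Frame Mi) (ι : S.Wc), Mi.Normal ∧ Mi.index = 2 ∧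
      (∀ m, ((F.θ m : Mi) : S.Xb) = S.thetaW M m) ∧ S.pw ι ∉ Mi ∧ Commute (ι : G) t ∧
      ∀ x ∈ S.J, (ι : G) * x * (ι : G)⁻¹ ∈ S.J := by
  obtain ⟨P₀, hP₀⟩ := S.exists_preW hb M
  have hz₀ : P₀.z = S.thetaW M (Loc.emb (1, 0, 0)) := by
    show P₀.θ _ = _
    rw [hP₀]
  set a := S.thetaW M (Loc.emb (1, 0, 0)) with ha
  obtain ⟨g', hg'X, hg'z⟩ := S.exists_inverter hs
  have hreal : ∃ g : S.Xb, g * P₀.z * g⁻¹ = P₀.z⁻¹ := by
    refine ⟨S.pw ⟨g', S.mem_Wc.2 hg'X⟩, ?_⟩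
    rw [hz₀, ha, S.thetaW_emb, ← map_inv, ← map_inv, ← map_mul, ← map_mul]
    refine congrArg S.pw (Subtype.ext ?_)
    show g' * S.jj (-1, 0, 0, 0) * g'⁻¹ = (S.jj (-1, 0, 0, 0))⁻¹
    rw [S.z_inv_jj, ← conj_inv, hg'z]
  obtain ⟨W, j, s, k, P, hk, E, hPz⟩ := PSpThreeReal.exists_real P₀ hreal
  have hPa : P.z = a := hPz.trans hz₀
  obtain ⟨m₀, hm₀⟩ := exists_conj_J P₀ P hPz
  set c := P₀.θ m₀ with hc
  have hca : Commute c a := hz₀ ▸ P₀.commute_z m₀
  -- the image of `J`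
  have hJ₀ : ∀ x, x ∈ P₀.J ↔ ∃ v, S.thetaW M (Loc.emb v) = x := fun x => by
    rw [P₀.mem_J]
    simp only [PSpThreeReal.Pre.em, hP₀]
  have hJmem : ∀ v : J4, S.pw (S.jW v) ∈ P₀.J := fun v => by
    obtain ⟨w, hw⟩ := S.thetaW_emb_range M (S.jj_mem v) (S.jj_mem_Wc v)
    exact (hJ₀ _).2 ⟨w.toAdd, hw⟩
  have hconj : ∀ x : S.Xb, x ∈ P.J → c * x * c⁻¹ ∈ P₀.J := fun x hx => by
    refine (hm₀ _).2 ?_
    rwa [show c⁻¹ * (c * x * c⁻¹) * c = x by group]
  obtain ⟨h, hhN, hhX, hhz⟩ := S.exists_move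
  have hhz' : h * S.z⁻¹ * h⁻¹ = S.jj (0, 1, 0, 0) := by
    rw [← conj_inv, hhz, ← S.jj_neg]; simp
  let hW : S.Wc := ⟨h, S.mem_Wc.2 hhX⟩
  have hmove : S.pw hW * a * (S.pw hW)⁻¹ = S.thetaW M (Loc.emb (0, 0, 1)) := by
    rw [ha, S.thetaW_emb, S.thetaW_emb, ← map_inv, ← map_mul, ← map_mul]
    refine congrArg S.pw (Subtype.ext ?_)
    show h * S.jj (-1, 0, 0, 0) * h⁻¹ = S.jj (-0, 1, 0, 0)
    rw [S.z_inv_jj, hhz']; simp
  -- not the kind one
  obtain rfl : k = 3 := by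
    rcases hk with rfl | rfl
    · exfalso
      have hN : c⁻¹ * S.pw hW * c ∈ Subgroup.normalizer (P.J : Set S.Xb) := by
        refine Subgroup.mem_normalizer_fintype fun x hx => ?_
        have h1 : S.pw hW * (c * x * c⁻¹) * (S.pw hW)⁻¹ ∈ P₀.J := by
          obtain ⟨v, hv⟩ := (hJ₀ _).1 (hconj x hx)
          rw [← hv, S.thetaW_emb, ← map_inv, ← map_mul, ← map_mul]
          obtain ⟨w, hw⟩ := S.thetaW_emb_range M
            ((Subgroup.mem_normalizer_iff.1 hhN _).1 (S.jj_mem (-v.1, v.2.2, v.2.1, 0)))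
            (mul_mem (mul_mem hW.2 (S.jj_mem_Wc _)) (inv_mem hW.2))
          exact (hJ₀ _).2 ⟨w.toAdd, hw⟩
        have h2 := (hm₀ _).1 h1
        show c⁻¹ * S.pw hW * c * x * (c⁻¹ * S.pw hW * c)⁻¹ ∈ P.J
        rwa [show c⁻¹ * S.pw hW * c * x * (c⁻¹ * S.pw hW * c)⁻¹ =
          c⁻¹ * (S.pw hW * (c * x * c⁻¹) * (S.pw hW)⁻¹) * c by group]
      have key : c⁻¹ * S.pw hW * c * a * (c⁻¹ * S.pw hW * c)⁻¹ = c⁻¹ * S.thetaW M (Loc.emb (0, 0, 1)) * c := by
        rw [← hmove]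
        calc c⁻¹ * S.pw hW * c * a * (c⁻¹ * S.pw hW * c)⁻¹
            = c⁻¹ * S.pw hW * (c * a * c⁻¹) * (S.pw hW)⁻¹ * c := by group
          _ = _ := by rw [hca.eq, mul_inv_cancel_right]; group
      have hne : ∀ e : Loc.V, Loc.emb (0, 0, 1) ≠ Loc.emb e → c⁻¹ * S.thetaW M (Loc.emb (0, 0, 1)) * c ≠
          S.thetaW M (Loc.emb e) ∨ ¬ Commute c (S.thetaW M (Loc.emb e)) := by
        intro e he
        by_contra hcon
        simp only [not_or, not_not] at hcon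
        obtain ⟨h1, h2⟩ := hcon
        refine he (P₀.inj ?_)
        rw [hP₀]
        calc S.thetaW M (Loc.emb (0, 0, 1)) = c * (c⁻¹ * S.thetaW M (Loc.emb (0, 0, 1)) * c) * c⁻¹ := by group
          _ = _ := by rw [h1, h2.eq, mul_inv_cancel_right]
      have hinv : a⁻¹ = S.thetaW M (Loc.emb (-1, 0, 0)) := by
        rw [ha, ← map_inv]
        exact congrArg _ (by decide +kernel : (Loc.emb (1, 0, 0))⁻¹ = Loc.emb (-1, 0, 0))
      rcases conj_z_of_kind_one E hN with e | e <;> rw [hPa, key] at e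
      · exact (hne (1, 0, 0) (by decide +kernel)).elim (fun h1 => h1 e) fun h1 => h1 hca
      · rw [hinv] at e
        exact (hne (-1, 0, 0) (by decide +kernel)).elim (fun h1 => h1 e)
          fun h1 => h1 (hinv ▸ hca.inv_right)
    · rfl
  -- coordinates
  have hψex : ∀ v : V3, ∃ w, S.thetaW M (Loc.emb w) = c * el j s v 1 * c⁻¹ := fun v =>
    (hJ₀ _).1 (hconj _ (E.range_eq ▸ SymNineThree.el_mem_range v))
  choose ψ₀ hψ₀ using hψex
  have hθinj : Function.Injective (S.thetaW M) := hP₀ ▸ P₀.inj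
  have hψadd : ∀ u v, ψ₀ (u + v) = ψ₀ u + ψ₀ v := fun u v => by
    refine Loc.emb_inj _ _ (hθinj ?_)
    rw [hψ₀, Loc.emb_add, map_mul, hψ₀, hψ₀,
      show c * el j s u 1 * c⁻¹ * (c * el j s v 1 * c⁻¹) = c * (el j s u 1 * el j s v 1) * c⁻¹ by group,
      E.el_mul (one_mem W) (one_mem W), SymNineThree.act_one, one_mul]
  let ψ : V3 →+ Loc.V := AddMonoidHom.mk' ψ₀ hψadd
  have hψ : ∀ v, S.thetaW M (Loc.emb (ψ v)) = c * el j s v 1 * c⁻¹ := hψ₀
  have helone : el j s ones 1 = a := by rw [← E.z_eq, hPa]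
  have hq : ∀ v : V3, v.1 ≠ 0 → v.2.1 ≠ 0 → v.2.2 ≠ 0 → q3 (ψ v) = 0 := by
    intro v h1 h2 h3
    obtain ⟨m, hm⟩ := weight_three v h1 h2 h3
    obtain ⟨g, hg⟩ := S.pw_surjective (c * el j s 0 m)
    refine (S.conj_point M (g := g) ?_).1
    rw [hψ, ← ha, hg, ← hm, ← E.el_conj (E.mem rfl : m ∈ W) 0 ones, helone]
    group
  -- the axes
  have hne0 : ∀ v : V3, v ≠ 0 → ψ v ≠ 0 := fun v hv h0 => hv (by
    have h1 := hψ v
    rw [h0, show Loc.emb 0 = (1 : Loc.M) by decide +kernel, map_one, eq_comm, conj_eq_one_iff] at h1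
    exact ((E.el_eq_one_iff (one_mem W)).1 h1).1)
  have hsmall : ∀ v : V3, v ≠ 0 → SymNineThree.Axis v →
      Subgroup.centralizer ({el j s v 1} : Set S.Xb) ≤ Subgroup.normalizer (j.range : Set S.Xb) := by
    rcases E.axis_dichotomy with hd | ⟨L, hL, -, ⟨e⟩, -⟩
    · exact hd
    exfalso
    set A := ψ (1, 0, 0) with hA
    have hA1 : q3 A ≠ 1 := by
      intro h1
      obtain ⟨s1, s2, s3, s4⟩ := basis_sums
      have p1 := hq (1, 1, 1) (by decide) (by decide) (by decide)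
      have p2 := hq (1, 1, -1) (by decide) (by decide) (by decide)
      have p3 := hq (1, -1, 1) (by decide) (by decide) (by decide)
      have p4 := hq (1, -1, -1) (by decide) (by decide) (by decide)
      rw [s1, map_add, map_add] at p1
      rw [s2, map_sub, map_add] at p2
      rw [s3, map_add, map_sub] at p3
      rw [s4, map_sub, map_sub] at p4
      exact q3_triple A h1 _ (hne0 (0, 1, 0) (by decide)) _ (hne0 (0, 0, 1) (by decide)) p1 p2 p3 p4
    obtain ⟨i, hine, hiq⟩ := q3_point A (hne0 _ (by decide)) hA1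
    set w : J4 := (-A.1, A.2.2, A.2.1, i)
    have hp : S.IsPt (S.jj w) := (S.isPt_jj w).2 ⟨hine, hiq⟩
    have hpw : S.pw (S.jW w) = S.thetaW M (Loc.emb A) := by
      rw [S.thetaW_emb]
      refine (S.pw_pow_X' i.val ?_).symm
      show S.jj w = S.jj (-A.1, A.2.2, A.2.1, 0) * S.X' ^ i.val
      rw [S.jj_shift]; simp [w]
    have hc5 : Nat.card L = 720 := by
      rw [Nat.card_congr e.toEquiv, Nat.card_perm, Nat.card_eq_fintype_card, Fintype.card_fin]
      rfl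
    have : Fact (Nat.Prime 5) := ⟨by norm_num⟩
    obtain ⟨l, hl⟩ := exists_prime_orderOf_dvd_card' (G := L) 5 (by rw [hc5]; norm_num)
    have hl1 : (l : S.Xb) ≠ 1 := fun h1 => by
      rw [OneMemClass.coe_eq_one.1 h1, orderOf_one] at hl
      omega
    have hl5 : (c * (l : S.Xb) * c⁻¹) ^ 5 = 1 := by
      rw [conj_pow, ← SubgroupClass.coe_pow, ← hl, pow_orderOf_eq_one, OneMemClass.coe_one, mul_one,
        mul_inv_cancel]
    have hcom : Commute (c * (l : S.Xb) * c⁻¹) (S.pw ⟨S.jj w, S.jj_mem_Wc w⟩) := by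
      show Commute _ (S.pw (S.jW w))
      rw [hpw, hA, hψ]
      exact (show Commute (l : S.Xb) (el j s (1, 0, 0) 1) from
        Subgroup.mem_centralizer_singleton_iff.1 (hL l.2)).map (MulAut.conj c).toMonoidHom
    exact hl1 (conj_eq_one_iff.1 (S.five_point hl5 hp _ hcom))
  obtain ⟨Mi, hn, hi, hA⟩ := hpar W j s P E hsmall
  obtain ⟨L', hL'⟩ := E.exists_local_of_index_two Mi hn hi hA
  have hin : ∀ m, S.thetaW M m ∈ Mi := fun m => by
    obtain ⟨n, hn'⟩ := P.range (S.thetaW M m) (by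
      show Commute _ P.z
      rw [hPa, ← hz₀, ← hP₀]
      exact P₀.commute_z m)
    rw [← hn', ← hL']
    exact (L'.θ n).2
  have hJMi : ∀ x : S.Xb, x ∈ P.J → ∃ v, ((L'.θ (Loc.emb v) : Mi) : S.Xb) = x := fun x hx => by
    obtain ⟨v, hv⟩ := P.mem_J.1 hx
    exact ⟨v, (hL' _).trans hv⟩
  have hLa : ((L'.θ (Loc.emb (1, 0, 0)) : Mi) : S.Xb) = a := (hL' _).trans hPa
  let L₀ : Loc.Local Mi :=
    { θ := (S.thetaW M).codRestrict Mi hin
      inj := fun x y hxy => hθinj (congrArg Subtype.val hxy)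
      range := fun g hg => by
        obtain ⟨m, hm⟩ := P₀.range (g : S.Xb) (by
          rw [hP₀]; exact congrArg Subtype.val hg.eq)
        exact ⟨m, Subtype.ext (by rw [← hm, hP₀]; rfl)⟩
      real := fun g hg => L'.real g (Subtype.ext (by
        have e : (g : S.Xb) * a * (g : S.Xb)⁻¹ = a⁻¹ := congrArg Subtype.val hg
        simpa [hLa] using e))
      sig := fun N h3 hN => by
        have h' := S.sigW M (N.map Mi.subtype) (by rwa [Subgroup.card_map_of_injective Mi.subtype_injective]) (by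
          rintro x ⟨v, rfl⟩
          have hv := hN ⟨v, rfl⟩
          refine Subgroup.mem_normalizer_fintype ?_
          rintro _ ⟨y, hy, rfl⟩
          exact ⟨_, (Subgroup.mem_normalizer_iff.1 hv y).1 hy, rfl⟩)
        exact (Subgroup.map_eq_bot_iff_of_injective N Mi.subtype_injective).1 h'
      fus := by
        obtain ⟨h', hh', hne⟩ := L'.fus
        have := hn
        refine ⟨⟨c * (h' : S.Xb) * c⁻¹, hn.conj_mem _ h'.2 c⟩, Subgroup.mem_normalizer_fintype ?_,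
          fun hcon => hne ?_⟩
        · rintro _ ⟨v, rfl⟩
          obtain ⟨w, hw⟩ := hJMi (c⁻¹ * S.thetaW M (Loc.emb v.toAdd) * c) ((hm₀ _).1 ((hJ₀ _).2 ⟨_, rfl⟩))
          obtain ⟨u, hu⟩ := (Subgroup.mem_normalizer_iff.1 hh' _).1
            (⟨Multiplicative.ofAdd w, rfl⟩ : L'.θ (Loc.emb w) ∈ (L'.θ.comp Loc.embHom).range)
          have h2 : (h' : S.Xb) * (c⁻¹ * S.thetaW M (Loc.emb v.toAdd) * c) * (h' : S.Xb)⁻¹ ∈ P.J := by
            rw [← hw]
            refine P.mem_J.2 ⟨u.toAdd, ?_⟩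
            exact (hL' _).symm.trans (congrArg Subtype.val hu)
          obtain ⟨y, hy⟩ := (hJ₀ _).1 (hconj _ h2)
          refine ⟨Multiplicative.ofAdd y, Subtype.ext ?_⟩
          show S.thetaW M (Loc.emb y) = c * (h' : S.Xb) * c⁻¹ * S.thetaW M (Loc.emb v.toAdd) * (c * (h' : S.Xb) * c⁻¹)⁻¹
          rw [hy]; group
        · refine Subtype.ext ?_
          show (h' : S.Xb) * ((L'.θ (Loc.emb (1, 0, 0)) : Mi) : S.Xb) =
            ((L'.θ (Loc.emb (1, 0, 0)) : Mi) : S.Xb) * (h' : S.Xb)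
          rw [hLa]
          have e : Commute (c * (h' : S.Xb) * c⁻¹) a := congrArg Subtype.val hcon.eq
          have := (hca.inv_left.mul_left e).mul_left hca
          rw [show c⁻¹ * (c * (h' : S.Xb) * c⁻¹) * c = (h' : S.Xb) by group] at this
          exact this.eq }
  obtain ⟨i, hz1, hO⟩ := L₀.exists_quad
  have hrep : (Loc.rep i).1 = 0 := by
    refine rep_singular i hz1 ?_
    obtain ⟨g, -, hg⟩ := L₀.mem_O.1 ((hO (Loc.rep i)).2 (Or.inr (Or.inl rfl)))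
    obtain ⟨g₀, hg₀⟩ := S.pw_surjective (g : S.Xb)
    refine (S.conj_point M (g := g₀) ?_).1
    rw [hg₀]
    exact congrArg Subtype.val hg
  have hq' : ∀ v, v ∈ L₀.O ↔ ∃ k, v = Loc.q k := fun v => by
    rw [hO, Loc.quad_rep i hz1, hrep]
    simp
  let F : Loc.Frame Mi := ⟨L₀, fun g hg => by
    obtain ⟨v, hv⟩ := L₀.mem_J.1 (L₀.conj_mem hg (1, 0, 0))
    obtain ⟨k, rfl⟩ := (hq' v).1 (L₀.mem_O.2 ⟨g, hg, hv.symm⟩)
    exact ⟨k, hv.symm⟩, fun k => L₀.mem_O.1 ((hq' _).2 ⟨k, rfl⟩)⟩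
  -- the inverter
  have hnW : SymNineThree.negOne ∈ W := E.mem rfl
  have htW : SymNineThree.tau ∈ W := E.mem rfl
  set r := el j s 0 SymNineThree.negOne with hr
  have hrMi : r ∉ Mi := (E.sign_mem Mi hn hi hA).2
  have hrinv : ∀ x : S.Xb, x ∈ P.J → r * x * r⁻¹ = x⁻¹ := fun x hx => by
    rw [E.range_eq] at hx
    obtain ⟨u, rfl⟩ := SymNineThree.exists_el (s := s) hx
    rw [hr, E.el_conj hnW, E.el_inv (one_mem W), inv_one, SymNineThree.act_one, SymNineThree.act_negOne]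
  have hrtau : Commute r (P.θ Loc.tM) := by
    rw [E.tau_eq, commute_iff_eq, hr, E.el_mul hnW htW, E.el_mul htW hnW, negOne_tau]
    have h0 : ∀ m : SymNineThree.Mon, SymNineThree.act m (0 : V3) = 0 := fun m => (SymNineThree.actAdd m).map_zero
    rw [h0, h0]
  obtain ⟨m₁, hm₁⟩ := P₀.range (c * P.θ Loc.tM * c⁻¹) (by
    show Commute _ P₀.z
    have h1 : Commute (P.θ Loc.tM) a := hPa ▸ P.commute_z Loc.tM
    rw [hz₀]
    exact (hca.mul_left h1).mul_left hca.inv_left)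
  obtain ⟨h₁, hh₁⟩ := involution_conj_tM m₁ (P₀.inj (by
      rw [map_mul, map_one, hm₁, show c * P.θ Loc.tM * c⁻¹ * (c * P.θ Loc.tM * c⁻¹) =
        c * (P.θ Loc.tM * P.θ Loc.tM) * c⁻¹ by group, ← map_mul, Loc.tM_sq, map_one]
      group)) (fun e => Loc.tM_ne_one (P.inj (by
      rw [map_one]
      rw [e, map_one, eq_comm, conj_eq_one_iff] at hm₁
      exact hm₁)))
  set n₀ := S.thetaW M (SemidirectProduct.inl h₁) with hn₀
  set d := n₀ * c with hd
  obtain ⟨ι, hι⟩ := S.pw_surjective (d * r * d⁻¹)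
  have hιt : Commute (ι : G) t := by
    refine S.commute_t_of_pw M ?_
    have e : S.thetaW M Loc.tM = d * P.θ Loc.tM * d⁻¹ := by
      conv_lhs => rw [← hh₁]
      rw [map_mul, map_mul, map_inv, show S.thetaW M m₁ = P₀.θ m₁ by rw [hP₀], hm₁, hd, hn₀]
      group
    rw [hι, e]
    exact hrtau.map (MulAut.conj d).toMonoidHom
  have hιMi : S.pw ι ∉ Mi := fun hmem => by
    rw [hι] at hmem
    have := hn.conj_mem _ hmem d⁻¹
    rw [show d⁻¹ * (d * r * d⁻¹) * d⁻¹⁻¹ = r by group] at this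
    exact hrMi this
  refine ⟨Mi, F, ι, hn, hi, fun m => rfl, hιMi, hιt, fun x hx => ?_⟩
  obtain ⟨v, rfl⟩ := S.mem_J.1 hx
  have hd' : d⁻¹ * S.pw (S.jW v) * d ∈ P.J := by
    obtain ⟨u, hu⟩ := (hJ₀ _).1 (hJmem v)
    obtain ⟨u', hu'⟩ := Loc.exists_emb _ (inl_normal h₁⁻¹ u)
    have h1 : n₀⁻¹ * S.pw (S.jW v) * n₀ ∈ P₀.J := by
      refine (hJ₀ _).2 ⟨u', ?_⟩
      rw [hu', map_mul, map_mul, ← hu, hn₀]
      simp only [map_inv, inv_inv]
    have h2 := (hm₀ _).1 h1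
    rwa [show d⁻¹ * S.pw (S.jW v) * d = c⁻¹ * (n₀⁻¹ * S.pw (S.jW v) * n₀) * c by rw [hd]; group]
  obtain ⟨i', hi'⟩ := S.pw_eq (a := (S.jW v)⁻¹) (b := ι * S.jW v * ι⁻¹) (by
    rw [map_inv, map_mul, map_mul, map_inv, hι]
    calc (S.pw (S.jW v))⁻¹ = d * (d⁻¹ * S.pw (S.jW v) * d)⁻¹ * d⁻¹ := by group
      _ = _ := by rw [← hrinv _ hd']; group)
  have hi'' : (ι : G) * S.jj v * (ι : G)⁻¹ = (S.jj v)⁻¹ * S.X' ^ i'.val := hi'
  rw [hi'', ← S.jj_neg, S.jj_shift]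
  exact S.jj_mem _

include hb hs in
/-- The outcome of the local analysis at `X'`, given the index two subgroup of the real case. -/
theorem exists_core_of_parity (hpar : S.ParityHyp) : ∃ t, S.Core t := by
  obtain ⟨t, T⟩ := S.exists_tInv
  obtain ⟨M⟩ := S.exists_wModel T
  obtain ⟨Mi, F, ι, hMn, hi2, hF, hιMi, hιt, hιJ⟩ := S.exists_local_two hb hs hpar M
  let tW : S.Wc := ⟨t, S.mem_Wc.2 T.comm_X'⟩
  have hFt : ((F.t : Mi) : S.Xb) = S.pw tW := (hF _).trans (congrArg S.pw (Subtype.ext M.tM_eq))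
  have hFj : ∀ v : Loc.V, ((F.j v : Mi) : S.Xb) = S.pw (S.jW (-v.1, v.2.2, v.2.1, 0)) := fun v =>
    (hF _).trans (S.thetaW_emb M v)
  obtain ⟨n0, hn0⟩ := S.pw_surjective ((F.s : Mi) : S.Xb)
  set n : G := (n0 : G) with hn
  have hs2 : ((F.s : Mi) : S.Xb)⁻¹ = ((F.s : Mi) : S.Xb) := congrArg Subtype.val F.s_inv
  have hnt : Commute n t := S.commute_t_of_pw M (by
    rw [hn0, ← hF]
    exact congrArg Subtype.val (F.mem_X.1 F.s_mem_X).eq)
  have hnX : Commute n S.X' := S.commute_Wc n0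
  have hnz : n * S.z⁻¹ * n⁻¹ = S.jj (0, 1, 0, 0) := by
    refine S.conj_z_of_pw M move_facts.2.2.1 rfl ?_
    rw [hn0, S.thetaW_emb, hs2]
    have h := congrArg Subtype.val F.s_conj_a
    rw [show F.a = F.j (1, 0, 0) from rfl] at h
    simp only [Subgroup.coe_mul, hFj] at h
    simpa using h
  have hny : n * S.y * n⁻¹ = S.jj (-1, 0, 0, 0) := by
    have hp : S.IsPt ((n0 * S.jW (0, 1, 0, 0) * n0⁻¹ : S.Wc) : G) := by
      show S.IsPt (n * S.jj (0, 1, 0, 0) * n⁻¹)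
      rw [S.jj_y]; exact Cfg.IsPt.conj S.isPt_y _
    have h := S.pt_lift hp move_facts.2.2.2.1 rfl (by
      rw [map_mul, map_mul, map_inv, hn0, hs2]
      have h := congrArg Subtype.val F.s_conj_p
      rw [show F.a = F.j (1, 0, 0) from rfl] at h
      simp only [Subgroup.coe_mul, hFj] at h
      simpa using h.symm)
    rw [← S.jj_y]
    exact h
  have hexch : S.Exch t n := ⟨hnt, hnX, Or.inr (by
    rw [← inv_inj, inv_inv, conj_inv, hnz, S.jj_y])⟩
  have hn2z : Commute (n * n) S.z := by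
    refine mul_inv_eq_iff_eq_mul.1 ?_
    have h1 : n * S.z * n⁻¹ = S.y⁻¹ := by
      rw [← inv_inj, inv_inv, conj_inv, hnz, S.jj_y]
    rw [show n * n * S.z * (n * n)⁻¹ = n * (n * S.z * n⁻¹) * n⁻¹ by group, h1, ← conj_inv, hny, S.z_inv_jj,
      inv_inv]
  let D' : Subgroup G := T.D.map (MulAut.conj n).toMonoidHom
  have hσ : ∀ A : SL23, ((F.σ₁ A : Mi) : S.Xb) =
      S.pw ⟨M.ψ (SemidirectProduct.inr A), S.mem_Wc.2 (M.comm_X' _)⟩ := fun A => hF _
  have hcomm : ∀ d ∈ T.D, ∀ e ∈ T.D, Commute d (n * e * n⁻¹) := by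
    intro d hd e he
    obtain ⟨A, hA⟩ := M.d_lift d hd
    obtain ⟨B, hB⟩ := M.d_lift e he
    let dW : S.Wc := ⟨d, S.mem_Wc.2 (T.comm_X'_D hd)⟩
    let eW : S.Wc := ⟨e, S.mem_Wc.2 (T.comm_X'_D he)⟩
    have hdA : ((F.σ₁ A : Mi) : S.Xb) = S.pw dW := by
      rw [hσ]; exact congrArg S.pw (Subtype.ext hA)
    have heB : ((F.σ₂ B : Mi) : S.Xb) = S.pw (n0 * eW * n0⁻¹) := by
      rw [F.σ₂_apply]
      simp only [Subgroup.coe_mul, hσ]
      rw [map_mul, map_mul, map_inv, hn0, hs2]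
      congr 2
      exact congrArg S.pw (Subtype.ext hB)
    have hc : Commute ((F.σ₁ A : Mi) : S.Xb) ((F.σ₂ B : Mi) : S.Xb) :=
      congrArg Subtype.val (F.sigma_commute A B).eq
    rw [hdA, heB] at hc
    obtain ⟨i, hi⟩ := S.pw_eq (a := dW) (b := (n0 * eW * n0⁻¹) * dW * (n0 * eW * n0⁻¹)⁻¹) (by
      rw [map_mul, map_mul _ _ dW, map_inv, ← hc.eq, mul_inv_cancel_right])
    have hi' : n * e * n⁻¹ * d * (n * e * n⁻¹)⁻¹ = d * S.X' ^ i.val := hi
    have h4 := congrArg (fun x => x ^ 4) hi'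
    rw [conj_pow, hd.2, mul_one, mul_inv_cancel,
      ((T.comm_X'_D hd).pow_right i.val).mul_pow, hd.2, one_mul, ← pow_mul] at h4
    rw [← pow_one (S.X' ^ i.val)] at hi'
    have hi0 : S.X' ^ i.val = 1 := by
      rw [pow_eq_pow_mod _ (S.cube _ S.X'_mem)] at h4
      rw [pow_eq_pow_mod i.val (S.cube _ S.X'_mem)]
      rwa [show i.val * 4 % 3 = i.val % 3 by omega, eq_comm] at h4
    rw [hi0, one_pow, mul_one] at hi'
    exact (mul_inv_eq_iff_eq_mul.1 hi').symm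
  refine ⟨t, T, ⟨n, hexch⟩, ?_, ?_⟩
  · intro n' hn' d hd e he
    set h := n⁻¹ * n' with hh
    have hht : Commute h t := hexch.1.inv_left.mul_left hn'.1
    have hhz : h * S.z * h⁻¹ = S.z ∨ h * S.z * h⁻¹ = S.z⁻¹ := by
      rcases hn'.2.2 with h1 | h1
      · right
        rw [hh, show n⁻¹ * n' * S.z * (n⁻¹ * n')⁻¹ = n⁻¹ * (n' * S.z * n'⁻¹) * n by group, h1, ← S.jj_y,
          ← hnz]
        group
      · left
        rw [hh, show n⁻¹ * n' * S.z * (n⁻¹ * n')⁻¹ = n⁻¹ * (n' * S.z * n'⁻¹) * n by group, h1, ← S.jj_y,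
          ← hnz]
        group
    have := hcomm d hd _ (T.conj_D hht hhz he)
    rwa [show n * (h * e * h⁻¹) * n⁻¹ = n' * e * n'⁻¹ by rw [hh]; group] at this
  -- elements in the subgroup of index two
  have main : ∀ g : S.Wc, Commute (g : G) t → S.pw g ∈ Mi →
      ∃ d ∈ T.D, ∃ e ∈ T.D, ∃ x : G, Commute x t ∧ x ∈ Subgroup.normalizer (S.TJ t : Set G) ∧
        (g : G) = d * (n * e * n⁻¹) * x := by
    intro g hgt hgM
    let DD : Subgroup G := T.D ⊔ D'
    let Kx : Subgroup G := Subgroup.centralizer ({t} : Set G) ⊓ S.Wc ⊓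
      Subgroup.normalizer (S.TJ t : Set G) ⊓ Subgroup.normalizer (DD : Set G)
    have hKx : ∀ {x : G}, Commute x t → Commute x S.X' →
        (∀ a ∈ S.TJ t, x * a * x⁻¹ ∈ S.TJ t) → (∀ d ∈ T.D, x * d * x⁻¹ ∈ DD) →
        (∀ d ∈ T.D, x * (n * d * n⁻¹) * x⁻¹ ∈ DD) → x ∈ Kx := by
      intro x h1 h2 h3 h4 h5
      refine ⟨⟨⟨Subgroup.mem_centralizer_singleton_iff.2 h1, S.mem_Wc.2 h2⟩,
        Subgroup.mem_normalizer_fintype h3⟩, Subgroup.mem_normalizer_fintype fun a ha => ?_⟩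
      have hle : DD ≤ DD.comap (MulAut.conj x).toMonoidHom := by
        refine sup_le (fun d hd => h4 d hd) ?_
        rintro _ ⟨d, hd, rfl⟩
        exact h5 d hd
      exact hle ha
    have hTJ : ∀ v : J4, v.2.2.1 = 0 → S.jj v ∈ S.TJ t := fun v hv =>
      ⟨S.jj_mem v, Subgroup.mem_centralizer_singleton_iff.2 ((T.jj_comm v).2 hv)⟩
    have hTJ' : ∀ a ∈ S.TJ t, ∃ i j k : ℕ, a = S.z ^ i * S.y ^ j * S.X' ^ k := by
      rintro a ⟨haJ, hat⟩
      obtain ⟨v, rfl⟩ := S.mem_J.1 haJ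
      refine ⟨v.1.val, v.2.1.val, v.2.2.2.val, ?_⟩
      rw [jj, (T.jj_comm v).1 (Subgroup.mem_centralizer_singleton_iff.1 hat), ZMod.val_zero, pow_zero,
        mul_one]
    have hzT : S.z ∈ S.TJ t := S.jj_z ▸ hTJ _ rfl
    have hyT : S.y ∈ S.TJ t := S.jj_y ▸ hTJ _ rfl
    have hXT : S.X' ∈ S.TJ t := S.jj_X' ▸ hTJ _ rfl
    have hmapT : ∀ x : G, Commute x S.X' → x * S.z * x⁻¹ ∈ S.TJ t → x * S.y * x⁻¹ ∈ S.TJ t →
        ∀ a ∈ S.TJ t, x * a * x⁻¹ ∈ S.TJ t := by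
      intro x hx hxz hxy a ha
      obtain ⟨i, j, k, rfl⟩ := hTJ' a ha
      rw [show x * (S.z ^ i * S.y ^ j * S.X' ^ k) * x⁻¹ =
        (x * S.z * x⁻¹) ^ i * (x * S.y * x⁻¹) ^ j * (x * S.X' * x⁻¹) ^ k by simp only [conj_pow]; group,
        hx.eq, mul_inv_cancel_right]
      exact mul_mem (mul_mem (pow_mem hxz _) (pow_mem hxy _)) (pow_mem hXT _)
    have hD' : ∀ d ∈ T.D, n * d * n⁻¹ ∈ DD := fun d hd => Subgroup.mem_sup_right ⟨d, hd, rfl⟩
    have hnK : n ∈ Kx := by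
      refine hKx hnt hnX (hmapT n hnX ?_ ?_) hD' fun d hd => ?_
      · rw [← inv_mem_iff, conj_inv, hnz]; exact hTJ _ rfl
      · rw [hny]; exact hTJ _ rfl
      · refine Subgroup.mem_sup_left ?_
        rw [show n * (n * d * n⁻¹) * n⁻¹ = (n * n) * d * (n * n)⁻¹ by group]
        exact T.D_normal hn2z (hnt.mul_left hnt) hd
    have hyK : S.y ∈ Kx := by
      refine hKx T.comm_y.symm S.y_X' (hmapT _ S.y_X' ?_ ?_) (fun d hd => ?_) fun d hd => ?_
      · rw [S.y_comm.eq, mul_inv_cancel_right]; exact hzT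
      · rw [mul_inv_cancel_right]; exact hyT
      · exact Subgroup.mem_sup_left (by simpa using S.y_normalizes_D T hd 1)
      · have e : S.y = n * S.z⁻¹ * n⁻¹ := by rw [hnz, S.jj_y]
        rw [show S.y * (n * d * n⁻¹) * S.y⁻¹ = n * (S.z⁻¹ * d * S.z⁻¹⁻¹) * n⁻¹ by rw [e]; group]
        exact hD' _ (T.D_normal (Commute.refl S.z).inv_left T.comm_z.symm.inv_left hd)
    have hXK : S.X' ∈ Kx := by
      refine hKx T.comm_X'.symm (Commute.refl _) (hmapT _ (Commute.refl _) ?_ ?_) (fun d hd => ?_) fun d hd => ?_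
      · rw [S.z_X'.symm.eq, mul_inv_cancel_right]; exact hzT
      · rw [S.y_X'.symm.eq, mul_inv_cancel_right]; exact hyT
      · rw [(T.comm_X'_D hd).symm.eq, mul_inv_cancel_right]; exact Subgroup.mem_sup_left hd
      · have hc : Commute S.X' (n * d * n⁻¹) :=
          ((hnX.mul_left (T.comm_X'_D hd)).mul_left hnX.inv_left).symm
        rw [hc.eq, mul_inv_cancel_right]; exact hD' d hd
    let H : Subgroup G := DD ⊔ Kx
    have hle : F.X ≤ ((H.subgroupOf S.Wc).map S.pw).subgroupOf Mi := by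
      refine F.X_le (Subgroup.mem_subgroupOf.2
        ⟨n0, Subgroup.mem_subgroupOf.2 (Subgroup.mem_sup_right hnK), hn0⟩) fun A => ?_
      obtain ⟨d, hd, k, hk⟩ := M.inr_form A
      refine Subgroup.mem_subgroupOf.2
        ⟨⟨M.ψ (SemidirectProduct.inr A), S.mem_Wc.2 (M.comm_X' _)⟩, Subgroup.mem_subgroupOf.2 ?_, (hσ A).symm⟩
      show M.ψ (SemidirectProduct.inr A) ∈ H
      rw [hk]
      exact mul_mem (Subgroup.mem_sup_left (Subgroup.mem_sup_left hd))
        (pow_mem (Subgroup.mem_sup_right hyK) k)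
    obtain ⟨h, hh, hhg⟩ := hle (F.mem_X.2 (show Commute (⟨S.pw g, hgM⟩ : Mi) F.t from Subtype.ext (by
      show S.pw g * ((F.t : Mi) : S.Xb) = ((F.t : Mi) : S.Xb) * S.pw g
      rw [hFt]
      exact ((show Commute g tW from Subtype.ext hgt.eq).map S.pw).eq)))
    obtain ⟨i, hi⟩ := S.pw_eq hhg
    have hgH : (g : G) ∈ ((DD ⊔ Kx : Subgroup G) : Set G) := by
      show (g : G) ∈ H
      rw [hi]
      exact mul_mem (Subgroup.mem_subgroupOf.1 hh) (pow_mem (Subgroup.mem_sup_right hXK) _)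
    rw [Subgroup.coe_mul_of_right_le_normalizer_left DD Kx inf_le_right] at hgH
    obtain ⟨u, hu, x, ⟨⟨⟨hxt, -⟩, hxT⟩, -⟩, hux⟩ := hgH
    have hu' : u ∈ ((T.D ⊔ D' : Subgroup G) : Set G) := hu
    rw [Subgroup.coe_mul_of_right_le_normalizer_left T.D D' ?_] at hu'
    · obtain ⟨d, hd, _, ⟨e, he, rfl⟩, rfl⟩ := hu'
      exact ⟨d, hd, e, he, x, Subgroup.mem_centralizer_singleton_iff.1 hxt, hxT, hux.symm⟩
    · rintro _ ⟨e, he, rfl⟩
      refine Subgroup.mem_normalizer_fintype fun d hd => ?_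
      show n * e * n⁻¹ * d * (n * e * n⁻¹)⁻¹ ∈ T.D
      rw [← (hcomm d hd e he).eq, mul_inv_cancel_right]
      exact hd
  intro g hgt hgX
  let gW : S.Wc := ⟨g, S.mem_Wc.2 hgX⟩
  by_cases hgM : S.pw gW ∈ Mi
  · obtain ⟨d, hd, e, he, x, hxt, hxT, hg⟩ := main gW hgt hgM
    exact ⟨d, hd, e, he, n, x, hexch, hxt, hxT, hg⟩
  · have hgιM : S.pw (gW * ι) ∈ Mi := by
      rw [map_mul, Mi.mul_mem_iff_of_index_two hi2]
      exact iff_of_false hgM hιMi
    obtain ⟨d, hd, e, he, x, hxt, hxT, hg⟩ := main (gW * ι) (hgt.mul_left hιt) hgιM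
    have hιT : (ι : G) ∈ Subgroup.normalizer (S.TJ t : Set G) :=
      Subgroup.mem_normalizer_fintype fun a ha => ⟨hιJ a ha.1, Subgroup.mem_centralizer_singleton_iff.2
        ((hιt.mul_left (Subgroup.mem_centralizer_singleton_iff.1 ha.2)).mul_left hιt.inv_left)⟩
    refine ⟨d, hd, e, he, n, x * (ι : G)⁻¹, hexch, hxt.mul_left hιt.inv_left, mul_mem hxT (inv_mem hιT), ?_⟩
    rw [← mul_assoc, ← hg]
    show g = g * (ι : G) * (ι : G)⁻¹
    group

end Std

end Cfsg.Agent.U62ThreeCent
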